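/-
helper54 library (for helper99's PROJECT ASCH, module ASCH-[SKOLEM-NOETHER]; Mathlib only):
* `exists_conj_of_algHom` / `exists_conj_of_algEquiv`: Skolem-Noether for the full matrix algebra `M_n(F)` over a field:
  every unital `F`-algebra endomorphism is conjugation by an invertible matrix;
* `exists_one_kronecker_of_commute`: the commutant of `M_d(F) ⊗ 1` in `M_{d×e}(F)` is `1 ⊗ M_e(F)`;
* `exists_kronecker_of_normalizes`: an invertible matrix normalizing `M_d(F) ⊗ 1` is a Kronecker product `a ⊗ b` of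
  invertible matrices.
-/
import Mathlib

set_option autoImplicit false

namespace Cfsg.Agent.Lib.Helper54.SkolemNoether

open Matrix Kronecker

section single

variable {F : Type*} [Field F] {n : Type*} [Fintype n] [DecidableEq n]


/-- if `φ A * T = T * A` for all `A` (`φ` any map) and `T ≠ 0`, then `T` is invertible -/
theorem isUnit_of_intertwine (φ : Matrix n n F → Matrix n n F) (T : Matrix n n F) (hT : T ≠ 0)
    (h : ∀ A : Matrix n n F, φ A * T = T * A) : IsUnit T := by
  rw [← Matrix.mulVec_injective_iff_isUnit]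
  -- the kernel of `T` is trivial
  have hker : ∀ z : n → F, T *ᵥ z = 0 → z = 0 := by
    intro z hz
    by_contra hz0
    obtain ⟨a₀, ha₀⟩ : ∃ a, z a ≠ 0 := by
      by_contra hcon
      push Not at hcon
      exact hz0 (funext hcon)
    apply hT
    -- every vector `y` is `A *ᵥ z`
    have hall : ∀ y : n → F, T *ᵥ y = 0 := by
      intro y
      set A : Matrix n n F := Matrix.of fun i j => y i * (if j = a₀ then (z a₀)⁻¹ else 0) with hA
      have hAz : A *ᵥ z = y := by
        funext i
        simp only [Matrix.mulVec, dotProduct, hA, Matrix.of_apply]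
        rw [Finset.sum_eq_single a₀]
        · simp [mul_assoc, inv_mul_cancel₀ ha₀]
        · intro b _ hb
          simp [hb]
        · intro hn
          exact absurd (Finset.mem_univ a₀) hn
      rw [← hAz, Matrix.mulVec_mulVec, ← h A, ← Matrix.mulVec_mulVec, hz, Matrix.mulVec_zero]
    ext i j
    have := congrFun (hall (Pi.single j 1)) i
    simpa [Matrix.mulVec_single_one] using this
  intro x y hxy
  have h0 : T *ᵥ (x - y) = 0 := by rw [Matrix.mulVec_sub, hxy, sub_self]
  exact sub_eq_zero.mp (hker _ h0)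

/-- two additive maps on matrices that agree on the matrix units `single i j c` agree -/
theorem addHom_ext_single {M : Type*} [AddCommMonoid M] (f g : Matrix n n F →+ M)
    (h : ∀ (i j : n) (c : F), f (single i j c) = g (single i j c)) : f = g := by
  ext A
  rw [matrix_eq_sum_single A, map_sum, map_sum]
  refine Finset.sum_congr rfl fun i _ => ?_
  rw [map_sum, map_sum]
  exact Finset.sum_congr rfl fun j _ => h i j _

/-- **Skolem-Noether** for the full matrix algebra over a field: every unital `F`-algebra endomorphism of `M_n(F)` is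
conjugation by an invertible matrix. -/
theorem exists_conj_of_algHom (φ : Matrix n n F →ₐ[F] Matrix n n F) :
    ∃ T : (Matrix n n F)ˣ, ∀ A : Matrix n n F,
      φ A = (T : Matrix n n F) * A * ((T⁻¹ : (Matrix n n F)ˣ) : Matrix n n F) := by
  rcases isEmpty_or_nonempty n with hn | hn
  · exact ⟨1, fun A => Subsingleton.elim _ _⟩
  obtain ⟨i₀⟩ := hn
  -- `P = φ(E_{i₀ i₀}) ≠ 0`
  have hP : φ (single i₀ i₀ (1 : F)) ≠ 0 := by
    intro h0
    have h1 : ∀ k : n, φ (single k k (1 : F)) = 0 := by
      intro k
      have e : single k k (1 : F) = single k i₀ 1 * single i₀ i₀ 1 * single i₀ k 1 := by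
        rw [single_mul_single_same, single_mul_single_same, mul_one, mul_one]
      rw [e, map_mul, map_mul, h0, mul_zero, zero_mul]
    have h3 : φ 1 = 0 := by
      rw [← sum_single_one (α := F) (m := n), map_sum]
      exact Finset.sum_eq_zero fun k _ => h1 k
    rw [map_one] at h3
    have h4 : (1 : Matrix n n F) i₀ i₀ = 0 := by rw [h3]; rfl
    simp at h4
  -- a nonzero entry of `P`
  obtain ⟨a, c, hac⟩ : ∃ a c, φ (single i₀ i₀ (1 : F)) a c ≠ 0 := by
    by_contra hcon
    push Not at hcon
    exact hP (Matrix.ext hcon)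
  -- the intertwiner
  set T : Matrix n n F := ∑ k : n, φ (single k i₀ (1 : F)) * single c k (1 : F) with hTdef
  have hTne : T ≠ 0 := by
    intro h0
    have h1 : T * single i₀ i₀ (1 : F) = φ (single i₀ i₀ (1 : F)) * single c i₀ (1 : F) := by
      rw [hTdef, Finset.sum_mul, Finset.sum_eq_single i₀]
      · rw [mul_assoc, single_mul_single_same, mul_one]
      · intro k _ hk
        rw [mul_assoc, single_mul_single_of_ne (1 : F) c k i₀ hk (1 : F), mul_zero]
      · intro hn
        exact absurd (Finset.mem_univ i₀) hn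
    rw [h0, zero_mul] at h1
    have h2 := congrFun (congrFun h1 a) i₀
    rw [Matrix.zero_apply, Matrix.mul_single_apply_same, mul_one] at h2
    exact hac h2.symm
  have hunit : ∀ (i j : n) (x : F), φ (single i j x) * T = T * single i j x := by
    intro i j x
    have e1 : φ (single i j x) * T = φ (single i i₀ x) * single c j (1 : F) := by
      rw [hTdef, Finset.mul_sum, Finset.sum_eq_single j]
      · rw [← mul_assoc, ← map_mul, single_mul_single_same, mul_one]
      · intro k _ hk
        rw [← mul_assoc, ← map_mul, single_mul_single_of_ne x i j k (Ne.symm hk) (1 : F), map_zero,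
          zero_mul]
      · intro hn
        exact absurd (Finset.mem_univ j) hn
    have e2 : T * single i j x = φ (single i i₀ (1 : F)) * single c j x := by
      rw [hTdef, Finset.sum_mul, Finset.sum_eq_single i]
      · rw [mul_assoc, single_mul_single_same, one_mul]
      · intro k _ hk
        rw [mul_assoc, single_mul_single_of_ne (1 : F) c k i hk x, mul_zero]
      · intro hn
        exact absurd (Finset.mem_univ i) hn
    rw [e1, e2]
    have e3 : single i i₀ x = x • single i i₀ (1 : F) := by
      rw [Matrix.smul_single, smul_eq_mul, mul_one]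
    have e4 : single c j x = x • single c j (1 : F) := by
      rw [Matrix.smul_single, smul_eq_mul, mul_one]
    rw [e3, e4, map_smul, smul_mul_assoc, mul_smul_comm]
  have hint : ∀ A : Matrix n n F, φ A * T = T * A := by
    intro A
    have := addHom_ext_single
      ((AddMonoidHom.mulRight T).comp (φ : Matrix n n F →+ Matrix n n F))
      (AddMonoidHom.mulLeft T) (fun i j x => by simpa using hunit i j x)
    have h1 := DFunLike.congr_fun this A
    simpa using h1
  obtain ⟨T', hT'⟩ := isUnit_of_intertwine (fun A => φ A) T hTne hint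
  refine ⟨T', fun A => ?_⟩
  rw [hT', ← hint A, mul_assoc, ← hT', Units.mul_inv, mul_one]

/-- Skolem-Noether for `F`-algebra automorphisms of `M_n(F)`. -/
theorem exists_conj_of_algEquiv (φ : Matrix n n F ≃ₐ[F] Matrix n n F) :
    ∃ T : (Matrix n n F)ˣ, ∀ A : Matrix n n F,
      φ A = (T : Matrix n n F) * A * ((T⁻¹ : (Matrix n n F)ˣ) : Matrix n n F) :=
  exists_conj_of_algHom (φ : Matrix n n F →ₐ[F] Matrix n n F)


end single

section kron

variable {F : Type*} [Field F] {d e : Type*} [Fintype d] [DecidableEq d] [Fintype e] [DecidableEq e]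


theorem kronecker_key (X : Matrix (d × e) (d × e) F)
    (h : ∀ A : Matrix d d F, X * (A ⊗ₖ (1 : Matrix e e F)) = (A ⊗ₖ (1 : Matrix e e F)) * X)
    (i j a c : d) (s t : e) :
    X (a, s) (i, t) * (if j = c then 1 else 0) = (if a = i then 1 else 0) * X (j, s) (c, t) := by
  have h1 := congrFun (congrFun (h (single i j (1 : F))) (a, s)) (c, t)
  rw [Matrix.mul_apply, Matrix.mul_apply, Fintype.sum_prod_type, Fintype.sum_prod_type] at h1
  simp only [Matrix.kroneckerMap_apply, Matrix.one_apply, single, Matrix.of_apply] at h1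
  have e1 : ∑ x : d, ∑ y : e, X (a, s) (x, y) * ((if i = x ∧ j = c then (1 : F) else 0) * if y = t then 1 else 0)
      = X (a, s) (i, t) * (if j = c then 1 else 0) := by
    rw [Finset.sum_eq_single i]
    · rw [Finset.sum_eq_single t]
      · by_cases hjc : j = c <;> simp [hjc]
      · intro y _ hy
        simp [hy]
      · intro hn
        exact absurd (Finset.mem_univ t) hn
    · intro x _ hx
      apply Finset.sum_eq_zero
      intro y _
      simp [Ne.symm hx]
    · intro hn
      exact absurd (Finset.mem_univ i) hn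
  have e2 : ∑ x : d, ∑ y : e, ((if i = a ∧ j = x then (1 : F) else 0) * if s = y then 1 else 0) * X (x, y) (c, t)
      = (if a = i then 1 else 0) * X (j, s) (c, t) := by
    rw [Finset.sum_eq_single j]
    · rw [Finset.sum_eq_single s]
      · by_cases hai : a = i
        · subst hai; simp
        · simp [hai, Ne.symm hai]
      · intro y _ hy
        simp [Ne.symm hy]
      · intro hn
        exact absurd (Finset.mem_univ s) hn
    · intro x _ hx
      apply Finset.sum_eq_zero
      intro y _
      simp [Ne.symm hx]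
    · intro hn
      exact absurd (Finset.mem_univ j) hn
  rw [e1, e2] at h1
  exact h1


omit [Fintype d] [DecidableEq d] [Fintype e] in
/-- `A ↦ A ⊗ 1` is injective -/
theorem kronecker_one_injective [Nonempty e] {A A' : Matrix d d F}
    (h : A ⊗ₖ (1 : Matrix e e F) = A' ⊗ₖ (1 : Matrix e e F)) : A = A' := by
  obtain ⟨s₀⟩ := ‹Nonempty e›
  ext a c
  have h1 := congrFun (congrFun h (a, s₀)) (c, s₀)
  simpa [Matrix.kroneckerMap_apply] using h1

/-- the commutant of `M_d(F) ⊗ 1` in `M_{d×e}(F)` is `1 ⊗ M_e(F)` -/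
theorem exists_one_kronecker_of_commute [Nonempty d] (X : Matrix (d × e) (d × e) F)
    (h : ∀ A : Matrix d d F, X * (A ⊗ₖ (1 : Matrix e e F)) = (A ⊗ₖ (1 : Matrix e e F)) * X) :
    ∃ B : Matrix e e F, X = (1 : Matrix d d F) ⊗ₖ B := by
  obtain ⟨j₀⟩ := ‹Nonempty d›
  refine ⟨Matrix.of fun s t => X (j₀, s) (j₀, t), ?_⟩
  ext ⟨a, s⟩ ⟨c, t⟩
  rw [Matrix.kroneckerMap_apply, Matrix.one_apply, Matrix.of_apply]
  by_cases hac : a = c
  · subst hac
    have h1 := kronecker_key X h a j₀ a j₀ s t
    simpa using h1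
  · have h1 := kronecker_key X h c c a c s t
    simpa [hac] using h1

/-- an invertible matrix normalizing `M_d(F) ⊗ 1` is a Kronecker product of invertible matrices -/
theorem exists_kronecker_of_normalizes [Nonempty d] [Nonempty e] (h : (Matrix (d × e) (d × e) F)ˣ)
    (hn : ∀ A : Matrix d d F, ∃ A' : Matrix d d F,
      (h : Matrix (d × e) (d × e) F) * (A ⊗ₖ (1 : Matrix e e F)) *
        ((h⁻¹ : (Matrix (d × e) (d × e) F)ˣ) : Matrix (d × e) (d × e) F) = A' ⊗ₖ (1 : Matrix e e F)) :
    ∃ (a : (Matrix d d F)ˣ) (b : (Matrix e e F)ˣ),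
      (h : Matrix (d × e) (d × e) F) = (a : Matrix d d F) ⊗ₖ (b : Matrix e e F) := by
  classical
  choose f hf using hn
  have hinv1 : ((h⁻¹ : (Matrix (d × e) (d × e) F)ˣ) : Matrix (d × e) (d × e) F) *
      (h : Matrix (d × e) (d × e) F) = 1 := Units.inv_mul h
  have hinv2 : (h : Matrix (d × e) (d × e) F) *
      ((h⁻¹ : (Matrix (d × e) (d × e) F)ˣ) : Matrix (d × e) (d × e) F) = 1 := Units.mul_inv h
  -- `f` is a unital algebra endomorphism
  have fadd : ∀ A B, f (A + B) = f A + f B := by
    intro A B
    apply kronecker_one_injective (e := e)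
    rw [← hf, Matrix.add_kronecker, Matrix.add_kronecker, ← hf, ← hf, mul_add, add_mul]
  have fsmul : ∀ (c : F) A, f (c • A) = c • f A := by
    intro c A
    apply kronecker_one_injective (e := e)
    rw [← hf, Matrix.smul_kronecker, Matrix.smul_kronecker, ← hf, Matrix.mul_smul, Matrix.smul_mul]
  have fone : f 1 = 1 := by
    apply kronecker_one_injective (e := e)
    rw [← hf, Matrix.one_kronecker_one, mul_one, hinv2]
  have fmul : ∀ A B, f (A * B) = f A * f B := by
    intro A B
    apply kronecker_one_injective (e := e)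
    have e1 : (A * B) ⊗ₖ (1 : Matrix e e F) = A ⊗ₖ (1 : Matrix e e F) * B ⊗ₖ (1 : Matrix e e F) := by
      rw [← Matrix.mul_kronecker_mul, mul_one]
    have e2 : (f A * f B) ⊗ₖ (1 : Matrix e e F) =
        f A ⊗ₖ (1 : Matrix e e F) * f B ⊗ₖ (1 : Matrix e e F) := by
      rw [← Matrix.mul_kronecker_mul, mul_one]
    rw [← hf, e1, e2, ← hf, ← hf]
    calc (h : Matrix (d × e) (d × e) F) * (A ⊗ₖ (1 : Matrix e e F) * B ⊗ₖ (1 : Matrix e e F)) *
          ((h⁻¹ : (Matrix (d × e) (d × e) F)ˣ) : Matrix (d × e) (d × e) F)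
        = (h : Matrix (d × e) (d × e) F) * A ⊗ₖ (1 : Matrix e e F) * 1 *
          (B ⊗ₖ (1 : Matrix e e F) *
          ((h⁻¹ : (Matrix (d × e) (d × e) F)ˣ) : Matrix (d × e) (d × e) F)) := by
          simp only [mul_one, mul_assoc]
      _ = _ := by
          rw [← hinv1]
          simp only [mul_assoc]
  let φl : Matrix d d F →ₗ[F] Matrix d d F :=
    { toFun := f
      map_add' := fadd
      map_smul' := fsmul }
  let φ : Matrix d d F →ₐ[F] Matrix d d F := AlgHom.ofLinearMap φl fone fmul
  have hφ : ∀ A, φ A = f A := fun A => rfl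
  obtain ⟨a, ha⟩ := exists_conj_of_algHom φ
  -- `Y = (a⁻¹ ⊗ 1) h` commutes with `M_d ⊗ 1`
  have hYc : ∀ A : Matrix d d F,
      (((a⁻¹ : (Matrix d d F)ˣ) : Matrix d d F) ⊗ₖ (1 : Matrix e e F) * (h : Matrix (d × e) (d × e) F)) *
        (A ⊗ₖ (1 : Matrix e e F)) =
      (A ⊗ₖ (1 : Matrix e e F)) *
        (((a⁻¹ : (Matrix d d F)ˣ) : Matrix d d F) ⊗ₖ (1 : Matrix e e F) *
          (h : Matrix (d × e) (d × e) F)) := by
    intro A
    have h1 : (h : Matrix (d × e) (d × e) F) * (A ⊗ₖ (1 : Matrix e e F)) =
        (f A) ⊗ₖ (1 : Matrix e e F) * (h : Matrix (d × e) (d × e) F) := by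
      rw [← hf, mul_assoc, mul_assoc, hinv1, mul_one]
    rw [mul_assoc, h1, ← hφ, ha A, ← mul_assoc, ← mul_assoc]
    congr 1
    have e3 : ∀ X Y : Matrix d d F, X ⊗ₖ (1 : Matrix e e F) * Y ⊗ₖ (1 : Matrix e e F) =
        (X * Y) ⊗ₖ (1 : Matrix e e F) := by
      intro X Y
      rw [← Matrix.mul_kronecker_mul, mul_one]
    rw [e3, e3]
    congr 1
    rw [← mul_assoc, ← mul_assoc, Units.inv_mul, one_mul]
  obtain ⟨B, hB⟩ := exists_one_kronecker_of_commute _ hYc
  have hh : (h : Matrix (d × e) (d × e) F) = (a : Matrix d d F) ⊗ₖ B := by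
    have h1 : (a : Matrix d d F) ⊗ₖ (1 : Matrix e e F) *
        (((a⁻¹ : (Matrix d d F)ˣ) : Matrix d d F) ⊗ₖ (1 : Matrix e e F) *
          (h : Matrix (d × e) (d × e) F)) = (h : Matrix (d × e) (d × e) F) := by
      rw [← mul_assoc, ← Matrix.mul_kronecker_mul, Units.mul_inv, mul_one, Matrix.one_kronecker_one,
        one_mul]
    rw [← h1, hB, ← Matrix.mul_kronecker_mul, mul_one, one_mul]
  have hdet : IsUnit (h : Matrix (d × e) (d × e) F).det :=
    (Matrix.isUnit_iff_isUnit_det _).mp h.isUnit
  rw [hh, Matrix.det_kronecker] at hdet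
  have hBdet : B.det ≠ 0 := by
    intro h0
    rw [h0, zero_pow Fintype.card_ne_zero, mul_zero] at hdet
    exact not_isUnit_zero hdet
  obtain ⟨b, hb⟩ := (Matrix.isUnit_iff_isUnit_det B).mpr (Ne.isUnit hBdet)
  exact ⟨a, b, by rw [hh, hb]⟩

end kron

end Cfsg.Agent.Lib.Helper54.SkolemNoether
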