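/-
Coprime action toolkit (helper54): relative Schur–Zassenhaus conjugacy ("Glauberman's lemma")
for subgroups `A`, `K` of a finite group with `A` normalizing `K` and coprime orders.
Built on `Cfsg.Agent.S0001.result` (conjugacy half of Schur–Zassenhaus).
-/
import Mathlib.GroupTheory.SchurZassenhaus
import Mathlib.GroupTheory.Solvable
import Mathlib.GroupTheory.Sylow
import Mathlib.GroupTheory.Index
import Mathlib.GroupTheory.Nilpotent
import Mathlib.Order.Preorder.Finite
import Cfsg.Agent.S0001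

set_option autoImplicit false

namespace Cfsg.Agent.Lib.Helper54

open Pointwise

variable {G : Type*} [Group G]

/-- Membership in a conjugate subgroup. -/
theorem mem_conj_smul_iff {g x : G} {A : Subgroup G} :
    x ∈ MulAut.conj g • A ↔ g⁻¹ * x * g ∈ A := by
  rw [Subgroup.mem_pointwise_smul_iff_inv_smul_mem]
  simp [MulAut.smul_def]

theorem conj_mem_conj_smul {g x : G} {A : Subgroup G} (hx : x ∈ A) :
    g * x * g⁻¹ ∈ MulAut.conj g • A := by
  rw [mem_conj_smul_iff]
  simpa [mul_assoc] using hx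

/-- If `A` normalizes `K` and `K ∩ A = 1`, then `N_K(A) ≤ C(A)`. -/
theorem inf_normalizer_le_centralizer {A K : Subgroup G}
    (hAK : A ≤ Subgroup.normalizer (K : Set G)) (hdisj : K ⊓ A = ⊥) :
    K ⊓ Subgroup.normalizer (A : Set G) ≤ Subgroup.centralizer (A : Set G) := by
  rintro x ⟨hxK, hxA⟩
  rw [Subgroup.mem_centralizer_iff]
  intro a ha
  have h1 : x * a * x⁻¹ * a⁻¹ ∈ A :=
    A.mul_mem ((Subgroup.mem_normalizer_iff.mp hxA a).mp ha) (A.inv_mem ha)
  have h2 : x * a * x⁻¹ * a⁻¹ ∈ K := by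
    have h3 : a * x⁻¹ * a⁻¹ ∈ K :=
      (Subgroup.mem_normalizer_iff.mp (hAK ha) x⁻¹).mp (K.inv_mem hxK)
    have : x * a * x⁻¹ * a⁻¹ = x * (a * x⁻¹ * a⁻¹) := by group
    rw [this]
    exact K.mul_mem hxK h3
  have h3 : x * a * x⁻¹ * a⁻¹ ∈ K ⊓ A := ⟨h2, h1⟩
  rw [hdisj, Subgroup.mem_bot] at h3
  have : x * a = a * x := by
    calc x * a = (x * a * x⁻¹ * a⁻¹) * (a * x) := by group
      _ = a * x := by rw [h3, one_mul]
  exact this.symm

/-- Transfer of solvability along `L ≤ K`. -/
theorem isSolvable_of_le {L K : Subgroup G} (h : L ≤ K) (hK : Group.IsSolvable K) :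
    Group.IsSolvable L := by
  have := hK
  exact Group.isSolvable_of_isSolvable_injective (f := Subgroup.inclusion h)
    (Subgroup.inclusion_injective h)

/-- Relative Schur–Zassenhaus conjugacy ("Glauberman's lemma" in subgroup form):
if `L ⊴ M` with complements `A` and `B` in `M` of order coprime to `|L|`, and `A` or `L` is
solvable, then `B` is an `L`-conjugate of `A`. -/
theorem sz_conj_rel [Finite G] (M L A B : Subgroup G) (hLM : L ≤ M)
    (hML : M ≤ Subgroup.normalizer (L : Set G)) (hAM : A ≤ M) (hBM : B ≤ M)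
    (hcard : Nat.card L * Nat.card A = Nat.card M) (hAB : Nat.card B = Nat.card A)
    (hcop : (Nat.card L).Coprime (Nat.card A))
    (hsolv : Group.IsSolvable A ∨ Group.IsSolvable L) :
    ∃ l ∈ L, MulAut.conj l • A = B := by
  have hN : (L.subgroupOf M).Normal := Subgroup.normal_subgroupOf_of_le_normalizer hML
  have cL : Nat.card (L.subgroupOf M) = Nat.card L :=
    Nat.card_congr (Subgroup.subgroupOfEquivOfLe hLM).toEquiv
  have cA : Nat.card (A.subgroupOf M) = Nat.card A :=
    Nat.card_congr (Subgroup.subgroupOfEquivOfLe hAM).toEquiv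
  have cB : Nat.card (B.subgroupOf M) = Nat.card A :=
    (Nat.card_congr (Subgroup.subgroupOfEquivOfLe hBM).toEquiv).trans hAB
  have hcompA : Subgroup.IsComplement' (L.subgroupOf M) (A.subgroupOf M) :=
    Subgroup.isComplement'_of_coprime (by rw [cL, cA, hcard]) (by rw [cL, cA]; exact hcop)
  have hcompB : Subgroup.IsComplement' (L.subgroupOf M) (B.subgroupOf M) :=
    Subgroup.isComplement'_of_coprime (by rw [cL, cB, hcard]) (by rw [cL, cB]; exact hcop)
  have hidx : (L.subgroupOf M).index = Nat.card A := by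
    have h1 := (L.subgroupOf M).card_mul_index
    rw [cL, ← hcard] at h1
    exact Nat.eq_of_mul_eq_mul_left Nat.card_pos h1
  have hN' : (Nat.card (L.subgroupOf M)).Coprime (L.subgroupOf M).index := by
    rw [cL, hidx]; exact hcop
  have hsolv' : Group.IsSolvable (L.subgroupOf M) ∨ Group.IsSolvable (M ⧸ L.subgroupOf M) := by
    rcases hsolv with h | h
    · right
      have e : M ⧸ L.subgroupOf M ≃* A :=
        (hcompA.symm.QuotientMulEquiv).trans (Subgroup.subgroupOfEquivOfLe hAM)
      have := h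
      exact Group.isSolvable_of_isSolvable_injective (f := e.toMonoidHom) e.injective
    · left
      have := h
      exact Group.isSolvable_of_isSolvable_injective
        (f := (Subgroup.subgroupOfEquivOfLe hLM).toMonoidHom)
        (Subgroup.subgroupOfEquivOfLe hLM).injective
  obtain ⟨g, hg⟩ := Cfsg.Agent.S0001.result (L.subgroupOf M) hN' hsolv'
    (A.subgroupOf M) (B.subgroupOf M) hcompA hcompB
  -- factor `g = n * a`
  obtain ⟨⟨⟨n, hn⟩, ⟨a, ha⟩⟩, hna, -⟩ := (Subgroup.isComplement_iff_existsUnique.mp hcompA) g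
  simp only at hna
  have hconj : MulAut.conj n • A.subgroupOf M = B.subgroupOf M := by
    rw [← hg, ← hna, map_mul, mul_smul, Subgroup.conj_smul_eq_self_of_mem ha]
  refine ⟨(n : G), Subgroup.mem_subgroupOf.mp hn, ?_⟩
  ext x
  rw [mem_conj_smul_iff]
  constructor
  · intro hx
    have hxM : x ∈ M := by
      have h1 : (n : G)⁻¹ * x * n ∈ M := hAM hx
      have h2 : x = n * ((n : G)⁻¹ * x * n) * (n : G)⁻¹ := by group
      rw [h2]
      exact M.mul_mem (M.mul_mem n.2 h1) (M.inv_mem n.2)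
    have h3 : (⟨x, hxM⟩ : M) ∈ MulAut.conj n • A.subgroupOf M := by
      rw [mem_conj_smul_iff, Subgroup.mem_subgroupOf]
      simpa using hx
    rw [hconj, Subgroup.mem_subgroupOf] at h3
    exact h3
  · intro hx
    have h3 : (⟨x, hBM hx⟩ : M) ∈ MulAut.conj n • A.subgroupOf M := by
      rw [hconj, Subgroup.mem_subgroupOf]; exact hx
    rw [mem_conj_smul_iff, Subgroup.mem_subgroupOf] at h3
    simpa using h3

/-- `g` normalizes `A` iff conjugation by `g` fixes `A`. -/
theorem mem_normalizer_iff_conj_smul {g : G} {A : Subgroup G} :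
    g ∈ Subgroup.normalizer (A : Set G) ↔ MulAut.conj g • A = A := by
  constructor
  · intro hg
    ext x
    rw [mem_conj_smul_iff]
    exact (Subgroup.mem_normalizer_iff''.mp hg x).symm
  · intro h
    rw [Subgroup.mem_normalizer_iff'']
    intro x
    rw [← mem_conj_smul_iff, h]

theorem card_conj_smul (g : G) (A : Subgroup G) :
    Nat.card (MulAut.conj g • A : Subgroup G) = Nat.card A :=
  (Nat.card_congr (Subgroup.equivSMul (MulAut.conj g) A).toEquiv).symm

/-- Conjugation is monotone in the subgroup. -/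
theorem conj_smul_le_conj_smul {g : G} {A B : Subgroup G} (h : A ≤ B) :
    MulAut.conj g • A ≤ MulAut.conj g • B := by
  intro x hx
  rw [mem_conj_smul_iff] at hx ⊢
  exact h hx

/-- The normalizer of a conjugate is the conjugate of the normalizer (one inclusion, as `≤`). -/
theorem conj_smul_le_normalizer {g : G} {A P : Subgroup G}
    (h : A ≤ Subgroup.normalizer (P : Set G)) :
    MulAut.conj g • A ≤ Subgroup.normalizer ((MulAut.conj g • P : Subgroup G) : Set G) := by
  intro x hx
  rw [mem_conj_smul_iff] at hx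
  have h1 := h hx
  rw [mem_normalizer_iff_conj_smul] at h1 ⊢
  have h2 : MulAut.conj x = MulAut.conj g * MulAut.conj (g⁻¹ * x * g) * (MulAut.conj g)⁻¹ := by
    rw [← map_inv, ← map_mul, ← map_mul]
    congr 1
    group
  rw [h2, mul_smul, mul_smul, inv_smul_smul, h1]

/-- For `H ≤ K`, `|H| * [K : H] = |K|`. -/
theorem card_mul_relIndex {H K : Subgroup G} (h : H ≤ K) :
    Nat.card H * H.relIndex K = Nat.card K := by
  have h1 := (H.subgroupOf K).card_mul_index
  rwa [Nat.card_congr (Subgroup.subgroupOfEquivOfLe h).toEquiv] at h1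

/-- Relative version of `Subgroup.relIndex_sup_right`: if `M` normalizes `K` then
`[MK : K] = [M : M ∩ K]`. -/
theorem relIndex_sup_of_le_normalizer {M K : Subgroup G}
    (hMK : M ≤ Subgroup.normalizer (K : Set G)) : K.relIndex (M ⊔ K) = K.relIndex M := by
  have hK : K ≤ Subgroup.normalizer (K : Set G) := Subgroup.le_normalizer
  have h1 := Subgroup.relIndex_sup_right (M.subgroupOf (Subgroup.normalizer (K : Set G)))
    (K.subgroupOf (Subgroup.normalizer (K : Set G)))
  rw [← Subgroup.subgroupOf_sup hMK hK, Subgroup.relIndex_subgroupOf (sup_le hMK hK),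
    Subgroup.relIndex_subgroupOf hMK] at h1
  exact h1

/-- If `A` normalizes `K` and `K ∩ A = 1` then `|KA| = |K| |A|`. -/
theorem card_sup_of_le_normalizer [Finite G] {A K : Subgroup G}
    (hAK : A ≤ Subgroup.normalizer (K : Set G)) (hdisj : K ⊓ A = ⊥) :
    Nat.card (K ⊔ A : Subgroup G) = Nat.card K * Nat.card A := by
  have h1 := relIndex_sup_of_le_normalizer hAK
  have h2 : K.relIndex A = Nat.card A := by
    rw [← Subgroup.inf_relIndex_right, hdisj, Subgroup.relIndex_bot_left]
  rw [h2, sup_comm] at h1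
  rw [← card_mul_relIndex (le_sup_left : K ≤ K ⊔ A), h1]

/-! ### Relative Sylow tools -/

/-- Conjugation in a subgroup `K` versus conjugation in `G`. -/
theorem map_conj_smul (K : Subgroup G) (k : K) (S : Subgroup K) :
    (MulAut.conj k • S).map K.subtype = MulAut.conj (k : G) • S.map K.subtype := by
  ext x
  rw [mem_conj_smul_iff, Subgroup.mem_map, Subgroup.mem_map]
  constructor
  · rintro ⟨y, hy, rfl⟩
    rw [mem_conj_smul_iff] at hy
    exact ⟨_, hy, by simp⟩
  · rintro ⟨y, hy, hyx⟩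
    refine ⟨k * y * k⁻¹, ?_, ?_⟩
    · rw [mem_conj_smul_iff]
      simpa [mul_assoc] using hy
    · simp only [Subgroup.subtype_apply, Subgroup.coe_mul, Subgroup.coe_inv] at hyx ⊢
      rw [hyx]; group

/-- A subgroup of `K` of the order of a Sylow `p`-subgroup of `K` is (the image of) a Sylow
`p`-subgroup of `K`. -/
theorem exists_sylow_of_card [Finite G] {p : ℕ} [Fact p.Prime] (K P : Subgroup G) (hPK : P ≤ K)
    (hcard : Nat.card P = p ^ (Nat.card K).factorization p) :
    ∃ P₀ : Sylow p K, (P₀ : Subgroup K).map K.subtype = P := by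
  have h1 : Nat.card (P.subgroupOf K) = p ^ (Nat.card K).factorization p := by
    rw [Nat.card_congr (Subgroup.subgroupOfEquivOfLe hPK).toEquiv, hcard]
  refine ⟨Sylow.ofCard (P.subgroupOf K) h1, ?_⟩
  rw [Sylow.coe_ofCard, Subgroup.map_subgroupOf_eq_of_le hPK]

theorem card_map_sylow [Finite G] {p : ℕ} [Fact p.Prime] (K : Subgroup G) (P₀ : Sylow p K) :
    Nat.card ((P₀ : Subgroup K).map K.subtype) = p ^ (Nat.card K).factorization p := by
  rw [Subgroup.card_map_of_injective (Subgroup.subtype_injective K), P₀.card_eq_multiplicity]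

/-- Sylow conjugacy in `K`, phrased in `G`. -/
theorem exists_conj_sylow [Finite G] {p : ℕ} [Fact p.Prime] (K : Subgroup G) (P₀ Q₀ : Sylow p K) :
    ∃ k : K, MulAut.conj k • P₀ = Q₀ ∧
      MulAut.conj (k : G) • (P₀ : Subgroup K).map K.subtype = (Q₀ : Subgroup K).map K.subtype := by
  obtain ⟨k, hk⟩ := MulAction.exists_smul_eq K P₀ Q₀
  refine ⟨k, hk, ?_⟩
  rw [← map_conj_smul, ← hk]
  rfl

/-- Relative Frattini argument: if `h` normalizes `K` and `P` is a Sylow `p`-subgroup of `K`
then `h ∈ K N_G(P)`. -/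
theorem frattini_rel [Finite G] {p : ℕ} [Fact p.Prime] (K : Subgroup G) (P₀ : Sylow p K)
    (h : G) (hh : h ∈ Subgroup.normalizer (K : Set G)) :
    ∃ k ∈ K, k⁻¹ * h ∈ Subgroup.normalizer (((P₀ : Subgroup K).map K.subtype : Subgroup G) : Set G) := by
  set P := (P₀ : Subgroup K).map K.subtype with hP
  have hPK : P ≤ K := Subgroup.map_subtype_le _
  have hP'K : MulAut.conj h • P ≤ K := by
    have h1 : MulAut.conj h • P ≤ MulAut.conj h • K := conj_smul_le_conj_smul hPK
    rwa [mem_normalizer_iff_conj_smul.mp hh] at h1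
  obtain ⟨Q₀, hQ₀⟩ := exists_sylow_of_card (p := p) K (MulAut.conj h • P) hP'K
    (by rw [card_conj_smul, card_map_sylow])
  obtain ⟨k, -, hk⟩ := exists_conj_sylow K P₀ Q₀
  refine ⟨k, k.2, ?_⟩
  rw [← hP] at hk
  rw [mem_normalizer_iff_conj_smul, map_mul, mul_smul, ← hQ₀, ← hk, map_inv, inv_smul_smul]

/-- Relative Schur–Zassenhaus existence: if `M` normalizes `K` and `|M ∩ K|` is coprime to
`[M : M ∩ K]`, then `M ∩ K` has a complement in `M`. -/
theorem exists_complement_rel [Finite G] (M K : Subgroup G)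
    (hMK : M ≤ Subgroup.normalizer (K : Set G))
    (hcop : (Nat.card (K ⊓ M : Subgroup G)).Coprime (K.relIndex M)) :
    ∃ B : Subgroup G, B ≤ M ∧ Nat.card B = K.relIndex M := by
  have hN : (K.subgroupOf M).Normal := Subgroup.normal_subgroupOf_of_le_normalizer hMK
  have hcardN : Nat.card (K.subgroupOf M) = Nat.card (K ⊓ M : Subgroup G) := by
    rw [← Subgroup.inf_subgroupOf_right K M]
    exact Nat.card_congr (Subgroup.subgroupOfEquivOfLe inf_le_right).toEquiv
  have hcop' : (Nat.card (K.subgroupOf M)).Coprime (K.subgroupOf M).index := by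
    rw [hcardN]; exact hcop
  obtain ⟨B', hB'⟩ := Subgroup.exists_right_complement'_of_coprime hcop'
  refine ⟨B'.map M.subtype, Subgroup.map_subtype_le _, ?_⟩
  rw [Subgroup.card_map_of_injective (Subgroup.subtype_injective M)]
  have h1 := hB'.card_mul_card
  have h2 := (K.subgroupOf M).card_mul_index
  have h3 : Nat.card (K.subgroupOf M) * Nat.card B' =
      Nat.card (K.subgroupOf M) * (K.subgroupOf M).index := by rw [h1, h2]
  exact Nat.eq_of_mul_eq_mul_left Nat.card_pos h3

/-- Under coprime action some Sylow `p`-subgroup of `K` is `A`-invariant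
(general form used for `S0023`). -/
theorem exists_invariant_sylow [Finite G] (A K : Subgroup G)
    (hAK : A ≤ Subgroup.normalizer (K : Set G))
    (hcop : (Nat.card A).Coprime (Nat.card K))
    (hsolv : Group.IsSolvable A ∨ Group.IsSolvable K) (p : ℕ) [Fact p.Prime] :
    ∃ P : Sylow p K,
      A ≤ Subgroup.normalizer (((P : Subgroup K).map K.subtype : Subgroup G) : Set G) := by
  have hdisjKA : K ⊓ A = ⊥ := (Subgroup.disjoint_of_coprime_natCard hcop.symm).eq_bot
  obtain ⟨P₀⟩ : Nonempty (Sylow p K) := inferInstance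
  set P := (P₀ : Subgroup K).map K.subtype with hP
  have hHK : K ⊔ A ≤ Subgroup.normalizer (K : Set G) := sup_le Subgroup.le_normalizer hAK
  have hcardH : Nat.card (K ⊔ A : Subgroup G) = Nat.card K * Nat.card A :=
    card_sup_of_le_normalizer hAK hdisjKA
  have hidxH : K.relIndex (K ⊔ A) = Nat.card A := by
    have h1 := card_mul_relIndex (le_sup_left : K ≤ K ⊔ A)
    rw [hcardH] at h1
    exact Nat.eq_of_mul_eq_mul_left Nat.card_pos h1
  -- `M = N_H(P)`
  set M := Subgroup.normalizer (P : Set G) ⊓ (K ⊔ A) with hM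
  have hMH : M ≤ K ⊔ A := inf_le_right
  have hMK : M ≤ Subgroup.normalizer (K : Set G) := hMH.trans hHK
  -- Frattini: `M K = H`
  have hfrat : M ⊔ K = K ⊔ A := by
    apply le_antisymm (sup_le hMH le_sup_left)
    intro h hh
    obtain ⟨k, hk, hkh⟩ := frattini_rel K P₀ h (hHK hh)
    have h1 : k⁻¹ * h ∈ M :=
      ⟨hkh, Subgroup.mul_mem _ (Subgroup.inv_mem _ (le_sup_left (a := K) hk)) hh⟩
    have h3 : h = k * (k⁻¹ * h) := by group
    rw [h3, sup_comm]
    exact Subgroup.mul_mem_sup hk h1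
  have hidxM : K.relIndex M = Nat.card A := by
    rw [← relIndex_sup_of_le_normalizer hMK, hfrat, hidxH]
  have hcopM : (Nat.card (K ⊓ M : Subgroup G)).Coprime (K.relIndex M) := by
    rw [hidxM]
    exact Nat.Coprime.coprime_dvd_left (Subgroup.card_dvd_of_le inf_le_left) hcop.symm
  obtain ⟨B, hBM, hBcard⟩ := exists_complement_rel M K hMK hcopM
  rw [hidxM] at hBcard
  obtain ⟨l, hlK, hl⟩ := sz_conj_rel (K ⊔ A) K A B le_sup_left hHK le_sup_right (hBM.trans hMH)
    hcardH.symm hBcard hcop.symm (hsolv)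
  -- `A = l⁻¹ B l` normalizes `l⁻¹ P l`
  have hA : A = MulAut.conj l⁻¹ • B := by rw [← hl, map_inv, inv_smul_smul]
  have hBP : B ≤ Subgroup.normalizer (P : Set G) := hBM.trans inf_le_left
  refine ⟨MulAut.conj (⟨l⁻¹, K.inv_mem hlK⟩ : K) • P₀, ?_⟩
  rw [Sylow.pointwise_smul_def, map_conj_smul]
  rw [hA]
  exact conj_smul_le_normalizer hBP

/-- A subgroup normalizing `X` and `Y` normalizes `X ⊓ Y`. -/
theorem le_normalizer_inf {A X Y : Subgroup G} (hX : A ≤ Subgroup.normalizer (X : Set G))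
    (hY : A ≤ Subgroup.normalizer (Y : Set G)) :
    A ≤ Subgroup.normalizer ((X ⊓ Y : Subgroup G) : Set G) := by
  intro a ha
  rw [Subgroup.mem_normalizer_iff]
  intro g
  rw [Subgroup.mem_inf, Subgroup.mem_inf, ← Subgroup.mem_normalizer_iff.mp (hX ha) g,
    ← Subgroup.mem_normalizer_iff.mp (hY ha) g]

/-- Conjugating a subgroup of `H` by an element of `H` stays inside `H`. -/
theorem conj_smul_le_of_mem {g : G} {A H : Subgroup G} (hg : g ∈ H) (hA : A ≤ H) :
    MulAut.conj g • A ≤ H := by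
  intro x hx
  rw [mem_conj_smul_iff] at hx
  have h1 : x = g * (g⁻¹ * x * g) * g⁻¹ := by group
  rw [h1]
  exact H.mul_mem (H.mul_mem hg (hA hx)) (H.inv_mem hg)

theorem sylow_ext_of_map_eq {p : ℕ} (K : Subgroup G) {P₀ Q₀ : Sylow p K}
    (h : (P₀ : Subgroup K).map K.subtype = (Q₀ : Subgroup K).map K.subtype) : P₀ = Q₀ :=
  Sylow.ext (Subgroup.map_injective (Subgroup.subtype_injective K) h)

theorem map_sylow_conj_smul {p : ℕ} (K : Subgroup G) (k : K) (P₀ : Sylow p K) :
    ((MulAut.conj k • P₀ : Sylow p K) : Subgroup K).map K.subtype =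
      MulAut.conj (k : G) • (P₀ : Subgroup K).map K.subtype := by
  rw [Sylow.pointwise_smul_def, map_conj_smul]

/-- If `A ≤ M ≤ KA` with `A` normalizing `K` and `K ∩ A = 1` then `|M ∩ K| |A| = |M|`. -/
theorem card_inf_mul_card [Finite G] {A K M : Subgroup G}
    (hAK : A ≤ Subgroup.normalizer (K : Set G)) (hdisj : K ⊓ A = ⊥)
    (hAM : A ≤ M) (hMH : M ≤ K ⊔ A) :
    Nat.card (K ⊓ M : Subgroup G) * Nat.card A = Nat.card M := by
  have hHK : K ⊔ A ≤ Subgroup.normalizer (K : Set G) := sup_le Subgroup.le_normalizer hAK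
  have hcardH : Nat.card (K ⊔ A : Subgroup G) = Nat.card K * Nat.card A :=
    card_sup_of_le_normalizer hAK hdisj
  have hidxH : K.relIndex (K ⊔ A) = Nat.card A := by
    have h1 := card_mul_relIndex (le_sup_left : K ≤ K ⊔ A)
    rw [hcardH] at h1
    exact Nat.eq_of_mul_eq_mul_left Nat.card_pos h1
  have hsup : M ⊔ K = K ⊔ A :=
    le_antisymm (sup_le hMH le_sup_left) (sup_le le_sup_right (hAM.trans le_sup_left))
  have hidxM : K.relIndex M = Nat.card A := by
    rw [← relIndex_sup_of_le_normalizer (hMH.trans hHK), hsup, hidxH]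
  have h2 := card_mul_relIndex (inf_le_right : K ⊓ M ≤ M)
  rwa [Subgroup.inf_relIndex_right, hidxM] at h2

/-- Under coprime action two `A`-invariant Sylow `p`-subgroups of `K` are conjugate under
`C_K(A)` (general form used for `S0024`). -/
theorem exists_centralizer_conj_sylow [Finite G] (A K : Subgroup G)
    (hAK : A ≤ Subgroup.normalizer (K : Set G))
    (hcop : (Nat.card A).Coprime (Nat.card K))
    (hsolv : Group.IsSolvable A ∨ Group.IsSolvable K) (p : ℕ) [Fact p.Prime] (P Q : Sylow p K)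
    (hP : A ≤ Subgroup.normalizer (((P : Subgroup K).map K.subtype : Subgroup G) : Set G))
    (hQ : A ≤ Subgroup.normalizer (((Q : Subgroup K).map K.subtype : Subgroup G) : Set G)) :
    ∃ c : K, (c : G) ∈ Subgroup.centralizer (A : Set G) ∧ MulAut.conj c • P = Q := by
  have hdisjKA : K ⊓ A = ⊥ := (Subgroup.disjoint_of_coprime_natCard hcop.symm).eq_bot
  have hHK : K ⊔ A ≤ Subgroup.normalizer (K : Set G) := sup_le Subgroup.le_normalizer hAK
  obtain ⟨k, hk1, hk2⟩ := exists_conj_sylow K P Q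
  set P' := (P : Subgroup K).map K.subtype with hP'
  set Q' := (Q : Subgroup K).map K.subtype with hQ'
  -- `A₁ = k⁻¹ A k` normalizes `P'`
  have hA₁P : MulAut.conj (k : G)⁻¹ • A ≤ Subgroup.normalizer (P' : Set G) := by
    have h1 := conj_smul_le_normalizer (g := (k : G)⁻¹) hQ
    have h2 : MulAut.conj (k : G)⁻¹ • Q' = P' := by rw [← hk2, map_inv, inv_smul_smul]
    rwa [h2] at h1
  have hA₁H : MulAut.conj (k : G)⁻¹ • A ≤ K ⊔ A :=
    conj_smul_le_of_mem (Subgroup.inv_mem _ (le_sup_left (a := K) k.2)) le_sup_right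
  set M := Subgroup.normalizer (P' : Set G) ⊓ (K ⊔ A) with hM
  have hMH : M ≤ K ⊔ A := inf_le_right
  have hAM : A ≤ M := le_inf hP le_sup_right
  have hA₁M : MulAut.conj (k : G)⁻¹ • A ≤ M := le_inf hA₁P hA₁H
  have hML : M ≤ Subgroup.normalizer ((K ⊓ M : Subgroup G) : Set G) :=
    le_normalizer_inf (hMH.trans hHK) Subgroup.le_normalizer
  have hcopL : (Nat.card (K ⊓ M : Subgroup G)).Coprime (Nat.card A) :=
    Nat.Coprime.coprime_dvd_left (Subgroup.card_dvd_of_le inf_le_left) hcop.symm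
  have hsolv' : Group.IsSolvable A ∨ Group.IsSolvable (K ⊓ M : Subgroup G) :=
    hsolv.imp id (isSolvable_of_le inf_le_left)
  obtain ⟨l, hlL, hl⟩ := sz_conj_rel M (K ⊓ M) A (MulAut.conj (k : G)⁻¹ • A) inf_le_right hML hAM
    hA₁M (card_inf_mul_card hAK hdisjKA hAM hMH) (card_conj_smul _ _) hcopL hsolv'
  have hlK : l ∈ K := hlL.1
  have hlP : l ∈ Subgroup.normalizer (P' : Set G) := hlL.2.1
  have hcA : (k : G) * l ∈ Subgroup.centralizer (A : Set G) := by
    apply inf_normalizer_le_centralizer hAK hdisjKA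
    refine ⟨K.mul_mem k.2 hlK, ?_⟩
    change (k : G) * l ∈ Subgroup.normalizer (A : Set G)
    rw [mem_normalizer_iff_conj_smul, map_mul, mul_smul, hl, map_inv, smul_inv_smul]
  refine ⟨k * ⟨l, hlK⟩, hcA, ?_⟩
  apply sylow_ext_of_map_eq
  rw [map_sylow_conj_smul, ← hP', ← hQ', ← hk2]
  change MulAut.conj ((k : G) * l) • P' = _
  rw [map_mul, mul_smul, mem_normalizer_iff_conj_smul.mp hlP]

/-- If `V` is (the image of) a Sylow `p`-subgroup of `N` and is normal in `N`, then every
`p`-subgroup of `N` lies in `V`. -/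
theorem le_of_normal_sylow {p : ℕ} [Fact p.Prime] (N V W : Subgroup G) (T₀ : Sylow p N)
    (hT : (T₀ : Subgroup N).map N.subtype = V) (hNV : N ≤ Subgroup.normalizer (V : Set G))
    (hWN : W ≤ N) (hW : IsPGroup p W) : W ≤ V := by
  have hVN : V ≤ N := hT ▸ Subgroup.map_subtype_le _
  have hV : IsPGroup p V := by
    rw [← hT]
    exact T₀.isPGroup'.map _
  have hWV : IsPGroup p (W ⊔ V : Subgroup G) := hW.to_sup_of_normal_right' hV (hWN.trans hNV)
  have hle : W ⊔ V ≤ N := sup_le hWN hVN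
  have hQ : IsPGroup p ((W ⊔ V).subgroupOf N) :=
    hWV.of_equiv (Subgroup.subgroupOfEquivOfLe hle).symm
  have hTQ : (T₀ : Subgroup N) ≤ (W ⊔ V).subgroupOf N := by
    intro x hx
    rw [Subgroup.mem_subgroupOf]
    apply le_sup_right (a := W)
    rw [← hT]
    exact Subgroup.mem_map_of_mem _ hx
  have hEq := T₀.is_maximal' hQ hTQ
  intro w hw
  have h1 : (⟨w, hWN hw⟩ : N) ∈ (W ⊔ V).subgroupOf N := by
    rw [Subgroup.mem_subgroupOf]; exact le_sup_left (b := V) hw
  rw [hEq] at h1
  rw [← hT]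
  exact ⟨_, h1, rfl⟩

/-- Normalizers grow in `p`-groups (relative form). -/
theorem eq_of_inf_normalizer_le [Finite G] {p : ℕ} [Fact p.Prime] (S V : Subgroup G)
    (hS : IsPGroup p S) (hVS : V ≤ S) (h : S ⊓ Subgroup.normalizer (V : Set G) ≤ V) : V = S := by
  by_contra hne
  have : Group.IsNilpotent S := hS.isNilpotent
  have hlt : V.subgroupOf S < ⊤ := by
    rw [lt_top_iff_ne_top, Ne, Subgroup.subgroupOf_eq_top]
    intro hSV
    exact hne (le_antisymm hVS hSV)
  have h1 := Group.normalizerCondition_of_isNilpotent (G := S) (V.subgroupOf S) hlt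
  obtain ⟨x, hxN, hxV⟩ := SetLike.exists_of_lt h1
  apply hxV
  rw [Subgroup.mem_subgroupOf]
  apply h
  refine ⟨x.2, ?_⟩
  change (x : G) ∈ Subgroup.normalizer (V : Set G)
  rw [Subgroup.mem_normalizer_iff] at hxN ⊢
  intro g
  constructor
  · intro hg
    have := (hxN ⟨g, hVS hg⟩).mp (by rw [Subgroup.mem_subgroupOf]; exact hg)
    rw [Subgroup.mem_subgroupOf] at this
    simpa using this
  · intro hg
    have hgS : g ∈ S := by
      have h2 : g = (x : G)⁻¹ * ((x : G) * g * (x : G)⁻¹) * x := by group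
      rw [h2]
      exact S.mul_mem (S.mul_mem (S.inv_mem x.2) (hVS hg)) x.2
    have := (hxN ⟨g, hgS⟩).mpr (by rw [Subgroup.mem_subgroupOf]; simpa using hg)
    rw [Subgroup.mem_subgroupOf] at this
    exact this

/-- The normalizer of an `A`-invariant subgroup is `A`-invariant. -/
theorem le_normalizer_normalizer {A V : Subgroup G} (h : A ≤ Subgroup.normalizer (V : Set G)) :
    A ≤ Subgroup.normalizer ((Subgroup.normalizer (V : Set G) : Subgroup G) : Set G) :=
  h.trans Subgroup.le_normalizer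

/-- Under coprime action every `A`-invariant `p`-subgroup of `K` lies in an `A`-invariant Sylow
`p`-subgroup of `K` (general form used for `S0025`). -/
theorem exists_invariant_sylow_ge [Finite G] (A K : Subgroup G)
    (hAK : A ≤ Subgroup.normalizer (K : Set G))
    (hcop : (Nat.card A).Coprime (Nat.card K))
    (hsolv : Group.IsSolvable A ∨ Group.IsSolvable K) (p : ℕ) [Fact p.Prime]
    (U : Subgroup G) (hUK : U ≤ K) (hU : IsPGroup p U)
    (hUA : A ≤ Subgroup.normalizer (U : Set G)) :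
    ∃ P : Sylow p K, U ≤ (P : Subgroup K).map K.subtype ∧
      A ≤ Subgroup.normalizer (((P : Subgroup K).map K.subtype : Subgroup G) : Set G) := by
  -- a maximal `A`-invariant `p`-subgroup `V` of `K` containing `U`
  let 𝒮 : Set (Subgroup G) :=
    {V | U ≤ V ∧ V ≤ K ∧ IsPGroup p V ∧ A ≤ Subgroup.normalizer (V : Set G)}
  have h𝒮 : 𝒮.Nonempty := ⟨U, le_rfl, hUK, hU, hUA⟩
  obtain ⟨V, ⟨hUV, hVK, hV, hVA⟩, hVmax⟩ := Set.Finite.exists_maximal (Set.toFinite 𝒮) h𝒮
  -- `N = N_K(V)` is `A`-invariant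
  set N := K ⊓ Subgroup.normalizer (V : Set G) with hN
  have hNK : N ≤ K := inf_le_left
  have hNA : A ≤ Subgroup.normalizer (N : Set G) :=
    le_normalizer_inf hAK (le_normalizer_normalizer hVA)
  have hVN : V ≤ N := le_inf hVK Subgroup.le_normalizer
  have hNV : N ≤ Subgroup.normalizer (V : Set G) := inf_le_right
  obtain ⟨T₀, hT₀⟩ := exists_invariant_sylow A N hNA
    (Nat.Coprime.coprime_dvd_right (Subgroup.card_dvd_of_le hNK) hcop)
    (hsolv.imp id (isSolvable_of_le hNK)) p
  set T := (T₀ : Subgroup N).map N.subtype with hT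
  have hTN : T ≤ N := Subgroup.map_subtype_le _
  have hTp : IsPGroup p T := T₀.isPGroup'.map _
  -- `V ≤ T` since `V` is a normal `p`-subgroup of `N`
  have hVT : V ≤ T := by
    have : (V.subgroupOf N).Normal := Subgroup.normal_subgroupOf_of_le_normalizer hNV
    have h1 : V.subgroupOf N ≤ T₀ :=
      IsPGroup.le_sylow_of_normal (hV.of_equiv (Subgroup.subgroupOfEquivOfLe hVN).symm) T₀
    intro v hv
    exact ⟨⟨v, hVN hv⟩, h1 (by rw [Subgroup.mem_subgroupOf]; exact hv), rfl⟩
  have hTV : T = V :=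
    le_antisymm (hVmax ⟨hUV.trans hVT, hTN.trans hNK, hTp, hT₀⟩ hVT) hVT
  -- `V` is a Sylow `p`-subgroup of `K`
  obtain ⟨S₀, hS₀⟩ := (hV.of_equiv (Subgroup.subgroupOfEquivOfLe hVK).symm).exists_le_sylow
  set S := (S₀ : Subgroup K).map K.subtype with hS
  have hSK : S ≤ K := Subgroup.map_subtype_le _
  have hSp : IsPGroup p S := S₀.isPGroup'.map _
  have hVS : V ≤ S := by
    intro v hv
    exact ⟨⟨v, hVK hv⟩, hS₀ (by rw [Subgroup.mem_subgroupOf]; exact hv), rfl⟩
  have hSV : V = S := by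
    apply eq_of_inf_normalizer_le S V hSp hVS
    have hWN : S ⊓ Subgroup.normalizer (V : Set G) ≤ N := inf_le_inf_right _ hSK
    exact le_of_normal_sylow N V _ T₀ hTV hNV hWN (hSp.to_le inf_le_left)
  refine ⟨S₀, ?_, ?_⟩
  · rw [← hS, ← hSV]; exact hUV
  · rw [← hS, ← hSV]; exact hVA

end Cfsg.Agent.Lib.Helper54
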