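/-
Basic API for `O_{p'}(G)`, `O_{p',p}(G)` and the `p`-constraint predicate (helper54).
Notation in comments: `K = O_{p'}(G) = pPrimeCore p G`, `R = O_{p',p}(G) = pPrimePCore p G`.
-/
import Cfsg.Prelude.Def_Local
import Cfsg.Agent.Lib.Helper76.PCore
import Cfsg.Agent.Lib.Helper97.Cores
import Cfsg.Agent.Lib.Helper54.Coprime

set_option autoImplicit false

namespace Cfsg.Agent.Lib.Helper54

open Cfsg Pointwise

variable {G : Type*} [Group G]

theorem mem_pPrimePCore_iff (p : ℕ) (g : G) :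
    g ∈ pPrimePCore p G ↔
      QuotientGroup.mk' (pPrimeCore p G) g ∈ pCore p (G ⧸ pPrimeCore p G) := Iff.rfl

instance pPrimePCore_normal_h54 (p : ℕ) : (pPrimePCore p G).Normal :=
  Subgroup.Normal.comap inferInstance _

/-- `K ≤ R`. -/
theorem pPrimeCore_le_pPrimePCore (p : ℕ) : pPrimeCore p G ≤ pPrimePCore p G := by
  intro g hg
  rw [mem_pPrimePCore_iff]
  have : QuotientGroup.mk' (pPrimeCore p G) g = 1 := by
    rw [QuotientGroup.mk'_apply, QuotientGroup.eq_one_iff]; exact hg
  rw [this]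
  exact Subgroup.one_mem _

/-- `R / K` is a `p`-group: every element of `R` has a `p`-power power in `K`. -/
theorem exists_pow_mem_pPrimeCore (p : ℕ) [Fact p.Prime] {g : G} (hg : g ∈ pPrimePCore p G) :
    ∃ n : ℕ, g ^ p ^ n ∈ pPrimeCore p G := by
  rw [mem_pPrimePCore_iff] at hg
  obtain ⟨n, hn⟩ := Cfsg.Agent.Lib.Helper76.pCore_isPGroup (G := G ⧸ pPrimeCore p G) p
    ⟨_, hg⟩
  refine ⟨n, ?_⟩
  have h1 := congrArg Subtype.val hn
  simp only [Subgroup.coe_pow, Subgroup.coe_one] at h1
  rw [← map_pow, QuotientGroup.mk'_apply, QuotientGroup.eq_one_iff] at h1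
  exact h1

/-- Universal property of `R`: a normal subgroup whose image modulo `K` is a `p`-group lies
in `R`. -/
theorem le_pPrimePCore (p : ℕ) {N : Subgroup G} (hN : N.Normal)
    (h : ∀ g ∈ N, ∃ n : ℕ, g ^ p ^ n ∈ pPrimeCore p G) : N ≤ pPrimePCore p G := by
  have hmapN : (N.map (QuotientGroup.mk' (pPrimeCore p G))).Normal :=
    hN.map _ (QuotientGroup.mk'_surjective _)
  have hp : IsPGroup p (N.map (QuotientGroup.mk' (pPrimeCore p G))) := by
    rintro ⟨x, hx⟩
    obtain ⟨g, hg, rfl⟩ := hx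
    obtain ⟨n, hn⟩ := h g hg
    refine ⟨n, ?_⟩
    apply Subtype.ext
    simp only [Subgroup.coe_pow, Subgroup.coe_one]
    rw [← map_pow, QuotientGroup.mk'_apply, QuotientGroup.eq_one_iff]
    exact hn
  intro g hg
  rw [mem_pPrimePCore_iff]
  exact Cfsg.Agent.Lib.Helper76.le_pCore p _ hmapN hp (Subgroup.mem_map_of_mem _ hg)

/-- `p'`-elements of `R` lie in `K`. -/
theorem mem_pPrimeCore_of_coprime (p : ℕ) [Fact p.Prime] {g : G} (hg : g ∈ pPrimePCore p G)
    (hcop : (orderOf g).Coprime p) : g ∈ pPrimeCore p G := by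
  obtain ⟨n, hn⟩ := exists_pow_mem_pPrimeCore p hg
  obtain ⟨m, hm⟩ := exists_pow_eq_self_of_coprime (x := g) (n := p ^ n)
    ((Nat.Coprime.pow_right n hcop).symm)
  rw [← hm]
  exact Subgroup.pow_mem _ hn m

/-- A `p'`-subgroup of `R` lies in `K`. -/
theorem le_pPrimeCore_of_le_pPrimePCore [Finite G] (p : ℕ) [Fact p.Prime] {W : Subgroup G}
    (hW : W ≤ pPrimePCore p G) (hcop : (Nat.card W).Coprime p) : W ≤ pPrimeCore p G := by
  intro w hw
  apply mem_pPrimeCore_of_coprime p (hW hw)
  have h1 : orderOf w ∣ Nat.card W := by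
    have := orderOf_dvd_natCard (⟨w, hw⟩ : W)
    rwa [Subgroup.orderOf_mk] at this
  exact Nat.Coprime.coprime_dvd_left h1 hcop

/-- The order of `K` is prime to `p`. -/
theorem card_pPrimeCore_coprime [Finite G] (p : ℕ) : (Nat.card (pPrimeCore p G)).Coprime p :=
  Cfsg.Agent.Lib.Helper76.pPrimeCore_coprime p

/-- Elements of `K` have order prime to `p`. -/
theorem orderOf_coprime_of_mem_pPrimeCore [Finite G] (p : ℕ) {g : G} (hg : g ∈ pPrimeCore p G) :
    (orderOf g).Coprime p := by
  have h1 : orderOf g ∣ Nat.card (pPrimeCore p G) := by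
    have := orderOf_dvd_natCard (⟨g, hg⟩ : pPrimeCore p G)
    rwa [Subgroup.orderOf_mk] at this
  exact Nat.Coprime.coprime_dvd_left h1 (card_pPrimeCore_coprime p)

/-- An element that is both a `p`-element modulo `K`... : if `g ^ p ^ n ∈ K` and `g` has order
prime to `p` then `g ∈ K`. -/
theorem mem_of_pow_mem_of_coprime {K : Subgroup G} {g : G} {q : ℕ} (hq : g ^ q ∈ K)
    (hcop : (orderOf g).Coprime q) : g ∈ K := by
  obtain ⟨m, hm⟩ := exists_pow_eq_self_of_coprime (x := g) (n := q) hcop.symm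
  rw [← hm]
  exact Subgroup.pow_mem _ hq m

/-- `[R : K]` is a power of `p`. -/
theorem relIndex_pPrimeCore_pPrimePCore [Finite G] (p : ℕ) [Fact p.Prime] :
    ∃ a : ℕ, (pPrimeCore p G).relIndex (pPrimePCore p G) = p ^ a := by
  have : ((pPrimeCore p G).subgroupOf (pPrimePCore p G)).Normal :=
    Subgroup.Normal.subgroupOf inferInstance _
  have hp : IsPGroup p (↥(pPrimePCore p G) ⧸ (pPrimeCore p G).subgroupOf (pPrimePCore p G)) := by
    intro x
    obtain ⟨g, rfl⟩ := QuotientGroup.mk_surjective x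
    obtain ⟨n, hn⟩ := exists_pow_mem_pPrimeCore p g.2
    refine ⟨n, ?_⟩
    rw [← QuotientGroup.mk_pow, QuotientGroup.eq_one_iff, Subgroup.mem_subgroupOf]
    simpa using hn
  obtain ⟨a, ha⟩ := IsPGroup.iff_card.mp hp
  exact ⟨a, by rw [Subgroup.relIndex, Subgroup.index_eq_card, ha]⟩

/-- `R = K P` for a Sylow `p`-subgroup `P` of `R`. -/
theorem pPrimeCore_sup_sylow [Finite G] (p : ℕ) [Fact p.Prime] (P : Sylow p ↥(pPrimePCore p G)) :
    pPrimeCore p G ⊔ (P : Subgroup ↥(pPrimePCore p G)).map (pPrimePCore p G).subtype =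
      pPrimePCore p G := by
  have hKR : pPrimeCore p G ≤ pPrimePCore p G := pPrimeCore_le_pPrimePCore p
  have hP'R : (P : Subgroup ↥(pPrimePCore p G)).map (pPrimePCore p G).subtype ≤ pPrimePCore p G :=
    Subgroup.map_subtype_le _
  apply le_antisymm (sup_le hKR hP'R)
  rw [← Subgroup.relIndex_eq_one]
  -- the index divides both a power of `p` and a number prime to `p`
  obtain ⟨a, ha⟩ := relIndex_pPrimeCore_pPrimePCore (G := G) p
  have h1 : (pPrimeCore p G ⊔
      (P : Subgroup ↥(pPrimePCore p G)).map (pPrimePCore p G).subtype).relIndex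
        (pPrimePCore p G) ∣ p ^ a := by
    rw [← ha]
    exact Subgroup.relIndex_dvd_of_le_left _ le_sup_left
  have h2 : (pPrimeCore p G ⊔
      (P : Subgroup ↥(pPrimePCore p G)).map (pPrimePCore p G).subtype).relIndex
        (pPrimePCore p G) ∣
      ((P : Subgroup ↥(pPrimePCore p G)).map (pPrimePCore p G).subtype).relIndex
        (pPrimePCore p G) :=
    Subgroup.relIndex_dvd_of_le_left _ le_sup_right
  have h3 : ((P : Subgroup ↥(pPrimePCore p G)).map (pPrimePCore p G).subtype).relIndex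
      (pPrimePCore p G) = (P : Subgroup ↥(pPrimePCore p G)).index := by
    rw [Subgroup.relIndex]
    congr 1
    exact Subgroup.comap_map_eq_self_of_injective (Subgroup.subtype_injective _) _
  have h4 : ¬ p ∣ ((P : Subgroup ↥(pPrimePCore p G)).map (pPrimePCore p G).subtype).relIndex
      (pPrimePCore p G) := by rw [h3]; exact P.not_dvd_index
  have h5 : (((P : Subgroup ↥(pPrimePCore p G)).map (pPrimePCore p G).subtype).relIndex
      (pPrimePCore p G)).Coprime (p ^ a) :=
    (Nat.Coprime.pow_right a ((Nat.Prime.coprime_iff_not_dvd Fact.out).mpr h4).symm)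
  exact Nat.eq_one_of_dvd_coprimes h5 h2 h1

/-- Every element of `R` is a product `k * y` with `k ∈ K` and `y` in a given Sylow
`p`-subgroup of `R`. -/
theorem exists_mul_of_mem_pPrimePCore [Finite G] (p : ℕ) [Fact p.Prime]
    (P : Sylow p ↥(pPrimePCore p G)) {r : G} (hr : r ∈ pPrimePCore p G) :
    ∃ k ∈ pPrimeCore p G, ∃ y ∈ (P : Subgroup ↥(pPrimePCore p G)).map (pPrimePCore p G).subtype,
      r = k * y := by
  rw [← pPrimeCore_sup_sylow p P, ← SetLike.mem_coe, Subgroup.normal_mul] at hr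
  obtain ⟨k, hk, y, hy, rfl⟩ := hr
  exact ⟨k, hk, y, hy, rfl⟩


open scoped commutatorElement

/-- An element of a `p`-subgroup and of a `p'`-subgroup is trivial. -/
theorem eq_one_of_mem_pGroup_of_mem_coprime [Finite G] {p : ℕ} {P K : Subgroup G}
    (hP : IsPGroup p P) (hK : (Nat.card K).Coprime p) {x : G} (hxP : x ∈ P) (hxK : x ∈ K) :
    x = 1 := by
  obtain ⟨n, hn⟩ := hP ⟨x, hxP⟩
  have h2 : x ^ p ^ n = 1 := by
    have := congrArg Subtype.val hn
    simpa using this
  have h1 : x ^ Nat.card K = 1 := by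
    have h3 : (⟨x, hxK⟩ : K) ^ Nat.card K = 1 := pow_card_eq_one'
    have h4 := congrArg Subtype.val h3
    rwa [Subgroup.coe_pow, Subgroup.coe_one] at h4
  exact Cfsg.Agent.Lib.Helper76.eq_one_of_pow_eq_one_of_coprime p x _ n hK h1 h2

/-- Membership of a commutator in a normal subgroup only depends on the entries modulo it. -/
theorem commutator_mem_of_mul_left {K : Subgroup G} [K.Normal] {k g y : G} (hk : k ∈ K) :
    ⁅k * g, y⁆ ∈ K ↔ ⁅g, y⁆ ∈ K := by
  rw [← QuotientGroup.eq_one_iff, ← QuotientGroup.eq_one_iff (N := K)]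
  rw [← QuotientGroup.mk'_apply, ← QuotientGroup.mk'_apply, map_commutatorElement,
    map_commutatorElement, map_mul]
  have : QuotientGroup.mk' K k = 1 := by
    rw [QuotientGroup.mk'_apply, QuotientGroup.eq_one_iff]; exact hk
  rw [this, one_mul]

theorem commutator_mem_of_mul_right {K : Subgroup G} [K.Normal] {k g y : G} (hk : k ∈ K) :
    ⁅g, k * y⁆ ∈ K ↔ ⁅g, y⁆ ∈ K := by
  rw [← QuotientGroup.eq_one_iff, ← QuotientGroup.eq_one_iff (N := K)]
  rw [← QuotientGroup.mk'_apply, ← QuotientGroup.mk'_apply, map_commutatorElement,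
    map_commutatorElement, map_mul]
  have : QuotientGroup.mk' K k = 1 := by
    rw [QuotientGroup.mk'_apply, QuotientGroup.eq_one_iff]; exact hk
  rw [this, one_mul]

/-- **Key characterization of `p`-constraint**: `G` is `p`-constrained iff every element
centralizing `R / K` lies in `R` (`K = O_{p'}(G)`, `R = O_{p',p}(G)`). -/
theorem isPConstrained_iff [Finite G] (p : ℕ) [Fact p.Prime] :
    IsPConstrained p G ↔
      ∀ g : G, (∀ y ∈ pPrimePCore p G, ⁅g, y⁆ ∈ pPrimeCore p G) → g ∈ pPrimePCore p G := by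
  constructor
  · intro h g hg
    obtain ⟨P⟩ : Nonempty (Sylow p ↥(pPrimePCore p G)) := inferInstance
    have hP'R : (P : Subgroup ↥(pPrimePCore p G)).map (pPrimePCore p G).subtype ≤
        pPrimePCore p G := Subgroup.map_subtype_le _
    have hP'p : IsPGroup p ((P : Subgroup ↥(pPrimePCore p G)).map (pPrimePCore p G).subtype) :=
      P.isPGroup'.map _
    obtain ⟨r, hr, hrn⟩ := frattini_rel (pPrimePCore p G) P g
      (by rw [Subgroup.normalizer_eq_top]; trivial)
    obtain ⟨k, hk, y, hy, rfl⟩ := exists_mul_of_mem_pPrimePCore p P hr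
    have h1 : k⁻¹ * g ∈ Subgroup.normalizer
        (((P : Subgroup ↥(pPrimePCore p G)).map (pPrimePCore p G).subtype : Subgroup G) : Set G) := by
      have e : k⁻¹ * g = y * ((k * y)⁻¹ * g) := by group
      rw [e]
      exact Subgroup.mul_mem _ (Subgroup.le_normalizer hy) hrn
    have h2 : k⁻¹ * g ∈ Subgroup.centralizer
        (((P : Subgroup ↥(pPrimePCore p G)).map (pPrimePCore p G).subtype : Subgroup G) : Set G) := by
      rw [Subgroup.mem_centralizer_iff]
      intro z hz
      have hzR : z ∈ pPrimePCore p G := hP'R hz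
      have hc1 : ⁅k⁻¹ * g, z⁆ ∈
          (P : Subgroup ↥(pPrimePCore p G)).map (pPrimePCore p G).subtype := by
        rw [commutatorElement_def]
        exact Subgroup.mul_mem _ ((Subgroup.mem_normalizer_iff.mp h1 z).mp hz) (Subgroup.inv_mem _ hz)
      have hc2 : ⁅k⁻¹ * g, z⁆ ∈ pPrimeCore p G :=
        (commutator_mem_of_mul_left (Subgroup.inv_mem _ hk)).mpr (hg z hzR)
      have hc3 : ⁅k⁻¹ * g, z⁆ = 1 :=
        eq_one_of_mem_pGroup_of_mem_coprime hP'p (card_pPrimeCore_coprime p) hc1 hc2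
      have := commutatorElement_eq_one_iff_commute.mp hc3
      exact this.eq.symm
    have h3 := h P h2
    have e : g = k * (k⁻¹ * g) := by group
    rw [e]
    exact Subgroup.mul_mem _ (pPrimeCore_le_pPrimePCore p hk) h3
  · intro h P g hg
    apply h
    intro y hy
    obtain ⟨k, hk, z, hz, rfl⟩ := exists_mul_of_mem_pPrimePCore p P hy
    rw [commutator_mem_of_mul_right hk]
    have hcomm : z * g = g * z := (Subgroup.mem_centralizer_iff.mp hg) z hz
    have : ⁅g, z⁆ = 1 := by
      rw [commutatorElement_eq_one_iff_commute]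
      exact hcomm.symm
    rw [this]
    exact Subgroup.one_mem _


/-- `cR p G`: the elements of `G` centralizing `R / K`, i.e. the preimage of
`C_{G/K}(O_p(G/K))`. -/
def cR (p : ℕ) (G : Type*) [Group G] : Subgroup G :=
  (Subgroup.centralizer (pCore p (G ⧸ pPrimeCore p G) : Set (G ⧸ pPrimeCore p G))).comap
    (QuotientGroup.mk' (pPrimeCore p G))

instance cR_normal (p : ℕ) : (cR p G).Normal :=
  Subgroup.Normal.comap Subgroup.normal_centralizer _

theorem mem_cR_iff (p : ℕ) (g : G) :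
    g ∈ cR p G ↔ ∀ y ∈ pPrimePCore p G, ⁅g, y⁆ ∈ pPrimeCore p G := by
  unfold cR
  rw [Subgroup.mem_comap, Subgroup.mem_centralizer_iff]
  constructor
  · intro h y hy
    rw [← QuotientGroup.eq_one_iff, ← QuotientGroup.mk'_apply, map_commutatorElement,
      commutatorElement_eq_one_iff_commute]
    exact (h _ ((mem_pPrimePCore_iff p y).mp hy)).symm
  · intro h ybar hybar
    obtain ⟨y, rfl⟩ := QuotientGroup.mk'_surjective (pPrimeCore p G) ybar
    have h1 := h y ((mem_pPrimePCore_iff p y).mpr hybar)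
    rw [← QuotientGroup.eq_one_iff, ← QuotientGroup.mk'_apply, map_commutatorElement,
      commutatorElement_eq_one_iff_commute] at h1
    exact h1.eq.symm

theorem isPConstrained_iff_cR_le [Finite G] (p : ℕ) [Fact p.Prime] :
    IsPConstrained p G ↔ cR p G ≤ pPrimePCore p G := by
  rw [isPConstrained_iff]
  constructor
  · intro h g hg
    exact h g ((mem_cR_iff p g).mp hg)
  · intro h g hg
    exact h ((mem_cR_iff p g).mpr hg)

/-- `p`-constraint in the "quotient form": `C_{G/K}(O_p(G/K)) ≤ O_p(G/K)`. -/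
theorem isPConstrained_iff_centralizer_pCore_le [Finite G] (p : ℕ) [Fact p.Prime] :
    IsPConstrained p G ↔
      Subgroup.centralizer (pCore p (G ⧸ pPrimeCore p G) : Set (G ⧸ pPrimeCore p G)) ≤
        pCore p (G ⧸ pPrimeCore p G) := by
  rw [isPConstrained_iff_cR_le]
  constructor
  · intro h x hx
    obtain ⟨g, rfl⟩ := QuotientGroup.mk'_surjective (pPrimeCore p G) x
    exact h (show g ∈ cR p G from hx)
  · intro h g hg
    exact h hg

/-- Some `p`-power power of any element has order prime to `p`. -/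
theorem exists_pow_orderOf_coprime [Finite G] (p : ℕ) [hp : Fact p.Prime] (g : G) :
    ∃ e : ℕ, (orderOf (g ^ p ^ e)).Coprime p := by
  obtain ⟨e, m, hm, hn⟩ := Nat.exists_eq_pow_mul_and_not_dvd (orderOf_pos g).ne' p hp.out.ne_one
  refine ⟨e, ?_⟩
  have h1 : (g ^ p ^ e) ^ m = 1 := by
    rw [← pow_mul, ← hn, pow_orderOf_eq_one]
  have h2 : orderOf (g ^ p ^ e) ∣ m := orderOf_dvd_of_pow_eq_one h1
  have h3 : m.Coprime p := ((Nat.Prime.coprime_iff_not_dvd hp.out).mpr hm).symm
  exact Nat.Coprime.coprime_dvd_left h2 h3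

/-- `p`-constraint from the `p'`-elements: if every `p'`-element centralizing `R / K` lies in
`K`, then `G` is `p`-constrained. -/
theorem isPConstrained_of_forall_coprime [Finite G] (p : ℕ) [Fact p.Prime]
    (h : ∀ c : G, (orderOf c).Coprime p →
      (∀ y ∈ pPrimePCore p G, ⁅c, y⁆ ∈ pPrimeCore p G) → c ∈ pPrimeCore p G) :
    IsPConstrained p G := by
  rw [isPConstrained_iff_cR_le]
  apply le_pPrimePCore p (cR_normal p)
  intro g hg
  obtain ⟨e, he⟩ := exists_pow_orderOf_coprime p g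
  exact ⟨e, h _ he ((mem_cR_iff p _).mp (Subgroup.pow_mem _ hg _))⟩

/-- In a `p`-constrained group, a `p'`-element centralizing `R / K` lies in `K`. -/
theorem mem_pPrimeCore_of_isPConstrained [Finite G] (p : ℕ) [Fact p.Prime]
    (hG : IsPConstrained p G) {c : G} (hc : (orderOf c).Coprime p)
    (h : ∀ y ∈ pPrimePCore p G, ⁅c, y⁆ ∈ pPrimeCore p G) : c ∈ pPrimeCore p G :=
  mem_pPrimeCore_of_coprime p ((isPConstrained_iff p).mp hG c h) hc

/-! ### Transport along isomorphisms -/

theorem mem_pPrimeCore_equiv_iff {G' : Type*} [Group G'] (p : ℕ) (e : G ≃* G') (x : G) :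
    e x ∈ pPrimeCore p G' ↔ x ∈ pPrimeCore p G := by
  rw [← Cfsg.Agent.Lib.Helper97.pPrimeCore_map_equiv e p]
  constructor
  · rintro ⟨y, hy, hxy⟩
    have : y = x := e.injective hxy
    exact this ▸ hy
  · intro hx
    exact ⟨x, hx, rfl⟩

theorem pPrimePCore_map_equiv_le {G' : Type*} [Group G'] [Finite G] (p : ℕ) [Fact p.Prime]
    (e : G ≃* G') : (pPrimePCore p G).map e.toMonoidHom ≤ pPrimePCore p G' := by
  apply le_pPrimePCore p (Cfsg.Agent.Lib.Helper97.normal_map_equiv e (pPrimePCore_normal_h54 p))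
  rintro _ ⟨g, hg, rfl⟩
  obtain ⟨n, hn⟩ := exists_pow_mem_pPrimeCore p hg
  refine ⟨n, ?_⟩
  have : (e.toMonoidHom g) ^ p ^ n = e (g ^ p ^ n) := by simp
  rw [this, mem_pPrimeCore_equiv_iff]
  exact hn

theorem mem_pPrimePCore_equiv_iff {G' : Type*} [Group G'] [Finite G] (p : ℕ) [Fact p.Prime]
    (e : G ≃* G') (x : G) : e x ∈ pPrimePCore p G' ↔ x ∈ pPrimePCore p G := by
  have : Finite G' := Finite.of_equiv G e.toEquiv
  constructor
  · intro hx
    have h1 := pPrimePCore_map_equiv_le p e.symm ⟨e x, hx, rfl⟩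
    simpa using h1
  · intro hx
    exact pPrimePCore_map_equiv_le p e ⟨x, hx, rfl⟩

/-- `p`-constraint is invariant under isomorphism. -/
theorem isPConstrained_of_mulEquiv {G' : Type*} [Group G'] [Finite G] (p : ℕ) [Fact p.Prime]
    (e : G ≃* G') (hG : IsPConstrained p G) : IsPConstrained p G' := by
  have : Finite G' := Finite.of_equiv G e.toEquiv
  rw [isPConstrained_iff] at hG ⊢
  intro g' hg'
  obtain ⟨g, rfl⟩ := e.surjective g'
  rw [mem_pPrimePCore_equiv_iff]
  apply hG
  intro y hy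
  have h1 := hg' (e y) ((mem_pPrimePCore_equiv_iff p e y).mpr hy)
  rw [← map_commutatorElement, mem_pPrimeCore_equiv_iff] at h1
  exact h1


/-! ### Groups with trivial `p'`-core -/

theorem pPrimePCore_eq_pCore_of_pPrimeCore_eq_bot [Finite G] (p : ℕ) [Fact p.Prime]
    (h : pPrimeCore p G = ⊥) : pPrimePCore p G = pCore p G := by
  apply le_antisymm
  · apply Cfsg.Agent.Lib.Helper76.le_pCore p _ (pPrimePCore_normal_h54 p)
    rintro ⟨g, hg⟩
    obtain ⟨n, hn⟩ := exists_pow_mem_pPrimeCore p hg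
    rw [h, Subgroup.mem_bot] at hn
    exact ⟨n, Subtype.ext (by simpa using hn)⟩
  · apply le_pPrimePCore p (Cfsg.pCore_normal p G)
    intro g hg
    obtain ⟨n, hn⟩ := Cfsg.Agent.Lib.Helper76.pCore_isPGroup (G := G) p ⟨g, hg⟩
    refine ⟨n, ?_⟩
    have h1 := congrArg Subtype.val hn
    simp only [Subgroup.coe_pow, Subgroup.coe_one] at h1
    rw [h1]
    exact Subgroup.one_mem _

theorem isPConstrained_iff_of_pPrimeCore_eq_bot [Finite G] (p : ℕ) [Fact p.Prime]
    (h : pPrimeCore p G = ⊥) :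
    IsPConstrained p G ↔ Subgroup.centralizer (pCore p G : Set G) ≤ pCore p G := by
  rw [isPConstrained_iff, pPrimePCore_eq_pCore_of_pPrimeCore_eq_bot p h, h]
  constructor
  · intro hG g hg
    apply hG
    intro y hy
    rw [Subgroup.mem_bot, commutatorElement_eq_one_iff_commute]
    exact ((Subgroup.mem_centralizer_iff.mp hg) y hy).symm
  · intro hG g hg
    apply hG
    rw [Subgroup.mem_centralizer_iff]
    intro y hy
    have h1 := hg y hy
    rw [Subgroup.mem_bot, commutatorElement_eq_one_iff_commute] at h1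
    exact h1.eq.symm

theorem pPrimeCore_quotient_pPrimeCore [Finite G] (p : ℕ) [Fact p.Prime] :
    pPrimeCore p (G ⧸ pPrimeCore p G) = ⊥ :=
  Cfsg.Agent.Lib.Helper76.quotient_pPrimeCore_core_trivial p _ (Cfsg.pPrimeCore_normal p _)
    (card_pPrimeCore_coprime p)

/-- `G` is `p`-constrained iff `G / O_{p'}(G)` is (`S0630`). -/
theorem isPConstrained_iff_quotient [Finite G] (p : ℕ) [Fact p.Prime] :
    IsPConstrained p G ↔ IsPConstrained p (G ⧸ pPrimeCore p G) := by
  rw [isPConstrained_iff_of_pPrimeCore_eq_bot p (pPrimeCore_quotient_pPrimeCore p),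
    isPConstrained_iff_centralizer_pCore_le]

end Cfsg.Agent.Lib.Helper54
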