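/-
Relative versions of `O_{p'}`, `O_{p',p}` for a subgroup `H` of `G` (as subgroups of `G`),
and `p`-constraint of `p`-local subgroups of `p`-constrained groups (helper54).
-/
import Cfsg.Agent.Lib.Helper54.PCores
import Cfsg.Agent.S0028

set_option autoImplicit false

namespace Cfsg.Agent.Lib.Helper54

open Cfsg Pointwise
open scoped commutatorElement

variable {G : Type*} [Group G]

/-- `O_{p'}(H)` as a subgroup of `G`. -/
def relK (p : ℕ) (H : Subgroup G) : Subgroup G := (pPrimeCore p ↥H).map H.subtype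

/-- `O_{p',p}(H)` as a subgroup of `G`. -/
def relR (p : ℕ) (H : Subgroup G) : Subgroup G := (pPrimePCore p ↥H).map H.subtype

theorem le_normalizer_map_subtype (H : Subgroup G) (N : Subgroup H) [N.Normal] :
    H ≤ Subgroup.normalizer ((N.map H.subtype : Subgroup G) : Set G) := by
  have h1 := Subgroup.le_normalizer_map (H := N) H.subtype
  rw [Subgroup.normalizer_eq_top, ← MonoidHom.range_eq_map, Subgroup.range_subtype] at h1
  exact h1

theorem relK_le (p : ℕ) (H : Subgroup G) : relK p H ≤ H := Subgroup.map_subtype_le _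

theorem relR_le (p : ℕ) (H : Subgroup G) : relR p H ≤ H := Subgroup.map_subtype_le _

theorem relK_le_relR (p : ℕ) (H : Subgroup G) : relK p H ≤ relR p H :=
  Subgroup.map_mono (pPrimeCore_le_pPrimePCore p)

theorem le_normalizer_relK (p : ℕ) (H : Subgroup G) :
    H ≤ Subgroup.normalizer (relK p H : Set G) :=
  le_normalizer_map_subtype H _

theorem le_normalizer_relR (p : ℕ) (H : Subgroup G) :
    H ≤ Subgroup.normalizer (relR p H : Set G) :=
  le_normalizer_map_subtype H _

theorem coe_mem_relK_iff (p : ℕ) (H : Subgroup G) (h : H) :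
    (h : G) ∈ relK p H ↔ h ∈ pPrimeCore p ↥H := by
  unfold relK
  constructor
  · rintro ⟨y, hy, hyh⟩
    have : y = h := Subtype.ext hyh
    exact this ▸ hy
  · intro hh
    exact ⟨h, hh, rfl⟩

theorem coe_mem_relR_iff (p : ℕ) (H : Subgroup G) (h : H) :
    (h : G) ∈ relR p H ↔ h ∈ pPrimePCore p ↥H := by
  unfold relR
  constructor
  · rintro ⟨y, hy, hyh⟩
    have : y = h := Subtype.ext hyh
    exact this ▸ hy
  · intro hh
    exact ⟨h, hh, rfl⟩

theorem card_relK_coprime [Finite G] (p : ℕ) (H : Subgroup G) :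
    (Nat.card (relK p H)).Coprime p := by
  unfold relK
  rw [Subgroup.card_map_of_injective (Subgroup.subtype_injective H)]
  exact card_pPrimeCore_coprime p

/-- Universal property of `O_{p'}(H)`. -/
theorem le_relK (p : ℕ) {H V : Subgroup G} (hVH : V ≤ H)
    (hHV : H ≤ Subgroup.normalizer (V : Set G)) (hV : (Nat.card V).Coprime p) :
    V ≤ relK p H := by
  have hn : (V.subgroupOf H).Normal := Subgroup.normal_subgroupOf_of_le_normalizer hHV
  have hc : (Nat.card (V.subgroupOf H)).Coprime p := by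
    rw [Nat.card_congr (Subgroup.subgroupOfEquivOfLe hVH).toEquiv]; exact hV
  have h1 := Cfsg.Agent.Lib.Helper76.le_pPrimeCore p _ hn hc
  have h2 := Subgroup.map_mono (f := H.subtype) h1
  rwa [Subgroup.map_subgroupOf_eq_of_le hVH] at h2

/-- Universal property of `O_{p',p}(H)`. -/
theorem le_relR (p : ℕ) {H V : Subgroup G} (hVH : V ≤ H)
    (hHV : H ≤ Subgroup.normalizer (V : Set G))
    (hV : ∀ v ∈ V, ∃ n : ℕ, v ^ p ^ n ∈ relK p H) : V ≤ relR p H := by
  have hn : (V.subgroupOf H).Normal := Subgroup.normal_subgroupOf_of_le_normalizer hHV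
  have h1 : V.subgroupOf H ≤ pPrimePCore p ↥H := by
    apply le_pPrimePCore p hn
    intro g hg
    obtain ⟨n, hn⟩ := hV (g : G) (Subgroup.mem_subgroupOf.mp hg)
    refine ⟨n, ?_⟩
    rw [← coe_mem_relK_iff]
    simpa using hn
  have h2 := Subgroup.map_mono (f := H.subtype) h1
  rwa [Subgroup.map_subgroupOf_eq_of_le hVH] at h2

theorem exists_pow_mem_relK (p : ℕ) [Fact p.Prime] {H : Subgroup G} {r : G}
    (hr : r ∈ relR p H) : ∃ n : ℕ, r ^ p ^ n ∈ relK p H := by
  obtain ⟨r', hr', rfl⟩ := hr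
  obtain ⟨n, hn⟩ := exists_pow_mem_pPrimeCore p hr'
  refine ⟨n, ?_⟩
  have := (coe_mem_relK_iff p H _).mpr hn
  simpa using this

theorem mem_relK_of_coprime (p : ℕ) [Fact p.Prime] {H : Subgroup G} {r : G}
    (hr : r ∈ relR p H) (hcop : (orderOf r).Coprime p) : r ∈ relK p H := by
  obtain ⟨n, hn⟩ := exists_pow_mem_relK p hr
  exact mem_of_pow_mem_of_coprime hn (Nat.Coprime.pow_right n hcop)

/-- Criterion for `p`-constraint of a subgroup `H`, in terms of subgroups of `G`. -/
theorem isPConstrained_subgroup_of_forall_coprime [Finite G] (p : ℕ) [Fact p.Prime]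
    (H : Subgroup G)
    (h : ∀ c ∈ H, (orderOf c).Coprime p → (∀ y ∈ relR p H, ⁅c, y⁆ ∈ relK p H) → c ∈ relK p H) :
    IsPConstrained p ↥H := by
  apply isPConstrained_of_forall_coprime
  intro c hc hcy
  rw [← coe_mem_relK_iff]
  apply h (c : G) c.2
  · rwa [Subgroup.orderOf_coe]
  · rintro _ ⟨y, hy, rfl⟩
    have := (coe_mem_relK_iff p H _).mpr (hcy y hy)
    simpa [commutatorElement_def] using this

/-- In a `p`-constrained subgroup `H`, elements centralizing `O_{p',p}(H)/O_{p'}(H)` lie in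
`O_{p',p}(H)`. -/
theorem mem_relR_of_isPConstrained [Finite G] (p : ℕ) [Fact p.Prime] {H : Subgroup G}
    (hH : IsPConstrained p ↥H) {g : G} (hg : g ∈ H)
    (h : ∀ y ∈ relR p H, ⁅g, y⁆ ∈ relK p H) : g ∈ relR p H := by
  have h1 := (isPConstrained_iff p).mp hH ⟨g, hg⟩ (by
    intro y hy
    rw [← coe_mem_relK_iff]
    have := h (y : G) ((coe_mem_relR_iff p H y).mpr hy)
    simpa [commutatorElement_def] using this)
  exact (coe_mem_relR_iff p H ⟨g, hg⟩).mpr h1


/-- Coprime lifting of fixed points: `T` a `p`-group, `K` a `p'`-group normalized by `T` and by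
`y`; if `[y, T] ≤ K` then some `K`-translate of `y` centralizes `T`. -/
theorem exists_mul_mem_centralizer [Finite G] {p : ℕ} [Fact p.Prime] {K T : Subgroup G}
    (hK : (Nat.card K).Coprime p) (hT : IsPGroup p T)
    (hTK : T ≤ Subgroup.normalizer (K : Set G)) {y : G}
    (hy : ∀ t ∈ T, ⁅y, t⁆ ∈ K) :
    ∃ l ∈ K, l⁻¹ * y ∈ Subgroup.centralizer (T : Set G) := by
  obtain ⟨n, hn⟩ := hT.exists_card_eq
  have hcop : (Nat.card K).Coprime (Nat.card T) := by
    rw [hn]; exact Nat.Coprime.pow_right n hK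
  have hdisj : K ⊓ T = ⊥ := (Subgroup.disjoint_of_coprime_natCard hcop).eq_bot
  have hBM : MulAut.conj y • T ≤ K ⊔ T := by
    intro x hx
    rw [mem_conj_smul_iff] at hx
    have e : x = ⁅y, y⁻¹ * x * y⁆ * (y⁻¹ * x * y) := by
      rw [commutatorElement_def]; group
    rw [e]
    exact Subgroup.mul_mem _ (Subgroup.mem_sup_left (hy _ hx)) (Subgroup.mem_sup_right hx)
  have hsolvT : Group.IsSolvable T := by
    have : Group.IsNilpotent T := hT.isNilpotent
    infer_instance
  obtain ⟨l, hl, hlT⟩ := sz_conj_rel (K ⊔ T) K T (MulAut.conj y • T) le_sup_left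
    (sup_le Subgroup.le_normalizer hTK) le_sup_right hBM
    (card_sup_of_le_normalizer hTK hdisj).symm (card_conj_smul y T) hcop (Or.inl hsolvT)
  refine ⟨l, hl, ?_⟩
  have hnorm : l⁻¹ * y ∈ Subgroup.normalizer (T : Set G) := by
    rw [mem_normalizer_iff_conj_smul, map_mul, mul_smul, ← hlT, map_inv, inv_smul_smul]
  rw [Subgroup.mem_centralizer_iff]
  intro t ht
  have hc1 : ⁅l⁻¹ * y, t⁆ ∈ T := by
    rw [commutatorElement_def]
    exact Subgroup.mul_mem _ ((Subgroup.mem_normalizer_iff.mp hnorm t).mp ht) (Subgroup.inv_mem _ ht)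
  have hc2 : ⁅l⁻¹ * y, t⁆ ∈ K := by
    have e : ⁅l⁻¹ * y, t⁆ = l⁻¹ * ⁅y, t⁆ * (t * l * t⁻¹) := by
      simp only [commutatorElement_def]; group
    rw [e]
    exact Subgroup.mul_mem _ (Subgroup.mul_mem _ (Subgroup.inv_mem _ hl) (hy t ht))
      ((Subgroup.mem_normalizer_iff.mp (hTK ht) l).mp hl)
  have hc3 : ⁅l⁻¹ * y, t⁆ = 1 := eq_one_of_mem_pGroup_of_mem_coprime hT hK hc1 hc2
  exact (commutatorElement_eq_one_iff_commute.mp hc3).eq.symm


/-- Core of the local theory of `p`-constraint (an application of Thompson's `P × Q` lemma in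
`G / O_{p'}(G)`): in a `p`-constrained group, a `p'`-element `c` centralizing a `p`-subgroup `T`
and centralizing `C_R(T)` modulo `K` lies in `K`. -/
theorem mem_pPrimeCore_of_centralizes [Finite G] (p : ℕ) [Fact p.Prime]
    (hG : IsPConstrained p G) (T : Subgroup G) (hT : IsPGroup p T) {c : G}
    (hc : (orderOf c).Coprime p) (hcT : c ∈ Subgroup.centralizer (T : Set G))
    (h : ∀ y ∈ pPrimePCore p G ⊓ Subgroup.centralizer (T : Set G), ⁅c, y⁆ ∈ pPrimeCore p G) :
    c ∈ pPrimeCore p G := by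
  have hPbar : IsPGroup p (T.map (QuotientGroup.mk' (pPrimeCore p G))) := hT.map _
  have hQbar : (Nat.card ((Subgroup.zpowers c).map (QuotientGroup.mk' (pPrimeCore p G)))).Coprime
      p := by
    have h1 := Subgroup.card_map_dvd (Subgroup.zpowers c) (QuotientGroup.mk' (pPrimeCore p G))
    rw [Nat.card_zpowers] at h1
    exact Nat.Coprime.coprime_dvd_left h1 hc
  have hU : IsPGroup p (pCore p (G ⧸ pPrimeCore p G)) :=
    Cfsg.Agent.Lib.Helper76.pCore_isPGroup p
  have hzc : Subgroup.zpowers c ≤ Subgroup.centralizer (T : Set G) :=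
    (Subgroup.zpowers_le).mpr hcT
  have hPQ : T.map (QuotientGroup.mk' (pPrimeCore p G)) ≤ Subgroup.centralizer
      (((Subgroup.zpowers c).map (QuotientGroup.mk' (pPrimeCore p G)) :
        Subgroup (G ⧸ pPrimeCore p G)) : Set (G ⧸ pPrimeCore p G)) := by
    rintro _ ⟨t, ht, rfl⟩
    rw [Subgroup.mem_centralizer_iff]
    rintro _ ⟨q, hq, rfl⟩
    have h1 := (Subgroup.mem_centralizer_iff.mp (hzc hq)) t ht
    rw [← map_mul, ← map_mul, h1]
  have hnU : Subgroup.normalizer ((pCore p (G ⧸ pPrimeCore p G) : Subgroup (G ⧸ pPrimeCore p G)) :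
      Set (G ⧸ pPrimeCore p G)) = ⊤ := Subgroup.normalizer_eq_top _
  have hC : pCore p (G ⧸ pPrimeCore p G) ⊓ Subgroup.centralizer
      ((T.map (QuotientGroup.mk' (pPrimeCore p G)) : Subgroup (G ⧸ pPrimeCore p G)) :
        Set (G ⧸ pPrimeCore p G)) ≤ Subgroup.centralizer
      (((Subgroup.zpowers c).map (QuotientGroup.mk' (pPrimeCore p G)) :
        Subgroup (G ⧸ pPrimeCore p G)) : Set (G ⧸ pPrimeCore p G)) := by
    rintro ybar ⟨hyU, hyP⟩
    obtain ⟨y, rfl⟩ := QuotientGroup.mk'_surjective (pPrimeCore p G) ybar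
    have hyR : y ∈ pPrimePCore p G := (mem_pPrimePCore_iff p y).mpr hyU
    have hyT : ∀ t ∈ T, ⁅y, t⁆ ∈ pPrimeCore p G := by
      intro t ht
      rw [← QuotientGroup.eq_one_iff, ← QuotientGroup.mk'_apply, map_commutatorElement,
        commutatorElement_eq_one_iff_commute]
      exact ((Subgroup.mem_centralizer_iff.mp hyP) _ (Subgroup.mem_map_of_mem _ ht)).symm
    obtain ⟨l, hl, hly⟩ := exists_mul_mem_centralizer (card_pPrimeCore_coprime p) hT
      (by rw [Subgroup.normalizer_eq_top]; exact le_top) hyT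
    have hy'R : l⁻¹ * y ∈ pPrimePCore p G :=
      Subgroup.mul_mem _ (pPrimeCore_le_pPrimePCore p (Subgroup.inv_mem _ hl)) hyR
    have h1 : ⁅c, y⁆ ∈ pPrimeCore p G :=
      (commutator_mem_of_mul_right (Subgroup.inv_mem _ hl)).mp (h _ ⟨hy'R, hly⟩)
    have h2 : Commute (QuotientGroup.mk' (pPrimeCore p G) c)
        (QuotientGroup.mk' (pPrimeCore p G) y) := by
      rw [← commutatorElement_eq_one_iff_commute, ← map_commutatorElement,
        QuotientGroup.mk'_apply, QuotientGroup.eq_one_iff]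
      exact h1
    rw [Subgroup.mem_centralizer_iff]
    rintro _ ⟨q, hq, rfl⟩
    obtain ⟨k, rfl⟩ := Subgroup.mem_zpowers_iff.mp hq
    rw [map_zpow]
    exact (h2.zpow_left k).eq
  have hmain := Cfsg.Agent.S0028.result p _ _ _ hPbar hQbar hU hPQ
    (by rw [hnU]; exact le_top) (by rw [hnU]; exact le_top) hC
  have hcR : c ∈ cR p G :=
    hmain (Subgroup.mem_map_of_mem _ (Subgroup.mem_zpowers c))
  exact mem_pPrimeCore_of_coprime p ((isPConstrained_iff_cR_le p).mp hG hcR) hc


theorem orderOf_coprime_of_mem [Finite G] {p : ℕ} {V : Subgroup G} (hV : (Nat.card V).Coprime p)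
    {v : G} (hv : v ∈ V) : (orderOf v).Coprime p := by
  have h1 : orderOf v ∣ Nat.card V := by
    have := orderOf_dvd_natCard (⟨v, hv⟩ : V)
    rwa [Subgroup.orderOf_mk] at this
  exact Nat.Coprime.coprime_dvd_left h1 hV

/-- `K ∩ H ≤ O_{p'}(H)`. -/
theorem pPrimeCore_inf_le_relK [Finite G] (p : ℕ) (H : Subgroup G) :
    pPrimeCore p G ⊓ H ≤ relK p H := by
  apply le_relK p inf_le_right
  · apply le_normalizer_inf _ Subgroup.le_normalizer
    rw [Subgroup.normalizer_eq_top]; exact le_top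
  · exact Nat.Coprime.coprime_dvd_left (Subgroup.card_dvd_of_le inf_le_left)
      (card_pPrimeCore_coprime p)

/-- `R ∩ H ≤ O_{p',p}(H)`. -/
theorem pPrimePCore_inf_le_relR [Finite G] (p : ℕ) [Fact p.Prime] (H : Subgroup G) :
    pPrimePCore p G ⊓ H ≤ relR p H := by
  apply le_relR p inf_le_right
  · apply le_normalizer_inf _ Subgroup.le_normalizer
    rw [Subgroup.normalizer_eq_top]; exact le_top
  · rintro v ⟨hvR, hvH⟩
    obtain ⟨n, hn⟩ := exists_pow_mem_pPrimeCore p hvR
    exact ⟨n, pPrimeCore_inf_le_relK p H ⟨hn, Subgroup.pow_mem _ hvH _⟩⟩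

/-- A normal `p`-subgroup of `H` lies in `O_{p',p}(H)`. -/
theorem le_relR_of_isPGroup (p : ℕ) {H T : Subgroup G} (hTH : T ≤ H)
    (hHT : H ≤ Subgroup.normalizer (T : Set G)) (hT : IsPGroup p T) : T ≤ relR p H := by
  apply le_relR p hTH hHT
  intro t ht
  obtain ⟨n, hn⟩ := hT ⟨t, ht⟩
  refine ⟨n, ?_⟩
  have h1 := congrArg Subtype.val hn
  simp only [Subgroup.coe_pow, Subgroup.coe_one] at h1
  rw [h1]
  exact Subgroup.one_mem _

/-- **Local subgroups of `p`-constrained groups are `p`-constrained**: if `G` is `p`-constrained,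
`T` is a `p`-subgroup and `C_G(T) ≤ H ≤ N_G(T)` with `T ≤ H` or `H ≤ C_G(T)`, then `H` is
`p`-constrained. Moreover every normal `p'`-subgroup of `H` lies in `O_{p'}(G)`. -/
theorem isPConstrained_of_local_aux [Finite G] (p : ℕ) [Fact p.Prime] (hG : IsPConstrained p G)
    (T H : Subgroup G) (hT : IsPGroup p T) (hHN : H ≤ Subgroup.normalizer (T : Set G))
    (hCH : Subgroup.centralizer (T : Set G) ≤ H)
    (hTH : T ≤ H ∨ H ≤ Subgroup.centralizer (T : Set G)) :
    (∀ V : Subgroup G, V ≤ H → H ≤ Subgroup.normalizer (V : Set G) → (Nat.card V).Coprime p →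
      V ≤ pPrimeCore p G) ∧ IsPConstrained p ↥H := by
  -- elements of normal `p'`-subgroups of `H` centralize `T`
  have hcent : ∀ V : Subgroup G, V ≤ H → H ≤ Subgroup.normalizer (V : Set G) →
      (Nat.card V).Coprime p → V ≤ Subgroup.centralizer (T : Set G) := by
    intro V hVH hHV hV
    rcases hTH with hTH | hTH
    · intro c hcV
      rw [Subgroup.mem_centralizer_iff]
      intro t ht
      have hc1 : ⁅c, t⁆ ∈ T := by
        rw [commutatorElement_def]
        exact Subgroup.mul_mem _ ((Subgroup.mem_normalizer_iff.mp (hHN (hVH hcV)) t).mp ht)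
          (Subgroup.inv_mem _ ht)
      have hc2 : ⁅c, t⁆ ∈ V := by
        have e : ⁅c, t⁆ = c * (t * c⁻¹ * t⁻¹) := by rw [commutatorElement_def]; group
        rw [e]
        exact Subgroup.mul_mem _ hcV
          ((Subgroup.mem_normalizer_iff.mp (hHV (hTH ht)) c⁻¹).mp (Subgroup.inv_mem _ hcV))
      have hc3 : ⁅c, t⁆ = 1 := eq_one_of_mem_pGroup_of_mem_coprime hT hV hc1 hc2
      exact (commutatorElement_eq_one_iff_commute.mp hc3).eq.symm
    · exact hVH.trans hTH
  have hB : ∀ V : Subgroup G, V ≤ H → H ≤ Subgroup.normalizer (V : Set G) →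
      (Nat.card V).Coprime p → V ≤ pPrimeCore p G := by
    intro V hVH hHV hV c hcV
    apply mem_pPrimeCore_of_centralizes p hG T hT (orderOf_coprime_of_mem hV hcV)
      (hcent V hVH hHV hV hcV)
    rintro y ⟨hyR, hyT⟩
    have hyH : y ∈ H := hCH hyT
    have hc2 : ⁅c, y⁆ ∈ V := by
      have e : ⁅c, y⁆ = c * (y * c⁻¹ * y⁻¹) := by rw [commutatorElement_def]; group
      rw [e]
      exact Subgroup.mul_mem _ hcV
        ((Subgroup.mem_normalizer_iff.mp (hHV hyH) c⁻¹).mp (Subgroup.inv_mem _ hcV))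
    have hc1 : ⁅c, y⁆ ∈ pPrimePCore p G := by
      rw [commutatorElement_def]
      exact Subgroup.mul_mem _ ((pPrimePCore_normal_h54 p).conj_mem y hyR c)
        (Subgroup.inv_mem _ hyR)
    exact mem_pPrimeCore_of_coprime p hc1 (orderOf_coprime_of_mem hV hc2)
  refine ⟨hB, ?_⟩
  have hKH : relK p H ≤ pPrimeCore p G :=
    hB _ (relK_le p H) (le_normalizer_relK p H) (card_relK_coprime p H)
  apply isPConstrained_subgroup_of_forall_coprime
  intro c hcH hcop hcy
  have hcT : c ∈ Subgroup.centralizer (T : Set G) := by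
    rcases hTH with hTH | hTH
    · have hTR : T ≤ relR p H := le_relR_of_isPGroup p hTH hHN hT
      rw [Subgroup.mem_centralizer_iff]
      intro t ht
      have hc1 : ⁅c, t⁆ ∈ T := by
        rw [commutatorElement_def]
        exact Subgroup.mul_mem _ ((Subgroup.mem_normalizer_iff.mp (hHN hcH) t).mp ht)
          (Subgroup.inv_mem _ ht)
      have hc3 : ⁅c, t⁆ = 1 :=
        eq_one_of_mem_pGroup_of_mem_coprime hT (card_relK_coprime p H) hc1 (hcy t (hTR ht))
      exact (commutatorElement_eq_one_iff_commute.mp hc3).eq.symm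
    · exact hTH hcH
  have hcK : c ∈ pPrimeCore p G := by
    apply mem_pPrimeCore_of_centralizes p hG T hT hcop hcT
    rintro y ⟨hyR, hyT⟩
    exact hKH (hcy y (pPrimePCore_inf_le_relR p H ⟨hyR, hCH hyT⟩))
  exact pPrimeCore_inf_le_relK p H ⟨hcK, hcH⟩

theorem isPConstrained_of_local [Finite G] (p : ℕ) [Fact p.Prime] (hG : IsPConstrained p G)
    (T H : Subgroup G) (hT : IsPGroup p T) (hHN : H ≤ Subgroup.normalizer (T : Set G))
    (hCH : Subgroup.centralizer (T : Set G) ≤ H)
    (hTH : T ≤ H ∨ H ≤ Subgroup.centralizer (T : Set G)) : IsPConstrained p ↥H :=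
  (isPConstrained_of_local_aux p hG T H hT hHN hCH hTH).2

end Cfsg.Agent.Lib.Helper54
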