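import Cfsg.Agent.Lib.Helper54.CoreAction
import Cfsg.Agent.Lib.Helper54.PCores
import Cfsg.Agent.Lib.Helper54.PLocal

/-!
# Invariant `p'`-subgroups of `p`-constrained groups lie in `O_{p'}`

Let `H` be `p`-constrained and `E` a `p`-subgroup containing every element of order `p` of `C_H(E)`.
If `p` is odd (or `E` is abelian, contains all `p`-elements of `C_H(E)` and the `p`-subgroups of `H`
have class at most two), then every `E`-invariant `p'`-subgroup of `H` lies in `O_{p'}(H)`.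
-/

set_option autoImplicit false

namespace Cfsg.Agent.Lib.Helper54

open scoped commutatorElement
open Cfsg

variable {H : Type*} [Group H]

/-- Coprime lifting of `p`-elements centralizing the image of a `p`-group `E` modulo a normal
`p'`-subgroup `K`. -/
theorem exists_lift_centralizer [Finite H] {p : ℕ} [Fact p.Prime] (K : Subgroup H) [K.Normal]
    (hK : (Nat.card K).Coprime p) (E : Subgroup H) (hE : IsPGroup p E) {xb : H ⧸ K}
    (hx : xb ∈ Subgroup.centralizer ((E.map (QuotientGroup.mk' K) : Subgroup (H ⧸ K)) : Set (H ⧸ K)))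
    {j : ℕ} (hxp : xb ^ p ^ j = 1) :
    ∃ y ∈ Subgroup.centralizer (E : Set H), y ^ p ^ j = 1 ∧ QuotientGroup.mk' K y = xb := by
  obtain ⟨y₀, rfl⟩ := QuotientGroup.mk'_surjective K xb
  have hy₀ : ∀ t ∈ E, ⁅y₀, t⁆ ∈ K := by
    intro t ht
    rw [← QuotientGroup.eq_one_iff, ← QuotientGroup.mk'_apply, map_commutatorElement,
      commutatorElement_eq_one_iff_mul_comm]
    exact (Subgroup.mem_centralizer_iff.mp hx _ ⟨t, ht, rfl⟩).symm
  have hEK : E ≤ Subgroup.normalizer (K : Set H) := by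
    rw [Subgroup.normalizer_eq_top]; exact le_top
  obtain ⟨l, hl, hly⟩ := exists_mul_mem_centralizer hK hE hEK hy₀
  set y' := l⁻¹ * y₀ with hy'
  have hπ : QuotientGroup.mk' K y' = QuotientGroup.mk' K y₀ := by
    rw [hy', map_mul]
    have : QuotientGroup.mk' K l⁻¹ = 1 := by
      rw [QuotientGroup.mk'_apply, QuotientGroup.eq_one_iff]; exact K.inv_mem hl
    rw [this, one_mul]
  obtain ⟨i, m, hm, ho⟩ := Nat.exists_eq_pow_mul_and_not_dvd (orderOf_pos y').ne' p
    (Fact.out : p.Prime).ne_one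
  have hmcop : m.Coprime p := ((Nat.Prime.coprime_iff_not_dvd Fact.out).mpr hm).symm
  have hcop : m.Coprime (orderOf (QuotientGroup.mk' K y₀)) :=
    Nat.Coprime.coprime_dvd_right (orderOf_dvd_of_pow_eq_one hxp) (hmcop.pow_right j)
  obtain ⟨m', hm'⟩ := exists_pow_eq_self_of_coprime hcop
  refine ⟨(y' ^ m) ^ m', Subgroup.pow_mem _ (Subgroup.pow_mem _ hly _) _, ?_, ?_⟩
  · have h1 : ((y' ^ m) ^ m') ^ p ^ i = 1 := by
      have h0 : m * (m' * p ^ i) = orderOf y' * m' := by rw [ho]; ring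
      rw [← pow_mul, ← pow_mul, h0, pow_mul, pow_orderOf_eq_one, one_pow]
    have h2 : ((y' ^ m) ^ m') ^ p ^ j ∈ K := by
      rw [← QuotientGroup.eq_one_iff, ← QuotientGroup.mk'_apply, map_pow, map_pow, map_pow, hπ, hm',
        hxp]
    have h3 : (((y' ^ m) ^ m') ^ p ^ j) ^ Nat.card K = 1 := by
      have h5 : (⟨_, h2⟩ : K) ^ Nat.card K = 1 := pow_card_eq_one'
      have h6 := congrArg Subtype.val h5
      rwa [Subgroup.coe_pow, Subgroup.coe_one] at h6
    have h4 : (((y' ^ m) ^ m') ^ p ^ j) ^ p ^ i = 1 := by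
      rw [← pow_mul, mul_comm, pow_mul, h1, one_pow]
    exact Cfsg.Agent.Lib.Helper76.eq_one_of_pow_eq_one_of_coprime p _ _ i hK h3 h4
  · rw [map_pow, map_pow, hπ, hm']

/-- Invariant `p'`-subgroups of a `p`-constrained group lie in `O_{p'}`. -/
theorem le_pPrimeCore_of_invariant [Finite H] (p : ℕ) [Fact p.Prime]
    (hH : IsPConstrained p H) (E Q : Subgroup H) (hE : IsPGroup p E)
    (hQ : (Nat.card Q).Coprime p) (hEQ : E ≤ Subgroup.normalizer (Q : Set H))
    (hΩ : ∀ x ∈ Subgroup.centralizer (E : Set H), orderOf x = p → x ∈ E)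
    (hcase : p ≠ 2 ∨ ((∀ x ∈ E, ∀ y ∈ E, x * y = y * x) ∧
      (∀ x ∈ Subgroup.centralizer (E : Set H), ∀ j : ℕ, x ^ p ^ j = 1 → x ∈ E) ∧
      (∀ T : Subgroup H, IsPGroup p T → ∀ x ∈ T, ∀ y ∈ T, ∀ z ∈ T, Commute ⁅x, y⁆ z))) :
    Q ≤ pPrimeCore p H := by
  set K := pPrimeCore p H with hKdef
  set π := QuotientGroup.mk' K with hπ
  set Pb : Subgroup (H ⧸ K) := pCore p (H ⧸ K) with hPb
  have hKcop : (Nat.card K).Coprime p := card_pPrimeCore_coprime p
  have hPbp : IsPGroup p Pb := Cfsg.Agent.Lib.Helper76.pCore_isPGroup p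
  have hcent : Subgroup.centralizer (Pb : Set (H ⧸ K)) ≤ Pb :=
    (isPConstrained_iff_centralizer_pCore_le p).mp hH
  have hQb : (Nat.card (Q.map π)).Coprime p :=
    Nat.Coprime.coprime_dvd_left (Subgroup.card_map_dvd Q π) hQ
  have hEb : IsPGroup p (E.map π) := hE.map π
  have hEQb : E.map π ≤ Subgroup.normalizer ((Q.map π : Subgroup (H ⧸ K)) : Set (H ⧸ K)) :=
    (Subgroup.map_mono hEQ).trans (Subgroup.le_normalizer_map π)
  have hnorm : ∀ L : Subgroup (H ⧸ K), L ≤ Subgroup.normalizer (Pb : Set (H ⧸ K)) := by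
    intro L
    rw [Subgroup.normalizer_eq_top]; exact le_top
  -- it suffices to show that the image of `Q` centralizes `O_p(H / K)`
  have hfinal : Q.map π ≤ Subgroup.centralizer (Pb : Set (H ⧸ K)) → Q ≤ K := by
    intro h g hg
    have h1 : π g ∈ Q.map π := ⟨g, hg, rfl⟩
    have h2 : π g = 1 := eq_one_of_mem_pGroup_of_mem_coprime hPbp hQb (hcent (h h1)) h1
    rwa [hπ, QuotientGroup.mk'_apply, QuotientGroup.eq_one_iff] at h2
  rcases hcase with hp2 | ⟨hEab, hfull, hcl⟩
  · apply hfinal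
    apply core_odd p hp2 Pb (Q.map π) (E.map π) hPbp hQb hEb (hnorm _) (hnorm _) hEQb
    intro xb hxP hxo hxE
    have hxp : xb ^ p ^ 1 = 1 := by
      rw [pow_one]
      have := pow_orderOf_eq_one xb
      rwa [hxo] at this
    obtain ⟨y, hyE, hyp, hyx⟩ := exists_lift_centralizer K hKcop E hE hxE hxp
    rw [pow_one] at hyp
    have hy1 : y ≠ 1 := by
      rintro rfl
      rw [map_one] at hyx
      rw [← hyx, orderOf_one] at hxo
      exact (Fact.out : p.Prime).one_lt.ne hxo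
    have hyo : orderOf y = p := orderOf_eq_prime hyp hy1
    have hyEm : y ∈ E := hΩ y hyE hyo
    have hxEb : xb ∈ E.map π := ⟨y, hyEm, hyx⟩
    rw [Subgroup.mem_centralizer_iff]
    intro g hg
    have h1 : ⁅xb, g⁆ ∈ Q.map π := by
      have : ⁅xb, g⁆ = (xb * g * xb⁻¹) * g⁻¹ := by rw [commutatorElement_def]
      rw [this]
      exact Subgroup.mul_mem _ ((Subgroup.mem_normalizer_iff.mp (hEQb hxEb) g).mp hg)
        (Subgroup.inv_mem _ hg)
    have h2 : ⁅xb, g⁆ ∈ Pb := by
      have : ⁅xb, g⁆ = xb * (g * xb⁻¹ * g⁻¹) := by rw [commutatorElement_def]; group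
      rw [this]
      exact Pb.mul_mem hxP ((inferInstance : Pb.Normal).conj_mem _ (Pb.inv_mem hxP) g)
    exact (commutatorElement_eq_one_iff_mul_comm.mp
      (eq_one_of_mem_pGroup_of_mem_coprime hPbp hQb h2 h1)).symm
  · have hTp : IsPGroup p (Pb ⊔ E.map π : Subgroup (H ⧸ K)) := hPbp.to_sup_of_normal_left hEb
    have hQbot : Q.map π = ⊥ := by
      apply core_class_two p Pb (Q.map π) (E.map π) hPbp hQb hEb _ hEQb _ _ hcent
      · rintro _ ⟨x, hx, rfl⟩ _ ⟨y, hy, rfl⟩
        rw [← map_mul, ← map_mul, hEab x hx y hy]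
      · obtain ⟨Sb, hSb⟩ := hTp.exists_le_sylow
        obtain ⟨S, rfl⟩ := Sylow.mapSurjective_surjective (QuotientGroup.mk'_surjective K) p Sb
        rw [Sylow.coe_mapSurjective] at hSb
        intro x hx y hy z hz
        obtain ⟨x', hx', rfl⟩ := hSb hx
        obtain ⟨y', hy', rfl⟩ := hSb hy
        obtain ⟨z', hz', rfl⟩ := hSb hz
        have := hcl (S : Subgroup H) S.isPGroup' x' hx' y' hy' z' hz'
        unfold Commute SemiconjBy at this ⊢
        rw [← map_commutatorElement, ← map_mul, ← map_mul, this]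
      · intro xb hxT hxE
        obtain ⟨j, hj⟩ := hTp ⟨xb, hxT⟩
        have hj' : xb ^ p ^ j = 1 := by
          have := congrArg Subtype.val hj
          simpa using this
        obtain ⟨y, hyE, hyp, hyx⟩ := exists_lift_centralizer K hKcop E hE hxE hj'
        exact ⟨y, hfull y hyE j hyp, hyx⟩
    apply hfinal
    rw [hQbot]
    exact bot_le

end Cfsg.Agent.Lib.Helper54
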