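import Cfsg.Agent.Lib.Helper54.PLocal
import Cfsg.Agent.Lib.Helper97.PuigOdd

/-!
# The Puig factorization for a solvable subgroup of odd order, relative to the ambient group
-/

set_option autoImplicit false

namespace Cfsg.Agent.Lib.Helper54

open scoped Pointwise
open Cfsg Cfsg.Agent.Lib.Helper97

variable {G : Type*} [Group G]

theorem center_le_zL [Finite G] {p : ℕ} [Fact p.Prime] (R : Subgroup G) (hR : IsPGroup p R) :
    R ⊓ Subgroup.centralizer (R : Set G) ≤ zL R := by
  rw [zL_eq_inf_centralizer R hR]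
  exact inf_le_inf_left _ (Subgroup.centralizer_le (pUp_le R))

theorem inf_centralizer_ne_bot [Finite G] {p : ℕ} [Fact p.Prime] (R : Subgroup G)
    (hR : IsPGroup p R) (hne : R ≠ ⊥) : R ⊓ Subgroup.centralizer (R : Set G) ≠ ⊥ := by
  have hnt : Nontrivial R := (Subgroup.nontrivial_iff_ne_bot R).mpr hne
  have hc : Nontrivial (Subgroup.center R) := hR.center_nontrivial
  obtain ⟨⟨z, hz⟩, hz1⟩ := exists_ne (1 : Subgroup.center R)
  intro hbot
  apply hz1
  have hzG : (z : G) ∈ R ⊓ Subgroup.centralizer (R : Set G) := by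
    refine Subgroup.mem_inf.mpr ⟨z.2, ?_⟩
    rw [Subgroup.mem_centralizer_iff]
    intro y hy
    have := Subgroup.mem_center_iff.mp hz ⟨y, hy⟩
    exact congrArg Subtype.val this
  rw [hbot, Subgroup.mem_bot] at hzG
  apply Subtype.ext
  apply Subtype.ext
  simpa using hzG

theorem zL_ne_bot [Finite G] {p : ℕ} [Fact p.Prime] (R : Subgroup G) (hR : IsPGroup p R)
    (hne : R ≠ ⊥) : zL R ≠ ⊥ := by
  intro h
  apply inf_centralizer_ne_bot R hR hne
  exact le_bot_iff.mp (h ▸ center_le_zL R hR)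

/-- **Relative Puig factorization**: `H = O_{p'}(H) N_H(Z(L(S)))`. -/
theorem exists_mul_relK_normalizer_zL [Finite G] {p : ℕ} [Fact p.Prime] (hp : p ≠ 2)
    (H : Subgroup G) (hHs : Group.IsSolvable H) (hodd : Odd (Nat.card H)) (S : Sylow p H) {h : G}
    (hh : h ∈ H) :
    ∃ k ∈ relK p H, ∃ n ∈ H,
      n ∈ Subgroup.normalizer (zL ((S : Subgroup H).map H.subtype) : Set G) ∧ h = k * n := by
  have key : pPrimeCore p ↥H ⊔ Subgroup.normalizer (zL (S : Subgroup H) : Set H) = ⊤ :=
    pPrimeCore_sup_normalizer_zL (abGen_of_odd_solvable (odd_card_quotient hodd _) p hp) S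
  have hmem : (⟨h, hh⟩ : H) ∈ pPrimeCore p ↥H ⊔ Subgroup.normalizer (zL (S : Subgroup H) : Set H) := by
    rw [key]; exact Subgroup.mem_top _
  rw [Subgroup.mem_sup_of_normal_left] at hmem
  obtain ⟨k, hk, n, hn, hkn⟩ := hmem
  have hzmap : zL ((S : Subgroup H).map H.subtype) = (zL (S : Subgroup H)).map H.subtype :=
    zL_map_of_injOn H.subtype (fun x _ y _ hxy => Subtype.ext hxy)
  refine ⟨(k : G), (coe_mem_relK_iff p H k).mpr hk, (n : G), n.2, ?_, ?_⟩
  · rw [hzmap]
    exact Subgroup.le_normalizer_map H.subtype ⟨n, hn, rfl⟩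
  · have := congrArg Subtype.val hkn
    simpa using this.symm

/-- **Puig's theorem, relative form**: if `O_{p'}(H) = 1` then `H` normalizes `Z(L(S))`. -/
theorem le_normalizer_zL_of_relK_eq_bot [Finite G] {p : ℕ} [Fact p.Prime] (hp : p ≠ 2)
    (H : Subgroup G) (hHs : Group.IsSolvable H) (hodd : Odd (Nat.card H)) (S : Sylow p H)
    (hK : relK p H = ⊥) :
    H ≤ Subgroup.normalizer (zL ((S : Subgroup H).map H.subtype) : Set G) := by
  intro h hh
  obtain ⟨k, hk, n, _, hn, rfl⟩ := exists_mul_relK_normalizer_zL hp H hHs hodd S hh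
  rw [hK, Subgroup.mem_bot] at hk
  rw [hk, one_mul]
  exact hn

end Cfsg.Agent.Lib.Helper54
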