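import Cfsg.Agent.Lib.Helper54.Transitivity

/-!
# Transitivity under the Bender–Glauberman transitivity hypothesis

`piCore` basics, and the key lemma: in a minimal simple group (proper subgroups solvable), under
`TransitivityHypothesis A`, two maximal `A`-invariant `q`-subgroups meeting a common proper
subgroup containing `A` nontrivially are conjugate under `O_{π(A)'}(C_G(A))`.
-/

set_option autoImplicit false

namespace Cfsg.Agent.Lib.Helper54

open scoped commutatorElement Pointwise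
open Cfsg

section PiCore

variable {H : Type*} [Group H]

/-- `O_π(H)` is a `π`-group (finite `H`). -/
theorem piCore_isPi [Finite H] (π : Set ℕ) :
    ∀ r : ℕ, r.Prime → r ∣ Nat.card (piCore π H) → r ∈ π := by
  classical
  have hfin : Set.Finite {N : Subgroup H | N.Normal ∧ ∀ p : ℕ, p.Prime → p ∣ Nat.card N → p ∈ π} :=
    Set.toFinite _
  have h0 : piCore π H = hfin.toFinset.sup id := by
    rw [Finset.sup_id_eq_sSup]; simp [piCore]
  rw [h0]
  have key : (hfin.toFinset.sup id).Normal ∧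
      ∀ r : ℕ, r.Prime → r ∣ Nat.card (hfin.toFinset.sup id : Subgroup H) → r ∈ π := by
    refine Finset.sup_induction
      (p := fun N : Subgroup H => N.Normal ∧ ∀ r : ℕ, r.Prime → r ∣ Nat.card N → r ∈ π) ?_ ?_ ?_
    · refine ⟨inferInstance, ?_⟩
      intro r hr hrd
      rw [Subgroup.card_bot] at hrd
      exact absurd (Nat.dvd_one.mp hrd) hr.ne_one
    · rintro A ⟨hA, hA'⟩ B ⟨hB, hB'⟩
      have := hA; have := hB
      refine ⟨inferInstance, ?_⟩
      intro r hr hrd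
      have h1 := hrd.trans (Cfsg.Agent.Lib.Helper76.card_sup_dvd_of_normal A B)
      rcases (Nat.Prime.dvd_mul hr).mp h1 with h | h
      · exact hA' r hr h
      · exact hB' r hr h
    · intro N hN
      simpa using hN
  exact key.2

theorem le_piCore (π : Set ℕ) {N : Subgroup H} (hN : N.Normal)
    (h : ∀ r : ℕ, r.Prime → r ∣ Nat.card N → r ∈ π) : N ≤ piCore π H :=
  le_sSup ⟨hN, h⟩

end PiCore

variable {G : Type*} [Group G]

/-- `O_π(X)` (as a subgroup of `G`) is a `π`-group. -/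
theorem piCoreOf_isPi [Finite G] (π : Set ℕ) (X : Subgroup G) :
    ∀ r : ℕ, r.Prime → r ∣ Nat.card (piCoreOf π X) → r ∈ π := by
  unfold piCoreOf
  rw [Subgroup.card_map_of_injective X.subtype_injective]
  exact piCore_isPi π

theorem piCoreOf_le (π : Set ℕ) (X : Subgroup G) : piCoreOf π X ≤ X := Subgroup.map_subtype_le _

theorem le_normalizer_piCoreOf (π : Set ℕ) (X : Subgroup G) :
    X ≤ Subgroup.normalizer ((piCoreOf π X : Subgroup G) : Set G) :=
  le_normalizer_map_subtype X _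

/-- Universal property of `O_π(X)`. -/
theorem le_piCoreOf (π : Set ℕ) {X V : Subgroup G} (hVX : V ≤ X)
    (hXV : X ≤ Subgroup.normalizer (V : Set G))
    (hV : ∀ r : ℕ, r.Prime → r ∣ Nat.card V → r ∈ π) : V ≤ piCoreOf π X := by
  have hn : (V.subgroupOf X).Normal := Subgroup.normal_subgroupOf_of_le_normalizer hXV
  have hc : ∀ r : ℕ, r.Prime → r ∣ Nat.card (V.subgroupOf X) → r ∈ π := by
    rw [Nat.card_congr (Subgroup.subgroupOfEquivOfLe hVX).toEquiv]; exact hV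
  have h1 := le_piCore π hn hc
  have h2 := Subgroup.map_mono (f := X.subtype) h1
  rwa [Subgroup.map_subgroupOf_eq_of_le hVX] at h2

/-- A `primesNotDvd n`-group has order prime to `n`. -/
theorem coprime_of_primesNotDvd [Finite G] {n : ℕ} {V : Subgroup G}
    (hV : ∀ r : ℕ, r.Prime → r ∣ Nat.card V → r ∈ primesNotDvd n) : (Nat.card V).Coprime n :=
  Nat.coprime_of_dvd fun r hr hrd => (hV r hr hrd).2

theorem primesNotDvd_of_coprime {n : ℕ} {V : Subgroup G} (hV : (Nat.card V).Coprime n) :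
    ∀ r : ℕ, r.Prime → r ∣ Nat.card V → r ∈ primesNotDvd n := by
  intro r hr hrd
  refine ⟨hr, fun hrn => ?_⟩
  have := Nat.eq_one_of_dvd_coprimes hV hrd hrn
  exact hr.ne_one this

section BG

variable [Finite G] (A : Subgroup G)

omit [Finite G] in
/-- Under the transitivity hypothesis, `A`-invariant `π(A)'`-subgroups of a proper `X ≥ A` lie in
`O_{π(A)'}(X)`. -/
theorem le_piCoreOf_of_transitivityHypothesis (hA : TransitivityHypothesis A) {X : Subgroup G}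
    (hX : X ≠ ⊤) (hAX : A ≤ X) {Y : Subgroup G} (hYX : Y ≤ X)
    (hY : (Nat.card Y).Coprime (Nat.card A)) (hAY : A ≤ Subgroup.normalizer (Y : Set G)) :
    Y ≤ piCoreOf (primesNotDvd (Nat.card A)) X := by
  rw [← hA.2.2 X hX hAX]
  exact le_sSup ⟨hYX, primesNotDvd_of_coprime hY, hAY⟩

omit [Finite G] in
/-- In a simple group, a nontrivial proper subgroup has a proper normalizer. -/
theorem normalizer_ne_top_of_simple (hs : IsSimpleGroup G) {D : Subgroup G} (h1 : D ≠ ⊥)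
    (h2 : D ≠ ⊤) : Subgroup.normalizer (D : Set G) ≠ ⊤ := by
  intro h
  have hn : D.Normal := Subgroup.normalizer_eq_top_iff.mp h
  rcases hs.eq_bot_or_eq_top_of_normal D hn with h' | h'
  · exact h1 h'
  · exact h2 h'

/-- Under the transitivity hypothesis in a simple group, every `π(A)'`-subgroup of `C_G(A)` lies in
`O_{π(A)'}(C_G(A))`. -/
theorem le_piCoreOf_centralizer_of_transitivityHypothesis (hs : IsSimpleGroup G)
    (hA : TransitivityHypothesis A) {Y : Subgroup G}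
    (hYC : Y ≤ Subgroup.centralizer (A : Set G)) (hY : (Nat.card Y).Coprime (Nat.card A)) :
    Y ≤ piCoreOf (primesNotDvd (Nat.card A)) (Subgroup.centralizer (A : Set G)) := by
  set C : Subgroup G := Subgroup.centralizer (A : Set G) with hC
  set X : Subgroup G := A ⊔ C with hX
  have hXN : X ≤ Subgroup.normalizer (A : Set G) :=
    sup_le Subgroup.le_normalizer (Subgroup.centralizer_le_normalizer _)
  have hXtop : X ≠ ⊤ := by
    intro h
    have h1 : Subgroup.normalizer (A : Set G) = ⊤ := top_le_iff.mp (h ▸ hXN)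
    exact normalizer_ne_top_of_simple hs hA.1 hA.2.1 h1
  have hAX : A ≤ X := le_sup_left
  have hAY : A ≤ Subgroup.normalizer (Y : Set G) := by
    refine le_trans ?_ (Subgroup.centralizer_le_normalizer _)
    intro a ha
    rw [Subgroup.mem_centralizer_iff]
    intro y hy
    exact (Subgroup.mem_centralizer_iff.mp (hYC hy) a ha).symm
  set L : Subgroup G := piCoreOf (primesNotDvd (Nat.card A)) X with hL
  have hYL : Y ≤ L :=
    le_piCoreOf_of_transitivityHypothesis A hA hXtop hAX (hYC.trans le_sup_right) hY hAY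
  have hLcop : (Nat.card L).Coprime (Nat.card A) := coprime_of_primesNotDvd (piCoreOf_isPi _ X)
  have hXL : X ≤ Subgroup.normalizer (L : Set G) := le_normalizer_piCoreOf _ X
  have hLX : L ≤ X := piCoreOf_le _ X
  -- `L` centralizes `A`
  have hLC : L ≤ C := by
    intro l hl
    rw [hC, Subgroup.mem_centralizer_iff]
    intro a ha
    have h1 : ⁅l, a⁆ ∈ L := by
      have : ⁅l, a⁆ = l * (a * l⁻¹ * a⁻¹) := by rw [commutatorElement_def]; group
      rw [this]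
      exact L.mul_mem hl ((Subgroup.mem_normalizer_iff.mp (hXL (hAX ha)) l⁻¹).mp (L.inv_mem hl))
    have h2 : ⁅l, a⁆ ∈ A := by
      have : ⁅l, a⁆ = (l * a * l⁻¹) * a⁻¹ := by rw [commutatorElement_def]
      rw [this]
      exact A.mul_mem ((Subgroup.mem_normalizer_iff.mp (hXN (hLX hl)) a).mp ha) (A.inv_mem ha)
    have h3 : ⁅l, a⁆ ∈ L ⊓ A := ⟨h1, h2⟩
    rw [(Subgroup.disjoint_of_coprime_natCard hLcop).eq_bot, Subgroup.mem_bot] at h3
    exact (commutatorElement_eq_one_iff_mul_comm.mp h3).symm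
  exact hYL.trans (le_piCoreOf _ hLC ((le_sup_right : C ≤ X).trans hXL) (piCoreOf_isPi _ X))

/-- Key lemma (Bender–Glauberman 7.1): two maximal `A`-invariant `q`-subgroups meeting a common
proper subgroup `H ≥ A` nontrivially are conjugate under `O_{π(A)'}(C_G(A))`. -/
theorem bg_conj_of_common_overgroup (hs : IsSimpleGroup G)
    (hsolv : ∀ H : Subgroup G, H ≠ ⊤ → Group.IsSolvable H)
    (hA : TransitivityHypothesis A) (q : ℕ) [Fact q.Prime] (hqA : ¬ q ∣ Nat.card A) :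
    ∀ Q₁ ∈ maxInvSubgroups ⊤ A {q}, ∀ Q₂ ∈ maxInvSubgroups ⊤ A {q},
      (∃ H : Subgroup G, H ≠ ⊤ ∧ A ≤ H ∧ H ⊓ Q₁ ≠ ⊥ ∧ H ⊓ Q₂ ≠ ⊥) →
      ∃ k ∈ piCoreOf (primesNotDvd (Nat.card A)) (Subgroup.centralizer (A : Set G)),
        Q₂ = MulAut.conj k • Q₁ := by
  have hq : q.Prime := Fact.out
  set K : Subgroup G := piCoreOf (primesNotDvd (Nat.card A)) (Subgroup.centralizer (A : Set G))
    with hK
  have hKC : K ≤ Subgroup.centralizer (A : Set G) := Subgroup.map_subtype_le _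
  let Rel : Subgroup G → Subgroup G → Prop := fun Q₁ Q₂ => ∃ k ∈ K, Q₂ = MulAut.conj k • Q₁
  let Linked : Subgroup G → Subgroup G → Prop := fun Q₁ Q₂ =>
    ∃ H : Subgroup G, H ≠ ⊤ ∧ A ≤ H ∧ H ⊓ Q₁ ≠ ⊥ ∧ H ⊓ Q₂ ≠ ⊥
  have hRel_refl : ∀ Q, Rel Q Q := fun Q => ⟨1, K.one_mem, by rw [map_one, one_smul]⟩
  have hRel_trans : ∀ Q₁ Q₂ Q₃, Rel Q₁ Q₂ → Rel Q₂ Q₃ → Rel Q₁ Q₃ := by
    rintro Q₁ Q₂ Q₃ ⟨k₁, hk₁, rfl⟩ ⟨k₂, hk₂, rfl⟩
    exact ⟨k₂ * k₁, K.mul_mem hk₂ hk₁, by rw [map_mul, mul_smul]⟩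
  have hqcop : ∀ {Y : Subgroup G}, IsPGroup q Y → (Nat.card Y).Coprime (Nat.card A) := by
    intro Y hY
    obtain ⟨k, hk⟩ := hY.exists_card_eq
    rw [hk]
    exact Nat.Coprime.pow_left k ((Nat.Prime.coprime_iff_not_dvd hq).mpr hqA)
  by_contra hcon
  push Not at hcon
  obtain ⟨Q₁', hQ₁', Q₂', hQ₂', hlink', hnot'⟩ := hcon
  let Prs : Set (Subgroup G × Subgroup G) :=
    {pr | pr.1 ∈ maxInvSubgroups ⊤ A {q} ∧ pr.2 ∈ maxInvSubgroups ⊤ A {q} ∧ Linked pr.1 pr.2 ∧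
      ¬ Rel pr.1 pr.2}
  have hPrs : Prs.Nonempty := ⟨(Q₁', Q₂'), hQ₁', hQ₂', hlink', fun ⟨k, hk, h⟩ => hnot' k hk h⟩
  obtain ⟨⟨Q₁, Q₂⟩, ⟨hQ₁, hQ₂, hlink, hnot⟩, hmax'⟩ :=
    Set.exists_max_image Prs (fun pr => Nat.card (pr.1 ⊓ pr.2 : Subgroup G)) (Set.toFinite Prs) hPrs
  have hmax : ∀ M₁ ∈ maxInvSubgroups ⊤ A {q}, ∀ M₂ ∈ maxInvSubgroups ⊤ A {q}, Linked M₁ M₂ →
      ¬ Rel M₁ M₂ → Nat.card (M₁ ⊓ M₂ : Subgroup G) ≤ Nat.card (Q₁ ⊓ Q₂ : Subgroup G) :=
    fun M₁ hM₁ M₂ hM₂ hl h => hmax' (M₁, M₂) ⟨hM₁, hM₂, hl, h⟩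
  simp only at hQ₁ hQ₂ hnot hlink
  set D : Subgroup G := Q₁ ⊓ Q₂ with hD
  obtain ⟨hQ₁q, hAQ₁⟩ := (mem_invSubgroups_iff A q).mp hQ₁.1
  obtain ⟨hQ₂q, hAQ₂⟩ := (mem_invSubgroups_iff A q).mp hQ₂.1
  have hD1 : D ≠ Q₁ := by
    intro h
    have h1 : Q₁ ≤ Q₂ := h ▸ (inf_le_right : D ≤ Q₂)
    have h2 := hQ₁.2 Q₂ hQ₂.1 h1
    exact hnot (h2 ▸ hRel_refl Q₁)
  have hD2 : D ≠ Q₂ := by
    intro h
    have h1 : Q₂ ≤ Q₁ := h ▸ (inf_le_left : D ≤ Q₁)
    have h2 := hQ₂.2 Q₁ hQ₁.1 h1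
    exact hnot (h2 ▸ hRel_refl Q₁)
  have hAD : A ≤ Subgroup.normalizer (D : Set G) := le_normalizer_inf hAQ₁ hAQ₂
  -- a proper subgroup `Hs ≥ A, D` meeting `Q₁`, `Q₂` in more than `D`
  obtain ⟨Hs, hHs, hAHs, hDHs, hHs₁, hHs₂⟩ : ∃ Hs : Subgroup G, Hs ≠ ⊤ ∧ A ≤ Hs ∧ D ≤ Hs ∧
      ¬ Hs ⊓ Q₁ ≤ D ∧ ¬ Hs ⊓ Q₂ ≤ D := by
    by_cases hDbot : D = ⊥
    · obtain ⟨H, hH, hAH, h1, h2⟩ := hlink
      refine ⟨H, hH, hAH, hDbot ▸ bot_le, ?_, ?_⟩
      · rw [hDbot, le_bot_iff]; exact h1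
      · rw [hDbot, le_bot_iff]; exact h2
    · have hDtop : D ≠ ⊤ := by
        intro h
        apply hD1
        rw [h]
        exact (top_le_iff.mp (h ▸ (inf_le_left : D ≤ Q₁))).symm
      refine ⟨Subgroup.normalizer (D : Set G), normalizer_ne_top_of_simple hs hDbot hDtop, hAD,
        Subgroup.le_normalizer, ?_, ?_⟩
      · intro h
        apply hD1
        apply eq_of_inf_normalizer_le Q₁ D hQ₁q inf_le_left
        rwa [inf_comm]
      · intro h
        apply hD2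
        apply eq_of_inf_normalizer_le Q₂ D hQ₂q inf_le_right
        rwa [inf_comm]
  set R₁ : Subgroup G := Hs ⊓ Q₁ with hR₁
  set R₂ : Subgroup G := Hs ⊓ Q₂ with hR₂
  have hAHsN : A ≤ Subgroup.normalizer (Hs : Set G) := hAHs.trans Subgroup.le_normalizer
  have hAR₁ : A ≤ Subgroup.normalizer (R₁ : Set G) := le_normalizer_inf hAHsN hAQ₁
  have hAR₂ : A ≤ Subgroup.normalizer (R₂ : Set G) := le_normalizer_inf hAHsN hAQ₂
  have hR₁q : IsPGroup q R₁ := hQ₁q.to_le inf_le_right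
  have hR₂q : IsPGroup q R₂ := hQ₂q.to_le inf_le_right
  set L : Subgroup G := piCoreOf (primesNotDvd (Nat.card A)) Hs with hL
  have hR₁L : R₁ ≤ L :=
    le_piCoreOf_of_transitivityHypothesis A hA hHs hAHs inf_le_left (hqcop hR₁q) hAR₁
  have hR₂L : R₂ ≤ L :=
    le_piCoreOf_of_transitivityHypothesis A hA hHs hAHs inf_le_left (hqcop hR₂q) hAR₂
  have hLHs : L ≤ Hs := piCoreOf_le _ Hs
  have hAL : A ≤ Subgroup.normalizer (L : Set G) := hAHs.trans (le_normalizer_piCoreOf _ Hs)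
  have hLcop : (Nat.card L).Coprime (Nat.card A) := coprime_of_primesNotDvd (piCoreOf_isPi _ Hs)
  have hLsolv : Group.IsSolvable A ∨ Group.IsSolvable L :=
    Or.inr (isSolvable_of_le hLHs (hsolv Hs hHs))
  have hDR₁ : Nat.card D < Nat.card R₁ := by
    apply Set.Finite.card_lt_card (Set.toFinite _)
    apply SetLike.coe_ssubset_coe.mpr
    refine lt_of_le_of_ne (le_inf hDHs inf_le_left) ?_
    intro h
    exact hHs₁ (h ▸ le_rfl)
  have hDR₂ : Nat.card D < Nat.card R₂ := by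
    apply Set.Finite.card_lt_card (Set.toFinite _)
    apply SetLike.coe_ssubset_coe.mpr
    refine lt_of_le_of_ne (le_inf hDHs inf_le_right) ?_
    intro h
    exact hHs₂ (h ▸ le_rfl)
  have hR₁ne : R₁ ≠ ⊥ := by
    intro h
    rw [h, Subgroup.card_bot] at hDR₁
    have := Nat.card_pos (α := D)
    omega
  have hR₂ne : R₂ ≠ ⊥ := by
    intro h
    rw [h, Subgroup.card_bot] at hDR₂
    have := Nat.card_pos (α := D)
    omega
  obtain ⟨S₁, hR₁S₁, hAS₁⟩ :=
    exists_invariant_sylow_ge A L hAL hLcop.symm hLsolv q R₁ hR₁L hR₁q hAR₁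
  obtain ⟨S₂, hR₂S₂, hAS₂⟩ :=
    exists_invariant_sylow_ge A L hAL hLcop.symm hLsolv q R₂ hR₂L hR₂q hAR₂
  obtain ⟨c, hcA, hcS⟩ := exists_centralizer_conj_sylow A L hAL hLcop.symm hLsolv q S₁ S₂ hAS₁ hAS₂
  have hcS' : (S₂ : Subgroup L).map L.subtype =
      MulAut.conj (c : G) • (S₁ : Subgroup L).map L.subtype := by
    rw [← hcS]; exact map_sylow_conj_smul L c S₁
  have hcK : (c : G) ∈ K := by
    apply le_piCoreOf_centralizer_of_transitivityHypothesis A hs hA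
      (Y := L ⊓ Subgroup.centralizer (A : Set G)) inf_le_right
      (Nat.Coprime.coprime_dvd_left (Subgroup.card_dvd_of_le inf_le_left) hLcop)
    exact ⟨c.2, hcA⟩
  have hS₁inv : (S₁ : Subgroup L).map L.subtype ∈ invSubgroups ⊤ A {q} :=
    (mem_invSubgroups_iff A q).mpr ⟨S₁.isPGroup'.map _, hAS₁⟩
  obtain ⟨M₁, hM₁, hS₁M₁⟩ := exists_maxInv_ge A q hS₁inv
  have hM₁c : MulAut.conj (c : G) • M₁ ∈ maxInvSubgroups ⊤ A {q} :=
    conj_mem_maxInvSubgroups A q hcA hM₁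
  have hne_of_le : ∀ {R T : Subgroup G}, R ≠ ⊥ → R ≤ T → T ≠ ⊥ := by
    intro R T hR hRT hT
    exact hR (le_bot_iff.mp (hT ▸ hRT))
  have hrel1 : Rel Q₁ M₁ := by
    by_contra h
    have hl : Linked Q₁ M₁ :=
      ⟨Hs, hHs, hAHs, hR₁ne, hne_of_le hR₁ne (le_inf inf_le_left (hR₁S₁.trans hS₁M₁))⟩
    have h1 := hmax Q₁ hQ₁ M₁ hM₁ hl h
    have h2 : R₁ ≤ Q₁ ⊓ M₁ := le_inf inf_le_right (hR₁S₁.trans hS₁M₁)
    have h3 := Nat.le_of_dvd Nat.card_pos (Subgroup.card_dvd_of_le h2)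
    omega
  have hrel2 : Rel M₁ (MulAut.conj (c : G) • M₁) := ⟨c, hcK, rfl⟩
  have hR₂M : R₂ ≤ MulAut.conj (c : G) • M₁ := by
    refine hR₂S₂.trans ?_
    rw [hcS']
    exact conj_smul_le_conj_smul hS₁M₁
  have hrel3 : Rel (MulAut.conj (c : G) • M₁) Q₂ := by
    by_contra h
    have hl : Linked (MulAut.conj (c : G) • M₁) Q₂ :=
      ⟨Hs, hHs, hAHs, hne_of_le hR₂ne (le_inf inf_le_left hR₂M), hR₂ne⟩
    have h1 := hmax _ hM₁c Q₂ hQ₂ hl h
    have h2 : R₂ ≤ MulAut.conj (c : G) • M₁ ⊓ Q₂ := le_inf hR₂M inf_le_right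
    have h3 := Nat.le_of_dvd Nat.card_pos (Subgroup.card_dvd_of_le h2)
    omega
  exact hnot (hRel_trans _ _ _ (hRel_trans _ _ _ hrel1 hrel2) hrel3)

end BG

/-- From `¬ PRankLE p k E`: an elementary abelian subgroup of `E` of order at least `p ^ (k + 1)`. -/
theorem exists_elemAb_of_not_pRankLE [Finite G] (p k : ℕ) [Fact p.Prime] (E : Subgroup G)
    (hE : ¬ PRankLE p k E) :
    ∃ B : Subgroup G, B ≤ E ∧ (∀ x ∈ B, ∀ y ∈ B, x * y = y * x) ∧ (∀ x ∈ B, x ^ p = 1) ∧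
      p ^ (k + 1) ≤ Nat.card B := by
  have hp : p.Prime := Fact.out
  unfold PRankLE at hE
  push Not at hE
  obtain ⟨B, hBc, hBexp, hBcard⟩ := hE
  have hBp : IsPGroup p B := by
    intro a
    refine ⟨1, ?_⟩
    rw [pow_one]
    apply Subtype.ext
    have := hBexp (a : E) a.2
    simpa using this
  obtain ⟨j, hj⟩ := hBp.exists_card_eq
  have hjk : k + 1 ≤ j := by
    by_contra hcon
    rw [not_le] at hcon
    have : p ^ j ≤ p ^ k := Nat.pow_le_pow_right hp.pos (by omega)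
    omega
  refine ⟨B.map E.subtype, Subgroup.map_subtype_le _, ?_, ?_, ?_⟩
  · rintro _ ⟨x, hx, rfl⟩ _ ⟨y, hy, rfl⟩
    have h1 : (⟨x, hx⟩ : B) * ⟨y, hy⟩ = ⟨y, hy⟩ * ⟨x, hx⟩ := hBc.is_comm.comm _ _
    have h2 := congrArg (fun z : B => ((z : E) : G)) h1
    simpa using h2
  · rintro _ ⟨x, hx, rfl⟩
    have h1 := hBexp x hx
    have h2 := congrArg (fun z : E => (z : G)) h1
    simpa using h2
  · rw [Subgroup.card_map_of_injective E.subtype_injective, hj]
    exact Nat.pow_le_pow_right hp.pos hjk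

/-- In a nonabelian simple group the centralizer of a nontrivial element is proper. -/
theorem centralizer_singleton_ne_top (hs : IsSimpleGroup G) (hnc : ¬ IsMulCommutative G) {a : G}
    (ha : a ≠ 1) : Subgroup.centralizer ({a} : Set G) ≠ ⊤ := by
  intro h
  have hac : a ∈ Subgroup.center G := by
    rw [Subgroup.mem_center_iff]
    intro g
    have h1 : g ∈ Subgroup.centralizer ({a} : Set G) := h ▸ Subgroup.mem_top g
    rwa [Subgroup.mem_centralizer_singleton_iff] at h1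
  rcases hs.eq_bot_or_eq_top_of_normal (Subgroup.center G) inferInstance with h' | h'
  · rw [h', Subgroup.mem_bot] at hac
    exact ha hac
  · apply hnc
    refine ⟨⟨fun x y => ?_⟩⟩
    have hy : y ∈ Subgroup.center G := h' ▸ Subgroup.mem_top y
    exact Subgroup.mem_center_iff.mp hy x

section BG2

variable [Finite G] (A : Subgroup G)

/-- Bender–Glauberman 7.2: if `Z(A)` has rank at least three, `O_{π(A)'}(C_G(A))` is transitive on
the maximal `A`-invariant `q`-subgroups. -/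
theorem bg_transitive_of_rank_three (hs : IsSimpleGroup G) (hnc : ¬ IsMulCommutative G)
    (hsolv : ∀ H : Subgroup G, H ≠ ⊤ → Group.IsSolvable H)
    (hA : TransitivityHypothesis A)
    (hZ : ¬ RankLE 2 ↥(A ⊓ Subgroup.centralizer (A : Set G)))
    (q : ℕ) [Fact q.Prime] (hqA : ¬ q ∣ Nat.card A) :
    ∀ Q₁ ∈ maxInvSubgroups ⊤ A {q}, ∀ Q₂ ∈ maxInvSubgroups ⊤ A {q},
      ∃ k ∈ piCoreOf (primesNotDvd (Nat.card A)) (Subgroup.centralizer (A : Set G)),
        Q₂ = MulAut.conj k • Q₁ := by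
  unfold RankLE at hZ
  push Not at hZ
  obtain ⟨p, hp, hpr⟩ := hZ
  have : Fact p.Prime := ⟨hp⟩
  obtain ⟨B, hBZ, hBcomm, hBexp, hBcard⟩ :=
    exists_elemAb_card_cube p (A ⊓ Subgroup.centralizer (A : Set G)) hpr
  intro Q₁ hQ₁ Q₂ hQ₂
  by_cases h1 : Q₁ = ⊥
  · have h2 : Q₂ = Q₁ := hQ₁.2 Q₂ hQ₂.1 (h1 ▸ bot_le)
    exact ⟨1, Subgroup.one_mem _, by rw [map_one, one_smul, h2]⟩
  by_cases h2 : Q₂ = ⊥
  · have h3 : Q₁ = Q₂ := hQ₂.2 Q₁ hQ₁.1 (h2 ▸ bot_le)
    exact absurd (h3.trans h2) h1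
  have hpA : p ∣ Nat.card A := by
    have h3 : p ^ 3 ∣ Nat.card A := hBcard ▸ Subgroup.card_dvd_of_le (hBZ.trans inf_le_left)
    exact (dvd_pow_self p (by norm_num)).trans h3
  have hqp : q ≠ p := fun h => hqA (h ▸ hpA)
  obtain ⟨hQ₁q, hAQ₁⟩ := (mem_invSubgroups_iff A q).mp hQ₁.1
  obtain ⟨hQ₂q, hAQ₂⟩ := (mem_invSubgroups_iff A q).mp hQ₂.1
  have hndvd : ∀ {Y : Subgroup G}, IsPGroup q Y → ¬ p ∣ Nat.card Y := fun hY =>
    (Nat.Prime.coprime_iff_not_dvd hp).mp (coprime_card_of_isPGroup hqp hY).symm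
  have hBA : B ≤ A := hBZ.trans inf_le_left
  obtain ⟨a, haB, ha1, hX₁, hX₂⟩ := exists_common_centralizer B Q₁ ⊥ Q₂ ⊥ hBcomm hBexp hBcard
    (hndvd hQ₁q) (hBA.trans hAQ₁) (fun h => h1 (le_bot_iff.mp h))
    (hndvd hQ₂q) (hBA.trans hAQ₂) (fun h => h2 (le_bot_iff.mp h))
  refine bg_conj_of_common_overgroup A hs hsolv hA q hqA Q₁ hQ₁ Q₂ hQ₂
    ⟨Subgroup.centralizer ({a} : Set G), centralizer_singleton_ne_top hs hnc ha1, ?_, ?_, ?_⟩
  · intro x hx
    rw [Subgroup.mem_centralizer_singleton_iff]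
    exact Subgroup.mem_centralizer_iff.mp (hBZ haB).2 x hx
  · intro h
    apply hX₁
    rw [inf_comm, h]
  · intro h
    apply hX₂
    rw [inf_comm, h]

/-- Bender–Glauberman 7.3: if `Z(A)` has rank at least two and `q` divides `|C_G(A)|`,
`O_{π(A)'}(C_G(A))` is transitive on the maximal `A`-invariant `q`-subgroups. -/
theorem bg_transitive_of_rank_two (hs : IsSimpleGroup G) (hnc : ¬ IsMulCommutative G)
    (hsolv : ∀ H : Subgroup G, H ≠ ⊤ → Group.IsSolvable H)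
    (hA : TransitivityHypothesis A)
    (hZ : ¬ RankLE 1 ↥(A ⊓ Subgroup.centralizer (A : Set G)))
    (q : ℕ) [Fact q.Prime] (hqA : ¬ q ∣ Nat.card A)
    (hqC : q ∣ Nat.card (Subgroup.centralizer (A : Set G))) :
    ∀ Q₁ ∈ maxInvSubgroups ⊤ A {q}, ∀ Q₂ ∈ maxInvSubgroups ⊤ A {q},
      ∃ k ∈ piCoreOf (primesNotDvd (Nat.card A)) (Subgroup.centralizer (A : Set G)),
        Q₂ = MulAut.conj k • Q₁ := by
  have hq : q.Prime := Fact.out
  unfold RankLE at hZ
  push Not at hZ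
  obtain ⟨p, hp, hpr⟩ := hZ
  have : Fact p.Prime := ⟨hp⟩
  obtain ⟨B, hBZ, hBcomm, hBexp, hBcard⟩ :=
    exists_elemAb_of_not_pRankLE p 1 (A ⊓ Subgroup.centralizer (A : Set G)) hpr
  have hBA : B ≤ A := hBZ.trans inf_le_left
  have hBp : IsPGroup p B := by
    intro b
    refine ⟨1, ?_⟩
    rw [pow_one]
    apply Subtype.ext
    have := hBexp (b : G) b.2
    simpa using this
  have hpA : p ∣ Nat.card A := by
    obtain ⟨j, hj⟩ := hBp.exists_card_eq
    have hj0 : j ≠ 0 := by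
      rintro rfl
      rw [hj] at hBcard
      have := hp.one_lt
      have h3 : p ^ (1 + 1) = p * p := by ring
      rw [h3, pow_zero] at hBcard
      nlinarith
    have h3 : p ^ j ∣ Nat.card A := hj ▸ Subgroup.card_dvd_of_le hBA
    exact (dvd_pow_self p hj0).trans h3
  have hqp : q ≠ p := fun h => hqA (h ▸ hpA)
  -- a nontrivial `q`-subgroup of `C_G(A)`
  obtain ⟨x, hx⟩ := exists_prime_orderOf_dvd_card' (G := Subgroup.centralizer (A : Set G)) q hqC
  have hxo : orderOf (x : G) = q := by rw [Subgroup.orderOf_coe]; exact hx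
  have hx1 : (x : G) ≠ 1 := by
    intro h
    rw [h, orderOf_one] at hxo
    exact hq.one_lt.ne hxo
  have hQ₀inv : Subgroup.zpowers (x : G) ∈ invSubgroups ⊤ A {q} := by
    rw [mem_invSubgroups_iff]
    refine ⟨IsPGroup.of_card (n := 1) (by rw [Nat.card_zpowers, hxo, pow_one]), ?_⟩
    refine le_trans ?_ (Subgroup.centralizer_le_normalizer _)
    intro a ha
    rw [Subgroup.mem_centralizer_iff]
    intro y hy
    obtain ⟨k, rfl⟩ := Subgroup.mem_zpowers_iff.mp hy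
    have hc : Commute (x : G) a := (Subgroup.mem_centralizer_iff.mp x.2 a ha).symm
    exact (hc.zpow_left k).eq
  obtain ⟨Qs, hQs, hQ₀Qs⟩ := exists_maxInv_ge A q hQ₀inv
  set K : Subgroup G := piCoreOf (primesNotDvd (Nat.card A)) (Subgroup.centralizer (A : Set G))
    with hK
  have key : ∀ Q ∈ maxInvSubgroups ⊤ A {q}, ∃ k ∈ K, Q = MulAut.conj k • Qs := by
    intro Q hQ
    obtain ⟨hQq, hAQ⟩ := (mem_invSubgroups_iff A q).mp hQ.1
    have hQne : Q ≠ ⊥ := by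
      intro h
      have h1 : Subgroup.zpowers (x : G) = Q := hQ.2 _ hQ₀inv (h ▸ bot_le)
      rw [h, Subgroup.zpowers_eq_bot] at h1
      exact hx1 h1
    have hndvd : ¬ p ∣ Nat.card Q :=
      (Nat.Prime.coprime_iff_not_dvd hp).mp (coprime_card_of_isPGroup hqp hQq).symm
    obtain ⟨u, huB, hu1, huQ⟩ : ∃ u ∈ B, u ≠ 1 ∧
        ¬ Q ⊓ Subgroup.centralizer ({u} : Set G) ≤ ⊥ := by
      by_contra hcon
      push Not at hcon
      apply hQne
      rw [← le_bot_iff]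
      exact Cfsg.Agent.Lib.Helper48.elemAb_generation B hBcomm hBexp hBcard Q ⊥ hndvd
        (hBA.trans hAQ) hcon
    refine bg_conj_of_common_overgroup A hs hsolv hA q hqA Qs hQs Q hQ
      ⟨Subgroup.centralizer ({u} : Set G), centralizer_singleton_ne_top hs hnc hu1, ?_, ?_, ?_⟩
    · intro y hy
      rw [Subgroup.mem_centralizer_singleton_iff]
      exact Subgroup.mem_centralizer_iff.mp (hBZ huB).2 y hy
    · intro h
      have h1 : (x : G) ∈ Subgroup.centralizer ({u} : Set G) ⊓ Qs := by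
        refine Subgroup.mem_inf.mpr ⟨?_, hQ₀Qs (Subgroup.mem_zpowers _)⟩
        rw [Subgroup.mem_centralizer_singleton_iff]
        exact (Subgroup.mem_centralizer_iff.mp x.2 u (hBA huB)).symm
      rw [h, Subgroup.mem_bot] at h1
      exact hx1 h1
    · intro h
      apply huQ
      rw [inf_comm, h]
  intro Q₁ hQ₁ Q₂ hQ₂
  obtain ⟨k₁, hk₁, rfl⟩ := key Q₁ hQ₁
  obtain ⟨k₂, hk₂, rfl⟩ := key Q₂ hQ₂
  refine ⟨k₂ * k₁⁻¹, K.mul_mem hk₂ (K.inv_mem hk₁), ?_⟩
  rw [smul_smul, ← map_mul, inv_mul_cancel_right]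

end BG2

end Cfsg.Agent.Lib.Helper54
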