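import Cfsg.Agent.Lib.Helper54.UqBasic
import Cfsg.Agent.Lib.Helper54.UqPuig
import Cfsg.Agent.Lib.Helper54.InvariantCore
import Cfsg.Agent.S1396

/-!
# Control lemmas for the uniqueness theorems of Bender–Glauberman §9
-/

set_option autoImplicit false

namespace Cfsg.Agent.Lib.Helper54

open scoped Pointwise
open Cfsg

variable {G : Type*} [Group G]

/-- A `p'`-subgroup of the solvable subgroup `H` normalized by a Sylow `p`-subgroup of `H` lies in
`O_{p'}(H)` (`p` odd). -/
theorem le_relK_of_sylow_invariant [Finite G] {p : ℕ} [Fact p.Prime] (hp : p ≠ 2)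
    (H : Subgroup G) (hHs : Group.IsSolvable H) (S : Sylow p H) {Y : Subgroup G} (hYH : Y ≤ H)
    (hY : (Nat.card Y).Coprime p)
    (hSY : (S : Subgroup H).map H.subtype ≤ Subgroup.normalizer (Y : Set G)) :
    Y ≤ relK p H := by
  have hcons : IsPConstrained p ↥H := Cfsg.Agent.S1396.isPConstrained_of_isSolvable p hHs
  have hcard : Nat.card (Y.subgroupOf H) = Nat.card Y :=
    Nat.card_congr (Subgroup.subgroupOfEquivOfLe hYH).toEquiv
  have hEQ : (S : Subgroup H) ≤ Subgroup.normalizer ((Y.subgroupOf H : Subgroup H) : Set H) := by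
    intro s hs
    have h1 : (s : G) ∈ Subgroup.normalizer (Y : Set G) := hSY ⟨s, hs, rfl⟩
    rw [Subgroup.mem_normalizer_iff]
    intro y
    rw [Subgroup.mem_subgroupOf, Subgroup.mem_subgroupOf]
    have := (Subgroup.mem_normalizer_iff.mp h1) (y : G)
    simpa using this
  have hΩ : ∀ x ∈ Subgroup.centralizer ((S : Subgroup H) : Set H), orderOf x = p →
      x ∈ (S : Subgroup H) := by
    intro x hx hxo
    have hzp : IsPGroup p (Subgroup.zpowers x) := by
      apply IsPGroup.of_card (n := 1)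
      rw [Nat.card_zpowers, pow_one]
      exact hxo
    have hnorm : (S : Subgroup H) ≤ Subgroup.normalizer ((Subgroup.zpowers x : Subgroup H) : Set H) := by
      intro s hs
      rw [Subgroup.mem_normalizer_iff]
      intro y
      have hsx : s * x = x * s := (Subgroup.mem_centralizer_iff.mp hx s hs)
      have hcomm : ∀ z ∈ Subgroup.zpowers x, s * z * s⁻¹ = z := by
        intro z hz
        obtain ⟨k, rfl⟩ := Subgroup.mem_zpowers_iff.mp hz
        have : Commute s (x ^ k) := (Commute.zpow_right hsx k)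
        rw [this.eq, mul_assoc, mul_inv_cancel, mul_one]
      constructor
      · intro hy
        rw [hcomm y hy]; exact hy
      · intro hy
        have h2 := hcomm _ hy
        have : y = s⁻¹ * (s * y * s⁻¹) * s := by group
        rw [this, ← h2]
        have h3 : s⁻¹ * (s * (s * y * s⁻¹) * s⁻¹) * s = s * y * s⁻¹ := by group
        rw [h3]; exact hy
    have hsup : IsPGroup p ((S : Subgroup H) ⊔ Subgroup.zpowers x : Subgroup H) :=
      IsPGroup.to_sup_of_normal_right' S.isPGroup' hzp hnorm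
    have := S.is_maximal' hsup le_sup_left
    rw [← this]
    exact Subgroup.mem_sup_right (Subgroup.mem_zpowers x)
  have key := le_pPrimeCore_of_invariant p hcons (S : Subgroup H) (Y.subgroupOf H) S.isPGroup'
    (hcard ▸ hY) hEQ hΩ (Or.inl hp)
  intro y hy
  have := key (show (⟨y, hYH hy⟩ : H) ∈ Y.subgroupOf H from by
    rw [Subgroup.mem_subgroupOf]; exact hy)
  exact (coe_mem_relK_iff p H ⟨y, hYH hy⟩).mpr this

/-- **Lemma F**: a `p`-subgroup `A` of `O_{p',p}(X)` lies in a `p`-subgroup `T` with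
`X = O_{p'}(X) N_X(T)`. -/
theorem exists_factorization {X : Type*} [Group X] [Finite X] {p : ℕ} [Fact p.Prime]
    (A : Subgroup X) (hAp : IsPGroup p A) (hA : A ≤ pPrimePCore p X) :
    ∃ T : Subgroup X, IsPGroup p T ∧ A ≤ T ∧
      ∀ x : X, ∃ k ∈ pPrimeCore p X, ∃ n ∈ Subgroup.normalizer (T : Set X), x = k * n := by
  have hA' : IsPGroup p (A.subgroupOf (pPrimePCore p X)) := by
    have : A.subgroupOf (pPrimePCore p X) ≃* A := Subgroup.subgroupOfEquivOfLe hA
    exact hAp.of_equiv this.symm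
  obtain ⟨T₀, hT₀⟩ := hA'.exists_le_sylow
  refine ⟨(T₀ : Subgroup (pPrimePCore p X)).map (pPrimePCore p X).subtype, T₀.isPGroup'.map _, ?_, ?_⟩
  · intro a ha
    exact ⟨⟨a, hA ha⟩, hT₀ (by rw [Subgroup.mem_subgroupOf]; exact ha), rfl⟩
  · intro x
    have hxn : x ∈ Subgroup.normalizer ((pPrimePCore p X : Subgroup X) : Set X) := by
      rw [Subgroup.normalizer_eq_top]; exact Subgroup.mem_top x
    obtain ⟨r, hr, hrx⟩ := frattini_rel (pPrimePCore p X) T₀ x hxn
    obtain ⟨k, hk, y, hy, hrk⟩ := exists_mul_of_mem_pPrimePCore p T₀ hr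
    refine ⟨k, hk, y * (r⁻¹ * x), ?_, ?_⟩
    · exact mul_mem (Subgroup.le_normalizer hy) hrx
    · rw [hrk]; group

/-- Conjugates of a Sylow subgroup of `M` lying in `M` come from elements of `M`, provided that `M`
contains the normalizer of the Sylow subgroup. -/
theorem mem_of_conj_sylow_le [Finite G] {p : ℕ} [Fact p.Prime] (M : Subgroup G) (S : Sylow p M)
    (hN : Subgroup.normalizer (((S : Subgroup M).map M.subtype : Subgroup G) : Set G) ≤ M) {y : G}
    (hy : MulAut.conj y • (S : Subgroup M).map M.subtype ≤ M) : y ∈ M := by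
  have hcard : Nat.card (MulAut.conj y • (S : Subgroup M).map M.subtype : Subgroup G) =
      p ^ (Nat.card M).factorization p := by
    rw [card_conj_smul, card_map_sylow]
  obtain ⟨Q₀, hQ₀⟩ := exists_sylow_of_card M _ hy hcard
  obtain ⟨k, -, hk⟩ := exists_conj_sylow M S Q₀
  rw [hQ₀] at hk
  have h1 : (k : G)⁻¹ * y ∈
      Subgroup.normalizer (((S : Subgroup M).map M.subtype : Subgroup G) : Set G) := by
    rw [mem_normalizer_iff_conj_smul, map_mul, mul_smul, ← hk, ← mul_smul, ← map_mul,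
      inv_mul_cancel, map_one, one_smul]
  have h2 := M.mul_mem k.2 (hN h1)
  simpa using h2

/-- **Lemma U**: if `A ≤ O_{p',p}(H)` is a `p`-subgroup whose conjugates in `M` all come from `M`,
`O_{p'}(H) ≤ M`, and `M` contains a Sylow `p`-subgroup of `H`, then `H ≤ M`. -/
theorem le_of_control [Finite G] {p : ℕ} [Fact p.Prime] (M H : Subgroup G) (S : Sylow p H)
    (hSM : (S : Subgroup H).map H.subtype ≤ M) (hKM : relK p H ≤ M)
    (A : Subgroup G) (hAp : IsPGroup p A) (hAR : A ≤ relR p H)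
    (hctrl : ∀ y : G, MulAut.conj y • A ≤ M → y ∈ M) : H ≤ M := by
  have hAH : A ≤ H := hAR.trans (relR_le p H)
  have hA' : IsPGroup p (A.subgroupOf H) := by
    have : A.subgroupOf H ≃* A := Subgroup.subgroupOfEquivOfLe hAH
    exact hAp.of_equiv this.symm
  have hA'R : A.subgroupOf H ≤ pPrimePCore p ↥H := by
    intro a ha
    rw [Subgroup.mem_subgroupOf] at ha
    exact (coe_mem_relR_iff p H a).mp (hAR ha)
  obtain ⟨T, hTp, hAT, hfac⟩ := exists_factorization (A.subgroupOf H) hA' hA'R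
  obtain ⟨S', hS'⟩ := hTp.exists_le_sylow
  obtain ⟨h0, hh0⟩ := MulAction.exists_smul_eq H S S'
  -- elements of `T` conjugate into `S`
  have hTS : ∀ t ∈ T, h0⁻¹ * t * h0 ∈ (S : Subgroup H) := by
    intro t ht
    have h1 : t ∈ ((h0 • S : Sylow p H) : Subgroup H) := hh0 ▸ hS' ht
    rw [Sylow.smul_def, Sylow.pointwise_smul_def] at h1
    exact mem_conj_smul_iff.mp h1
  have hTS' : ∀ t ∈ T, (h0 : G)⁻¹ * (t : G) * (h0 : G) ∈ M := by
    intro t ht
    exact hSM ⟨_, hTS t ht, by simp⟩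
  have hh0M : (h0 : G) ∈ M := by
    have h1 : ((h0 : G)⁻¹) ∈ M := by
      apply hctrl
      intro x hx
      rw [mem_conj_smul_iff] at hx
      have hxH : (h0 : G)⁻¹⁻¹ * x * (h0 : G)⁻¹ ∈ H := hAH hx
      have h2 := hTS' ⟨_, hxH⟩ (hAT (by rw [Subgroup.mem_subgroupOf]; exact hx))
      have h3 : (h0 : G)⁻¹ * ((h0 : G)⁻¹⁻¹ * x * (h0 : G)⁻¹) * (h0 : G) = x := by group
      rw [← h3]
      exact h2
    simpa using M.inv_mem h1
  have hTM : ∀ t ∈ T, (t : G) ∈ M := by
    intro t ht
    have h1 := hTS' t ht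
    have h2 := M.mul_mem (M.mul_mem hh0M h1) (M.inv_mem hh0M)
    have h3 : (h0 : G) * ((h0 : G)⁻¹ * (t : G) * (h0 : G)) * (h0 : G)⁻¹ = t := by group
    rwa [h3] at h2
  have hNM : ∀ n ∈ Subgroup.normalizer (T : Set H), (n : G) ∈ M := by
    intro n hn
    apply hctrl
    intro x hx
    rw [mem_conj_smul_iff] at hx
    have hxH : (n : G)⁻¹ * x * (n : G) ∈ H := hAH hx
    have h1 : (⟨_, hxH⟩ : H) ∈ T := hAT (by rw [Subgroup.mem_subgroupOf]; exact hx)
    have h2 : n * ⟨_, hxH⟩ * n⁻¹ ∈ T := (Subgroup.mem_normalizer_iff.mp hn _).mp h1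
    have h3 := hTM _ h2
    have h4 : (n : G) * ((n : G)⁻¹ * x * (n : G)) * (n : G)⁻¹ = x := by group
    simpa [h4] using h3
  intro x hx
  obtain ⟨k, hk, n, hn, hxkn⟩ := hfac ⟨x, hx⟩
  have h1 : x = (k : G) * (n : G) := by
    have := congrArg Subtype.val hxkn
    simpa using this
  rw [h1]
  exact M.mul_mem (hKM ((coe_mem_relK_iff p H k).mpr hk)) (hNM n hn)

end Cfsg.Agent.Lib.Helper54
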