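import Cfsg.Agent.Lib.Helper54.UqNine1

/-!
# Towards Bender–Glauberman Theorem 8.1: invariant subgroups for subgroups of `F(M)`
-/

set_option autoImplicit false

namespace Cfsg.Agent.Lib.Helper54

open scoped Pointwise
open Cfsg

variable {G : Type*} [Group G]

theorem isSubnormal_of_nilpotent {N : Type*} [Group N] [Finite N] [Group.IsNilpotent N]
    (H : Subgroup N) : H.IsSubnormal := by
  induction H using WellFoundedGT.induction with
  | ind H ih =>
    by_cases hH : H = ⊤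
    · rw [hH]; exact Subgroup.IsSubnormal.top
    · have h1 : H < Subgroup.normalizer (H : Set N) :=
        Group.normalizerCondition_of_isNilpotent H (lt_top_iff_ne_top.2 hH)
      exact Subgroup.IsSubnormal.step H _ h1.le (ih _ h1)
        (Subgroup.normal_subgroupOf_of_le_normalizer le_rfl)

/-- A nonabelian simple group is not a `p`-group. -/
theorem not_isPGroup_of_simple [Finite G] (hs : IsSimpleGroup G) (hnc : ¬ IsMulCommutative G)
    (p : ℕ) [Fact p.Prime] : ¬ IsPGroup p G := by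
  intro h
  have hnt : Nontrivial G := hs.toNontrivial
  have hc : Nontrivial (Subgroup.center G) := h.center_nontrivial
  rcases hs.eq_bot_or_eq_top_of_normal (Subgroup.center G) inferInstance with h' | h'
  · exact (Subgroup.nontrivial_iff_ne_bot _).mp hc h'
  · apply hnc
    refine ⟨⟨fun x y => ?_⟩⟩
    have hy : y ∈ Subgroup.center G := h' ▸ Subgroup.mem_top y
    exact Subgroup.mem_center_iff.mp hy x

theorem ne_top_of_isPGroup [Finite G] (hs : IsSimpleGroup G) (hnc : ¬ IsMulCommutative G)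
    {p : ℕ} [Fact p.Prime] {T : Subgroup G} (hT : IsPGroup p T) : T ≠ ⊤ := by
  rintro rfl
  exact not_isPGroup_of_simple hs hnc p (hT.of_equiv Subgroup.topEquiv)

/-- A maximal subgroup of a nonabelian simple group is maximal among local subgroups. -/
theorem local_eq_of_coatom_le [Finite G] (hs : IsSimpleGroup G) (hnc : ¬ IsMulCommutative G)
    {M : Subgroup G} (hM : IsCoatom M) (L : Subgroup G) (hL : IsLocalSubgroup L) (hML : M ≤ L) :
    L = M := by
  obtain ⟨p, T, hp, hT, hT1, rfl⟩ := hL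
  have : Fact p.Prime := ⟨hp⟩
  have hN := normalizer_ne_top_of_simple hs hT1 (ne_top_of_isPGroup hs hnc hT)
  rcases eq_or_lt_of_le hML with h | h
  · exact h.symm
  · exact absurd (hM.2 _ h) hN

theorem normalizer_fittingOf_eq [Finite G] (hs : IsSimpleGroup G) {M : Subgroup G}
    (hM : IsCoatom M) (hF1 : fittingOf M ≠ ⊥) :
    Subgroup.normalizer (fittingOf M : Set G) = M :=
  normalizer_eq_of_coatom hM (fittingOf_le M) hF1 (le_normalizer_fittingOf M)

theorem inf_centralizer_fittingOf_le [Finite G] {M : Subgroup G} (hMs : Group.IsSolvable M) :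
    M ⊓ Subgroup.centralizer (fittingOf M : Set G) ≤ fittingOf M := by
  have h2 := inf_le_fittingOf_of_solvable M M hMs (inf_le_left.trans Subgroup.le_normalizer)
  intro x hx
  exact h2 ⟨hx, hx.1⟩

theorem centralizer_fittingOf_le [Finite G] (hs : IsSimpleGroup G) {M : Subgroup G}
    (hM : IsCoatom M) (hMs : Group.IsSolvable M) (hF1 : fittingOf M ≠ ⊥) :
    Subgroup.centralizer (fittingOf M : Set G) ≤ fittingOf M := by
  have h1 : Subgroup.centralizer (fittingOf M : Set G) ≤ M :=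
    centralizer_le_of_coatom hM (fittingOf_le M) hF1 (le_normalizer_fittingOf M)
  intro x hx
  exact inf_centralizer_fittingOf_le hMs ⟨h1 hx, hx⟩

theorem bot_mem_invSubgroups [Finite G] (R E : Subgroup G) (q : ℕ) [Fact q.Prime] :
    (⊥ : Subgroup G) ∈ invSubgroups R E {q} := by
  rw [mem_invSubgroups_iff']
  refine ⟨bot_le, IsPGroup.of_bot, ?_⟩
  intro x _
  rw [Subgroup.mem_normalizer_iff]
  intro y
  simp

/-- Bender–Glauberman 7.5/7.6 applied to `F(M)`: the maximal `F(M)`-invariant `q`-subgroups are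
trivial. -/
theorem maxInv_fittingOf_eq_bot [Finite G] (hG : IsMinSimpleOddOrder G) (M : Subgroup G)
    (hM : IsCoatom M) (hF1 : fittingOf M ≠ ⊥) (A : Subgroup G) (hTH : TransitivityHypothesis A)
    (hAF : A ≤ fittingOf M)
    (hPπ : ∀ r : ℕ, r.Prime → r ∣ Nat.card (fittingOf M) → r ∣ Nat.card A)
    (q : ℕ) (hq : q.Prime) (hqA : ¬ q ∣ Nat.card A)
    (htr : ∀ Q₁ ∈ maxInvSubgroups ⊤ A {q}, ∀ Q₂ ∈ maxInvSubgroups ⊤ A {q},
      ∃ k ∈ piCoreOf (primesNotDvd (Nat.card A)) (Subgroup.centralizer (A : Set G)),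
        Q₂ = Q₁.map (MulAut.conj k).toMonoidHom) :
    maxInvSubgroups ⊤ (fittingOf M) {q} ⊆ maxInvSubgroups ⊤ A {q} ∧
      ∀ Q ∈ maxInvSubgroups ⊤ (fittingOf M) {q}, Q = ⊥ := by
  have hs : IsSimpleGroup G := hG.2.1
  have hnc := hG.2.2.1
  have hMs : Group.IsSolvable M := hG.2.2.2 M hM.1
  have : Fact q.Prime := ⟨hq⟩
  have hFtop : fittingOf M ≠ ⊤ := fun h => hM.1 (eq_top_iff.mpr (h ▸ fittingOf_le M))
  have hnil : Group.IsNilpotent (fittingOf M) := isNilpotent_fittingOf M
  have hsn : (A.subgroupOf (fittingOf M)).IsSubnormal := isSubnormal_of_nilpotent _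
  have h1395 := Cfsg.Agent.S1395.result hG A hTH q hq hqA (fittingOf M) hFtop hPπ hAF hsn htr
  refine ⟨h1395.2.2.1, ?_⟩
  intro Q hQ
  have hd := (h1395.2.2.2 Q hQ).2
  have hKF : piCoreOf (primesNotDvd (Nat.card A))
      (Subgroup.centralizer (fittingOf M : Set G)) = ⊥ := by
    rw [Subgroup.eq_bot_iff_forall]
    intro x hx
    have hxF : x ∈ fittingOf M := centralizer_fittingOf_le hs hM hMs hF1 (piCoreOf_le _ _ hx)
    by_contra hx1
    obtain ⟨r, hr, hrd⟩ := Nat.exists_prime_and_dvd (fun h => hx1 (orderOf_eq_one_iff.mp h))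
    have h1 : r ∣ Nat.card (piCoreOf (primesNotDvd (Nat.card A))
        (Subgroup.centralizer (fittingOf M : Set G))) :=
      hrd.trans (Subgroup.orderOf_dvd_natCard _ hx)
    have h2 : r ∣ Nat.card (fittingOf M) := hrd.trans (Subgroup.orderOf_dvd_natCard _ hxF)
    exact (piCoreOf_isPi _ _ r hr h1).2 (hPπ r hr h2)
  rw [hKF, bot_sup_eq, normalizer_fittingOf_eq hs hM hF1] at hd
  have hMQ : M ≤ Subgroup.normalizer (Q : Set G) := by
    intro m hm
    rw [hd] at hm
    exact hm.2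
  by_contra hQ1
  have hQinv := (mem_invSubgroups_iff' (q := q)).mp hQ.1
  have hQq : IsPGroup q Q := hQinv.2.1
  have hQtop : Q ≠ ⊤ := ne_top_of_isPGroup hs hnc hQq
  have hNQ : Subgroup.normalizer (Q : Set G) = M := by
    rcases eq_or_lt_of_le hMQ with h | h
    · exact h.symm
    · exact absurd (hM.2 _ h) (normalizer_ne_top_of_simple hs hQ1 hQtop)
  have hQM : Q ≤ M := hNQ ▸ Subgroup.le_normalizer
  have hQF : Q ≤ fittingOf M := (le_pcOf_of_normal q hQq hQM hMQ).trans (pcOf_le_fittingOf q M)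
  have h3 : q ∣ Nat.card Q := dvd_card_of_isPGroup_ne_bot hQq hQ1
  exact hqA (hPπ q hq (h3.trans (Subgroup.card_dvd_of_le hQF)))

/-- All `A`-invariant `π(A)'`-subgroups are trivial, for `A ≤ F(M)` subject to the transitivity
theorems. -/
theorem invariant_eq_bot_of_fittingOf [Finite G] (hG : IsMinSimpleOddOrder G) (M : Subgroup G)
    (hM : IsCoatom M) (hF1 : fittingOf M ≠ ⊥) (A : Subgroup G) (hTH : TransitivityHypothesis A)
    (hAF : A ≤ fittingOf M)
    (hPπ : ∀ r : ℕ, r.Prime → r ∣ Nat.card (fittingOf M) → r ∣ Nat.card A)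
    (htr : ∀ q : ℕ, q.Prime → ¬ q ∣ Nat.card A →
      ∀ Q₁ ∈ maxInvSubgroups ⊤ A {q}, ∀ Q₂ ∈ maxInvSubgroups ⊤ A {q},
        ∃ k ∈ piCoreOf (primesNotDvd (Nat.card A)) (Subgroup.centralizer (A : Set G)),
          Q₂ = Q₁.map (MulAut.conj k).toMonoidHom) :
    ∀ Y : Subgroup G, (Nat.card A).Coprime (Nat.card Y) →
      A ≤ Subgroup.normalizer (Y : Set G) → Y = ⊥ := by
  intro Y hcop hAY
  have hnil : Group.IsNilpotent (fittingOf M) := isNilpotent_fittingOf M
  have hFs : Group.IsSolvable (fittingOf M) := inferInstance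
  have hAs : Group.IsSolvable A := isSolvable_of_le hAF hFs
  rw [← le_bot_iff]
  apply le_of_forall_invariant_pGroup_le hAY hcop (Or.inl hAs)
  intro q hqf Q hQY hQq hAQ
  by_cases hqA : q ∣ Nat.card A
  · have h1 : (Nat.card Y).Coprime q := (Nat.Coprime.coprime_dvd_left hqA hcop).symm
    rw [isPGroup_eq_bot_of_coprime hQq hQY h1]
  · obtain ⟨hsub, hbot⟩ := maxInv_fittingOf_eq_bot hG M hM hF1 A hTH hAF hPπ q hqf.out hqA
      (htr q hqf.out hqA)
    obtain ⟨Q₁, hQ₁, -⟩ := exists_maxInv_ge' (bot_mem_invSubgroups ⊤ (fittingOf M) q)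
    have hQ₁bot := hbot Q₁ hQ₁
    have hQinv : Q ∈ invSubgroups ⊤ A {q} :=
      (mem_invSubgroups_iff').mpr ⟨le_top, hQq, hAQ⟩
    obtain ⟨Qs, hQs, hQQs⟩ := exists_maxInv_ge' hQinv
    obtain ⟨k, -, hk⟩ := htr q hqf.out hqA Q₁ (hsub hQ₁) Qs hQs
    rw [hQ₁bot, Subgroup.map_bot] at hk
    exact hk ▸ hQQs

/-- The transitivity hypothesis for a subgroup `X` of `F(M)` with `C_{F(M)}(X) ≤ X`, when `F(M)` is
not of prime power order. -/
theorem transitivityHypothesis_of_fittingOf [Finite G] (hG : IsMinSimpleOddOrder G)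
    (M : Subgroup G) (hM : IsCoatom M)
    (hF2 : 2 ≤ (Nat.card (fittingOf M)).primeFactors.card)
    (X : Subgroup G) (hXF : X ≤ fittingOf M)
    (hCX : fittingOf M ⊓ Subgroup.centralizer (X : Set G) ≤ X) :
    TransitivityHypothesis X ∧
      ∀ r : ℕ, r.Prime → (r ∣ Nat.card X ↔ r ∣ Nat.card (fittingOf M)) := by
  have hs : IsSimpleGroup G := hG.2.1
  have hnc := hG.2.2.1
  have hsolv := hG.2.2.2
  have hMs : Group.IsSolvable M := hsolv M hM.1
  have hZX : fittingOf M ⊓ Subgroup.centralizer (fittingOf M : Set G) ≤ X :=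
    (inf_le_inf_left _ (Subgroup.centralizer_le hXF)).trans hCX
  have hπ : ∀ r : ℕ, r.Prime → (r ∣ Nat.card X ↔ r ∣ Nat.card (fittingOf M)) := by
    intro r hr
    constructor
    · intro h
      exact h.trans (Subgroup.card_dvd_of_le hXF)
    · intro h
      have : Fact r.Prime := ⟨hr⟩
      obtain ⟨z, hzF, hzC, hzo⟩ := exists_center_fittingOf_orderOf M r h
      rw [← hzo]
      exact Subgroup.orderOf_dvd_natCard _ (hZX ⟨hzF, hzC⟩)
  have hπ' : primesNotDvd (Nat.card X) = primesNotDvd (Nat.card (fittingOf M)) :=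
    primesNotDvd_eq hπ
  have hne : (Nat.card (fittingOf M)).primeFactors.Nonempty := by
    rw [← Finset.card_pos]; omega
  obtain ⟨r₀, hr₀⟩ := hne
  have hr₀p : r₀.Prime := (Nat.mem_primeFactors.mp hr₀).1
  have hr₀d : r₀ ∣ Nat.card (fittingOf M) := (Nat.mem_primeFactors.mp hr₀).2.1
  have hX1 : X ≠ ⊥ := by
    rintro rfl
    have := (hπ r₀ hr₀p).mpr hr₀d
    rw [Subgroup.card_bot] at this
    exact hr₀p.one_lt.ne' (Nat.dvd_one.mp this)
  have hXtop : X ≠ ⊤ := fun h => hM.1 (eq_top_iff.mpr (h ▸ hXF.trans (fittingOf_le M)))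
  have hnil : Group.IsNilpotent (fittingOf M) := isNilpotent_fittingOf M
  have hFs : Group.IsSolvable (fittingOf M) := inferInstance
  have hXs : Group.IsSolvable X := isSolvable_of_le hXF hFs
  refine ⟨⟨hX1, hXtop, ?_⟩, hπ⟩
  intro Y hY hXY
  rw [hπ']
  apply le_antisymm
  · apply sSup_le
    rintro Z ⟨hZY, hZπ, hXZ⟩
    have hcopF : (Nat.card Z).Coprime (Nat.card (fittingOf M)) := coprime_of_primesNotDvd hZπ
    have hcop : (Nat.card X).Coprime (Nat.card Z) :=
      (Nat.Coprime.coprime_dvd_right (Subgroup.card_dvd_of_le hXF) hcopF).symm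
    apply le_of_forall_invariant_pGroup_le hXZ hcop (Or.inl hXs)
    intro q hqf Q hQZ hQq hXQ
    by_cases hqF : q ∣ Nat.card (fittingOf M)
    · have h1 : (Nat.card Z).Coprime q := Nat.Coprime.coprime_dvd_right hqF hcopF
      rw [isPGroup_eq_bot_of_coprime hQq hQZ h1]
      exact bot_le
    · have hQinv : Q ∈ invSubgroups Y X {q} :=
        (mem_invSubgroups_iff').mpr ⟨hQZ.trans hZY, hQq, hXQ⟩
      obtain ⟨Q', hQ', hQQ'⟩ := exists_maxInv_ge' hQinv
      have hXR : M ⊓ Subgroup.centralizer (fittingOf M : Set G) ≤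
          Subgroup.normalizer (Y : Set G) := by
        intro x hx
        exact Subgroup.le_normalizer (hXY (hZX ⟨inf_centralizer_fittingOf_le hMs hx, hx.2⟩))
      obtain ⟨Q₀, ⟨-, hall⟩, -⟩ := bender_unique_maxInv M
        (fun L hL hML => local_eq_of_coatom_le hs hnc hM L hL hML) hF2 X hXF hCX Y (hsolv Y hY)
        (hXY.trans Subgroup.le_normalizer) hXR q hqF
      exact hQQ'.trans (hall Q' hQ').1
  · apply le_sSup
    exact ⟨piCoreOf_le _ _, piCoreOf_isPi _ _, hXY.trans (le_normalizer_piCoreOf _ _)⟩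

end Cfsg.Agent.Lib.Helper54
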