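import Cfsg.Agent.Lib.Helper54.Coprime

/-!
# Glauberman's lemma for conjugation actions on subgroups

Let `A` normalize `K` with coprime orders, one of them solvable, and let `Q` be a subgroup.
* `glauberman_fixed`: if every `A`-conjugate of `Q` is a `K`-conjugate of `Q`, then some `K`-conjugate
  of `Q` is `A`-invariant.
* `glauberman_conj`: two `A`-invariant subgroups conjugate under `K` are conjugate under `C_K(A)`.
-/

set_option autoImplicit false

namespace Cfsg.Agent.Lib.Helper54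

open Pointwise

variable {G : Type*} [Group G]

/-- Glauberman's lemma, existence of a fixed point. -/
theorem glauberman_fixed [Finite G] (A K Q : Subgroup G)
    (hAK : A ≤ Subgroup.normalizer (K : Set G))
    (hcop : (Nat.card A).Coprime (Nat.card K))
    (hsolv : Group.IsSolvable A ∨ Group.IsSolvable K)
    (hfr : ∀ a ∈ A, ∃ k ∈ K, k⁻¹ * a ∈ Subgroup.normalizer (Q : Set G)) :
    ∃ l ∈ K, A ≤ Subgroup.normalizer ((MulAut.conj l • Q : Subgroup G) : Set G) := by
  have hdisjKA : K ⊓ A = ⊥ := (Subgroup.disjoint_of_coprime_natCard hcop.symm).eq_bot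
  have hHK : K ⊔ A ≤ Subgroup.normalizer (K : Set G) := sup_le Subgroup.le_normalizer hAK
  have hcardH : Nat.card (K ⊔ A : Subgroup G) = Nat.card K * Nat.card A :=
    card_sup_of_le_normalizer hAK hdisjKA
  have hidxH : K.relIndex (K ⊔ A) = Nat.card A := by
    have h1 := card_mul_relIndex (le_sup_left : K ≤ K ⊔ A)
    rw [hcardH] at h1
    exact Nat.eq_of_mul_eq_mul_left Nat.card_pos h1
  set M := Subgroup.normalizer (Q : Set G) ⊓ (K ⊔ A) with hM
  have hMH : M ≤ K ⊔ A := inf_le_right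
  have hMK : M ≤ Subgroup.normalizer (K : Set G) := hMH.trans hHK
  have hfrat : M ⊔ K = K ⊔ A := by
    apply le_antisymm (sup_le hMH le_sup_left)
    apply sup_le le_sup_right
    intro a ha
    obtain ⟨k, hk, hka⟩ := hfr a ha
    have h1 : k⁻¹ * a ∈ M :=
      ⟨hka, Subgroup.mul_mem _ (Subgroup.inv_mem _ (le_sup_left (a := K) hk))
        (le_sup_right (a := K) ha)⟩
    have h3 : a = k * (k⁻¹ * a) := by group
    rw [h3, sup_comm]
    exact Subgroup.mul_mem_sup hk h1
  have hidxM : K.relIndex M = Nat.card A := by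
    rw [← relIndex_sup_of_le_normalizer hMK, hfrat, hidxH]
  have hcopM : (Nat.card (K ⊓ M : Subgroup G)).Coprime (K.relIndex M) := by
    rw [hidxM]
    exact Nat.Coprime.coprime_dvd_left (Subgroup.card_dvd_of_le inf_le_left) hcop.symm
  obtain ⟨B, hBM, hBcard⟩ := exists_complement_rel M K hMK hcopM
  rw [hidxM] at hBcard
  obtain ⟨l, hlK, hl⟩ := sz_conj_rel (K ⊔ A) K A B le_sup_left hHK le_sup_right (hBM.trans hMH)
    hcardH.symm hBcard hcop.symm (hsolv)
  have hA : A = MulAut.conj l⁻¹ • B := by rw [← hl, map_inv, inv_smul_smul]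
  have hBQ : B ≤ Subgroup.normalizer (Q : Set G) := hBM.trans inf_le_left
  refine ⟨l⁻¹, K.inv_mem hlK, ?_⟩
  rw [hA]
  exact conj_smul_le_normalizer hBQ

/-- Glauberman's lemma, conjugacy of fixed points under `C_K(A)`. -/
theorem glauberman_conj [Finite G] (A K Q Q' : Subgroup G)
    (hAK : A ≤ Subgroup.normalizer (K : Set G))
    (hcop : (Nat.card A).Coprime (Nat.card K))
    (hsolv : Group.IsSolvable A ∨ Group.IsSolvable K)
    (hQ : A ≤ Subgroup.normalizer (Q : Set G)) (hQ' : A ≤ Subgroup.normalizer (Q' : Set G))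
    (hconj : ∃ k ∈ K, MulAut.conj k • Q = Q') :
    ∃ c ∈ K, c ∈ Subgroup.centralizer (A : Set G) ∧ MulAut.conj c • Q = Q' := by
  have hdisjKA : K ⊓ A = ⊥ := (Subgroup.disjoint_of_coprime_natCard hcop.symm).eq_bot
  have hHK : K ⊔ A ≤ Subgroup.normalizer (K : Set G) := sup_le Subgroup.le_normalizer hAK
  obtain ⟨k, hkK, hk2⟩ := hconj
  have hA₁Q : MulAut.conj k⁻¹ • A ≤ Subgroup.normalizer (Q : Set G) := by
    have h1 := conj_smul_le_normalizer (g := k⁻¹) hQ'
    have h2 : MulAut.conj k⁻¹ • Q' = Q := by rw [← hk2, map_inv, inv_smul_smul]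
    rwa [h2] at h1
  have hA₁H : MulAut.conj k⁻¹ • A ≤ K ⊔ A :=
    conj_smul_le_of_mem (Subgroup.inv_mem _ (le_sup_left (a := K) hkK)) le_sup_right
  set M := Subgroup.normalizer (Q : Set G) ⊓ (K ⊔ A) with hM
  have hMH : M ≤ K ⊔ A := inf_le_right
  have hAM : A ≤ M := le_inf hQ le_sup_right
  have hA₁M : MulAut.conj k⁻¹ • A ≤ M := le_inf hA₁Q hA₁H
  have hML : M ≤ Subgroup.normalizer ((K ⊓ M : Subgroup G) : Set G) :=
    le_normalizer_inf (hMH.trans hHK) Subgroup.le_normalizer
  have hcopL : (Nat.card (K ⊓ M : Subgroup G)).Coprime (Nat.card A) :=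
    Nat.Coprime.coprime_dvd_left (Subgroup.card_dvd_of_le inf_le_left) hcop.symm
  have hsolv' : Group.IsSolvable A ∨ Group.IsSolvable (K ⊓ M : Subgroup G) :=
    hsolv.imp id (isSolvable_of_le inf_le_left)
  obtain ⟨l, hlL, hl⟩ := sz_conj_rel M (K ⊓ M) A (MulAut.conj k⁻¹ • A) inf_le_right hML hAM
    hA₁M (card_inf_mul_card hAK hdisjKA hAM hMH) (card_conj_smul _ _) hcopL hsolv'
  have hlK : l ∈ K := hlL.1
  have hlQ : l ∈ Subgroup.normalizer (Q : Set G) := hlL.2.1
  have hcA : k * l ∈ Subgroup.centralizer (A : Set G) := by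
    apply inf_normalizer_le_centralizer hAK hdisjKA
    refine ⟨K.mul_mem hkK hlK, ?_⟩
    change k * l ∈ Subgroup.normalizer (A : Set G)
    rw [mem_normalizer_iff_conj_smul, map_mul, mul_smul, hl, map_inv, smul_inv_smul]
  refine ⟨k * l, K.mul_mem hkK hlK, hcA, ?_⟩
  rw [map_mul, mul_smul, mem_normalizer_iff_conj_smul.mp hlQ, hk2]

end Cfsg.Agent.Lib.Helper54
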