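/-
`p`-constraint from the centralizer of a suitable element of order `p` (helper54).
-/
import Cfsg.Agent.Lib.Helper54.PLocal

set_option autoImplicit false

namespace Cfsg.Agent.Lib.Helper54

open Cfsg Pointwise
open scoped commutatorElement

variable {G : Type*} [Group G]

theorem commutator_mem_iff_commute_mk {K : Subgroup G} [K.Normal] (a b : G) :
    ⁅a, b⁆ ∈ K ↔ Commute (QuotientGroup.mk' K a) (QuotientGroup.mk' K b) := by
  rw [← commutatorElement_eq_one_iff_commute, ← map_commutatorElement, QuotientGroup.mk'_apply,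
    QuotientGroup.eq_one_iff]

theorem commutator_mem_comm {K : Subgroup G} (a b : G) : ⁅a, b⁆ ∈ K ↔ ⁅b, a⁆ ∈ K := by
  rw [← commutatorElement_inv b a, Subgroup.inv_mem_iff]

theorem pow_mem_of_mul_left {K : Subgroup G} [K.Normal] {k u : G} (hk : k ∈ K) (n : ℕ) :
    (k * u) ^ n ∈ K ↔ u ^ n ∈ K := by
  rw [← QuotientGroup.eq_one_iff, ← QuotientGroup.eq_one_iff (N := K),
    ← QuotientGroup.mk'_apply, ← QuotientGroup.mk'_apply, map_pow, map_pow, map_mul]
  have : QuotientGroup.mk' K k = 1 := by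
    rw [QuotientGroup.mk'_apply, QuotientGroup.eq_one_iff]; exact hk
  rw [this, one_mul]

theorem mem_normalizer_sup {A B : Subgroup G} {g : G}
    (hA : g ∈ Subgroup.normalizer (A : Set G)) (hB : g ∈ Subgroup.normalizer (B : Set G)) :
    g ∈ Subgroup.normalizer ((A ⊔ B : Subgroup G) : Set G) := by
  rw [mem_normalizer_iff_conj_smul] at hA hB ⊢
  rw [Subgroup.smul_sup, hA, hB]

theorem le_normalizer_sup {A B H : Subgroup G}
    (hA : H ≤ Subgroup.normalizer (A : Set G)) (hB : H ≤ Subgroup.normalizer (B : Set G)) :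
    H ≤ Subgroup.normalizer ((A ⊔ B : Subgroup G) : Set G) :=
  fun _ hg => mem_normalizer_sup (hA hg) (hB hg)

/-- General form of `mem_pPrimeCore_of_centralizes`, with `T` only a `p`-group modulo `K`
and all centralizing conditions taken modulo `K`. -/
theorem mem_pPrimeCore_of_centralizes_mod [Finite G] (p : ℕ) [Fact p.Prime]
    (hG : IsPConstrained p G) (T : Subgroup G)
    (hT : ∀ t ∈ T, ∃ n : ℕ, t ^ p ^ n ∈ pPrimeCore p G) {c : G}
    (hc : (orderOf c).Coprime p) (hcT : ∀ t ∈ T, ⁅c, t⁆ ∈ pPrimeCore p G)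
    (h : ∀ y ∈ pPrimePCore p G, (∀ t ∈ T, ⁅y, t⁆ ∈ pPrimeCore p G) → ⁅c, y⁆ ∈ pPrimeCore p G) :
    c ∈ pPrimeCore p G := by
  have hPbar : IsPGroup p (T.map (QuotientGroup.mk' (pPrimeCore p G))) := by
    rintro ⟨_, t, ht, rfl⟩
    obtain ⟨n, hn⟩ := hT t ht
    refine ⟨n, Subtype.ext ?_⟩
    simp only [Subgroup.coe_pow, Subgroup.coe_one]
    rw [← map_pow, QuotientGroup.mk'_apply, QuotientGroup.eq_one_iff]
    exact hn
  have hQbar : (Nat.card ((Subgroup.zpowers c).map (QuotientGroup.mk' (pPrimeCore p G)))).Coprime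
      p := by
    have h1 := Subgroup.card_map_dvd (Subgroup.zpowers c) (QuotientGroup.mk' (pPrimeCore p G))
    rw [Nat.card_zpowers] at h1
    exact Nat.Coprime.coprime_dvd_left h1 hc
  have hU : IsPGroup p (pCore p (G ⧸ pPrimeCore p G)) :=
    Cfsg.Agent.Lib.Helper76.pCore_isPGroup p
  have hPQ : T.map (QuotientGroup.mk' (pPrimeCore p G)) ≤ Subgroup.centralizer
      (((Subgroup.zpowers c).map (QuotientGroup.mk' (pPrimeCore p G)) :
        Subgroup (G ⧸ pPrimeCore p G)) : Set (G ⧸ pPrimeCore p G)) := by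
    rintro _ ⟨t, ht, rfl⟩
    rw [Subgroup.mem_centralizer_iff]
    rintro _ ⟨q, hq, rfl⟩
    obtain ⟨k, rfl⟩ := Subgroup.mem_zpowers_iff.mp hq
    rw [map_zpow]
    exact (((commutator_mem_iff_commute_mk c t).mp (hcT t ht)).zpow_left k).eq
  have hnU : Subgroup.normalizer ((pCore p (G ⧸ pPrimeCore p G) : Subgroup (G ⧸ pPrimeCore p G)) :
      Set (G ⧸ pPrimeCore p G)) = ⊤ := Subgroup.normalizer_eq_top _
  have hC : pCore p (G ⧸ pPrimeCore p G) ⊓ Subgroup.centralizer
      ((T.map (QuotientGroup.mk' (pPrimeCore p G)) : Subgroup (G ⧸ pPrimeCore p G)) :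
        Set (G ⧸ pPrimeCore p G)) ≤ Subgroup.centralizer
      (((Subgroup.zpowers c).map (QuotientGroup.mk' (pPrimeCore p G)) :
        Subgroup (G ⧸ pPrimeCore p G)) : Set (G ⧸ pPrimeCore p G)) := by
    rintro ybar ⟨hyU, hyP⟩
    obtain ⟨y, rfl⟩ := QuotientGroup.mk'_surjective (pPrimeCore p G) ybar
    have hyR : y ∈ pPrimePCore p G := (mem_pPrimePCore_iff p y).mpr hyU
    have hyT : ∀ t ∈ T, ⁅y, t⁆ ∈ pPrimeCore p G := by
      intro t ht
      rw [commutator_mem_iff_commute_mk]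
      exact ((Subgroup.mem_centralizer_iff.mp hyP) _ (Subgroup.mem_map_of_mem _ ht)).symm
    have h2 := (commutator_mem_iff_commute_mk c y).mp (h y hyR hyT)
    rw [Subgroup.mem_centralizer_iff]
    rintro _ ⟨q, hq, rfl⟩
    obtain ⟨k, rfl⟩ := Subgroup.mem_zpowers_iff.mp hq
    rw [map_zpow]
    exact (h2.zpow_left k).eq
  have hmain := Cfsg.Agent.S0028.result p _ _ _ hPbar hQbar hU hPQ
    (by rw [hnU]; exact le_top) (by rw [hnU]; exact le_top) hC
  have hcR : c ∈ cR p G :=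
    hmain (Subgroup.mem_map_of_mem _ (Subgroup.mem_zpowers c))
  exact mem_pPrimeCore_of_coprime p ((isPConstrained_iff_cR_le p).mp hG hcR) hc

/-- Relative form of `mem_pPrimeCore_of_centralizes_mod`. -/
theorem mem_relK_of_centralizes [Finite G] (p : ℕ) [Fact p.Prime] {H : Subgroup G}
    (hH : IsPConstrained p ↥H) (T : Subgroup G)
    (hT : ∀ t ∈ T, t ∈ H → ∃ n : ℕ, t ^ p ^ n ∈ relK p H) {c : G} (hcH : c ∈ H)
    (hc : (orderOf c).Coprime p) (hcT : ∀ t ∈ T, t ∈ H → ⁅c, t⁆ ∈ relK p H)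
    (h : ∀ y ∈ relR p H, (∀ t ∈ T, t ∈ H → ⁅y, t⁆ ∈ relK p H) → ⁅c, y⁆ ∈ relK p H) :
    c ∈ relK p H := by
  have key := mem_pPrimeCore_of_centralizes_mod p hH (T.subgroupOf H) (c := ⟨c, hcH⟩) ?_ ?_ ?_ ?_
  · exact (coe_mem_relK_iff p H ⟨c, hcH⟩).mpr key
  · intro t ht
    obtain ⟨n, hn⟩ := hT (t : G) (Subgroup.mem_subgroupOf.mp ht) t.2
    refine ⟨n, ?_⟩
    rw [← coe_mem_relK_iff]
    simpa using hn
  · rwa [← Subgroup.orderOf_coe]
  · intro t ht
    rw [← coe_mem_relK_iff]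
    have := hcT (t : G) (Subgroup.mem_subgroupOf.mp ht) t.2
    simpa [commutatorElement_def] using this
  · intro y hy hyT
    rw [← coe_mem_relK_iff]
    have := h (y : G) ((coe_mem_relR_iff p H y).mpr hy) (by
      intro t ht htH
      have h1 := hyT ⟨t, htH⟩ (Subgroup.mem_subgroupOf.mpr ht)
      have h2 := (coe_mem_relK_iff p H _).mpr h1
      simpa [commutatorElement_def] using h2)
    simpa [commutatorElement_def] using this

/-- A normal `p'`-subgroup of a normal subgroup `D` of `G` lies in `O_{p'}(G)`. -/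
theorem le_pPrimeCore_of_normal_of_normal [Finite G] (p : ℕ) (D : Subgroup G) [D.Normal]
    {V : Subgroup G} (hVD : V ≤ D) (hDV : D ≤ Subgroup.normalizer (V : Set G))
    (hV : (Nat.card V).Coprime p) : V ≤ pPrimeCore p G := by
  refine (le_relK p hVD hDV hV).trans ?_
  have hn : (relK p D).Normal := by
    unfold relK
    exact ConjAct.normal_of_characteristic_of_normal
  exact Cfsg.Agent.Lib.Helper76.le_pPrimeCore p _ hn (card_relK_coprime p D)

/-- A normal subgroup of a normal subgroup `D` of `G` which is a `p`-group modulo `O_{p'}(G)`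
lies in `O_{p',p}(G)`. -/
theorem le_pPrimePCore_of_normal_of_normal [Finite G] (p : ℕ) [Fact p.Prime] (D : Subgroup G)
    [D.Normal] {V : Subgroup G} (hVD : V ≤ D) (hDV : D ≤ Subgroup.normalizer (V : Set G))
    (hV : ∀ v ∈ V, ∃ n : ℕ, v ^ p ^ n ∈ pPrimeCore p G) : V ≤ pPrimePCore p G := by
  have hDn : (D.map (QuotientGroup.mk' (pPrimeCore p G))).Normal :=
    Subgroup.Normal.map inferInstance _ (QuotientGroup.mk'_surjective _)
  have hVD' : V.map (QuotientGroup.mk' (pPrimeCore p G)) ≤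
      D.map (QuotientGroup.mk' (pPrimeCore p G)) := Subgroup.map_mono hVD
  have hDV' : D.map (QuotientGroup.mk' (pPrimeCore p G)) ≤ Subgroup.normalizer
      ((V.map (QuotientGroup.mk' (pPrimeCore p G)) : Subgroup (G ⧸ pPrimeCore p G)) :
        Set (G ⧸ pPrimeCore p G)) :=
    (Subgroup.map_mono hDV).trans (Subgroup.le_normalizer_map _)
  have hVp : IsPGroup p (V.map (QuotientGroup.mk' (pPrimeCore p G))) := by
    rintro ⟨_, v, hv, rfl⟩
    obtain ⟨n, hn⟩ := hV v hv
    refine ⟨n, Subtype.ext ?_⟩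
    simp only [Subgroup.coe_pow, Subgroup.coe_one]
    rw [← map_pow, QuotientGroup.mk'_apply, QuotientGroup.eq_one_iff]
    exact hn
  have hn : ((V.map (QuotientGroup.mk' (pPrimeCore p G))).subgroupOf
      (D.map (QuotientGroup.mk' (pPrimeCore p G)))).Normal :=
    Subgroup.normal_subgroupOf_of_le_normalizer hDV'
  have hp : IsPGroup p ((V.map (QuotientGroup.mk' (pPrimeCore p G))).subgroupOf
      (D.map (QuotientGroup.mk' (pPrimeCore p G)))) :=
    hVp.comap_of_injective _ (Subgroup.subtype_injective _)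
  have h1 := Cfsg.Agent.Lib.Helper76.le_pCore p _ hn hp
  have h2 := Subgroup.map_mono (f := (D.map (QuotientGroup.mk' (pPrimeCore p G))).subtype) h1
  rw [Subgroup.map_subgroupOf_eq_of_le hVD'] at h2
  have h3 := h2.trans (Cfsg.Agent.Lib.Helper97.map_pCore_le_of_normal p
    (D.map (QuotientGroup.mk' (pPrimeCore p G))))
  intro v hv
  exact (mem_pPrimePCore_iff p v).mpr (h3 (Subgroup.mem_map_of_mem _ hv))


/-- `p`-constraint of `G` from `p`-constraint of `C_G(x)`, for `x` of order `p` in `R` which is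
central in `R` modulo `K`. -/
theorem isPConstrained_of_centralizer [Finite G] (p : ℕ) [Fact p.Prime] (x : G)
    (hx : orderOf x = p) (hxR : x ∈ pPrimePCore p G)
    (hxc : ∀ y ∈ pPrimePCore p G, ⁅x, y⁆ ∈ pPrimeCore p G)
    (hC : IsPConstrained p ↥(Subgroup.centralizer ({x} : Set G))) : IsPConstrained p G := by
  have hKn : (pPrimeCore p G).Normal := Cfsg.pPrimeCore_normal p G
  have hRn : (pPrimePCore p G).Normal := pPrimePCore_normal_h54 p
  have hKR : pPrimeCore p G ≤ pPrimePCore p G := pPrimeCore_le_pPrimePCore p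
  -- (1) lifting
  have hxp : IsPGroup p (Subgroup.zpowers x) := by
    apply IsPGroup.of_card (n := 1)
    rw [Nat.card_zpowers, hx, pow_one]
  have lift : ∀ y : G, ⁅y, x⁆ ∈ pPrimeCore p G →
      ∃ l ∈ pPrimeCore p G, l⁻¹ * y ∈ Subgroup.centralizer ({x} : Set G) := by
    intro y hy
    have hy' : ∀ t ∈ Subgroup.zpowers x, ⁅y, t⁆ ∈ pPrimeCore p G := by
      intro t ht
      obtain ⟨k, rfl⟩ := Subgroup.mem_zpowers_iff.mp ht
      rw [commutator_mem_iff_commute_mk, map_zpow]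
      exact ((commutator_mem_iff_commute_mk y x).mp hy).zpow_right k
    obtain ⟨l, hl, hly⟩ := exists_mul_mem_centralizer (card_pPrimeCore_coprime p) hxp
      (by rw [Subgroup.normalizer_eq_top]; exact le_top) hy'
    refine ⟨l, hl, ?_⟩
    rw [Subgroup.mem_centralizer_iff]
    intro h hh
    rw [Set.mem_singleton_iff] at hh
    subst hh
    exact (Subgroup.mem_centralizer_iff.mp hly) h (Subgroup.mem_zpowers h)
  have liftR : ∀ y ∈ pPrimePCore p G,
      ∃ l ∈ pPrimeCore p G, l⁻¹ * y ∈ Subgroup.centralizer ({x} : Set G) :=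
    fun y hy => lift y ((commutator_mem_comm x y).mp (hxc y hy))
  have liftD : ∀ d ∈ cR p G,
      ∃ l ∈ pPrimeCore p G, l⁻¹ * d ∈ Subgroup.centralizer ({x} : Set G) :=
    fun d hd => lift d ((mem_cR_iff p d).mp hd x hxR)
  have hKD : pPrimeCore p G ≤ cR p G := by
    intro k hk
    rw [mem_cR_iff]
    intro y _
    have e : ⁅k, y⁆ = k * (y * k⁻¹ * y⁻¹) := by rw [commutatorElement_def]; group
    rw [e]
    exact Subgroup.mul_mem _ hk (hKn.conj_mem _ (Subgroup.inv_mem _ hk) y)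
  have hDn : Subgroup.normalizer ((cR p G : Subgroup G) : Set G) = ⊤ :=
    Subgroup.normalizer_eq_top _
  -- a commutator `[w, y]` with `w` in a subgroup `V` normalized by `y` lies in `V`
  have comm_mem : ∀ (V : Subgroup G) (w y : G), w ∈ V →
      y ∈ Subgroup.normalizer (V : Set G) → ⁅w, y⁆ ∈ V := by
    intro V w y hw hy
    have e : ⁅w, y⁆ = w * (y * w⁻¹ * y⁻¹) := by rw [commutatorElement_def]; group
    rw [e]
    exact Subgroup.mul_mem _ hw ((Subgroup.mem_normalizer_iff.mp hy w⁻¹).mp (Subgroup.inv_mem _ hw))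
  have comm_mem' : ∀ (V : Subgroup G) (w y : G), y ∈ V →
      w ∈ Subgroup.normalizer (V : Set G) → ⁅w, y⁆ ∈ V := by
    intro V w y hy hw
    rw [commutatorElement_def]
    exact Subgroup.mul_mem _ ((Subgroup.mem_normalizer_iff.mp hw y).mp hy) (Subgroup.inv_mem _ hy)
  have hRtop : ∀ g : G, g ∈ Subgroup.normalizer ((pPrimePCore p G : Subgroup G) : Set G) := by
    intro g; rw [Subgroup.normalizer_eq_top]; trivial
  -- (2) `O_{p'}(C) ≤ D`
  have hKCD : relK p (Subgroup.centralizer ({x} : Set G)) ≤ cR p G := by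
    intro w hw
    rw [mem_cR_iff]
    intro y hy
    obtain ⟨l, hl, hly⟩ := liftR y hy
    have e : y = l * (l⁻¹ * y) := by group
    rw [e, commutator_mem_of_mul_right hl]
    have hy'R : l⁻¹ * y ∈ pPrimePCore p G :=
      Subgroup.mul_mem _ (hKR (Subgroup.inv_mem _ hl)) hy
    have h1 : ⁅w, l⁻¹ * y⁆ ∈ relK p (Subgroup.centralizer ({x} : Set G)) :=
      comm_mem _ w _ hw (le_normalizer_relK p _ hly)
    have h2 : ⁅w, l⁻¹ * y⁆ ∈ pPrimePCore p G := comm_mem' _ w _ hy'R (hRtop w)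
    exact mem_pPrimeCore_of_coprime p h2 (orderOf_coprime_of_mem (card_relK_coprime p _) h1)
  -- `D` normalizes `K ⊔ V` whenever `C ∩ D` normalizes `V`
  have hDnorm : ∀ V : Subgroup G,
      Subgroup.centralizer ({x} : Set G) ⊓ cR p G ≤ Subgroup.normalizer (V : Set G) →
      cR p G ≤ Subgroup.normalizer ((pPrimeCore p G ⊔ V : Subgroup G) : Set G) := by
    intro V hV d hd
    obtain ⟨l, hl, hld⟩ := liftD d hd
    have e : d = l * (l⁻¹ * d) := by group
    rw [e]
    apply Subgroup.mul_mem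
    · exact Subgroup.le_normalizer (Subgroup.mem_sup_left hl)
    · apply mem_normalizer_sup
      · rw [Subgroup.normalizer_eq_top]; trivial
      · exact hV ⟨hld, Subgroup.mul_mem _ (Subgroup.inv_mem _ (hKD hl)) hd⟩
  -- (3) `O_{p'}(C) ≤ K`
  have hKCK : relK p (Subgroup.centralizer ({x} : Set G)) ≤ pPrimeCore p G := by
    refine le_trans le_sup_right (le_pPrimeCore_of_normal_of_normal p (cR p G)
      (V := pPrimeCore p G ⊔ relK p (Subgroup.centralizer ({x} : Set G)))
      (sup_le hKD hKCD) (hDnorm _ (inf_le_left.trans (le_normalizer_relK p _))) ?_)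
    have h1 := Cfsg.Agent.Lib.Helper76.card_sup_dvd_of_normal
      (relK p (Subgroup.centralizer ({x} : Set G))) (pPrimeCore p G)
    rw [sup_comm] at h1
    exact Nat.Coprime.coprime_dvd_left h1
      (Nat.Coprime.mul_left (card_relK_coprime p _) (card_pPrimeCore_coprime p))
  -- (5a) `O_{p',p}(C) ∩ D ≤ R`
  have hRCD : relR p (Subgroup.centralizer ({x} : Set G)) ⊓ cR p G ≤ pPrimePCore p G := by
    refine le_trans le_sup_right (le_pPrimePCore_of_normal_of_normal p (cR p G)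
      (V := pPrimeCore p G ⊔ (relR p (Subgroup.centralizer ({x} : Set G)) ⊓ cR p G))
      (sup_le hKD inf_le_right) (hDnorm _ ?_) ?_)
    · apply le_normalizer_inf (inf_le_left.trans (le_normalizer_relR p _))
      rw [hDn]; exact le_top
    · intro v hv
      obtain ⟨k, hk, u, hu, rfl⟩ := Subgroup.mem_sup_of_normal_left.mp hv
      obtain ⟨n, hn⟩ := exists_pow_mem_relK p hu.1
      exact ⟨n, (pow_mem_of_mul_left hk _).mpr (hKCK hn)⟩
  -- main argument
  apply isPConstrained_of_forall_coprime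
  intro c hcop hcy
  have hcD : c ∈ cR p G := (mem_cR_iff p c).mpr hcy
  obtain ⟨l, hl, hlc⟩ := liftD c hcD
  have hc'D : l⁻¹ * c ∈ cR p G := Subgroup.mul_mem _ (Subgroup.inv_mem _ (hKD hl)) hcD
  obtain ⟨e, he⟩ := exists_pow_orderOf_coprime p (l⁻¹ * c)
  have hc''D : (l⁻¹ * c) ^ p ^ e ∈ cR p G := Subgroup.pow_mem _ hc'D _
  have hc''C : (l⁻¹ * c) ^ p ^ e ∈ Subgroup.centralizer ({x} : Set G) := Subgroup.pow_mem _ hlc _
  suffices hsuff : (l⁻¹ * c) ^ p ^ e ∈ pPrimeCore p G by
    have h1 : c ^ p ^ e ∈ pPrimeCore p G :=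
      (pow_mem_of_mul_left (Subgroup.inv_mem _ hl) _).mp hsuff
    exact mem_of_pow_mem_of_coprime h1 (Nat.Coprime.pow_right e hcop)
  apply hKCK
  apply mem_relK_of_centralizes p hC (pPrimePCore p G) _ hc''C he
  · intro t htR htC
    exact pPrimeCore_inf_le_relK p _
      ⟨(mem_cR_iff p _).mp hc''D t htR, comm_mem' _ _ _ htC (Subgroup.le_normalizer hc''C)⟩
  · intro y hy hyT
    have hyC : y ∈ Subgroup.centralizer ({x} : Set G) := relR_le p _ hy
    have hyD : y ∈ cR p G := by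
      rw [mem_cR_iff]
      intro r hr
      obtain ⟨l', hl', hlr⟩ := liftR r hr
      have e' : r = l' * (l'⁻¹ * r) := by group
      rw [e', commutator_mem_of_mul_right hl']
      exact hKCK (hyT _ (Subgroup.mul_mem _ (hKR (Subgroup.inv_mem _ hl')) hr) hlr)
    have hyR : y ∈ pPrimePCore p G := hRCD ⟨hy, hyD⟩
    exact pPrimeCore_inf_le_relK p _
      ⟨(mem_cR_iff p _).mp hc''D y hyR, comm_mem' _ _ _ hyC (Subgroup.le_normalizer hc''C)⟩
  · intro t htR htC
    obtain ⟨n, hn⟩ := exists_pow_mem_pPrimeCore p htR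
    exact ⟨n, pPrimeCore_inf_le_relK p _ ⟨hn, Subgroup.pow_mem _ htC _⟩⟩

end Cfsg.Agent.Lib.Helper54
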