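import Cfsg.Agent.Lib.Helper54.BGTransitivity
import Cfsg.Agent.Lib.Helper54.Glauberman

/-!
# Transitivity under the transitivity hypothesis: passing to a normal overgroup

Bender–Glauberman 7.4/7.5, normal step: if `B` satisfies the transitivity hypothesis, `K_B` is
transitive on the maximal `B`-invariant `q`-subgroups, and `B ⊴ C` with `C` a proper `π(B)`-group, then
the same holds for `C`, with `K_C = C_{K_B}(C)`, and maximal `C`-invariant `q`-subgroups are maximal
`B`-invariant.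
-/

set_option autoImplicit false

namespace Cfsg.Agent.Lib.Helper54

open scoped commutatorElement Pointwise
open Cfsg

variable {G : Type*} [Group G]

theorem primesNotDvd_eq {m n : ℕ} (h : ∀ r : ℕ, r.Prime → (r ∣ m ↔ r ∣ n)) :
    primesNotDvd m = primesNotDvd n := by
  ext r
  constructor
  · rintro ⟨hr, hnd⟩
    exact ⟨hr, fun hd => hnd ((h r hr).mpr hd)⟩
  · rintro ⟨hr, hnd⟩
    exact ⟨hr, fun hd => hnd ((h r hr).mp hd)⟩

theorem dvd_iff_of_primesNotDvd_eq {m n : ℕ} (h : primesNotDvd m = primesNotDvd n) {r : ℕ}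
    (hr : r.Prime) : r ∣ m ↔ r ∣ n := by
  have h1 : r ∈ primesNotDvd m ↔ r ∈ primesNotDvd n := by rw [h]
  constructor
  · intro hd
    by_contra hnd
    exact (h1.mpr ⟨hr, hnd⟩).2 hd
  · intro hd
    by_contra hnd
    exact (h1.mp ⟨hr, hnd⟩).2 hd

section Conj

variable [Finite G] (E : Subgroup G) (q : ℕ)

theorem conj_mem_invSubgroups' [Fact q.Prime] {c : G} (hc : c ∈ Subgroup.normalizer (E : Set G))
    {Y : Subgroup G} (hY : Y ∈ invSubgroups ⊤ E {q}) :
    MulAut.conj c • Y ∈ invSubgroups ⊤ E {q} := by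
  rw [mem_invSubgroups_iff] at hY ⊢
  refine ⟨hY.1.map _, ?_⟩
  have h1 : MulAut.conj c • E = E := mem_normalizer_iff_conj_smul.mp hc
  have h2 := conj_smul_le_normalizer (g := c) hY.2
  rwa [h1] at h2

theorem conj_mem_maxInvSubgroups' [Fact q.Prime] {c : G}
    (hc : c ∈ Subgroup.normalizer (E : Set G))
    {M : Subgroup G} (hM : M ∈ maxInvSubgroups ⊤ E {q}) :
    MulAut.conj c • M ∈ maxInvSubgroups ⊤ E {q} := by
  refine ⟨conj_mem_invSubgroups' E q hc hM.1, ?_⟩
  intro R hR hMR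
  have hc' : c⁻¹ ∈ Subgroup.normalizer (E : Set G) := Subgroup.inv_mem _ hc
  have h1 : MulAut.conj c⁻¹ • R ∈ invSubgroups ⊤ E {q} := conj_mem_invSubgroups' E q hc' hR
  have h2 : M ≤ MulAut.conj c⁻¹ • R := by
    intro x hx
    rw [mem_conj_smul_iff, inv_inv]
    exact hMR (conj_mem_conj_smul hx)
  have h3 := hM.2 _ h1 h2
  rw [← h3, smul_smul, ← map_mul, mul_inv_cancel, map_one, one_smul]

end Conj

/-- An element normalizing `B` normalizes `C_G(B)`. -/
theorem normalizer_le_normalizer_centralizer (B : Subgroup G) :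
    Subgroup.normalizer (B : Set G) ≤
      Subgroup.normalizer ((Subgroup.centralizer (B : Set G) : Subgroup G) : Set G) := by
  intro x hx
  have key : ∀ y : G, y ∈ Subgroup.normalizer (B : Set G) → ∀ g ∈ Subgroup.centralizer (B : Set G),
      y * g * y⁻¹ ∈ Subgroup.centralizer (B : Set G) := by
    intro y hy g hg
    rw [Subgroup.mem_centralizer_iff]
    intro b hb
    have hb' : y⁻¹ * b * y ∈ B := by
      have := (Subgroup.mem_normalizer_iff.mp (Subgroup.inv_mem _ hy) b).mp hb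
      simpa using this
    have h1 := Subgroup.mem_centralizer_iff.mp hg _ hb'
    calc b * (y * g * y⁻¹) = y * ((y⁻¹ * b * y) * g) * y⁻¹ := by group
      _ = y * (g * (y⁻¹ * b * y)) * y⁻¹ := by rw [h1]
      _ = y * g * y⁻¹ * b := by group
  rw [Subgroup.mem_normalizer_iff]
  intro g
  constructor
  · exact key x hx g
  · intro h
    have := key x⁻¹ (Subgroup.inv_mem _ hx) _ h
    have h2 : x⁻¹ * (x * g * x⁻¹) * x⁻¹⁻¹ = g := by group
    rwa [h2] at this

/-- `N_G(B)` normalizes `O_π(C_G(B))`. -/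
theorem normalizer_le_normalizer_piCoreOf_centralizer [Finite G] (π : Set ℕ) (B : Subgroup G) :
    Subgroup.normalizer (B : Set G) ≤
      Subgroup.normalizer ((piCoreOf π (Subgroup.centralizer (B : Set G)) : Subgroup G) : Set G) := by
  intro x hx
  set Cb : Subgroup G := Subgroup.centralizer (B : Set G) with hCb
  set K : Subgroup G := piCoreOf π Cb with hK
  have hxC : MulAut.conj x • Cb = Cb :=
    mem_normalizer_iff_conj_smul.mp (normalizer_le_normalizer_centralizer B hx)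
  have h1 : MulAut.conj x • K ≤ K := by
    apply le_piCoreOf π
    · have := conj_smul_le_conj_smul (g := x) (piCoreOf_le π Cb)
      rwa [hxC] at this
    · have := conj_smul_le_normalizer (g := x) (le_normalizer_piCoreOf π Cb)
      rwa [hxC] at this
    · rw [card_conj_smul]
      exact piCoreOf_isPi π Cb
  rw [mem_normalizer_iff_conj_smul]
  exact Subgroup.eq_of_le_of_card_ge h1 (by rw [card_conj_smul])

section Step

variable [Finite G]

/-- The normal step. -/
theorem bg_normal_step (hs : IsSimpleGroup G) (hsolv : ∀ H : Subgroup G, H ≠ ⊤ → Group.IsSolvable H)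
    (q : ℕ) [Fact q.Prime] (B C : Subgroup G) (hqB : ¬ q ∣ Nat.card B)
    (hB : TransitivityHypothesis B)
    (htrB : ∀ Q₁ ∈ maxInvSubgroups ⊤ B {q}, ∀ Q₂ ∈ maxInvSubgroups ⊤ B {q},
      ∃ k ∈ piCoreOf (primesNotDvd (Nat.card B)) (Subgroup.centralizer (B : Set G)),
        Q₂ = MulAut.conj k • Q₁)
    (hBC : B ≤ C) (hCN : C ≤ Subgroup.normalizer (B : Set G)) (hC : C ≠ ⊤)
    (hπ : ∀ r : ℕ, r.Prime → r ∣ Nat.card C → r ∣ Nat.card B) :
    TransitivityHypothesis C ∧
      primesNotDvd (Nat.card C) = primesNotDvd (Nat.card B) ∧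
      maxInvSubgroups ⊤ C {q} ⊆ maxInvSubgroups ⊤ B {q} ∧
      piCoreOf (primesNotDvd (Nat.card B)) (Subgroup.centralizer (B : Set G)) ⊓
        Subgroup.centralizer (C : Set G) =
        piCoreOf (primesNotDvd (Nat.card B)) (Subgroup.centralizer (C : Set G)) ∧
      (∀ Q₁ ∈ maxInvSubgroups ⊤ C {q}, ∀ Q₂ ∈ maxInvSubgroups ⊤ C {q},
        ∃ k ∈ piCoreOf (primesNotDvd (Nat.card B)) (Subgroup.centralizer (C : Set G)),
          Q₂ = MulAut.conj k • Q₁) := by
  have hq : q.Prime := Fact.out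
  set π' : Set ℕ := primesNotDvd (Nat.card B) with hπ'
  have hπeq : primesNotDvd (Nat.card C) = π' := by
    apply primesNotDvd_eq
    intro r hr
    exact ⟨hπ r hr, fun h => h.trans (Subgroup.card_dvd_of_le hBC)⟩
  have hqπ : q ∈ π' := ⟨hq, hqB⟩
  have hCcop : ∀ {V : Subgroup G}, (∀ r : ℕ, r.Prime → r ∣ Nat.card V → r ∈ π') →
      (Nat.card C).Coprime (Nat.card V) := by
    intro V hV
    apply Nat.coprime_of_dvd
    intro r hr hrC hrV
    exact (hV r hr hrV).2 (hπ r hr hrC)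
  have hqpi : ∀ {Y : Subgroup G}, IsPGroup q Y → ∀ r : ℕ, r.Prime → r ∣ Nat.card Y → r ∈ π' := by
    intro Y hY r hr hrd
    obtain ⟨k, hk⟩ := hY.exists_card_eq
    rw [hk] at hrd
    have : r = q := (Nat.prime_dvd_prime_iff_eq hr hq).mp (hr.dvd_of_dvd_pow hrd)
    rw [this]; exact hqπ
  have hqcopB : ∀ {Y : Subgroup G}, IsPGroup q Y → (Nat.card Y).Coprime (Nat.card B) :=
    fun hY => coprime_of_primesNotDvd (hqpi hY)
  have hCsolv : Group.IsSolvable C := hsolv C hC
  -- Step 1: the transitivity hypothesis for `C`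
  have hTHC : TransitivityHypothesis C := by
    refine ⟨fun h => hB.1 (le_bot_iff.mp (h ▸ hBC)), hC, ?_⟩
    intro X hX hCX
    rw [hπeq]
    apply le_antisymm
    · apply sSup_le
      rintro Y ⟨hYX, hYπ, hCY⟩
      rw [← hB.2.2 X hX (hBC.trans hCX)]
      exact le_sSup ⟨hYX, hYπ, hBC.trans hCY⟩
    · exact le_sSup ⟨piCoreOf_le _ X, piCoreOf_isPi _ X, hCX.trans (le_normalizer_piCoreOf _ X)⟩
  set KB : Subgroup G := piCoreOf π' (Subgroup.centralizer (B : Set G)) with hKB
  set KC : Subgroup G := piCoreOf π' (Subgroup.centralizer (C : Set G)) with hKC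
  have hCKB : C ≤ Subgroup.normalizer (KB : Set G) :=
    hCN.trans (normalizer_le_normalizer_piCoreOf_centralizer π' B)
  have hcopCKB : (Nat.card C).Coprime (Nat.card KB) := hCcop (piCoreOf_isPi _ _)
  have hsolvCKB : Group.IsSolvable C ∨ Group.IsSolvable KB := Or.inl hCsolv
  -- Step 3: maximal `C`-invariant `q`-subgroups are maximal `B`-invariant
  have hsub : maxInvSubgroups ⊤ C {q} ⊆ maxInvSubgroups ⊤ B {q} := by
    intro Q hQ
    obtain ⟨hQq, hCQ⟩ := (mem_invSubgroups_iff C q).mp hQ.1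
    have hBQ : B ≤ Subgroup.normalizer (Q : Set G) := hBC.trans hCQ
    have hQinvB : Q ∈ invSubgroups ⊤ B {q} := (mem_invSubgroups_iff B q).mpr ⟨hQq, hBQ⟩
    obtain ⟨Q₁, hQ₁, hQQ₁⟩ := exists_maxInv_ge B q hQinvB
    obtain ⟨hQ₁q, hBQ₁⟩ := (mem_invSubgroups_iff B q).mp hQ₁.1
    suffices h : Q = Q₁ by rw [h]; exact hQ₁
    by_cases hQbot : Q = ⊥
    · -- Glauberman: some `K_B`-conjugate of `Q₁` is `C`-invariant
      obtain ⟨l, hl, hCl⟩ := glauberman_fixed C KB Q₁ hCKB hcopCKB hsolvCKB (by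
        intro x hx
        have h1 := conj_mem_maxInvSubgroups' B q (hCN hx) hQ₁
        obtain ⟨k, hk, hkx⟩ := htrB Q₁ hQ₁ _ h1
        refine ⟨k, hk, ?_⟩
        rw [mem_normalizer_iff_conj_smul, map_mul, mul_smul, hkx, map_inv, inv_smul_smul])
      have h2 : MulAut.conj l • Q₁ ∈ invSubgroups ⊤ C {q} :=
        (mem_invSubgroups_iff C q).mpr ⟨hQ₁q.map _, hCl⟩
      have h3 := hQ.2 _ h2 (hQbot ▸ bot_le)
      have h4 : Nat.card Q₁ = 1 := by
        rw [← card_conj_smul l Q₁, h3, hQbot, Subgroup.card_bot]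
      rw [hQbot, Subgroup.card_eq_one.mp h4]
    · by_cases hQtop : Q = ⊤
      · rw [hQtop] at hQQ₁ ⊢
        exact (top_le_iff.mp hQQ₁).symm
      set N : Subgroup G := Subgroup.normalizer (Q : Set G) with hN
      have hNtop : N ≠ ⊤ := normalizer_ne_top_of_simple hs hQbot hQtop
      set L : Subgroup G := piCoreOf π' N with hL
      have hQL : Q ≤ L := le_piCoreOf π' Subgroup.le_normalizer le_rfl (hqpi hQq)
      set R₁ : Subgroup G := Q₁ ⊓ N with hR₁
      have hR₁q : IsPGroup q R₁ := hQ₁q.to_le inf_le_left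
      have hR₁L : R₁ ≤ L :=
        le_piCoreOf_of_transitivityHypothesis B hB hNtop hBQ inf_le_right (hqcopB hR₁q)
          (le_normalizer_inf hBQ₁ (le_normalizer_normalizer hBQ))
      have hCL : C ≤ Subgroup.normalizer (L : Set G) := hCQ.trans (le_normalizer_piCoreOf _ N)
      have hcopCL : (Nat.card C).Coprime (Nat.card L) := hCcop (piCoreOf_isPi _ _)
      obtain ⟨S, hQS, hCS⟩ := exists_invariant_sylow_ge C L hCL hcopCL (Or.inl hCsolv) q Q hQL hQq hCQ
      have hSinv : (S : Subgroup L).map L.subtype ∈ invSubgroups ⊤ C {q} :=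
        (mem_invSubgroups_iff C q).mpr ⟨S.isPGroup'.map _, hCS⟩
      have hSQ : (S : Subgroup L).map L.subtype = Q := hQ.2 _ hSinv hQS
      have hcardQ : Nat.card Q = q ^ (Nat.card L).factorization q := by
        rw [← hSQ]; exact card_map_sylow L S
      have hcardR₁ : Nat.card R₁ ≤ Nat.card Q := by
        obtain ⟨j, hj⟩ := hR₁q.exists_card_eq
        have h1 : q ^ j ∣ Nat.card L := hj ▸ Subgroup.card_dvd_of_le hR₁L
        have h2 : j ≤ (Nat.card L).factorization q :=
          (Nat.Prime.pow_dvd_iff_le_factorization hq Nat.card_pos.ne').mp h1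
        rw [hj, hcardQ]
        exact Nat.pow_le_pow_right hq.pos h2
      have hQR₁ : Q ≤ R₁ := le_inf hQQ₁ Subgroup.le_normalizer
      have hR₁Q : Q = R₁ := Subgroup.eq_of_le_of_card_ge hQR₁ hcardR₁
      exact eq_of_inf_normalizer_le Q₁ Q hQ₁q hQQ₁ (le_of_eq hR₁Q.symm)
  -- Step 4: `C_{K_B}(C) = K_C`
  have hKeq : KB ⊓ Subgroup.centralizer (C : Set G) = KC := by
    apply le_antisymm
    · have h1 := le_piCoreOf_centralizer_of_transitivityHypothesis C hs hTHC
        (Y := KB ⊓ Subgroup.centralizer (C : Set G)) inf_le_right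
        (by
          apply Nat.Coprime.symm
          apply hCcop
          intro r hr hrd
          exact piCoreOf_isPi π' _ r hr (hrd.trans (Subgroup.card_dvd_of_le inf_le_left)))
      rwa [hπeq] at h1
    · apply le_inf _ (piCoreOf_le _ _)
      apply le_piCoreOf_centralizer_of_transitivityHypothesis B hs hB
      · exact (piCoreOf_le _ _).trans (Subgroup.centralizer_le hBC)
      · exact coprime_of_primesNotDvd (piCoreOf_isPi π' _)
  refine ⟨hTHC, hπeq, hsub, hKeq, ?_⟩
  -- Step 5: transitivity for `C`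
  intro Q₁ hQ₁ Q₂ hQ₂
  obtain ⟨-, hCQ₁⟩ := (mem_invSubgroups_iff C q).mp hQ₁.1
  obtain ⟨-, hCQ₂⟩ := (mem_invSubgroups_iff C q).mp hQ₂.1
  obtain ⟨k, hk, hk2⟩ := htrB Q₁ (hsub hQ₁) Q₂ (hsub hQ₂)
  obtain ⟨c, hcK, hcC, hc2⟩ := glauberman_conj C KB Q₁ Q₂ hCKB hcopCKB hsolvCKB hCQ₁ hCQ₂
    ⟨k, hk, hk2.symm⟩
  refine ⟨c, ?_, hc2.symm⟩
  rw [← hKeq]
  exact ⟨hcK, hcC⟩

end Step

end Cfsg.Agent.Lib.Helper54
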