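import Cfsg.Agent.Lib.Helper54.TransK

/-!
# Thompson's transitivity theorem for groups with `p`-constrained `p`-locals

Main result `thompson_transitivity`: if the normalizers of the nontrivial `p`-subgroups of `G` are
`p`-constrained, `E` is an abelian `p`-subgroup of rank at least three containing every `p`-element
of `C_G(E)` (and, for `p = 2`, the `2`-subgroups have class at most two), then `O_{p'}(C_G(E))`
permutes transitively the maximal `E`-invariant `q`-subgroups of `G`, for each prime `q ≠ p`.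
-/

set_option autoImplicit false

namespace Cfsg.Agent.Lib.Helper54

open scoped commutatorElement Pointwise
open Cfsg

variable {G : Type*} [Group G]

/-- Elementwise form of "class at most two" for the `p`-subgroups, from the Sylow subgroups. -/
theorem commute_commutator_of_sylow [Finite G] (p : ℕ) [Fact p.Prime]
    (h2 : ∀ S : Sylow p G, Group.IsNilpotent (S : Subgroup G) ∧
      Group.nilpotencyClass (S : Subgroup G) ≤ 2)
    (T : Subgroup G) (hT : IsPGroup p T) :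
    ∀ x ∈ T, ∀ y ∈ T, ∀ z ∈ T, Commute ⁅x, y⁆ z := by
  obtain ⟨S, hS⟩ := hT.exists_le_sylow
  obtain ⟨hnil, hcl⟩ := h2 S
  have h0 : (S : Subgroup G).lowerCentralSeries 2 = ⊥ :=
    Subgroup.lowerCentralSeries_eq_bot_of_nilpotencyClass_le hcl
  intro x hx y hy z hz
  have h1 : ⁅⁅x, y⁆, z⁆ ∈ (S : Subgroup G).lowerCentralSeries 2 := by
    simp only [Subgroup.lowerCentralSeries_succ, Subgroup.lowerCentralSeries_zero]
    exact Subgroup.commutator_mem_commutator
      (Subgroup.commutator_mem_commutator (hS hx) (hS hy)) (hS hz)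
  rw [h0, Subgroup.mem_bot] at h1
  exact commutatorElement_eq_one_iff_commute.mp h1

/-- A `q`-group has order prime to `p ≠ q`. -/
theorem coprime_card_of_isPGroup [Finite G] {p q : ℕ} [Fact p.Prime] [Fact q.Prime] (hqp : q ≠ p)
    {Y : Subgroup G} (hY : IsPGroup q Y) : (Nat.card Y).Coprime p := by
  obtain ⟨k, hk⟩ := hY.exists_card_eq
  rw [hk]
  apply Nat.Coprime.pow_left
  exact (Nat.coprime_primes Fact.out Fact.out).mpr hqp

/-- `C_G(a) ≤ N_G(⟨a⟩)`. -/
theorem centralizer_singleton_le_normalizer_zpowers (a : G) :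
    Subgroup.centralizer ({a} : Set G) ≤
      Subgroup.normalizer ((Subgroup.zpowers a : Subgroup G) : Set G) := by
  intro g hg
  rw [Subgroup.mem_centralizer_singleton_iff] at hg
  apply Subgroup.centralizer_le_normalizer
  rw [Subgroup.mem_centralizer_iff]
  intro n hn
  obtain ⟨k, rfl⟩ := Subgroup.mem_zpowers_iff.mp hn
  have hc : Commute g a := hg
  exact ((hc.zpow_right k).eq).symm

/-- Every `E`-invariant `p'`-subgroup of `C_G(a)`, `a ∈ E#`, lies in `O_{p'}(N_G(⟨a⟩))`. -/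
theorem le_relK_normalizer_zpowers [Finite G] (p : ℕ) [Fact p.Prime]
    (hloc : ∀ T : Subgroup G, IsPGroup p T → T ≠ ⊥ →
      IsPConstrained p ↥(Subgroup.normalizer (T : Set G)))
    (hcl2 : p = 2 → ∀ T : Subgroup G, IsPGroup p T → ∀ x ∈ T, ∀ y ∈ T, ∀ z ∈ T, Commute ⁅x, y⁆ z)
    (E : Subgroup G) (hEp : IsPGroup p E) (hEab : ∀ x ∈ E, ∀ y ∈ E, x * y = y * x)
    (hEfull : ∀ x ∈ Subgroup.centralizer (E : Set G), IsPGroup p (Subgroup.zpowers x) → x ∈ E)
    (a : G) (haE : a ∈ E) (ha1 : a ≠ 1) (X : Subgroup G)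
    (hXa : X ≤ Subgroup.centralizer ({a} : Set G)) (hX : (Nat.card X).Coprime p)
    (hEX : E ≤ Subgroup.normalizer (X : Set G)) :
    X ≤ relK p (Subgroup.normalizer ((Subgroup.zpowers a : Subgroup G) : Set G)) := by
  have hp : p.Prime := Fact.out
  set N : Subgroup G := Subgroup.normalizer ((Subgroup.zpowers a : Subgroup G) : Set G) with hN
  have hzp : IsPGroup p (Subgroup.zpowers a) := hEp.to_le ((Subgroup.zpowers_le).mpr haE)
  have hz1 : Subgroup.zpowers a ≠ ⊥ := by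
    rw [Ne, Subgroup.zpowers_eq_bot]; exact ha1
  have hNc : IsPConstrained p ↥N := hloc _ hzp hz1
  have hCN : Subgroup.centralizer ({a} : Set G) ≤ N :=
    centralizer_singleton_le_normalizer_zpowers a
  have hEN : E ≤ N := by
    intro e he
    apply hCN
    rw [Subgroup.mem_centralizer_singleton_iff]
    exact hEab e he a haE
  have hXN : X ≤ N := hXa.trans hCN
  have hzpow : ∀ (x : G) (j : ℕ), x ^ p ^ j = 1 → IsPGroup p (Subgroup.zpowers x) := by
    intro x j hx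
    obtain ⟨i, -, hi⟩ := (Nat.dvd_prime_pow hp).mp (orderOf_dvd_of_pow_eq_one hx)
    apply IsPGroup.of_card (n := i)
    rw [Nat.card_zpowers, hi]
  have hcentE : ∀ x : N, x ∈ Subgroup.centralizer ((E.subgroupOf N : Subgroup N) : Set N) →
      (x : G) ∈ Subgroup.centralizer (E : Set G) := by
    intro x hx
    rw [Subgroup.mem_centralizer_iff]
    intro e he
    have h1 := Subgroup.mem_centralizer_iff.mp hx ⟨e, hEN he⟩ (Subgroup.mem_subgroupOf.mpr he)
    exact congrArg Subtype.val h1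
  have key := le_pPrimeCore_of_invariant (H := N) p hNc (E.subgroupOf N) (X.subgroupOf N)
    hEp.comap_subtype
    (by rw [Nat.card_congr (Subgroup.subgroupOfEquivOfLe hXN).toEquiv]; exact hX)
    (by
      intro e he
      rw [Subgroup.mem_normalizer_iff]
      intro g
      rw [Subgroup.mem_subgroupOf, Subgroup.mem_subgroupOf]
      have := Subgroup.mem_normalizer_iff.mp (hEX (Subgroup.mem_subgroupOf.mp he)) (g : G)
      simpa using this)
    (by
      intro x hx hxo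
      rw [Subgroup.mem_subgroupOf]
      apply hEfull _ (hcentE x hx)
      apply hzpow _ 1
      rw [pow_one, ← hxo, ← Subgroup.coe_pow, pow_orderOf_eq_one, Subgroup.coe_one])
    (by
      by_cases hp2 : p = 2
      · right
        refine ⟨?_, ?_, ?_⟩
        · intro x hx y hy
          apply Subtype.ext
          exact hEab x (Subgroup.mem_subgroupOf.mp hx) y (Subgroup.mem_subgroupOf.mp hy)
        · intro x hx j hxj
          rw [Subgroup.mem_subgroupOf]
          apply hEfull _ (hcentE x hx)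
          apply hzpow _ j
          rw [← Subgroup.coe_pow, hxj, Subgroup.coe_one]
        · intro T hT x hx y hy z hz
          have h1 := hcl2 hp2 (T.map N.subtype) (hT.map _) (x : G) ⟨x, hx, rfl⟩ (y : G) ⟨y, hy, rfl⟩
            (z : G) ⟨z, hz, rfl⟩
          unfold Commute SemiconjBy at h1 ⊢
          apply Subtype.ext
          simpa [commutatorElement_def] using h1
      · left; exact hp2)
  intro x hx
  have h1 := key (Subgroup.mem_subgroupOf.mpr (show ((⟨x, hXN hx⟩ : N) : G) ∈ X from hx))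
  exact (coe_mem_relK_iff p N ⟨x, hXN hx⟩).mpr h1

section Main

variable [Finite G] (E : Subgroup G) (q : ℕ)

theorem mem_invSubgroups_iff [Fact q.Prime] {Y : Subgroup G} :
    Y ∈ invSubgroups ⊤ E {q} ↔ IsPGroup q Y ∧ E ≤ Subgroup.normalizer (Y : Set G) := by
  unfold invSubgroups
  simp only [Set.mem_ofPred_eq, le_top, true_and, Set.mem_singleton_iff]
  constructor
  · rintro ⟨h1, h2⟩
    refine ⟨?_, h2⟩
    have := Nat.eq_prime_pow_of_unique_prime_dvd (n := Nat.card Y) (p := q) Nat.card_pos.ne'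
      (fun {d} hd hdv => h1 d hd hdv)
    exact IsPGroup.of_card this
  · rintro ⟨h1, h2⟩
    refine ⟨?_, h2⟩
    intro r hr hrd
    obtain ⟨k, hk⟩ := h1.exists_card_eq
    rw [hk] at hrd
    exact (Nat.prime_dvd_prime_iff_eq hr Fact.out).mp (hr.dvd_of_dvd_pow hrd)

theorem exists_maxInv_ge {Y : Subgroup G} (hY : Y ∈ invSubgroups ⊤ E {q}) :
    ∃ M ∈ maxInvSubgroups ⊤ E {q}, Y ≤ M := by
  obtain ⟨M, hYM, hM⟩ := Set.Finite.exists_le_maximal (Set.toFinite (invSubgroups ⊤ E {q})) hY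
  refine ⟨M, ⟨hM.prop, ?_⟩, hYM⟩
  intro R hR hMR
  exact le_antisymm (hM.le_of_ge hR hMR) hMR

theorem conj_mem_invSubgroups [Fact q.Prime] {c : G} (hc : c ∈ Subgroup.centralizer (E : Set G))
    {Y : Subgroup G} (hY : Y ∈ invSubgroups ⊤ E {q}) :
    MulAut.conj c • Y ∈ invSubgroups ⊤ E {q} := by
  rw [mem_invSubgroups_iff] at hY ⊢
  refine ⟨hY.1.map _, ?_⟩
  have h1 : MulAut.conj c • E = E :=
    mem_normalizer_iff_conj_smul.mp (Subgroup.centralizer_le_normalizer _ hc)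
  have h2 := conj_smul_le_normalizer (g := c) hY.2
  rwa [h1] at h2

theorem conj_mem_maxInvSubgroups [Fact q.Prime] {c : G}
    (hc : c ∈ Subgroup.centralizer (E : Set G))
    {M : Subgroup G} (hM : M ∈ maxInvSubgroups ⊤ E {q}) :
    MulAut.conj c • M ∈ maxInvSubgroups ⊤ E {q} := by
  refine ⟨conj_mem_invSubgroups E q hc hM.1, ?_⟩
  intro R hR hMR
  have hc' : c⁻¹ ∈ Subgroup.centralizer (E : Set G) := Subgroup.inv_mem _ hc
  have h1 : MulAut.conj c⁻¹ • R ∈ invSubgroups ⊤ E {q} := conj_mem_invSubgroups E q hc' hR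
  have h2 : M ≤ MulAut.conj c⁻¹ • R := by
    intro x hx
    rw [mem_conj_smul_iff, inv_inv]
    exact hMR (conj_mem_conj_smul hx)
  have h3 := hM.2 _ h1 h2
  rw [← h3, smul_smul, ← map_mul, mul_inv_cancel, map_one, one_smul]

end Main

/-- Thompson's transitivity theorem for groups with `p`-constrained `p`-locals. -/
theorem thompson_transitivity [Finite G] (p : ℕ) [Fact p.Prime]
    (hloc : ∀ T : Subgroup G, IsPGroup p T → T ≠ ⊥ →
      IsPConstrained p ↥(Subgroup.normalizer (T : Set G)))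
    (hcl2 : p = 2 → ∀ T : Subgroup G, IsPGroup p T → ∀ x ∈ T, ∀ y ∈ T, ∀ z ∈ T, Commute ⁅x, y⁆ z)
    (E : Subgroup G) (hEp : IsPGroup p E) (hEab : ∀ x ∈ E, ∀ y ∈ E, x * y = y * x)
    (hE3 : ¬ PRankLE p 2 E)
    (hEfull : ∀ x ∈ Subgroup.centralizer (E : Set G), IsPGroup p (Subgroup.zpowers x) → x ∈ E)
    (q : ℕ) [Fact q.Prime] (hqp : q ≠ p) :
    ∀ Q₁ ∈ maxInvSubgroups ⊤ E {q}, ∀ Q₂ ∈ maxInvSubgroups ⊤ E {q},
      ∃ k ∈ piCoreOf (primesNotDvd p) (Subgroup.centralizer (E : Set G)),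
        Q₂ = MulAut.conj k • Q₁ := by
  have hp : p.Prime := Fact.out
  set K : Subgroup G := piCoreOf (primesNotDvd p) (Subgroup.centralizer (E : Set G)) with hK
  have hKC : K ≤ Subgroup.centralizer (E : Set G) := Subgroup.map_subtype_le _
  -- the conjugacy relation
  let Rel : Subgroup G → Subgroup G → Prop := fun Q₁ Q₂ => ∃ k ∈ K, Q₂ = MulAut.conj k • Q₁
  have hRel_refl : ∀ Q, Rel Q Q := fun Q => ⟨1, K.one_mem, by rw [map_one, one_smul]⟩
  have hRel_trans : ∀ Q₁ Q₂ Q₃, Rel Q₁ Q₂ → Rel Q₂ Q₃ → Rel Q₁ Q₃ := by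
    rintro Q₁ Q₂ Q₃ ⟨k₁, hk₁, rfl⟩ ⟨k₂, hk₂, rfl⟩
    exact ⟨k₂ * k₁, K.mul_mem hk₂ hk₁, by rw [map_mul, mul_smul]⟩
  by_contra hcon
  push Not at hcon
  obtain ⟨Q₁', hQ₁', Q₂', hQ₂', hnot'⟩ := hcon
  -- an extremal counterexample
  let Prs : Set (Subgroup G × Subgroup G) :=
    {pr | pr.1 ∈ maxInvSubgroups ⊤ E {q} ∧ pr.2 ∈ maxInvSubgroups ⊤ E {q} ∧ ¬ Rel pr.1 pr.2}
  have hPrs : Prs.Nonempty := ⟨(Q₁', Q₂'), hQ₁', hQ₂', fun ⟨k, hk, h⟩ => hnot' k hk h⟩
  obtain ⟨⟨Q₁, Q₂⟩, ⟨hQ₁, hQ₂, hnot⟩, hmax'⟩ :=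
    Set.exists_max_image Prs (fun pr => Nat.card (pr.1 ⊓ pr.2 : Subgroup G)) (Set.toFinite Prs) hPrs
  have hmax : ∀ M₁ ∈ maxInvSubgroups ⊤ E {q}, ∀ M₂ ∈ maxInvSubgroups ⊤ E {q}, ¬ Rel M₁ M₂ →
      Nat.card (M₁ ⊓ M₂ : Subgroup G) ≤ Nat.card (Q₁ ⊓ Q₂ : Subgroup G) :=
    fun M₁ hM₁ M₂ hM₂ h => hmax' (M₁, M₂) ⟨hM₁, hM₂, h⟩
  simp only at hQ₁ hQ₂ hnot
  set D : Subgroup G := Q₁ ⊓ Q₂ with hD
  obtain ⟨hQ₁q, hEQ₁⟩ := (mem_invSubgroups_iff E q).mp hQ₁.1
  obtain ⟨hQ₂q, hEQ₂⟩ := (mem_invSubgroups_iff E q).mp hQ₂.1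
  have hDq : IsPGroup q D := hQ₁q.to_le inf_le_left
  have hD1 : D ≠ Q₁ := by
    intro h
    have h1 : Q₁ ≤ Q₂ := h ▸ (inf_le_right : D ≤ Q₂)
    have h2 := hQ₁.2 Q₂ hQ₂.1 h1
    exact hnot (h2 ▸ hRel_refl Q₁)
  have hD2 : D ≠ Q₂ := by
    intro h
    have h1 : Q₂ ≤ Q₁ := h ▸ (inf_le_left : D ≤ Q₁)
    have h2 := hQ₂.2 Q₁ hQ₁.1 h1
    exact hnot (h2 ▸ hRel_refl Q₁)
  set R₁ : Subgroup G := Q₁ ⊓ Subgroup.normalizer (D : Set G) with hR₁
  set R₂ : Subgroup G := Q₂ ⊓ Subgroup.normalizer (D : Set G) with hR₂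
  have hR₁D : ¬ R₁ ≤ D := fun h => hD1 (eq_of_inf_normalizer_le Q₁ D hQ₁q inf_le_left h)
  have hR₂D : ¬ R₂ ≤ D := fun h => hD2 (eq_of_inf_normalizer_le Q₂ D hQ₂q inf_le_right h)
  have hED : E ≤ Subgroup.normalizer (D : Set G) := le_normalizer_inf hEQ₁ hEQ₂
  have hEND : E ≤ Subgroup.normalizer ((Subgroup.normalizer (D : Set G) : Subgroup G) : Set G) :=
    le_normalizer_normalizer hED
  have hER₁ : E ≤ Subgroup.normalizer (R₁ : Set G) := le_normalizer_inf hEQ₁ hEND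
  have hER₂ : E ≤ Subgroup.normalizer (R₂ : Set G) := le_normalizer_inf hEQ₂ hEND
  have hR₁q : IsPGroup q R₁ := hQ₁q.to_le inf_le_left
  have hR₂q : IsPGroup q R₂ := hQ₂q.to_le inf_le_left
  have hndvd : ∀ {Y : Subgroup G}, IsPGroup q Y → ¬ p ∣ Nat.card Y := fun hY =>
    (Nat.Prime.coprime_iff_not_dvd hp).mp (coprime_card_of_isPGroup hqp hY).symm
  -- a common element
  obtain ⟨A, hAE, hAcomm, hAexp, hAcard⟩ := exists_elemAb_card_cube p E hE3
  obtain ⟨a, haA, ha1, hX₁D, hX₂D⟩ := exists_common_centralizer A R₁ D R₂ D hAcomm hAexp hAcard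
    (hndvd hR₁q) (hAE.trans hER₁) hR₁D (hndvd hR₂q) (hAE.trans hER₂) hR₂D
  have haE : a ∈ E := hAE haA
  set X₁ : Subgroup G := R₁ ⊓ Subgroup.centralizer ({a} : Set G) with hX₁
  set X₂ : Subgroup G := R₂ ⊓ Subgroup.centralizer ({a} : Set G) with hX₂
  have hECa : E ≤ Subgroup.centralizer ({a} : Set G) := by
    intro e he
    rw [Subgroup.mem_centralizer_singleton_iff]
    exact hEab e he a haE
  have hENCa : E ≤ Subgroup.normalizer
      ((Subgroup.centralizer ({a} : Set G) : Subgroup G) : Set G) :=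
    hECa.trans Subgroup.le_normalizer
  have hEX₁ : E ≤ Subgroup.normalizer (X₁ : Set G) := le_normalizer_inf hER₁ hENCa
  have hEX₂ : E ≤ Subgroup.normalizer (X₂ : Set G) := le_normalizer_inf hER₂ hENCa
  have hX₁q : IsPGroup q X₁ := hR₁q.to_le inf_le_left
  have hX₂q : IsPGroup q X₂ := hR₂q.to_le inf_le_left
  set Na : Subgroup G := Subgroup.normalizer ((Subgroup.zpowers a : Subgroup G) : Set G) with hNa
  set θ : Subgroup G := relK p Na with hθ
  have hX₁θ : X₁ ≤ θ := le_relK_normalizer_zpowers p hloc hcl2 E hEp hEab hEfull a haE ha1 X₁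
    inf_le_right (coprime_card_of_isPGroup hqp hX₁q) hEX₁
  have hX₂θ : X₂ ≤ θ := le_relK_normalizer_zpowers p hloc hcl2 E hEp hEab hEfull a haE ha1 X₂
    inf_le_right (coprime_card_of_isPGroup hqp hX₂q) hEX₂
  have hENa : E ≤ Na := hECa.trans (centralizer_singleton_le_normalizer_zpowers a)
  have hEθ : E ≤ Subgroup.normalizer (θ : Set G) := hENa.trans (le_normalizer_relK p Na)
  -- the `E`-invariant `p'`-group `Y`
  set M : Subgroup G := θ ⊓ Subgroup.normalizer (D : Set G) with hM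
  set Y : Subgroup G := D ⊔ M with hY
  have hMD : M ≤ Subgroup.normalizer (D : Set G) := inf_le_right
  have hEM : E ≤ Subgroup.normalizer (M : Set G) := le_normalizer_inf hEθ hEND
  have hEY : E ≤ Subgroup.normalizer (Y : Set G) := le_normalizer_sup hED hEM
  have hMcop : (Nat.card M).Coprime p :=
    Nat.Coprime.coprime_dvd_left (Subgroup.card_dvd_of_le inf_le_left) (card_relK_coprime p Na)
  have hYcop : (Nat.card Y).Coprime p := by
    have h1 := relIndex_sup_of_le_normalizer hMD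
    have h2 := card_mul_relIndex (le_sup_right : D ≤ M ⊔ D)
    rw [h1] at h2
    have h3 : D.relIndex M ∣ Nat.card M := Subgroup.relIndex_dvd_card D M
    have h4 : Nat.card Y ∣ Nat.card D * Nat.card M := by
      rw [hY, sup_comm, ← h2]
      exact Nat.mul_dvd_mul_left _ h3
    exact Nat.Coprime.coprime_dvd_left h4
      (Nat.Coprime.mul_left (coprime_card_of_isPGroup hqp hDq) hMcop)
  have hcop : (Nat.card E).Coprime (Nat.card Y) := by
    obtain ⟨k, hk⟩ := hEp.exists_card_eq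
    rw [hk]
    exact Nat.Coprime.pow_left k hYcop.symm
  have hsolv : Group.IsSolvable E ∨ Group.IsSolvable Y := by
    left
    apply Group.isSolvable_of_comm
    intro x y
    apply Subtype.ext
    exact hEab x x.2 y y.2
  -- the invariant `q`-subgroups `U₁`, `U₂` of `Y`
  have hX₁R : X₁ ≤ Subgroup.normalizer (D : Set G) := inf_le_left.trans inf_le_right
  have hX₂R : X₂ ≤ Subgroup.normalizer (D : Set G) := inf_le_left.trans inf_le_right
  set U₁ : Subgroup G := D ⊔ X₁ with hU₁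
  set U₂ : Subgroup G := D ⊔ X₂ with hU₂
  have hU₁q : IsPGroup q U₁ := hDq.to_sup_of_normal_left' hX₁q hX₁R
  have hU₂q : IsPGroup q U₂ := hDq.to_sup_of_normal_left' hX₂q hX₂R
  have hU₁Y : U₁ ≤ Y := sup_le_sup_left (le_inf hX₁θ hX₁R) D
  have hU₂Y : U₂ ≤ Y := sup_le_sup_left (le_inf hX₂θ hX₂R) D
  have hEU₁ : E ≤ Subgroup.normalizer (U₁ : Set G) := le_normalizer_sup hED hEX₁
  have hEU₂ : E ≤ Subgroup.normalizer (U₂ : Set G) := le_normalizer_sup hED hEX₂
  have hDU₁ : Nat.card D < Nat.card U₁ := by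
    apply Set.Finite.card_lt_card (Set.toFinite _)
    apply SetLike.coe_ssubset_coe.mpr
    refine lt_of_le_of_ne le_sup_left ?_
    intro h
    apply hX₁D
    rw [h]
    exact le_sup_right
  have hDU₂ : Nat.card D < Nat.card U₂ := by
    apply Set.Finite.card_lt_card (Set.toFinite _)
    apply SetLike.coe_ssubset_coe.mpr
    refine lt_of_le_of_ne le_sup_left ?_
    intro h
    apply hX₂D
    rw [h]
    exact le_sup_right
  obtain ⟨S₁, hU₁S₁, hES₁⟩ := exists_invariant_sylow_ge E Y hEY hcop hsolv q U₁ hU₁Y hU₁q hEU₁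
  obtain ⟨S₂, hU₂S₂, hES₂⟩ := exists_invariant_sylow_ge E Y hEY hcop hsolv q U₂ hU₂Y hU₂q hEU₂
  obtain ⟨c, hcE, hcS⟩ := exists_centralizer_conj_sylow E Y hEY hcop hsolv q S₁ S₂ hES₁ hES₂
  have hcS' : (S₂ : Subgroup Y).map Y.subtype =
      MulAut.conj (c : G) • (S₁ : Subgroup Y).map Y.subtype := by
    rw [← hcS]; exact map_sylow_conj_smul Y c S₁
  have hcK : (c : G) ∈ K := by
    apply le_piCoreOf_centralizer p E hEp hEab hEfull (Y ⊓ Subgroup.centralizer (E : Set G))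
      inf_le_right
      (Nat.Coprime.coprime_dvd_left (Subgroup.card_dvd_of_le inf_le_left) hYcop)
    exact ⟨c.2, hcE⟩
  -- a maximal invariant `q`-subgroup containing `S₁`
  have hS₁inv : (S₁ : Subgroup Y).map Y.subtype ∈ invSubgroups ⊤ E {q} :=
    (mem_invSubgroups_iff E q).mpr ⟨S₁.isPGroup'.map _, hES₁⟩
  obtain ⟨M₁, hM₁, hS₁M₁⟩ := exists_maxInv_ge E q hS₁inv
  have hM₁c : MulAut.conj (c : G) • M₁ ∈ maxInvSubgroups ⊤ E {q} :=
    conj_mem_maxInvSubgroups E q hcE hM₁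
  have hrel1 : Rel Q₁ M₁ := by
    by_contra h
    have h1 := hmax Q₁ hQ₁ M₁ hM₁ h
    have h2 : U₁ ≤ Q₁ ⊓ M₁ :=
      le_inf (sup_le inf_le_left (inf_le_left.trans inf_le_left)) (hU₁S₁.trans hS₁M₁)
    have h3 := Nat.le_of_dvd Nat.card_pos (Subgroup.card_dvd_of_le h2)
    omega
  have hrel2 : Rel M₁ (MulAut.conj (c : G) • M₁) := ⟨c, hcK, rfl⟩
  have hrel3 : Rel (MulAut.conj (c : G) • M₁) Q₂ := by
    by_contra h
    have h1 := hmax _ hM₁c Q₂ hQ₂ h
    have h2 : U₂ ≤ MulAut.conj (c : G) • M₁ ⊓ Q₂ := by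
      refine le_inf ?_ (sup_le inf_le_right (inf_le_left.trans inf_le_left))
      refine hU₂S₂.trans ?_
      rw [hcS']
      exact conj_smul_le_conj_smul hS₁M₁
    have h3 := Nat.le_of_dvd Nat.card_pos (Subgroup.card_dvd_of_le h2)
    omega
  exact hnot (hRel_trans _ _ _ (hRel_trans _ _ _ hrel1 hrel2) hrel3)

end Cfsg.Agent.Lib.Helper54
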