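import Cfsg.Agent.S0022
import Cfsg.Agent.S0026
import Cfsg.Agent.S0028
import Cfsg.Agent.Lib.Helper22.SolvableLocal
import Cfsg.Agent.Lib.Helper22.Solvable
import Cfsg.Agent.Lib.Helper24.FittingStructure2
import Cfsg.Agent.Lib.Helper24.Thompson
import Cfsg.Agent.Lib.Helper21.GenFitting
import Cfsg.Agent.Lib.Helper54.InvariantCore
import Cfsg.Agent.Lib.Helper54.BGTransitivity
import Cfsg.Agent.Lib.Helper54.Transitivity
import Cfsg.Agent.Lib.Helper54.BGSubnormal
import Cfsg.Agent.Lib.Helper65.NilpBasic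

/-!
# Bender's lemma on maximal local subgroups

`H` a maximal local subgroup, `F = F(H)` divisible by at least two primes, `M ≤ F` with
`C_F(M) ≤ M`, `R` a solvable subgroup normalized by `M` and `C_H(F)`. Then for a prime `q ∤ #F`
the `M`-invariant `q`-subgroups of `R` have a unique maximal member, a Sylow `q`-subgroup of
`O_{π(F)'}(R)`.
-/

set_option autoImplicit false

namespace Cfsg.Agent.Lib.Helper54

open Cfsg

/-! ### The abstract step in `T = S / O_{π'}(S)` -/

/-- Abstract core of Bender's argument: in a finite solvable group `T` with `O_q(T) = 1`, a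
`q`-subgroup `Q` is trivial as soon as for every prime `p` with `O_p(T) ≠ 1` there are a
`p`-subgroup `Ap` and an `r`-subgroup `Ar` (`r ≠ p, q`) commuting with each other, with
`C_{O_p(T)}(Ap) ≤ C(Ar)`, `Ar` normalizing `Q` and `C_Q(Ar) = 1`. -/
theorem bender_abstract {T : Type*} [Group T] [Finite T] (hT : Group.IsSolvable T)
    (q : ℕ) [Fact q.Prime] (Q : Subgroup T) (hQ : IsPGroup q Q) (hq : pCore q T = ⊥)
    (h : ∀ p : ℕ, p.Prime → pCore p T ≠ ⊥ →
      ∃ (r : ℕ) (Ap Ar : Subgroup T), r.Prime ∧ r ≠ p ∧ r ≠ q ∧ IsPGroup p Ap ∧ IsPGroup r Ar ∧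
        Ap ≤ Subgroup.centralizer (Ar : Set T) ∧
        (pCore p T ⊓ Subgroup.centralizer (Ap : Set T) ≤ Subgroup.centralizer (Ar : Set T)) ∧
        Ar ≤ Subgroup.normalizer (Q : Set T) ∧ Q ⊓ Subgroup.centralizer (Ar : Set T) = ⊥) :
    Q = ⊥ := by
  have hqp : q.Prime := Fact.out
  -- `Q` centralizes every `O_p(T)`
  have hcent : ∀ p : Nat.Primes, pCore (p : ℕ) T ≤ Subgroup.centralizer (Q : Set T) := by
    intro p
    by_cases hne : pCore (p : ℕ) T = ⊥
    · rw [hne]; exact bot_le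
    obtain ⟨r, Ap, Ar, hr, hrp, hrq, hAp, hAr, hApr, hC, hArQ, hCQ⟩ := h p p.2 hne
    have : Fact (p : ℕ).Prime := ⟨p.2⟩
    have : Fact r.Prime := ⟨hr⟩
    set U := pCore (p : ℕ) T with hU
    have hUn : U.Normal := inferInstance
    have hUp : IsPGroup (p : ℕ) U := Cfsg.Agent.Lib.Helper1.pCore_isPGroup (p : ℕ)
    have hnU : ∀ A : Subgroup T, A ≤ Subgroup.normalizer (U : Set T) := by
      intro A
      rw [Subgroup.normalizer_eq_top]; exact le_top
    have hArcop : (Nat.card Ar).Coprime (p : ℕ) := by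
      obtain ⟨k, hk⟩ := IsPGroup.iff_card.mp hAr
      rw [hk]
      exact Nat.Coprime.pow_left k ((Nat.coprime_primes hr p.2).mpr hrp)
    -- `Ar` centralizes `U`
    have h1 : Ar ≤ Subgroup.centralizer (U : Set T) :=
      Cfsg.Agent.S0028.result (p : ℕ) Ap Ar U hAp hArcop hUp hApr (hnU Ap) (hnU Ar) hC
    -- `Q = [Q, Ar]`
    have hcop : (Nat.card Ar).Coprime (Nat.card Q) := by
      obtain ⟨k, hk⟩ := IsPGroup.iff_card.mp hAr
      obtain ⟨j, hj⟩ := IsPGroup.iff_card.mp hQ
      rw [hk, hj]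
      exact Nat.Coprime.pow k j ((Nat.coprime_primes hr hqp).mpr hrq)
    have hArs : Group.IsSolvable Ar := by
      have := hAr.isNilpotent
      infer_instance
    have h2 := Cfsg.Agent.S0026.result Ar Q hArQ hcop (Or.inl hArs)
    rw [hCQ, sup_bot_eq] at h2
    -- three subgroups
    have h3 : ⁅⁅Ar, U⁆, Q⁆ = ⊥ := by
      have : ⁅Ar, U⁆ = ⊥ := Subgroup.commutator_eq_bot_iff_le_centralizer.mpr h1
      rw [this]; exact Subgroup.commutator_bot_left Q
    have h4 : ⁅⁅U, Q⁆, Ar⁆ = ⊥ := by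
      rw [Subgroup.commutator_comm, Subgroup.commutator_eq_bot_iff_le_centralizer]
      refine h1.trans (Subgroup.centralizer_le ?_)
      exact Subgroup.commutator_le_left U Q
    have h5 := Subgroup.commutator_commutator_eq_bot_of_rotate h3 h4
    rw [h2] at h5
    rw [Subgroup.commutator_comm] at h5
    exact Subgroup.commutator_eq_bot_iff_le_centralizer.mp h5
  have hF : Q ≤ Subgroup.centralizer (fittingSubgroup T : Set T) := by
    rw [Cfsg.Agent.Lib.Helper1.fittingSubgroup_eq_iSup_pCore]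
    rw [Subgroup.le_centralizer_iff]
    exact iSup_le hcent
  have hFF : Subgroup.centralizer (fittingSubgroup T : Set T) ≤ fittingSubgroup T :=
    Cfsg.Agent.Lib.Helper22.centralizer_fittingSubgroup_le_iff_layer_eq_bot.mpr
      (Cfsg.Agent.Lib.Helper22.layer_eq_bot_of_isSolvable hT)
  have h6 := Cfsg.Agent.Lib.Helper24.le_pCore_of_le_fittingSubgroup q Q hQ (hF.trans hFF)
  rw [hq] at h6
  exact le_bot_iff.mp h6

/-! ### `O_π(G / O_π(G)) = 1` -/

/-- The `π`-core of `G / O_π(G)` is trivial. -/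
theorem piCore_quotient_piCore {S : Type*} [Group S] [Finite S] (π : Set ℕ) :
    piCore π (S ⧸ piCore π S) = ⊥ := by
  set K := piCore π S with hK
  set N := (piCore π (S ⧸ K)).comap (QuotientGroup.mk' K) with hN
  have hNn : N.Normal := inferInstance
  have hNπ : ∀ r : ℕ, r.Prime → r ∣ Nat.card N → r ∈ π := by
    intro r hr hdvd
    have : Fact r.Prime := ⟨hr⟩
    obtain ⟨x, hx⟩ := exists_prime_orderOf_dvd_card' (G := N) r hdvd
    by_cases hxK : (x : S) ∈ K
    · apply piCore_isPi (H := S) π r hr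
      have h1 : orderOf (⟨(x : S), hxK⟩ : K) = r := by
        rw [← hx]
        rw [← Subgroup.orderOf_coe (⟨(x : S), hxK⟩ : K), ← Subgroup.orderOf_coe x]
      rw [← h1]
      exact orderOf_dvd_natCard _
    · apply piCore_isPi (H := S ⧸ K) π r hr
      have hxN : QuotientGroup.mk' K (x : S) ∈ piCore π (S ⧸ K) := x.2
      have h1 : orderOf (⟨QuotientGroup.mk' K (x : S), hxN⟩ : piCore π (S ⧸ K)) = r := by
        rw [← Subgroup.orderOf_coe]
        apply orderOf_eq_prime
        · rw [← map_pow]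
          have : ((x : S)) ^ r = 1 := by
            rw [← hx, ← Subgroup.orderOf_coe x]; exact pow_orderOf_eq_one _
          rw [this, map_one]
        · intro h
          apply hxK
          have h' : QuotientGroup.mk' K (x : S) = 1 := h
          exact (QuotientGroup.eq_one_iff _).mp h'
      rw [← h1]
      exact orderOf_dvd_natCard _
  have hNK : N ≤ K := le_piCore π hNn hNπ
  rw [eq_bot_iff]
  intro y hy
  obtain ⟨x, rfl⟩ := QuotientGroup.mk'_surjective K y
  have hxN : x ∈ N := hy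
  rw [Subgroup.mem_bot, QuotientGroup.mk'_apply, QuotientGroup.eq_one_iff]
  exact hNK hxN

/-! ### The Fitting subgroup of `H` inside `G` -/

section Fitting

open scoped Pointwise

variable {G : Type*} [Group G]

theorem fittingOf_le (H : Subgroup G) : fittingOf H ≤ H := Subgroup.map_subtype_le _

theorem le_normalizer_fittingOf (H : Subgroup G) :
    H ≤ Subgroup.normalizer (fittingOf H : Set G) := by
  have : (fittingSubgroup ↥H).Normal := inferInstance
  exact le_normalizer_map_subtype H _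

theorem card_fittingOf (H : Subgroup G) :
    Nat.card (fittingOf H) = Nat.card (fittingSubgroup ↥H) :=
  Subgroup.card_map_of_injective H.subtype_injective

/-- If `p ∣ #F(H)` then `Z(F(H))` contains an element of order `p`. -/
theorem exists_center_fittingOf_orderOf [Finite G] (H : Subgroup G) (p : ℕ) [Fact p.Prime]
    (hp : p ∣ Nat.card (fittingOf H)) :
    ∃ z : G, z ∈ fittingOf H ∧ z ∈ Subgroup.centralizer (fittingOf H : Set G) ∧ orderOf z = p := by
  rw [card_fittingOf] at hp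
  obtain ⟨x, hx⟩ := exists_prime_orderOf_dvd_card' (G := fittingSubgroup ↥H) p hp
  -- `O_p(H) ≠ 1`
  have hzp : IsPGroup p (Subgroup.zpowers (x : ↥H)) := by
    apply IsPGroup.of_card (n := 1)
    rw [Nat.card_zpowers, Subgroup.orderOf_coe, hx, pow_one]
  have hzF : Subgroup.zpowers (x : ↥H) ≤ fittingSubgroup ↥H := by
    rw [Subgroup.zpowers_le]; exact x.2
  have hzP := Cfsg.Agent.Lib.Helper24.le_pCore_of_le_fittingSubgroup p _ hzp hzF
  have hxP : (x : ↥H) ∈ pCore p ↥H := hzP (Subgroup.mem_zpowers _)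
  have hx1 : (x : ↥H) ≠ 1 := by
    intro h
    have : orderOf (x : ↥H) = 1 := by rw [h, orderOf_one]
    rw [Subgroup.orderOf_coe, hx] at this
    exact (Fact.out : p.Prime).ne_one this
  have hnt : Nontrivial (pCore p ↥H) := ⟨⟨⟨(x : ↥H), hxP⟩, 1, fun h => hx1 (congrArg Subtype.val h)⟩⟩
  have hPp : IsPGroup p (pCore p ↥H) := Cfsg.Agent.Lib.Helper1.pCore_isPGroup p
  have hcn : Nontrivial (Subgroup.center (pCore p ↥H)) := hPp.center_nontrivial
  have hcp : IsPGroup p (Subgroup.center (pCore p ↥H)) := hPp.to_subgroup _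
  obtain ⟨k, hk⟩ := IsPGroup.iff_card.mp hcp
  have hk0 : k ≠ 0 := by
    intro h0
    rw [h0, pow_zero] at hk
    have := Finite.one_lt_card (α := Subgroup.center (pCore p ↥H))
    omega
  have hdvd : p ∣ Nat.card (Subgroup.center (pCore p ↥H)) := by
    rw [hk]; exact dvd_pow_self p hk0
  obtain ⟨z, hz⟩ := exists_prime_orderOf_dvd_card' (G := Subgroup.center (pCore p ↥H)) p hdvd
  -- `z` as an element of `H`
  set zH : ↥H := ((z : pCore p ↥H) : ↥H) with hzH
  have hzHP : zH ∈ pCore p ↥H := (z : pCore p ↥H).2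
  have hzHo : orderOf zH = p := by
    rw [hzH, Subgroup.orderOf_coe, Subgroup.orderOf_coe, hz]
  have hzc : ∀ a ∈ pCore p ↥H, a * zH = zH * a := by
    intro a ha
    have h1 := Subgroup.mem_center_iff.mp z.2 ⟨a, ha⟩
    exact congrArg Subtype.val h1
  have hzF' : zH ∈ fittingSubgroup ↥H :=
    Cfsg.Agent.Lib.Helper24.pCore_le_fittingSubgroup p hzHP
  have hzcent : ∀ f ∈ fittingSubgroup ↥H, f * zH = zH * f := by
    intro f hf
    have h1 := Cfsg.Agent.Lib.Helper24.fittingSubgroup_le_sup p hf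
    have h2 : f ∈ ((pCore p ↥H ⊔ Cfsg.Agent.Lib.Helper24.pCoreCompl p ↥H : Subgroup ↥H) :
        Set ↥H) := h1
    rw [Subgroup.mul_normal] at h2
    obtain ⟨a, ha, b, hb, rfl⟩ := Set.mem_mul.mp h2
    have hb' := Subgroup.mem_centralizer_iff.mp
      (Cfsg.Agent.Lib.Helper24.pCoreCompl_le_centralizer_pCore p hb) zH hzHP
    rw [mul_assoc, ← hb', ← mul_assoc, hzc a ha, mul_assoc]
  refine ⟨(zH : G), ⟨zH, hzF', rfl⟩, ?_, ?_⟩
  · rw [Subgroup.mem_centralizer_iff]
    rintro _ ⟨f, hf, rfl⟩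
    have := congrArg Subtype.val (hzcent f hf)
    simpa using this
  · rw [Subgroup.orderOf_coe, hzHo]

theorem isNilpotent_fittingOf [Finite G] (H : Subgroup G) : Group.IsNilpotent (fittingOf H) := by
  have h1 : Group.IsNilpotent (fittingSubgroup ↥H) :=
    Cfsg.Agent.Lib.Helper1.fittingSubgroup_isNilpotent
  exact (Group.isNilpotent_congr
    ((fittingSubgroup ↥H).equivMapOfInjective H.subtype H.subtype_injective)).mp h1

/-- A subgroup is normalized by `A` as soon as `A`-conjugation maps it into itself. -/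
theorem le_normalizer_of_conj_mem {A Y : Subgroup G}
    (h : ∀ a ∈ A, ∀ y ∈ Y, a * y * a⁻¹ ∈ Y) : A ≤ Subgroup.normalizer (Y : Set G) := by
  intro a ha
  rw [Subgroup.mem_normalizer_iff]
  intro x
  constructor
  · exact h a ha x
  · intro hx
    have h1 := h a⁻¹ (A.inv_mem ha) _ hx
    have e : a⁻¹ * (a * x * a⁻¹) * a⁻¹⁻¹ = x := by group
    rwa [e] at h1

/-- `Ω₁` of the `p`-part of `Z(F(H))`. -/
def zOmega (H : Subgroup G) (p : ℕ) : Subgroup G where
  carrier := {z | z ∈ fittingOf H ∧ z ∈ Subgroup.centralizer (fittingOf H : Set G) ∧ z ^ p = 1}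
  one_mem' := ⟨Subgroup.one_mem _, Subgroup.one_mem _, one_pow p⟩
  mul_mem' := by
    rintro a b ⟨ha1, ha2, ha3⟩ ⟨hb1, hb2, hb3⟩
    refine ⟨Subgroup.mul_mem _ ha1 hb1, Subgroup.mul_mem _ ha2 hb2, ?_⟩
    have hc : Commute a b := Subgroup.mem_centralizer_iff.mp hb2 a ha1
    rw [hc.mul_pow, ha3, hb3, one_mul]
  inv_mem' := by
    rintro a ⟨ha1, ha2, ha3⟩
    exact ⟨Subgroup.inv_mem _ ha1, Subgroup.inv_mem _ ha2, by rw [inv_pow, ha3, inv_one]⟩

theorem mem_zOmega {H : Subgroup G} {p : ℕ} {z : G} :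
    z ∈ zOmega H p ↔
      z ∈ fittingOf H ∧ z ∈ Subgroup.centralizer (fittingOf H : Set G) ∧ z ^ p = 1 := Iff.rfl

theorem zOmega_le_fittingOf (H : Subgroup G) (p : ℕ) : zOmega H p ≤ fittingOf H :=
  fun _ hz => hz.1

theorem zOmega_le_centralizer (H : Subgroup G) (p : ℕ) :
    zOmega H p ≤ Subgroup.centralizer (fittingOf H : Set G) := fun _ hz => hz.2.1

theorem zOmega_isPGroup (H : Subgroup G) (p : ℕ) [Fact p.Prime] : IsPGroup p (zOmega H p) := by
  rintro ⟨z, hz⟩
  refine ⟨1, ?_⟩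
  apply Subtype.ext
  rw [pow_one, Subgroup.coe_pow, Subgroup.coe_one]
  exact hz.2.2

theorem zOmega_ne_bot [Finite G] (H : Subgroup G) (p : ℕ) [Fact p.Prime]
    (hp : p ∣ Nat.card (fittingOf H)) : zOmega H p ≠ ⊥ := by
  obtain ⟨z, hz1, hz2, hz3⟩ := exists_center_fittingOf_orderOf H p hp
  intro h
  have hz : z ∈ zOmega H p := ⟨hz1, hz2, by rw [← hz3]; exact pow_orderOf_eq_one z⟩
  rw [h, Subgroup.mem_bot] at hz
  rw [hz, orderOf_one] at hz3
  exact (Fact.out : p.Prime).ne_one hz3.symm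

theorem le_normalizer_zOmega (H : Subgroup G) (p : ℕ) :
    H ≤ Subgroup.normalizer (zOmega H p : Set G) := by
  apply le_normalizer_of_conj_mem
  rintro h hh z ⟨hz1, hz2, hz3⟩
  have hn := le_normalizer_fittingOf H hh
  refine ⟨(Subgroup.mem_normalizer_iff.mp hn z).mp hz1, ?_, ?_⟩
  · rw [Subgroup.mem_centralizer_iff]
    intro f hf
    have h1 : h⁻¹ * f * h⁻¹⁻¹ ∈ fittingOf H :=
      (Subgroup.mem_normalizer_iff.mp ((Subgroup.normalizer _).inv_mem hn) f).mp hf
    have h2 := Subgroup.mem_centralizer_iff.mp hz2 _ h1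
    have e1 : f * (h * z * h⁻¹) = h * ((h⁻¹ * f * h⁻¹⁻¹) * z) * h⁻¹ := by group
    have e2 : h * z * h⁻¹ * f = h * (z * (h⁻¹ * f * h⁻¹⁻¹)) * h⁻¹ := by group
    rw [e1, e2, h2]
  · rw [conj_pow, hz3, mul_one, mul_inv_cancel]

theorem zOmega_commute (H : Subgroup G) (p r : ℕ) {z w : G} (hz : z ∈ zOmega H p)
    (hw : w ∈ zOmega H r) : z * w = w * z :=
  (Subgroup.mem_centralizer_iff.mp hz.2.1 w hw.1).symm

/-- With `H` a maximal local subgroup, `C_G(Ω₁(Z(F)_p)) ≤ H`. -/
theorem centralizer_zOmega_le [Finite G] (H : Subgroup G)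
    (hmax : ∀ L : Subgroup G, IsLocalSubgroup L → H ≤ L → L = H) (p : ℕ) [Fact p.Prime]
    (hp : p ∣ Nat.card (fittingOf H)) :
    Subgroup.centralizer (zOmega H p : Set G) ≤ H := by
  have h1 : Subgroup.normalizer (zOmega H p : Set G) = H :=
    hmax _ ⟨p, zOmega H p, Fact.out, zOmega_isPGroup H p, zOmega_ne_bot H p hp, rfl⟩
      (le_normalizer_zOmega H p)
  calc Subgroup.centralizer (zOmega H p : Set G) ≤ Subgroup.normalizer (zOmega H p : Set G) :=
        Subgroup.centralizer_le_normalizer _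
    _ = H := h1

theorem zOmega_le_of_centralizer_le (H M : Subgroup G) (hM : M ≤ fittingOf H)
    (hCM : fittingOf H ⊓ Subgroup.centralizer (M : Set G) ≤ M) (p : ℕ) : zOmega H p ≤ M := by
  intro z hz
  exact hCM ⟨hz.1, Subgroup.centralizer_le hM hz.2.1⟩

/-- A solvable subgroup `R` normalized by `X = C_H(F(H))` meets `X` inside `F(H)`. -/
theorem inf_le_fittingOf_of_solvable [Finite G] (H R : Subgroup G) (hR : Group.IsSolvable R)
    (hXR : H ⊓ Subgroup.centralizer (fittingOf H : Set G) ≤ Subgroup.normalizer (R : Set G)) :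
    H ⊓ Subgroup.centralizer (fittingOf H : Set G) ⊓ R ≤ fittingOf H := by
  set X := H ⊓ Subgroup.centralizer (fittingOf H : Set G) with hX
  set N : Subgroup ↥H := (X ⊓ R).subgroupOf H with hN
  have hmemN : ∀ x : ↥H, x ∈ N ↔ (x : G) ∈ X ⊓ R := fun x => Subgroup.mem_subgroupOf
  have hNc : N ≤ Subgroup.centralizer (fittingSubgroup ↥H : Set ↥H) := by
    intro n hn
    rw [Subgroup.mem_centralizer_iff]
    intro f hf
    have h1 : (n : G) ∈ Subgroup.centralizer (fittingOf H : Set G) := ((hmemN n).mp hn).1.2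
    have h2 := Subgroup.mem_centralizer_iff.mp h1 (f : G) ⟨f, hf, rfl⟩
    exact Subtype.ext h2
  have hcX : ∀ c : ↥H, c ∈ Subgroup.centralizer (fittingSubgroup ↥H : Set ↥H) → (c : G) ∈ X := by
    intro c hc
    refine Subgroup.mem_inf.mpr ⟨c.2, ?_⟩
    rw [Subgroup.mem_centralizer_iff]
    rintro _ ⟨f, hf, rfl⟩
    have := Subgroup.mem_centralizer_iff.mp hc f hf
    exact congrArg Subtype.val this
  have hnorm : Subgroup.centralizer (fittingSubgroup ↥H : Set ↥H) ≤
      Subgroup.normalizer (N : Set ↥H) := by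
    intro c hc
    have hcX' := hcX c hc
    have h1 : (c : G) ∈ Subgroup.normalizer ((X ⊓ R : Subgroup G) : Set G) :=
      le_normalizer_inf (A := X) Subgroup.le_normalizer hXR hcX'
    rw [Subgroup.mem_normalizer_iff]
    intro x
    rw [hmemN, hmemN]
    exact Subgroup.mem_normalizer_iff.mp h1 (x : G)
  have hsolv : Group.IsSolvable N := by
    let φ : N →* R :=
      { toFun := fun x => ⟨((x : ↥H) : G), ((hmemN x).mp x.2).2⟩
        map_one' := rfl
        map_mul' := fun _ _ => rfl }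
    have hφ : Function.Injective φ := by
      intro a b hab
      have h1 : ((a : ↥H) : G) = ((b : ↥H) : G) := congrArg (fun t : R => (t : G)) hab
      exact Subtype.ext (Subtype.ext h1)
    exact Group.isSolvable_of_isSolvable_injective hφ
  have key := Cfsg.Agent.Lib.Helper21.solvable_le_center_fitting hNc hnorm hsolv
  intro x hx
  have hxH : x ∈ H := hx.1.1
  have h1 : (⟨x, hxH⟩ : ↥H) ∈ N := (hmemN _).mpr hx
  obtain ⟨f, -, hf⟩ := key h1
  refine ⟨⟨x, hxH⟩, ?_, rfl⟩
  rw [← hf]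
  exact f.2

/-- An `M`-invariant subgroup of `H` of order coprime to `#F(H)` centralizes `F(H)`, provided
`M ≤ F(H)` and `C_F(M) ≤ M`. -/
theorem le_centralizer_fittingOf_of_invariant [Finite G] (H M : Subgroup G)
    (hM : M ≤ fittingOf H)
    (hCM : fittingOf H ⊓ Subgroup.centralizer (M : Set G) ≤ M) (Y : Subgroup G) (hYH : Y ≤ H)
    (hMY : M ≤ Subgroup.normalizer (Y : Set G))
    (hcop : (Nat.card Y).Coprime (Nat.card (fittingOf H))) :
    Y ≤ Subgroup.centralizer (fittingOf H : Set G) := by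
  set F := fittingOf H with hF
  have hYF : Y ≤ Subgroup.normalizer (F : Set G) := hYH.trans (le_normalizer_fittingOf H)
  have hdisj : Y ⊓ F = ⊥ := (Subgroup.disjoint_of_coprime_natCard hcop).eq_bot
  -- `M` centralizes `Y`
  have hMcY : M ≤ Subgroup.centralizer (Y : Set G) := by
    intro m hm
    rw [Subgroup.mem_centralizer_iff]
    intro y hy
    have h1 : y * m * y⁻¹ * m⁻¹ ∈ Y := by
      have h2 : m * y⁻¹ * m⁻¹ ∈ Y :=
        (Subgroup.mem_normalizer_iff.mp (hMY hm) y⁻¹).mp (Y.inv_mem hy)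
      have e : y * m * y⁻¹ * m⁻¹ = y * (m * y⁻¹ * m⁻¹) := by group
      rw [e]; exact Y.mul_mem hy h2
    have h3 : y * m * y⁻¹ * m⁻¹ ∈ F := by
      have h4 : y * m * y⁻¹ ∈ F := (Subgroup.mem_normalizer_iff.mp (hYF hy) m).mp (hM hm)
      exact F.mul_mem h4 (F.inv_mem (hM hm))
    have h5 : y * m * y⁻¹ * m⁻¹ ∈ Y ⊓ F := ⟨h1, h3⟩
    rw [hdisj, Subgroup.mem_bot] at h5
    have e : y * m = (y * m * y⁻¹ * m⁻¹) * (m * y) := by group
    rw [e, h5, one_mul]
  have hnil : Group.IsNilpotent F := isNilpotent_fittingOf H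
  apply Cfsg.Agent.Lib.Helper24.centralizes_of_centralizer_self_centralizing F Y hnil hYF hcop
  intro x hx
  have hxF : x ∈ F := hx.1
  have hMle : M ≤ F ⊓ Subgroup.centralizer (Y : Set G) := le_inf hM hMcY
  have hxM : x ∈ M := hCM ⟨hxF, Subgroup.centralizer_le hMle hx.2⟩
  exact hMle hxM

/-- The standing hypotheses of Bender's lemma, for a subgroup `S` normalized by `C_H(F)`. -/
structure BenderCtx (H M S : Subgroup G) : Prop where
  max : ∀ L : Subgroup G, IsLocalSubgroup L → H ≤ L → L = H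
  hM : M ≤ fittingOf H
  hCM : fittingOf H ⊓ Subgroup.centralizer (M : Set G) ≤ M
  hXS : H ⊓ Subgroup.centralizer (fittingOf H : Set G) ⊓ S ≤ fittingOf H

theorem BenderCtx.mono {H M S S' : Subgroup G} (c : BenderCtx H M S) (h : S' ≤ S) :
    BenderCtx H M S' :=
  ⟨c.max, c.hM, c.hCM, (inf_le_inf_left _ h).trans c.hXS⟩

/-- `M`-invariant subgroups of `H ∩ S` of order coprime to `#F` are trivial. -/
theorem BenderCtx.eq_bot_of_invariant [Finite G] {H M S : Subgroup G} (c : BenderCtx H M S)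
    {Y : Subgroup G} (hYH : Y ≤ H) (hYS : Y ≤ S) (hMY : M ≤ Subgroup.normalizer (Y : Set G))
    (hcop : (Nat.card Y).Coprime (Nat.card (fittingOf H))) : Y = ⊥ := by
  have h1 := le_centralizer_fittingOf_of_invariant H M c.hM c.hCM Y hYH hMY hcop
  have h2 : Y ≤ fittingOf H := (le_inf (le_inf hYH h1) hYS).trans c.hXS
  have hdisj : Y ⊓ fittingOf H = ⊥ := (Subgroup.disjoint_of_coprime_natCard hcop).eq_bot
  rw [eq_bot_iff, ← hdisj]
  exact le_inf le_rfl h2

/-- `Ω₁(Z(F)_p)` acts fixed-point-freely on `M`-invariant subgroups of `S` of order coprime to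
`#F`. -/
theorem BenderCtx.inf_centralizer_zOmega [Finite G] {H M S : Subgroup G} (c : BenderCtx H M S)
    (p : ℕ) [Fact p.Prime] (hp : p ∣ Nat.card (fittingOf H))
    {Y : Subgroup G} (hYS : Y ≤ S) (hMY : M ≤ Subgroup.normalizer (Y : Set G))
    (hcop : (Nat.card Y).Coprime (Nat.card (fittingOf H))) :
    Y ⊓ Subgroup.centralizer (zOmega H p : Set G) = ⊥ := by
  apply c.eq_bot_of_invariant
  · exact inf_le_right.trans (centralizer_zOmega_le H c.max p hp)
  · exact inf_le_left.trans hYS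
  · apply le_normalizer_inf hMY
    have h1 : M ≤ Subgroup.normalizer (zOmega H p : Set G) :=
      (c.hM.trans (fittingOf_le H)).trans (le_normalizer_zOmega H p)
    exact h1.trans (normalizer_le_normalizer_centralizer _)
  · exact Nat.Coprime.coprime_dvd_left (Subgroup.card_dvd_of_le inf_le_left) hcop

/-- Coprime lifting against `Ω₁(Z(F)_r)`: an element of an `M`-invariant `π'`-subgroup `Q` of `S`
which commutes with `Ω₁(Z(F)_r)` modulo the normal `π'`-subgroup `W` of `S` lies in `W`. -/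
theorem BenderCtx.mem_of_commutator_mem [Finite G] {H M S : Subgroup G} (c : BenderCtx H M S)
    (hMS : M ≤ S) (r : ℕ) [Fact r.Prime] (hr : r ∣ Nat.card (fittingOf H))
    (W Q : Subgroup G) (hWS : W ≤ S) (hQS : Q ≤ S) (hSW : S ≤ Subgroup.normalizer (W : Set G))
    (hWcop : (Nat.card W).Coprime (Nat.card (fittingOf H)))
    (hQcop : (Nat.card Q).Coprime (Nat.card (fittingOf H)))
    (hMQ : M ≤ Subgroup.normalizer (Q : Set G)) {x : G} (hx : x ∈ Q)
    (hfix : ∀ z ∈ zOmega H r, z * x * z⁻¹ * x⁻¹ ∈ W) : x ∈ W := by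
  set A := zOmega H r with hA
  have hAM : A ≤ M := zOmega_le_of_centralizer_le H M c.hM c.hCM r
  have hMW : M ≤ Subgroup.normalizer (W : Set G) := hMS.trans hSW
  have hQW : Q ≤ Subgroup.normalizer (W : Set G) := hQS.trans hSW
  have hMK : M ≤ Subgroup.normalizer ((Q ⊔ W : Subgroup G) : Set G) := le_normalizer_sup hMQ hMW
  have hKcop : (Nat.card (Q ⊔ W : Subgroup G)).Coprime (Nat.card (fittingOf H)) := by
    have h1 : Nat.card (W ⊔ Q : Subgroup G) ∣ Nat.card W * Nat.card Q :=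
      Cfsg.Agent.Lib.Helper22.card_sup_dvd_mul_of_le_normalizer hQW
    rw [sup_comm] at h1
    exact Nat.Coprime.coprime_dvd_left h1 (Nat.Coprime.mul_left hWcop hQcop)
  have hAp : IsPGroup r A := zOmega_isPGroup H r
  have hAcop : (Nat.card A).Coprime (Nat.card (Q ⊔ W : Subgroup G)) := by
    have h1 : Nat.card A ∣ Nat.card (fittingOf H) :=
      Subgroup.card_dvd_of_le (zOmega_le_fittingOf H r)
    exact (Nat.Coprime.coprime_dvd_right h1 hKcop).symm
  have hAs : Group.IsSolvable A := by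
    have := hAp.isNilpotent
    infer_instance
  obtain ⟨c', hc', hc'W⟩ := Cfsg.Agent.S0022.result A (Q ⊔ W) (hAM.trans hMK) hAcop (Or.inl hAs)
    W le_sup_right (sup_le hQW Subgroup.le_normalizer) (hAM.trans hMW) x
    (le_sup_left (a := Q) hx) hfix
  have hbot := c.inf_centralizer_zOmega r hr (sup_le hQS hWS) hMK hKcop
  rw [hA, hbot, Subgroup.mem_bot] at hc'
  rw [hc', mul_one] at hc'W
  have := W.inv_mem hc'W
  rwa [inv_inv] at this

/-- An element centralizing `Ω₁(Z(F)_p)` commutes with `Ω₁(Z(F)_r)` (`r ≠ p`) as soon as their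
commutator has `p`-power order modulo a `π'`-subgroup `W`. -/
theorem BenderCtx.commute_of_pow_mem [Finite G] {H M S : Subgroup G} (c : BenderCtx H M S)
    (p r : ℕ) [Fact p.Prime] [Fact r.Prime] (hpr : p ≠ r) (hp : p ∣ Nat.card (fittingOf H))
    (hr : r ∣ Nat.card (fittingOf H)) (W : Subgroup G)
    (hWcop : (Nat.card W).Coprime (Nat.card (fittingOf H))) {y z : G}
    (hy : y ∈ Subgroup.centralizer (zOmega H p : Set G)) (hz : z ∈ zOmega H r) {k : ℕ}
    (hw : (y * z * y⁻¹ * z⁻¹) ^ p ^ k ∈ W) : y * z = z * y := by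
  have hpp : p.Prime := Fact.out
  have hrp : r.Prime := Fact.out
  have hyH : y ∈ H := centralizer_zOmega_le H c.max p hp hy
  have h1 : y * z * y⁻¹ ∈ zOmega H r :=
    (Subgroup.mem_normalizer_iff.mp (le_normalizer_zOmega H r hyH) z).mp hz
  set w := y * z * y⁻¹ * z⁻¹ with hwdef
  have hwZ : w ∈ zOmega H r := (zOmega H r).mul_mem h1 ((zOmega H r).inv_mem hz)
  have hwr : w ^ r = 1 := hwZ.2.2
  -- `w ^ p ^ k = 1`
  have h2 : (w ^ p ^ k) ^ r = 1 := by
    rw [← pow_mul, mul_comm, pow_mul, hwr, one_pow]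
  have h3 : (w ^ p ^ k) ^ Nat.card W = 1 := by
    have h5 : (⟨_, hw⟩ : W) ^ Nat.card W = 1 := pow_card_eq_one'
    have h6 := congrArg Subtype.val h5
    rwa [Subgroup.coe_pow, Subgroup.coe_one] at h6
  have hWr : (Nat.card W).Coprime r := Nat.Coprime.coprime_dvd_right hr hWcop
  have h4 : w ^ p ^ k = 1 := by
    have h7 := pow_gcd_eq_one.mpr ⟨h3, h2⟩
    rwa [hWr, pow_one] at h7
  have h8 : w = 1 := by
    have h9 := pow_gcd_eq_one.mpr ⟨h4, hwr⟩
    have h10 : (p ^ k).gcd r = 1 :=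
      Nat.Coprime.pow_left k ((Nat.coprime_primes hpp hrp).mpr hpr)
    rwa [h10, pow_one] at h9
  have e : y * z = w * (z * y) := by rw [hwdef]; group
  rw [e, h8, one_mul]

/-- **Bender's lemma, first half**: every `M`-invariant `q`-subgroup of `S` lies in
`O_{π(F)'}(S)`. -/
theorem BenderCtx.le_piCoreOf [Finite G] {H M S : Subgroup G} (c : BenderCtx H M S)
    (hS : Group.IsSolvable S) (hMS : M ≤ S)
    (hF2 : 2 ≤ (Nat.card (fittingOf H)).primeFactors.card)
    (q : ℕ) [Fact q.Prime] (hq : ¬ q ∣ Nat.card (fittingOf H))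
    (Q : Subgroup G) (hQS : Q ≤ S) (hQq : IsPGroup q Q)
    (hMQ : M ≤ Subgroup.normalizer (Q : Set G)) :
    Q ≤ piCoreOf (primesNotDvd (Nat.card (fittingOf H))) S := by
  classical
  set n := Nat.card (fittingOf H) with hn
  set π' := primesNotDvd n with hπ'
  set K := piCore π' ↥S with hK
  set W := piCoreOf π' S with hW
  set mk := QuotientGroup.mk' K with hmk
  have hmk1 : ∀ s : ↥S, mk s = 1 ↔ s ∈ K := fun s => QuotientGroup.eq_one_iff s
  have hWmem : ∀ s : ↥S, s ∈ K ↔ (s : G) ∈ W := by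
    intro s
    constructor
    · intro h; exact ⟨s, h, rfl⟩
    · rintro ⟨s', hs', he⟩
      have : s' = s := Subtype.ext he
      rwa [← this]
  have hWS : W ≤ S := piCoreOf_le π' S
  have hSW : S ≤ Subgroup.normalizer (W : Set G) := le_normalizer_piCoreOf π' S
  have hWcop : (Nat.card W).Coprime n := coprime_of_primesNotDvd (piCoreOf_isPi π' S)
  have hqp : q.Prime := Fact.out
  have hQcop : (Nat.card Q).Coprime n := by
    obtain ⟨k, hk⟩ := IsPGroup.iff_card.mp hQq
    rw [hk]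
    exact Nat.Coprime.pow_left k ((Nat.Prime.coprime_iff_not_dvd hqp).mpr hq)
  have hKW : Nat.card K = Nat.card W := (Subgroup.card_map_of_injective S.subtype_injective).symm
  have hT : Group.IsSolvable (↥S ⧸ K) := Group.isSolvable_of_surjective (QuotientGroup.mk'_surjective K)
  have hcore : ∀ s : ℕ, s.Prime → ¬ s ∣ n → pCore s (↥S ⧸ K) = ⊥ := by
    intro s hs hsn
    have : Fact s.Prime := ⟨hs⟩
    have h1 : pCore s (↥S ⧸ K) ≤ piCore π' (↥S ⧸ K) := by
      apply le_piCore π' inferInstance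
      intro r hr hrd
      obtain ⟨k, hk⟩ := IsPGroup.iff_card.mp (Cfsg.Agent.Lib.Helper1.pCore_isPGroup (G := ↥S ⧸ K) s)
      rw [hk] at hrd
      have h2 := (Nat.prime_dvd_prime_iff_eq hr hs).mp (hr.dvd_of_dvd_pow hrd)
      rw [h2]
      exact ⟨hs, hsn⟩
    rw [piCore_quotient_piCore] at h1
    exact le_bot_iff.mp h1
  set Qb : Subgroup (↥S ⧸ K) := (Q.subgroupOf S).map mk with hQb
  have hQbq : IsPGroup q Qb := (hQq.comap_subtype).map mk
  have key : Qb = ⊥ := by
    apply bender_abstract hT q Qb hQbq (hcore q hqp hq)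
    intro p hp hpne
    have hpn : p ∣ n := by
      by_contra h
      exact hpne (hcore p hp h)
    obtain ⟨r, hrmem, hrp⟩ := Finset.exists_mem_ne (by omega : 1 < n.primeFactors.card) p
    have hr : r.Prime := Nat.prime_of_mem_primeFactors hrmem
    have hrn : r ∣ n := Nat.dvd_of_mem_primeFactors hrmem
    have : Fact p.Prime := ⟨hp⟩
    have : Fact r.Prime := ⟨hr⟩
    refine ⟨r, ((zOmega H p).subgroupOf S).map mk, ((zOmega H r).subgroupOf S).map mk, hr, hrp,
      ?_, ?_, ?_, ?_, ?_, ?_, ?_⟩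
    · rintro rfl
      exact hq hrn
    · exact ((zOmega_isPGroup H p).comap_subtype).map mk
    · exact ((zOmega_isPGroup H r).comap_subtype).map mk
    · rintro _ ⟨a, ha, rfl⟩
      rw [Subgroup.mem_centralizer_iff]
      rintro _ ⟨b, hb, rfl⟩
      rw [← map_mul, ← map_mul]
      congr 1
      apply Subtype.ext
      exact zOmega_commute H r p (Subgroup.mem_subgroupOf.mp hb) (Subgroup.mem_subgroupOf.mp ha)
    · -- `C_{O_p(T)}(Ap) ≤ C(Ar)`
      rintro xb ⟨hxP, hxC⟩
      have hPp : IsPGroup p (pCore p (↥S ⧸ K)) := Cfsg.Agent.Lib.Helper1.pCore_isPGroup p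
      obtain ⟨j, hj⟩ := hPp ⟨xb, hxP⟩
      have hxp : xb ^ p ^ j = 1 := by
        have := congrArg Subtype.val hj
        rwa [Subgroup.coe_pow, Subgroup.coe_one] at this
      have hKcop : (Nat.card K).Coprime p := by
        rw [hKW]
        exact Nat.Coprime.coprime_dvd_right hpn hWcop
      obtain ⟨y, hyC, -, hyx⟩ := exists_lift_centralizer K hKcop ((zOmega H p).subgroupOf S)
        ((zOmega_isPGroup H p).comap_subtype) hxC hxp
      have hyG : (y : G) ∈ Subgroup.centralizer (zOmega H p : Set G) := by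
        rw [Subgroup.mem_centralizer_iff]
        intro w hw
        have hwS : w ∈ S := hMS (zOmega_le_of_centralizer_le H M c.hM c.hCM p hw)
        have := Subgroup.mem_centralizer_iff.mp hyC ⟨w, hwS⟩ (Subgroup.mem_subgroupOf.mpr hw)
        exact congrArg Subtype.val this
      rw [Subgroup.mem_centralizer_iff]
      rintro _ ⟨b, hb, rfl⟩
      have hbz : (b : G) ∈ zOmega H r := Subgroup.mem_subgroupOf.mp hb
      have hwP : xb * mk b * xb⁻¹ * (mk b)⁻¹ ∈ pCore p (↥S ⧸ K) := by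
        have hnorm : (pCore p (↥S ⧸ K)).Normal := inferInstance
        have h1 : mk b * xb⁻¹ * (mk b)⁻¹ ∈ pCore p (↥S ⧸ K) :=
          hnorm.conj_mem _ (Subgroup.inv_mem _ hxP) _
        have e : xb * mk b * xb⁻¹ * (mk b)⁻¹ = xb * (mk b * xb⁻¹ * (mk b)⁻¹) := by group
        rw [e]
        exact Subgroup.mul_mem _ hxP h1
      obtain ⟨k, hk⟩ := hPp ⟨_, hwP⟩
      have hk' : (xb * mk b * xb⁻¹ * (mk b)⁻¹) ^ p ^ k = 1 := by
        have := congrArg Subtype.val hk
        rwa [Subgroup.coe_pow, Subgroup.coe_one] at this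
      have hwW : ((y : G) * (b : G) * (y : G)⁻¹ * (b : G)⁻¹) ^ p ^ k ∈ W := by
        rw [← hyx] at hk'
        have h1 : mk ((y * b * y⁻¹ * b⁻¹) ^ p ^ k) = 1 := by
          rw [map_pow, map_mul, map_mul, map_mul, map_inv, map_inv]
          exact hk'
        have h2 := (hWmem _).mp ((hmk1 _).mp h1)
        simpa using h2
      have hcomm := c.commute_of_pow_mem p r hrp.symm hpn hrn W hWcop hyG hbz hwW
      rw [← hyx, ← map_mul, ← map_mul]
      congr 1
      exact Subtype.ext hcomm.symm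
    · -- `Ar ≤ N(Qb)`
      apply le_normalizer_of_conj_mem
      rintro _ ⟨a, ha, rfl⟩ _ ⟨y, hy, rfl⟩
      have haM : (a : G) ∈ M :=
        zOmega_le_of_centralizer_le H M c.hM c.hCM r (Subgroup.mem_subgroupOf.mp ha)
      have hyQ : (y : G) ∈ Q := Subgroup.mem_subgroupOf.mp hy
      have h1 : (a : G) * (y : G) * (a : G)⁻¹ ∈ Q :=
        (Subgroup.mem_normalizer_iff.mp (hMQ haM) _).mp hyQ
      refine ⟨a * y * a⁻¹, Subgroup.mem_subgroupOf.mpr ?_, ?_⟩
      · simpa using h1
      · rw [map_mul, map_mul, map_inv]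
    · -- `C_{Qb}(Ar) = 1`
      rw [eq_bot_iff]
      rintro _ ⟨⟨y, hy, rfl⟩, hyC⟩
      have hyQ : (y : G) ∈ Q := Subgroup.mem_subgroupOf.mp hy
      rw [Subgroup.mem_bot]
      apply (hmk1 y).mpr
      apply (hWmem y).mpr
      apply c.mem_of_commutator_mem hMS r hrn W Q hWS hQS hSW hWcop hQcop hMQ hyQ
      intro z hz
      have hzS : z ∈ S := hMS (zOmega_le_of_centralizer_le H M c.hM c.hCM r hz)
      have h1 := Subgroup.mem_centralizer_iff.mp hyC (mk ⟨z, hzS⟩)
        ⟨⟨z, hzS⟩, Subgroup.mem_subgroupOf.mpr hz, rfl⟩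
      have h2 : mk (⟨z, hzS⟩ * y * ⟨z, hzS⟩⁻¹ * y⁻¹) = 1 := by
        rw [map_mul, map_mul, map_mul, map_inv, map_inv, h1]
        group
      have h3 := (hWmem _).mp ((hmk1 _).mp h2)
      simpa using h3
  intro x hx
  have h1 : mk ⟨x, hQS hx⟩ ∈ Qb := ⟨⟨x, hQS hx⟩, Subgroup.mem_subgroupOf.mpr hx, rfl⟩
  rw [key, Subgroup.mem_bot] at h1
  exact (hWmem _).mp ((hmk1 _).mp h1)

/-- `N_G(R)` normalizes `O_π(R)`. -/
theorem normalizer_le_normalizer_piCoreOf [Finite G] (π : Set ℕ) (R : Subgroup G) :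
    Subgroup.normalizer (R : Set G) ≤
      Subgroup.normalizer ((piCoreOf π R : Subgroup G) : Set G) := by
  intro x hx
  set K : Subgroup G := piCoreOf π R with hK
  have hxR : MulAut.conj x • R = R := mem_normalizer_iff_conj_smul.mp hx
  have h1 : MulAut.conj x • K ≤ K := by
    apply le_piCoreOf π
    · have := conj_smul_le_conj_smul (g := x) (piCoreOf_le π R)
      rwa [hxR] at this
    · have := conj_smul_le_normalizer (g := x) (le_normalizer_piCoreOf π R)
      rwa [hxR] at this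
    · rw [card_conj_smul]
      exact piCoreOf_isPi π R
  rw [mem_normalizer_iff_conj_smul]
  exact Subgroup.eq_of_le_of_card_ge h1 (by rw [card_conj_smul])

theorem mem_invSubgroups_iff' {R E : Subgroup G} {q : ℕ} [Fact q.Prime] [Finite G]
    {Y : Subgroup G} :
    Y ∈ invSubgroups R E {q} ↔
      Y ≤ R ∧ IsPGroup q Y ∧ E ≤ Subgroup.normalizer (Y : Set G) := by
  unfold invSubgroups
  simp only [Set.mem_ofPred_eq, Set.mem_singleton_iff]
  constructor
  · rintro ⟨h0, h1, h2⟩
    refine ⟨h0, ?_, h2⟩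
    have := Nat.eq_prime_pow_of_unique_prime_dvd (n := Nat.card Y) (p := q) Nat.card_pos.ne'
      (fun {d} hd hdv => h1 d hd hdv)
    exact IsPGroup.of_card this
  · rintro ⟨h0, h1, h2⟩
    refine ⟨h0, ?_, h2⟩
    intro r hr hrd
    obtain ⟨k, hk⟩ := h1.exists_card_eq
    rw [hk] at hrd
    exact (Nat.prime_dvd_prime_iff_eq hr Fact.out).mp (hr.dvd_of_dvd_pow hrd)

theorem exists_maxInv_ge' [Finite G] {R E : Subgroup G} {π : Set ℕ} {Y : Subgroup G}
    (hY : Y ∈ invSubgroups R E π) : ∃ M ∈ maxInvSubgroups R E π, Y ≤ M := by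
  obtain ⟨M, hYM, hM⟩ := Set.Finite.exists_le_maximal (Set.toFinite (invSubgroups R E π)) hY
  refine ⟨M, ⟨hM.prop, ?_⟩, hYM⟩
  intro R' hR' hMR
  exact le_antisymm (hM.le_of_ge hR' hMR) hMR

/-- **Bender's lemma** (S1481). -/
theorem bender_unique_maxInv [Finite G] (H : Subgroup G)
    (hHmax : ∀ L : Subgroup G, IsLocalSubgroup L → H ≤ L → L = H)
    (hF2 : 2 ≤ (Nat.card (fittingOf H)).primeFactors.card)
    (M : Subgroup G) (hM : M ≤ fittingOf H)
    (hCM : fittingOf H ⊓ Subgroup.centralizer (M : Set G) ≤ M)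
    (R : Subgroup G) (hR : Group.IsSolvable R) (hMR : M ≤ Subgroup.normalizer (R : Set G))
    (hXR : H ⊓ Subgroup.centralizer (fittingOf H : Set G) ≤ Subgroup.normalizer (R : Set G))
    (q : ℕ) [Fact q.Prime] (hq : ¬ q ∣ Nat.card (fittingOf H)) :
    ∃! Q : Subgroup G, Q ∈ maxInvSubgroups R M {q} ∧
      (∀ Q' : Subgroup G, Q' ∈ maxInvSubgroups R M {q} →
        Q' ≤ piCoreOf (primesNotDvd (Nat.card (fittingOf H))) R ∧
        ¬ q ∣ Q'.relIndex (piCoreOf (primesNotDvd (Nat.card (fittingOf H))) R)) := by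
  classical
  set n := Nat.card (fittingOf H) with hn
  set π' := primesNotDvd n with hπ'
  set W := piCoreOf π' R with hW
  set S := R ⊔ M with hSdef
  have hMnil : Group.IsNilpotent M :=
    Cfsg.Agent.Lib.Helper65.isNilpotent_of_le hM (isNilpotent_fittingOf H)
  have hMsolv : Group.IsSolvable M := inferInstance
  have hS : Group.IsSolvable S :=
    Cfsg.Agent.Lib.Helper22.isSolvable_sup_of_le_normalizer hMR hR hMsolv
  have hMS : M ≤ S := le_sup_right
  have hRS : R ≤ S := le_sup_left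
  have hXM : H ⊓ Subgroup.centralizer (fittingOf H : Set G) ≤
      Subgroup.normalizer (M : Set G) :=
    (inf_le_right.trans (Subgroup.centralizer_le hM)).trans (Subgroup.centralizer_le_normalizer _)
  have hXS : H ⊓ Subgroup.centralizer (fittingOf H : Set G) ≤
      Subgroup.normalizer (S : Set G) := le_normalizer_sup hXR hXM
  have cS : BenderCtx H M S := ⟨hHmax, hM, hCM, inf_le_fittingOf_of_solvable H S hS hXS⟩
  have cR : BenderCtx H M R := cS.mono hRS
  have hMW : M ≤ Subgroup.normalizer (W : Set G) :=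
    hMR.trans (normalizer_le_normalizer_piCoreOf π' R)
  have hWR : W ≤ R := piCoreOf_le π' R
  have hWcop : (Nat.card W).Coprime n := coprime_of_primesNotDvd (piCoreOf_isPi π' R)
  have hMcop : (Nat.card M).Coprime (Nat.card W) :=
    (Nat.Coprime.coprime_dvd_right (Subgroup.card_dvd_of_le hM) hWcop).symm
  -- every invariant `q`-subgroup lies in `W`
  have hA : ∀ Q : Subgroup G, Q ∈ invSubgroups R M {q} → Q ≤ W := by
    intro Q hQ
    obtain ⟨hQR, hQq, hMQ⟩ := mem_invSubgroups_iff'.mp hQ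
    have h1 := cS.le_piCoreOf hS hMS hF2 q hq Q (hQR.trans hRS) hQq hMQ
    have h2 : R ⊓ piCoreOf π' S ≤ W := by
      apply le_piCoreOf π' inf_le_left
      · exact le_normalizer_inf Subgroup.le_normalizer (hRS.trans (le_normalizer_piCoreOf π' S))
      · intro r hr hrd
        exact piCoreOf_isPi π' S r hr (hrd.trans (Subgroup.card_dvd_of_le inf_le_right))
    exact (le_inf hQR h1).trans h2
  -- every maximal one is an invariant Sylow subgroup of `W`
  have hB : ∀ Q : Subgroup G, Q ∈ maxInvSubgroups R M {q} →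
      ∃ P : Sylow q ↥W, Q = (P : Subgroup ↥W).map W.subtype ∧
        M ≤ Subgroup.normalizer (((P : Subgroup ↥W).map W.subtype : Subgroup G) : Set G) := by
    intro Q hQ
    obtain ⟨hQR, hQq, hMQ⟩ := mem_invSubgroups_iff'.mp hQ.1
    obtain ⟨P, hQP, hMP⟩ := exists_invariant_sylow_ge M W hMW hMcop (Or.inl hMsolv) q Q
      (hA Q hQ.1) hQq hMQ
    refine ⟨P, ?_, hMP⟩
    have hPinv : (P : Subgroup ↥W).map W.subtype ∈ invSubgroups R M {q} := by
      rw [mem_invSubgroups_iff']
      exact ⟨(Subgroup.map_subtype_le _).trans hWR, P.isPGroup'.map _, hMP⟩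
    exact (hQ.2 _ hPinv hQP).symm
  -- uniqueness
  have hU : ∀ Q₁ ∈ maxInvSubgroups R M {q}, ∀ Q₂ ∈ maxInvSubgroups R M {q}, Q₁ = Q₂ := by
    intro Q₁ h₁ Q₂ h₂
    obtain ⟨P₁, hP₁, hM₁⟩ := hB Q₁ h₁
    obtain ⟨P₂, hP₂, hM₂⟩ := hB Q₂ h₂
    obtain ⟨c, hcM, hc⟩ := exists_centralizer_conj_sylow M W hMW hMcop (Or.inl hMsolv) q P₁ P₂
      hM₁ hM₂
    -- `c = 1`
    have hne : n.primeFactors.Nonempty := by
      rw [← Finset.card_pos]; omega
    obtain ⟨p, hpmem⟩ := hne
    have hp : p.Prime := Nat.prime_of_mem_primeFactors hpmem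
    have hpn : p ∣ n := Nat.dvd_of_mem_primeFactors hpmem
    have : Fact p.Prime := ⟨hp⟩
    have hbot := cR.inf_centralizer_zOmega p hpn hWR hMW hWcop
    have hcW : (c : G) ∈ W ⊓ Subgroup.centralizer (zOmega H p : Set G) :=
      ⟨c.2, Subgroup.centralizer_le (zOmega_le_of_centralizer_le H M hM hCM p) hcM⟩
    rw [hbot, Subgroup.mem_bot] at hcW
    have hc1 : c = 1 := Subtype.ext hcW
    rw [hc1, map_one, one_smul] at hc
    rw [hP₁, hP₂, hc]
  obtain ⟨Q₀, hQ₀, -⟩ := exists_maxInv_ge' (R := R) (E := M) (π := {q}) (Y := ⊥) (by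
    rw [mem_invSubgroups_iff']
    exact ⟨bot_le, IsPGroup.of_bot, by rw [Subgroup.normalizer_eq_top]; exact le_top⟩)
  have hprop : ∀ Q' : Subgroup G, Q' ∈ maxInvSubgroups R M {q} →
      Q' ≤ W ∧ ¬ q ∣ Q'.relIndex W := by
    intro Q' hQ'
    refine ⟨hA Q' hQ'.1, ?_⟩
    obtain ⟨P, hP, -⟩ := hB Q' hQ'
    have h1 : Q'.subgroupOf W = (P : Subgroup ↥W) := by
      ext x
      rw [Subgroup.mem_subgroupOf, hP]
      constructor
      · rintro ⟨y, hy, hyx⟩
        have : y = x := Subtype.ext hyx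
        rwa [← this]
      · intro hx
        exact ⟨x, hx, rfl⟩
    unfold Subgroup.relIndex
    rw [h1]
    exact P.not_dvd_index
  exact ⟨Q₀, ⟨hQ₀, hprop⟩, fun Q₁ hQ₁ => hU Q₁ hQ₁.1 Q₀ hQ₀⟩

end Fitting

end Cfsg.Agent.Lib.Helper54
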