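import Cfsg.Agent.Lib.Helper54.UqFinalB
import Cfsg.Agent.Lib.Helper34.NonSigma
import Cfsg.Agent.Lib.Helper50.AlphaCore
import Cfsg.Agent.Lib.Helper96.SigmaHall

/-!
# Bender–Glauberman §10–§12 preliminaries, conditional on the Uniqueness Theorem

`hU : UniquenessThm G` is the statement of Bender–Glauberman Theorem 9.6 for `G`. This file collects
the basic facts on `σ(M)` and `M_σ`, Corollary 10.7 and Lemma 12.2.
-/

set_option autoImplicit false

namespace Cfsg.Agent.Lib.Helper54

open scoped Pointwise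
open Cfsg
open Cfsg.Agent.Lib.Helper34 (UniquenessThm)

variable {G : Type*} [Group G]

theorem uniqThree_of_uniquenessThm (hU : UniquenessThm G) : Cfsg.Agent.Lib.Helper50.UniqThree G :=
  fun K hK h1 h2 => hU K hK h1 (Or.inl h2)

/-- Bender–Glauberman 10.1 for `p ∈ σ(M)`. -/
theorem sigma_ctrl [Finite G] (hG : IsMinSimpleOddOrder G) (hU : UniquenessThm G)
    (M : Subgroup G) (hM : IsCoatom M) (p : ℕ) [Fact p.Prime] (hp : p ∈ sigma M)
    (X : Subgroup G) (hXp : IsPGroup p X) (hXM : X ≤ M) :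
    (∀ g : G, X.map (MulAut.conj g).toMonoidHom ≤ M →
        ∃ m ∈ M, ∃ c ∈ Subgroup.centralizer (X : Set G), g = m * c) ∧
      Subgroup.normalizer (X : Set G) =
        (M ⊓ Subgroup.normalizer (X : Set G)) ⊔ Subgroup.centralizer (X : Set G) :=
  Cfsg.Agent.Lib.Helper34.sigma_fusion
    (Cfsg.Agent.Lib.Helper50.fusionData_of_mem_sigma hG (uniqThree_of_uniquenessThm hU) M hM p hp)
    X hXp hXM

/-- If `X ≤ M ∩ M^g` is a `p`-subgroup with `p ∈ σ(M)`, then `M^g = M^c` for some `c ∈ C_G(X)`. -/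
theorem sigma_conj_eq [Finite G] (hG : IsMinSimpleOddOrder G) (hU : UniquenessThm G)
    (M : Subgroup G) (hM : IsCoatom M) (p : ℕ) [Fact p.Prime] (hp : p ∈ sigma M)
    (X : Subgroup G) (hXp : IsPGroup p X) (hXM : X ≤ M) (g : G) (hXg : X ≤ MulAut.conj g • M) :
    ∃ c ∈ Subgroup.centralizer (X : Set G), MulAut.conj g • M = MulAut.conj c • M := by
  have h1 : X.map (MulAut.conj g⁻¹).toMonoidHom ≤ M := by
    rintro _ ⟨x, hx, rfl⟩
    have := mem_conj_smul_iff.mp (hXg hx)
    simpa [MulAut.conj_apply] using this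
  obtain ⟨m, hm, c, hc, hgmc⟩ := (sigma_ctrl hG hU M hM p hp X hXp hXM).1 g⁻¹ h1
  refine ⟨c⁻¹, inv_mem hc, ?_⟩
  have hg : g = c⁻¹ * m⁻¹ := by
    have : g⁻¹⁻¹ = (m * c)⁻¹ := by rw [hgmc]
    rw [inv_inv] at this
    rw [this, mul_inv_rev]
  rw [hg, map_mul, mul_smul]
  congr 1
  exact mem_normalizer_iff_conj_smul.mp (Subgroup.le_normalizer (M.inv_mem hm))

/-- `M_σ` is a Hall `σ(M)`-subgroup of `M` and of `G`. -/
theorem sigmaCore_hall_of [Finite G] (hG : IsMinSimpleOddOrder G) (hU : UniquenessThm G)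
    (M : Subgroup G) (hM : IsCoatom M) :
    IsPiHallOf (sigma M) (sigmaCore M) M ∧ IsPiHall (sigma M) (sigmaCore M) := by
  have h1405 := Cfsg.Agent.Lib.Helper50.s1405_of hG (uniqThree_of_uniquenessThm hU) M hM
  have hF : Cfsg.Agent.Lib.Helper96.SigmaHall.FusionControl M := by
    intro p _ hp X hXp _ hXM g hg
    exact (sigma_ctrl hG hU M hM p hp X hXp hXM).1 g hg
  have := Cfsg.Agent.Lib.Helper96.SigmaHall.sigmaCore_hall hG.2.1 hG.2.2.1 M hF h1405.2.2.1 h1405.2.2.2.2
  exact ⟨this.1, this.2.1⟩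

theorem sigmaCore_le (M : Subgroup G) : sigmaCore M ≤ M := Subgroup.map_subtype_le _

theorem le_normalizer_sigmaCore (M : Subgroup G) :
    M ≤ Subgroup.normalizer (sigmaCore M : Set G) :=
  le_normalizer_map_subtype M (piCore (sigma M) ↥M)

theorem sigmaCore_isPi [Finite G] (M : Subgroup G) :
    ∀ r : ℕ, r.Prime → r ∣ Nat.card (sigmaCore M) → r ∈ sigma M :=
  piCoreOf_isPi (sigma M) M

theorem alphaCore_isPi [Finite G] (M : Subgroup G) :
    ∀ r : ℕ, r.Prime → r ∣ Nat.card (alphaCore M) → r ∈ alpha M :=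
  piCoreOf_isPi (alpha M) M

/-- A subgroup whose order is prime to the index of the normal subgroup `N` of `X` lies in `N`. -/
theorem le_of_normal_of_coprime_index {X : Type*} [Group X] [Finite X] (N : Subgroup X) [N.Normal]
    {Y : Subgroup X} (h : (Nat.card Y).Coprime N.index) : Y ≤ N := by
  apply le_of_forall_exists_sylow_le
  intro q hq
  obtain ⟨Q⟩ : Nonempty (Sylow q Y) := inferInstance
  refine ⟨Q, ?_⟩
  by_cases hqN : q ∣ N.index
  · -- then `q ∤ |Y|` and `Q` is trivial
    have hqY : ¬ q ∣ Nat.card Y := by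
      intro hqY
      have := Nat.Coprime.eq_one_of_dvd (h.coprime_dvd_left hqY) hqN
      exact hq.out.one_lt.ne' this
    have hQ1 : (Q : Subgroup Y) = ⊥ := by
      by_contra hne
      have h1 : q ∣ Nat.card (Q : Subgroup Y) := by
        obtain ⟨j, hj⟩ := Q.isPGroup'.exists_card_eq
        have hj0 : j ≠ 0 := by
          rintro rfl
          rw [pow_zero] at hj
          exact hne (Subgroup.card_eq_one.mp hj)
        rw [hj]
        exact dvd_pow_self q hj0
      exact hqY (h1.trans (Subgroup.card_subgroup_dvd_card _))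
    rw [hQ1, Subgroup.map_bot]
    exact bot_le
  · exact le_of_normal_of_index_coprime N ((Nat.Prime.coprime_iff_not_dvd hq.out).mpr hqN).symm
      (Q.isPGroup'.map _)

/-- Every `σ(M)`-subgroup of `M` lies in `M_σ`. -/
theorem le_sigmaCore_of_isPi [Finite G] (hG : IsMinSimpleOddOrder G) (hU : UniquenessThm G)
    (M : Subgroup G) (hM : IsCoatom M) {Y : Subgroup G} (hYM : Y ≤ M)
    (hY : ∀ r : ℕ, r.Prime → r ∣ Nat.card Y → r ∈ sigma M) : Y ≤ sigmaCore M := by
  have hHall := (sigmaCore_hall_of hG hU M hM).1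
  have hidx : (piCore (sigma M) ↥M).index = (sigmaCore M).relIndex M := by
    rw [Subgroup.relIndex, sigmaCore, Subgroup.subgroupOf,
      Subgroup.comap_map_eq_self_of_injective M.subtype_injective]
  have hcop : (Nat.card (Y.subgroupOf M)).Coprime (piCore (sigma M) ↥M).index := by
    apply Nat.Coprime.symm
    apply Nat.coprime_of_dvd
    intro k hk hk1 hk2
    rw [hidx] at hk1
    have hkY : k ∣ Nat.card Y := by
      rw [← Nat.card_congr (Subgroup.subgroupOfEquivOfLe hYM).toEquiv]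
      exact hk2
    exact hHall.2.2 k hk (hY k hk hkY) hk1
  have h1 := le_of_normal_of_coprime_index (piCore (sigma M) ↥M) hcop
  intro y hy
  exact ⟨⟨y, hYM hy⟩, h1 (Subgroup.mem_subgroupOf.mpr hy), rfl⟩

/-- For `q ∈ σ(M)`, the Sylow `q`-subgroups of `M_σ` are Sylow `q`-subgroups of `G` whose normalizers
lie in `M`. -/
theorem sylow_sigmaCore_facts [Finite G] (hG : IsMinSimpleOddOrder G) (hU : UniquenessThm G)
    (M : Subgroup G) (hM : IsCoatom M) (q : ℕ) [Fact q.Prime] (hq : q ∈ sigma M)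
    (Q : Sylow q (sigmaCore M)) :
    (∀ R : Subgroup G, IsPGroup q R → (Q : Subgroup (sigmaCore M)).map (sigmaCore M).subtype ≤ R →
        R = (Q : Subgroup (sigmaCore M)).map (sigmaCore M).subtype) ∧
      Subgroup.normalizer
        ((((Q : Subgroup (sigmaCore M)).map (sigmaCore M).subtype : Subgroup G)) : Set G) ≤ M := by
  have hqp : q.Prime := Fact.out
  have hHall := (sigmaCore_hall_of hG hU M hM).2
  have hQq : IsPGroup q ((Q : Subgroup (sigmaCore M)).map (sigmaCore M).subtype) :=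
    Q.isPGroup'.map _
  have hQle : (Q : Subgroup (sigmaCore M)).map (sigmaCore M).subtype ≤ sigmaCore M :=
    Subgroup.map_subtype_le _
  have hidx : ¬ q ∣ ((Q : Subgroup (sigmaCore M)).map (sigmaCore M).subtype).index := by
    rw [← Subgroup.relIndex_mul_index hQle]
    intro h
    rcases (Nat.Prime.dvd_mul hqp).mp h with h1 | h1
    · rw [Subgroup.relIndex, Subgroup.subgroupOf,
        Subgroup.comap_map_eq_self_of_injective (Subgroup.subtype_injective _)] at h1
      exact Q.not_dvd_index h1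
    · exact hHall.2 q hqp hq h1
  have hmax : ∀ R : Subgroup G, IsPGroup q R →
      (Q : Subgroup (sigmaCore M)).map (sigmaCore M).subtype ≤ R →
      R = (Q : Subgroup (sigmaCore M)).map (sigmaCore M).subtype := by
    intro R hR hQR
    have h1 := (hQq.toSylow hidx).is_maximal' hR (by rw [IsPGroup.toSylow_coe]; exact hQR)
    rw [IsPGroup.toSylow_coe] at h1
    exact h1
  refine ⟨hmax, ?_⟩
  obtain ⟨S', hS'⟩ := exists_sylow_map_eq _ hQq hmax M (hQle.trans (sigmaCore_le M))
  obtain ⟨-, -, P₀, h0⟩ := hq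
  rw [← hS']
  exact Cfsg.Agent.Lib.Helper34.normalizer_map_sylow_le_of_exists P₀ h0 S'

end Cfsg.Agent.Lib.Helper54
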