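import Cfsg.Agent.Lib.Helper54.BGUnique
import Cfsg.Prelude.Def_LieExceptional

/-!
# Finite CN-groups: maximal nilpotent subgroups and commuting primes

In a finite group in which the centralizer of every non-identity element is nilpotent, a maximal
nilpotent subgroup `H` of order divisible by `p` contains a Sylow `p`-subgroup `S` of `G` and
`H = C_G(w)` for every `1 ≠ w ∈ Z(S)`.  Hence two maximal nilpotent subgroups are conjugate or of
coprime orders, and "some `p`-element commutes with some `q`-element" is a transitive relation.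
-/

set_option autoImplicit false

namespace Cfsg.Agent.Lib.Helper54

open Cfsg

section CN

open scoped Pointwise

variable {G : Type*} [Group G]

/-- For a nilpotent subgroup `H`, `F(H) = H`. -/
theorem fittingOf_eq_self_of_isNilpotent (H : Subgroup G) (hH : Group.IsNilpotent H) :
    fittingOf H = H := by
  have h1 : fittingSubgroup ↥H = ⊤ := by
    rw [eq_top_iff]
    apply le_sSup
    refine ⟨inferInstance, ?_⟩
    exact (Group.isNilpotent_congr (Subgroup.topEquiv (G := ↥H))).mpr hH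
  unfold fittingOf
  rw [h1, ← MonoidHom.range_eq_map, Subgroup.range_subtype]

/-- `g` lies in `C_G(w)` iff it commutes with `w`. -/
theorem mem_centralizer_singleton {g w : G} :
    g ∈ Subgroup.centralizer ({w} : Set G) ↔ w * g = g * w := by
  rw [Subgroup.mem_centralizer_iff]
  constructor
  · intro h
    exact h w rfl
  · rintro h _ rfl
    exact h

/-- Elements of a nilpotent subgroup with coprime orders commute. -/
theorem commute_of_coprime_of_mem_nilpotent [Finite G] {N : Subgroup G}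
    (hN : Group.IsNilpotent N) {a b : G} (ha : a ∈ N) (hb : b ∈ N)
    (h : (orderOf a).Coprime (orderOf b)) : a * b = b * a := by
  have h1 : Commute (⟨a, ha⟩ : ↥N) ⟨b, hb⟩ := by
    apply Cfsg.Agent.Lib.Helper65.commute_of_coprime_orderOf
    rw [← Subgroup.orderOf_coe, ← Subgroup.orderOf_coe]
    exact h
  exact congrArg Subtype.val h1.eq

/-- The key structure lemma for maximal nilpotent subgroups of a CN-group. -/
theorem cn_maxNilpotent_sylow [Finite G] (hCN : IsCNGroup G) (H : Subgroup G)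
    (hH : Group.IsNilpotent H)
    (hmax : ∀ L : Subgroup G, Group.IsNilpotent L → H ≤ L → L = H) (p : ℕ) [Fact p.Prime]
    (hp : p ∣ Nat.card H) :
    ∃ S : Sylow p G, (S : Subgroup G) ≠ ⊥ ∧ ∀ w ∈ (S : Subgroup G), w ≠ 1 →
      (∀ s ∈ (S : Subgroup G), s * w = w * s) → Subgroup.centralizer ({w} : Set G) = H := by
  have hF : fittingOf H = H := fittingOf_eq_self_of_isNilpotent H hH
  -- `H = C(w)` as soon as `w ≠ 1` is central in `H`
  have hcent : ∀ w : G, w ≠ 1 → (∀ h ∈ H, w * h = h * w) →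
      Subgroup.centralizer ({w} : Set G) = H := by
    intro w hw1 hw
    apply hmax _ (hCN w hw1)
    intro h hh
    exact mem_centralizer_singleton.mpr (hw h hh)
  -- a central element of order `p`
  obtain ⟨z, hzH, hzc, hzo⟩ := exists_center_fittingOf_orderOf H p (by rw [hF]; exact hp)
  rw [hF] at hzH hzc
  have hz1 : z ≠ 1 := by
    intro h
    rw [h, orderOf_one] at hzo
    exact (Fact.out : p.Prime).ne_one hzo.symm
  have hCz : Subgroup.centralizer ({z} : Set G) = H := by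
    apply hcent z hz1
    intro h hh
    exact (Subgroup.mem_centralizer_iff.mp hzc h hh).symm
  -- a Sylow subgroup containing `O_p(H)`
  obtain ⟨S, hPS⟩ := (pcOf_isPGroup p H).exists_le_sylow
  have hpmem : ∀ y ∈ H, (∃ k : ℕ, y ^ p ^ k = 1) → y ∈ pcOf p H := by
    rintro y hy ⟨k, hk⟩
    have hzp : IsPGroup p (Subgroup.zpowers y) := by
      have hdvd : orderOf y ∣ p ^ k := orderOf_dvd_of_pow_eq_one hk
      obtain ⟨j, -, hj⟩ := (Nat.dvd_prime_pow Fact.out).mp hdvd
      apply IsPGroup.of_card (n := j)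
      rw [Nat.card_zpowers, hj]
    have hle : Subgroup.zpowers y ≤ fittingOf H := by
      rw [hF, Subgroup.zpowers_le]; exact hy
    exact le_pcOf_of_isPGroup p hzp hle (Subgroup.mem_zpowers y)
  have hzP : z ∈ pcOf p H := hpmem z hzH ⟨1, by rw [pow_one, ← hzo]; exact pow_orderOf_eq_one z⟩
  have hzS : z ∈ (S : Subgroup G) := hPS hzP
  refine ⟨S, ?_, ?_⟩
  · intro h
    rw [h, Subgroup.mem_bot] at hzS
    exact hz1 hzS
  · intro w hwS hw1 hwc
    have hwz : z * w = w * z := hwc z hzS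
    have hwH : w ∈ H := by
      rw [← hCz]
      exact mem_centralizer_singleton.mpr hwz
    have hwP : w ∈ pcOf p H := by
      apply hpmem w hwH
      obtain ⟨k, hk⟩ := S.isPGroup' ⟨w, hwS⟩
      refine ⟨k, ?_⟩
      have := congrArg Subtype.val hk
      rwa [Subgroup.coe_pow, Subgroup.coe_one] at this
    apply hcent w hw1
    intro h hh
    obtain ⟨a, ha, b, hb, rfl⟩ := exists_mul_of_mem_fittingOf p H (by rw [hF]; exact hh)
    have h1 : a * w = w * a := hwc a (hPS ha)
    have h2 : w * b = b * w := pcOf_commute_pcComplOf p H hwP hb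
    rw [← mul_assoc, ← h1, mul_assoc, h2, mul_assoc]

/-- Two maximal nilpotent subgroups of a finite CN-group are conjugate or of coprime orders. -/
theorem cn_maxNilpotent_conj_or_coprime [Finite G] (hCN : IsCNGroup G) (H₁ H₂ : Subgroup G)
    (h₁ : Group.IsNilpotent H₁ ∧ ∀ L : Subgroup G, Group.IsNilpotent L → H₁ ≤ L → L = H₁)
    (h₂ : Group.IsNilpotent H₂ ∧ ∀ L : Subgroup G, Group.IsNilpotent L → H₂ ≤ L → L = H₂) :
    (∃ g : G, H₂ = H₁.map (MulAut.conj g).toMonoidHom) ∨
      (Nat.card H₁).Coprime (Nat.card H₂) := by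
  by_cases hc : (Nat.card H₁).Coprime (Nat.card H₂)
  · exact Or.inr hc
  left
  obtain ⟨p, hp, hp1, hp2⟩ := Nat.Prime.not_coprime_iff_dvd.mp hc
  have : Fact p.Prime := ⟨hp⟩
  obtain ⟨S₁, hS₁, hw₁⟩ := cn_maxNilpotent_sylow hCN H₁ h₁.1 h₁.2 p hp1
  obtain ⟨S₂, -, hw₂⟩ := cn_maxNilpotent_sylow hCN H₂ h₂.1 h₂.2 p hp2
  obtain ⟨g, hg⟩ := MulAction.exists_smul_eq G S₁ S₂
  -- a nontrivial central element of `S₁`
  have hnt : Nontrivial (S₁ : Subgroup G) := (Subgroup.nontrivial_iff_ne_bot _).mpr hS₁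
  have hcn : Nontrivial (Subgroup.center (S₁ : Subgroup G)) := S₁.isPGroup'.center_nontrivial
  obtain ⟨⟨w, hwc⟩, hw1⟩ := exists_ne (1 : Subgroup.center (S₁ : Subgroup G))
  have hw1' : (w : G) ≠ 1 := by
    intro h
    apply hw1
    apply Subtype.ext
    apply Subtype.ext
    exact h
  have hwcomm : ∀ s ∈ (S₁ : Subgroup G), s * (w : G) = (w : G) * s := by
    intro s hs
    have := Subgroup.mem_center_iff.mp hwc ⟨s, hs⟩
    exact congrArg Subtype.val this
  have hC1 : Subgroup.centralizer ({(w : G)} : Set G) = H₁ := hw₁ (w : G) w.2 hw1' hwcomm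
  -- transport to `S₂`
  have hS₂ : ∀ y : G, y ∈ (S₂ : Subgroup G) ↔ g⁻¹ * y * g ∈ (S₁ : Subgroup G) := by
    intro y
    rw [← hg, Sylow.coe_subgroup_smul, Subgroup.mem_pointwise_smul_iff_inv_smul_mem]
    simp [MulAut.smul_def]
  have hgw : g * (w : G) * g⁻¹ ∈ (S₂ : Subgroup G) := by
    rw [hS₂]
    have e : g⁻¹ * (g * (w : G) * g⁻¹) * g = (w : G) := by group
    rw [e]
    exact w.2
  have hgw1 : g * (w : G) * g⁻¹ ≠ 1 := by
    intro h
    apply hw1'
    have e : (w : G) = g⁻¹ * (g * (w : G) * g⁻¹) * g := by group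
    rw [e, h]; group
  have hgwc : ∀ s ∈ (S₂ : Subgroup G), s * (g * (w : G) * g⁻¹) = (g * (w : G) * g⁻¹) * s := by
    intro s hs
    have h1 := hwcomm _ ((hS₂ s).mp hs)
    have e1 : s * (g * (w : G) * g⁻¹) = g * ((g⁻¹ * s * g) * (w : G)) * g⁻¹ := by group
    have e2 : (g * (w : G) * g⁻¹) * s = g * ((w : G) * (g⁻¹ * s * g)) * g⁻¹ := by group
    rw [e1, e2, h1]
  have hC2 : Subgroup.centralizer ({g * (w : G) * g⁻¹} : Set G) = H₂ := hw₂ _ hgw hgw1 hgwc
  refine ⟨g, ?_⟩
  rw [← hC2, ← hC1]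
  ext y
  rw [mem_centralizer_singleton, Subgroup.mem_map]
  constructor
  · intro hy
    refine ⟨g⁻¹ * y * g, ?_, ?_⟩
    · rw [mem_centralizer_singleton]
      have e1 : (w : G) * (g⁻¹ * y * g) = g⁻¹ * ((g * (w : G) * g⁻¹) * y) * g := by group
      have e2 : g⁻¹ * y * g * (w : G) = g⁻¹ * (y * (g * (w : G) * g⁻¹)) * g := by group
      rw [e1, e2, hy]
    · simp [MulAut.conj_apply]
      group
  · rintro ⟨x, hx, rfl⟩
    rw [mem_centralizer_singleton] at hx
    simp only [MulEquiv.coe_toMonoidHom, MulAut.conj_apply]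
    have e1 : g * (w : G) * g⁻¹ * (g * x * g⁻¹) = g * ((w : G) * x) * g⁻¹ := by group
    have e2 : g * x * g⁻¹ * (g * (w : G) * g⁻¹) = g * (x * (w : G)) * g⁻¹ := by group
    rw [e1, e2, hx]

/-- A nontrivial element generating a `p`-group has order a positive power of `p`. -/
theorem exists_orderOf_eq_pow_of_isPGroup_zpowers {p : ℕ} [Fact p.Prime] {x : G}
    (hx : IsPGroup p (Subgroup.zpowers x)) : ∃ k : ℕ, orderOf x = p ^ k := by
  obtain ⟨k, hk⟩ := hx ⟨x, Subgroup.mem_zpowers x⟩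
  have hk' : x ^ p ^ k = 1 := by
    have := congrArg Subtype.val hk
    rwa [Subgroup.coe_pow, Subgroup.coe_one] at this
  obtain ⟨j, -, hj⟩ := (Nat.dvd_prime_pow Fact.out).mp (orderOf_dvd_of_pow_eq_one hk')
  exact ⟨j, hj⟩

/-- In a finite CN-group, commuting nontrivial elements `x` (a `p`-element) and `y` (lying in a
`q`-subgroup `Q`, `q ≠ p`): `x` commutes with every element of `Z(Q)`. -/
theorem cn_commute_center [Finite G] (hCN : IsCNGroup G) {p q : ℕ} [Fact p.Prime] [Fact q.Prime]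
    (hpq : p ≠ q) {x y w : G} (hy1 : y ≠ 1) (hx : IsPGroup p (Subgroup.zpowers x))
    (hw : IsPGroup q (Subgroup.zpowers w)) (hxy : x * y = y * x) (hwy : w * y = y * w) :
    x * w = w * x := by
  have hN := hCN y hy1
  have hxN : x ∈ Subgroup.centralizer ({y} : Set G) := mem_centralizer_singleton.mpr hxy.symm
  have hwN : w ∈ Subgroup.centralizer ({y} : Set G) := mem_centralizer_singleton.mpr hwy.symm
  obtain ⟨k, hk⟩ := exists_orderOf_eq_pow_of_isPGroup_zpowers hx
  obtain ⟨j, hj⟩ := exists_orderOf_eq_pow_of_isPGroup_zpowers hw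
  apply commute_of_coprime_of_mem_nilpotent hN hxN hwN
  rw [hk, hj]
  exact Nat.Coprime.pow _ _ ((Nat.coprime_primes Fact.out Fact.out).mpr hpq)

/-- In a finite CN-group, the relation "some nontrivial `p`-element commutes with some nontrivial
`q`-element" is transitive. -/
theorem cn_commuting_primes_trans [Finite G] (hCN : IsCNGroup G) (p q r : ℕ) (hp : p.Prime)
    (hq : q.Prime) (hr : r.Prime) (x y y' z : G) (hx1 : x ≠ 1) (hy1 : y ≠ 1) (hy'1 : y' ≠ 1)
    (hz1 : z ≠ 1) (hx : IsPGroup p (Subgroup.zpowers x)) (hy : IsPGroup q (Subgroup.zpowers y))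
    (hy' : IsPGroup q (Subgroup.zpowers y')) (hz : IsPGroup r (Subgroup.zpowers z))
    (hxy : x * y = y * x) (hyz : y' * z = z * y') :
    ∃ x' z' : G, x' ≠ 1 ∧ z' ≠ 1 ∧ IsPGroup p (Subgroup.zpowers x') ∧
      IsPGroup r (Subgroup.zpowers z') ∧ x' * z' = z' * x' := by
  have : Fact p.Prime := ⟨hp⟩
  have : Fact q.Prime := ⟨hq⟩
  have : Fact r.Prime := ⟨hr⟩
  by_cases hpq : p = q
  · subst hpq
    exact ⟨y', z, hy'1, hz1, hy', hz, hyz⟩
  by_cases hqr : q = r
  · subst hqr
    exact ⟨x, y, hx1, hy1, hx, hy, hxy⟩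
  by_cases hpr : p = r
  · subst hpr
    exact ⟨x, x, hx1, hx1, hx, hx, rfl⟩
  -- a Sylow `q`-subgroup containing `y`, and a conjugate of `y'` in it
  obtain ⟨Q, hyQ⟩ := hy.exists_le_sylow
  obtain ⟨Q', hy'Q⟩ := hy'.exists_le_sylow
  obtain ⟨g, hg⟩ := MulAction.exists_smul_eq G Q Q'
  have hQ' : ∀ u : G, u ∈ (Q' : Subgroup G) ↔ g⁻¹ * u * g ∈ (Q : Subgroup G) := by
    intro u
    rw [← hg, Sylow.coe_subgroup_smul, Subgroup.mem_pointwise_smul_iff_inv_smul_mem]
    simp [MulAut.smul_def]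
  have hyQm : y ∈ (Q : Subgroup G) := hyQ (Subgroup.mem_zpowers y)
  have hy''Q : g⁻¹ * y' * g ∈ (Q : Subgroup G) := (hQ' y').mp (hy'Q (Subgroup.mem_zpowers y'))
  -- a nontrivial central element of `Q`
  have hnt : Nontrivial (Q : Subgroup G) :=
    ⟨⟨⟨y, hyQm⟩, 1, fun h => hy1 (congrArg Subtype.val h)⟩⟩
  have hcn : Nontrivial (Subgroup.center (Q : Subgroup G)) := Q.isPGroup'.center_nontrivial
  obtain ⟨⟨w, hwc⟩, hw1⟩ := exists_ne (1 : Subgroup.center (Q : Subgroup G))
  have hw1' : (w : G) ≠ 1 := by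
    intro h
    apply hw1
    apply Subtype.ext
    apply Subtype.ext
    exact h
  have hwcomm : ∀ s ∈ (Q : Subgroup G), (w : G) * s = s * (w : G) := by
    intro s hs
    have := Subgroup.mem_center_iff.mp hwc ⟨s, hs⟩
    exact (congrArg Subtype.val this).symm
  have hwq : IsPGroup q (Subgroup.zpowers (w : G)) := by
    apply Q.isPGroup'.to_le
    rw [Subgroup.zpowers_le]
    exact w.2
  -- the conjugated pair
  have hz'' : IsPGroup r (Subgroup.zpowers (g⁻¹ * z * g)) := by
    obtain ⟨k, hk⟩ := exists_orderOf_eq_pow_of_isPGroup_zpowers hz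
    apply IsPGroup.of_card (n := k)
    rw [Nat.card_zpowers, ← hk]
    have e : SemiconjBy g⁻¹ z (g⁻¹ * z * g) := by
      unfold SemiconjBy; group
    exact (e.orderOf_eq).symm
  have hz''1 : g⁻¹ * z * g ≠ 1 := by
    intro h
    apply hz1
    have e : z = g * (g⁻¹ * z * g) * g⁻¹ := by group
    rw [e, h]; group
  have hy''1 : g⁻¹ * y' * g ≠ 1 := by
    intro h
    apply hy'1
    have e : y' = g * (g⁻¹ * y' * g) * g⁻¹ := by group
    rw [e, h]; group
  have hyz'' : (g⁻¹ * z * g) * (g⁻¹ * y' * g) = (g⁻¹ * y' * g) * (g⁻¹ * z * g) := by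
    have e1 : (g⁻¹ * z * g) * (g⁻¹ * y' * g) = g⁻¹ * (z * y') * g := by group
    have e2 : (g⁻¹ * y' * g) * (g⁻¹ * z * g) = g⁻¹ * (y' * z) * g := by group
    rw [e1, e2, hyz]
  -- `x` and `z''` commute with `w`
  have hxw : x * (w : G) = (w : G) * x :=
    cn_commute_center hCN hpq hy1 hx hwq hxy (hwcomm y hyQm)
  have hzw : (g⁻¹ * z * g) * (w : G) = (w : G) * (g⁻¹ * z * g) :=
    cn_commute_center hCN (Ne.symm hqr) hy''1 hz'' hwq hyz'' (hwcomm _ hy''Q)
  -- both lie in the nilpotent `C(w)`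
  refine ⟨x, g⁻¹ * z * g, hx1, hz''1, hx, hz'', ?_⟩
  have hN := hCN (w : G) hw1'
  obtain ⟨k, hk⟩ := exists_orderOf_eq_pow_of_isPGroup_zpowers hx
  obtain ⟨j, hj⟩ := exists_orderOf_eq_pow_of_isPGroup_zpowers hz''
  apply commute_of_coprime_of_mem_nilpotent hN (mem_centralizer_singleton.mpr hxw.symm)
    (mem_centralizer_singleton.mpr hzw.symm)
  rw [hk, hj]
  exact Nat.Coprime.pow _ _ ((Nat.coprime_primes Fact.out Fact.out).mpr hpr)

end CN

end Cfsg.Agent.Lib.Helper54
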