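import Cfsg.Agent.Lib.Helper48.Generation
import Cfsg.Agent.Lib.Helper54.Coprime

/-!
# Hyperplane fixed points for elementary abelian groups acting coprimely

If an elementary abelian `p`-group `A` normalizes a `p'`-group `R` not contained in `D`, then some
subgroup `B` of `A` of index at most `p` has `C_R(B)` not contained in `D`.  For `|A| = p ^ 3` two such
situations admit a common nontrivial element.
-/

set_option autoImplicit false

namespace Cfsg.Agent.Lib.Helper54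

variable {G : Type*} [Group G]

/-- An element centralizing `B` and commuting with `u` centralizes `B ⊔ ⟨u⟩`. -/
theorem mem_centralizer_sup_zpowers {x u : G} {B : Subgroup G}
    (hxB : x ∈ Subgroup.centralizer (B : Set G)) (hxu : x * u = u * x) :
    x ∈ Subgroup.centralizer ((B ⊔ Subgroup.zpowers u : Subgroup G) : Set G) := by
  have h1 : B ⊔ Subgroup.zpowers u ≤ Subgroup.centralizer ({x} : Set G) := by
    apply sup_le
    · intro y hy
      rw [Subgroup.mem_centralizer_singleton_iff]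
      exact Subgroup.mem_centralizer_iff.mp hxB y hy
    · rw [Subgroup.zpowers_le, Subgroup.mem_centralizer_singleton_iff]
      exact hxu.symm
  rw [Subgroup.mem_centralizer_iff]
  intro y hy
  have := h1 hy
  rw [Subgroup.mem_centralizer_singleton_iff] at this
  exact this

/-- An element centralizing `B` normalizes `C(B)`. -/
theorem mem_normalizer_centralizer_of_mem_centralizer {b : G} {B : Subgroup G}
    (hb : b ∈ Subgroup.centralizer (B : Set G)) :
    b ∈ Subgroup.normalizer ((Subgroup.centralizer (B : Set G) : Subgroup G) : Set G) :=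
  Subgroup.le_normalizer hb

/-- Hyperplane fixed points. -/
theorem exists_hyperplane_centralizer [Finite G] {p : ℕ} [Fact p.Prime] (A R D : Subgroup G)
    (hAcomm : ∀ x ∈ A, ∀ y ∈ A, x * y = y * x) (hAexp : ∀ x ∈ A, x ^ p = 1)
    (hR : ¬ p ∣ Nat.card R) (hAR : A ≤ Subgroup.normalizer (R : Set G)) (hRD : ¬ R ≤ D) :
    ∃ B : Subgroup G, B ≤ A ∧ Nat.card A ≤ p * Nat.card B ∧
      ¬ R ⊓ Subgroup.centralizer (B : Set G) ≤ D := by
  let 𝒮 : Set (Subgroup G) := {B | B ≤ A ∧ ¬ R ⊓ Subgroup.centralizer (B : Set G) ≤ D}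
  have h𝒮 : 𝒮.Nonempty := by
    refine ⟨⊥, bot_le, ?_⟩
    intro h
    apply hRD
    intro r hr
    apply h
    refine Subgroup.mem_inf.mpr ⟨hr, ?_⟩
    rw [Subgroup.mem_centralizer_iff]
    intro y hy
    have : y = 1 := by simpa using hy
    rw [this, one_mul, mul_one]
  obtain ⟨B, ⟨hBA, hBD⟩, hBmax⟩ := Set.Finite.exists_maximal (Set.toFinite 𝒮) h𝒮
  refine ⟨B, hBA, ?_, hBD⟩
  by_contra hlt
  rw [not_le] at hlt
  have hp : p.Prime := Fact.out
  -- any `u ∈ A \ B` has `C_X(u) ≤ D`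
  set X : Subgroup G := R ⊓ Subgroup.centralizer (B : Set G) with hX
  have hcentAB : A ≤ Subgroup.centralizer (B : Set G) := by
    intro a ha
    rw [Subgroup.mem_centralizer_iff]
    intro y hy
    exact hAcomm y (hBA hy) a ha
  have hu : ∀ u ∈ A, u ∉ B → X ⊓ Subgroup.centralizer ({u} : Set G) ≤ D := by
    intro u huA huB
    have h1 : B ⊔ Subgroup.zpowers u ≤ A := sup_le hBA ((Subgroup.zpowers_le).mpr huA)
    have h2 : ¬ (B ⊔ Subgroup.zpowers u ≤ B) := by
      intro h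
      exact huB (h (Subgroup.mem_sup_right (Subgroup.mem_zpowers u)))
    have h3 : R ⊓ Subgroup.centralizer ((B ⊔ Subgroup.zpowers u : Subgroup G) : Set G) ≤ D := by
      by_contra hcon
      exact h2 (hBmax ⟨h1, hcon⟩ le_sup_left)
    intro x hx
    obtain ⟨hx1, hxu⟩ := Subgroup.mem_inf.mp hx
    obtain ⟨hxR, hxB⟩ := Subgroup.mem_inf.mp hx1
    apply h3
    refine Subgroup.mem_inf.mpr ⟨hxR, mem_centralizer_sup_zpowers hxB ?_⟩
    rw [Subgroup.mem_centralizer_singleton_iff] at hxu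
    exact hxu
  have hAX : A ≤ Subgroup.normalizer (X : Set G) :=
    le_normalizer_inf hAR (hcentAB.trans Subgroup.le_normalizer)
  have hXcard : ¬ p ∣ Nat.card X := fun h => hR (h.trans (Subgroup.card_dvd_of_le inf_le_left))
  -- choose `b ∈ A \ B`
  have hBneA : ¬ A ≤ B := by
    intro h
    have h1 : Nat.card A ≤ Nat.card B := Nat.le_of_dvd Nat.card_pos (Subgroup.card_dvd_of_le h)
    have h2 : Nat.card B ≤ p * Nat.card B := Nat.le_mul_of_pos_left _ hp.pos
    omega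
  obtain ⟨b, hbA, hbB⟩ := SetLike.not_le_iff_exists.mp hBneA
  have hb1 : b ≠ 1 := fun h => hbB (h ▸ B.one_mem)
  have hbo : orderOf b = p := orderOf_eq_prime (hAexp b hbA) hb1
  have hdisj : B ⊓ Subgroup.zpowers b = ⊥ := by
    have h1 : Nat.card (B ⊓ Subgroup.zpowers b : Subgroup G) ∣ p := by
      have := Subgroup.card_dvd_of_le (inf_le_right : B ⊓ Subgroup.zpowers b ≤ Subgroup.zpowers b)
      rwa [Nat.card_zpowers, hbo] at this
    rcases (Nat.dvd_prime hp).mp h1 with h | h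
    · exact Subgroup.card_eq_one.mp h
    · exfalso
      have h2 : B ⊓ Subgroup.zpowers b = Subgroup.zpowers b :=
        Subgroup.eq_of_le_of_card_ge inf_le_right (by rw [h, Nat.card_zpowers, hbo])
      have h3 : b ∈ B ⊓ Subgroup.zpowers b := by rw [h2]; exact Subgroup.mem_zpowers b
      exact hbB h3.1
  have hbnB : Subgroup.zpowers b ≤ Subgroup.normalizer (B : Set G) := by
    rw [Subgroup.zpowers_le]
    exact Subgroup.centralizer_le_normalizer _ (hcentAB hbA)
  have hcardB₁ : Nat.card (B ⊔ Subgroup.zpowers b : Subgroup G) = Nat.card B * p := by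
    rw [card_sup_of_le_normalizer hbnB hdisj, Nat.card_zpowers, hbo]
  have hB₁A : B ⊔ Subgroup.zpowers b ≤ A := sup_le hBA ((Subgroup.zpowers_le).mpr hbA)
  have hB₁neA : ¬ A ≤ B ⊔ Subgroup.zpowers b := by
    intro h
    have h1 : Nat.card A ≤ Nat.card (B ⊔ Subgroup.zpowers b : Subgroup G) :=
      Nat.le_of_dvd Nat.card_pos (Subgroup.card_dvd_of_le h)
    rw [hcardB₁, mul_comm] at h1
    omega
  obtain ⟨c, hcA, hcB₁⟩ := SetLike.not_le_iff_exists.mp hB₁neA
  apply hBD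
  apply Cfsg.Agent.Lib.Helper48.coprime_generation (hAexp b hbA) (hAexp c hcA)
    (hAcomm b hbA c hcA) X D hXcard (hAX hbA) (hAX hcA) (hu b hbA hbB)
  intro i
  apply hu _ (A.mul_mem (A.pow_mem hbA i) hcA)
  intro h
  apply hcB₁
  have h1 : c = (b ^ i)⁻¹ * (b ^ i * c) := by group
  rw [h1]
  exact Subgroup.mul_mem _
    (Subgroup.inv_mem _ (Subgroup.pow_mem _ (Subgroup.mem_sup_right (Subgroup.mem_zpowers b)) i))
    (Subgroup.mem_sup_left h)

/-- Two coprime actions of an elementary abelian group of order `p ^ 3` admit a common nontrivial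
element with large fixed points. -/
theorem exists_common_centralizer [Finite G] {p : ℕ} [Fact p.Prime] (A R₁ D₁ R₂ D₂ : Subgroup G)
    (hAcomm : ∀ x ∈ A, ∀ y ∈ A, x * y = y * x) (hAexp : ∀ x ∈ A, x ^ p = 1)
    (hAcard : Nat.card A = p ^ 3)
    (hR₁ : ¬ p ∣ Nat.card R₁) (hAR₁ : A ≤ Subgroup.normalizer (R₁ : Set G)) (hRD₁ : ¬ R₁ ≤ D₁)
    (hR₂ : ¬ p ∣ Nat.card R₂) (hAR₂ : A ≤ Subgroup.normalizer (R₂ : Set G)) (hRD₂ : ¬ R₂ ≤ D₂) :
    ∃ a ∈ A, a ≠ 1 ∧ ¬ R₁ ⊓ Subgroup.centralizer ({a} : Set G) ≤ D₁ ∧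
      ¬ R₂ ⊓ Subgroup.centralizer ({a} : Set G) ≤ D₂ := by
  have hp : p.Prime := Fact.out
  obtain ⟨B₁, hB₁A, hB₁card, hB₁D⟩ :=
    exists_hyperplane_centralizer A R₁ D₁ hAcomm hAexp hR₁ hAR₁ hRD₁
  obtain ⟨B₂, hB₂A, hB₂card, hB₂D⟩ :=
    exists_hyperplane_centralizer A R₂ D₂ hAcomm hAexp hR₂ hAR₂ hRD₂
  rw [hAcard] at hB₁card hB₂card
  have hB₁ge : p ^ 2 ≤ Nat.card B₁ := by
    have : p * p ^ 2 ≤ p * Nat.card B₁ := by rw [← pow_succ']; exact hB₁card
    exact Nat.le_of_mul_le_mul_left this hp.pos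
  have hB₂ge : p ^ 2 ≤ Nat.card B₂ := by
    have : p * p ^ 2 ≤ p * Nat.card B₂ := by rw [← pow_succ']; exact hB₂card
    exact Nat.le_of_mul_le_mul_left this hp.pos
  -- `[B₂ : B₁ ∩ B₂] ≤ [A : B₁] ≤ p`
  have hidx : B₁.relIndex A ≤ p := by
    have h1 := card_mul_relIndex hB₁A
    rw [hAcard] at h1
    have h2 : Nat.card B₁ * B₁.relIndex A ≤ Nat.card B₁ * p := by
      rw [h1, mul_comm]; exact hB₁card
    exact Nat.le_of_mul_le_mul_left h2 Nat.card_pos
  have hidx2 : (B₁ ⊓ B₂).relIndex B₂ ≤ p := by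
    rw [Subgroup.inf_relIndex_right]
    refine le_trans (Subgroup.relIndex_le_of_le_right hB₂A ?_) hidx
    intro h0
    have h1 := card_mul_relIndex hB₁A
    rw [h0, mul_zero] at h1
    exact Nat.card_pos.ne' h1.symm
  have hcard : p ≤ Nat.card (B₁ ⊓ B₂ : Subgroup G) := by
    have h1 := card_mul_relIndex (inf_le_right : B₁ ⊓ B₂ ≤ B₂)
    have h2 : p * p ≤ Nat.card (B₁ ⊓ B₂ : Subgroup G) * p := by
      calc p * p = p ^ 2 := (sq p).symm
        _ ≤ Nat.card B₂ := hB₂ge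
        _ = Nat.card (B₁ ⊓ B₂ : Subgroup G) * (B₁ ⊓ B₂).relIndex B₂ := h1.symm
        _ ≤ Nat.card (B₁ ⊓ B₂ : Subgroup G) * p := Nat.mul_le_mul_left _ hidx2
    exact Nat.le_of_mul_le_mul_right h2 hp.pos
  have hne : (B₁ ⊓ B₂ : Subgroup G) ≠ ⊥ := by
    rw [← Subgroup.one_lt_card_iff_ne_bot]
    exact lt_of_lt_of_le hp.one_lt hcard
  obtain ⟨a, ha, ha1⟩ := (Subgroup.ne_bot_iff_exists_ne_one).mp hne |>.imp
    (fun a h => h) |> fun ⟨a, ha1⟩ => (⟨(a : G), a.2, fun h => ha1 (Subtype.ext h)⟩ :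
      ∃ a : G, a ∈ B₁ ⊓ B₂ ∧ a ≠ 1)
  refine ⟨a, hB₁A ha.1, ha1, ?_, ?_⟩
  · intro h
    apply hB₁D
    refine le_trans (inf_le_inf_left _ (Subgroup.centralizer_le ?_)) h
    intro x hx
    rw [Set.mem_singleton_iff] at hx
    rw [hx]; exact ha.1
  · intro h
    apply hB₂D
    refine le_trans (inf_le_inf_left _ (Subgroup.centralizer_le ?_)) h
    intro x hx
    rw [Set.mem_singleton_iff] at hx
    rw [hx]; exact ha.2

end Cfsg.Agent.Lib.Helper54
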