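import Cfsg.Agent.Lib.Helper54.UqNine3
import Cfsg.Agent.Lib.Helper24.ExtraSp
import Cfsg.Agent.S0016

/-!
# Bender–Glauberman Lemma 9.4 (library form)
-/

set_option autoImplicit false

namespace Cfsg.Agent.Lib.Helper54

open scoped Pointwise
open Cfsg

variable {G : Type*} [Group G]

theorem isCoatom_conj_smul {M : Subgroup G} (hM : IsCoatom M) (g : G) :
    IsCoatom (MulAut.conj g • M) := by
  constructor
  · intro h
    apply hM.1
    have h1 : (MulAut.conj g)⁻¹ • (MulAut.conj g • M) = (MulAut.conj g)⁻¹ • (⊤ : Subgroup G) := by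
      rw [h]
    rw [inv_smul_smul] at h1
    rw [h1, eq_top_iff, Subgroup.subset_pointwise_smul_iff]
    exact le_top
  · intro X hX
    have h1 : M < (MulAut.conj g)⁻¹ • X := by
      rw [lt_iff_le_not_ge] at hX ⊢
      constructor
      · rw [← Subgroup.pointwise_smul_subset_iff]; exact hX.1
      · intro h
        apply hX.2
        rw [Subgroup.subset_pointwise_smul_iff]
        exact h
    have h2 := hM.2 _ h1
    rw [eq_top_iff] at h2 ⊢
    intro x _
    have : (MulAut.conj g)⁻¹ • x ∈ (MulAut.conj g)⁻¹ • X := h2 (Subgroup.mem_top _)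
    exact Subgroup.smul_mem_pointwise_smul_iff.mp this

theorem inUniqueMaximal_conj_smul {A : Subgroup G} (h : InUniqueMaximal A) (g : G) :
    InUniqueMaximal (MulAut.conj g • A) := by
  obtain ⟨M, hM, hAM, hu⟩ := exists_forall_of_inUniqueMaximal h
  apply inUniqueMaximal_of_forall (isCoatom_conj_smul hM g)
    (Subgroup.pointwise_smul_le_pointwise_smul_iff.mpr hAM)
  intro L hL hAL
  have h1 : A ≤ (MulAut.conj g)⁻¹ • L := Subgroup.pointwise_smul_subset_iff.mp hAL
  have h2 : IsCoatom ((MulAut.conj g)⁻¹ • L) := by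
    rw [← map_inv]
    exact isCoatom_conj_smul hL g⁻¹
  have h3 := hu _ h2 h1
  rw [← h3, smul_inv_smul]

/-- A noncyclic `p`-group, `p` odd, contains an elementary abelian subgroup of order `p ^ 2`. -/
theorem exists_elemAb_sq_of_not_isCyclic [Finite G] {p : ℕ} [Fact p.Prime] (hp2 : p ≠ 2)
    (B : Subgroup G) (hBp : IsPGroup p B) (hBnc : ¬ IsCyclic B) :
    ∃ E : Subgroup G, E ≤ B ∧ (∀ x ∈ E, ∀ y ∈ E, x * y = y * x) ∧ (∀ x ∈ E, x ^ p = 1) ∧
      p ^ 2 ≤ Nat.card E := by
  have hp : p.Prime := Fact.out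
  have hB1 : B ≠ ⊥ := by
    rintro rfl
    exact hBnc inferInstance
  -- a central element of order `p`
  have hZ1 := inf_centralizer_ne_bot B hBp hB1
  obtain ⟨z, hz, hzo⟩ := Cfsg.Agent.Lib.Helper48.exists_orderOf_eq_of_ne_bot
    (hBp.to_le inf_le_left) hZ1
  have hzB : z ∈ B := hz.1
  have hzC : z ∈ Subgroup.centralizer (B : Set G) := hz.2
  -- two distinct subgroups of order `p`
  have hnu : ¬ ∀ H K : Subgroup B, Nat.card H = p → Nat.card K = p → H = K := by
    intro hu
    rcases Cfsg.Agent.S0016.result p hBp hu with h | ⟨h, -⟩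
    · exact hBnc h
    · exact hp2 h
  push Not at hnu
  obtain ⟨H, K, hH, hK, hHK⟩ := hnu
  -- an element of order `p` outside `⟨z⟩`
  have key : ∀ H' : Subgroup B, Nat.card H' = p →
      H' ≠ Subgroup.zpowers (⟨z, hzB⟩ : B) → ∃ h ∈ B, h ^ p = 1 ∧ h ∉ Subgroup.zpowers z := by
    intro H' hH' hne
    have hnt : Nontrivial H' := by
      rw [← Finite.one_lt_card_iff_nontrivial, hH']
      exact hp.one_lt
    obtain ⟨⟨h, hhH⟩, hh1⟩ := exists_ne (1 : H')
    have hh1' : h ≠ 1 := fun h' => hh1 (Subtype.ext h')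
    have hhp : h ^ p = 1 := by
      have h1 : (⟨h, hhH⟩ : H') ^ Nat.card H' = 1 := pow_card_eq_one'
      rw [hH'] at h1
      exact congrArg Subtype.val h1
    have hho : orderOf h = p := by
      rcases (Nat.dvd_prime hp).mp (orderOf_dvd_of_pow_eq_one hhp) with h1 | h1
      · exact absurd (orderOf_eq_one_iff.mp h1) hh1'
      · exact h1
    have hzH : Subgroup.zpowers h = H' := by
      apply Subgroup.eq_of_le_of_card_ge (Subgroup.zpowers_le.mpr hhH)
      rw [Nat.card_zpowers, hho, hH']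
    refine ⟨(h : G), h.2, congrArg Subtype.val hhp, ?_⟩
    intro hmem
    apply hne
    rw [← hzH]
    have h2 : h ∈ Subgroup.zpowers (⟨z, hzB⟩ : B) := by
      obtain ⟨k, hk⟩ := Subgroup.mem_zpowers_iff.mp hmem
      rw [Subgroup.mem_zpowers_iff]
      refine ⟨k, Subtype.ext ?_⟩
      simpa using hk
    apply Subgroup.eq_of_le_of_card_ge (Subgroup.zpowers_le.mpr h2)
    rw [Nat.card_zpowers, Nat.card_zpowers, hho, ← Subgroup.orderOf_coe]
    exact hzo.le
  obtain ⟨h, hhB, hhp, hhz⟩ : ∃ h ∈ B, h ^ p = 1 ∧ h ∉ Subgroup.zpowers z := by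
    by_cases hHz : H = Subgroup.zpowers (⟨z, hzB⟩ : B)
    · exact key K hK (fun h => hHK (hHz.trans h.symm))
    · exact key H hH hHz
  -- the subgroup `⟨z, h⟩`
  have hZc : IsMulCommutative (Subgroup.zpowers z) := inferInstance
  have hZexp : ∀ c ∈ Subgroup.zpowers z, c ^ p = 1 := by
    intro c hc
    obtain ⟨k, rfl⟩ := Subgroup.mem_zpowers_iff.mp hc
    rw [← zpow_natCast, ← zpow_mul, mul_comm, zpow_mul, zpow_natCast, ← hzo, pow_orderOf_eq_one,
      one_zpow]
  have hhC : h ∈ Subgroup.centralizer ((Subgroup.zpowers z : Subgroup G) : Set G) := by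
    rw [Subgroup.mem_centralizer_iff]
    intro c hc
    obtain ⟨k, rfl⟩ := Subgroup.mem_zpowers_iff.mp hc
    have h1 : Commute z h := (Subgroup.mem_centralizer_iff.mp hzC h hhB).symm
    exact (h1.zpow_left k).eq
  obtain ⟨hEc, hEexp⟩ := Cfsg.Agent.Lib.Helper24.elemAb_adjoin p (Subgroup.zpowers z) hZc hZexp h
    hhC hhp
  have hEcard := Cfsg.Agent.Lib.Helper24.card_lt_card_adjoin (Subgroup.zpowers z) h hhz
  rw [Nat.card_zpowers, hzo] at hEcard
  refine ⟨Subgroup.closure (((Subgroup.zpowers z : Subgroup G) : Set G) ∪ {h}), ?_, ?_, hEexp, ?_⟩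
  · rw [Subgroup.closure_le]
    rintro x (hx | hx)
    · exact (Subgroup.zpowers_le.mpr hzB) hx
    · rw [Set.mem_singleton_iff] at hx
      exact hx ▸ hhB
  · intro x hx y hy
    exact congrArg Subtype.val (hEc.is_comm.comm ⟨x, hx⟩ ⟨y, hy⟩)
  · obtain ⟨j, hj⟩ := (isPGroup_of_exponent hEexp).exists_card_eq
    rw [hj] at hEcard ⊢
    apply Nat.pow_le_pow_right hp.pos
    by_contra hcon
    have : j ≤ 1 := by omega
    have := Nat.pow_le_pow_right hp.pos this
    rw [pow_one] at this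
    omega

/-- A `p`-group of rank at least `3` has a normal elementary abelian subgroup `V` of order `p ^ 2`;
the centralizer of `V` in any subgroup `X` has index at most `p` in `X`. -/
theorem exists_normal_sq_centralizer [Finite G] {p : ℕ} [Fact p.Prime] (P : Subgroup G)
    (hP : IsPGroup p P) (h3 : ¬ PRankLE p 2 ↥P) :
    ∃ V : Subgroup G, V ≤ P ∧ (∀ x ∈ V, ∀ y ∈ V, x * y = y * x) ∧ (∀ x ∈ V, x ^ p = 1) ∧
      Nat.card V = p ^ 2 ∧ P ≤ Subgroup.normalizer (V : Set G) ∧
      ∀ X : Subgroup G, X ≤ P →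
        Nat.card X ≤ p * Nat.card ↥(X ⊓ Subgroup.centralizer (V : Set G)) := by
  have hp : p.Prime := Fact.out
  have h3' := h3
  unfold PRankLE at h3'
  push Not at h3'
  obtain ⟨E₃, hc, hexp, hcard⟩ := h3'
  obtain ⟨U, hUn, hUe, hUc⟩ :=
    Cfsg.Agent.Lib.Helper45.exists_normal_elementaryAbelian_sq hP E₃ hc hexp hcard
  refine ⟨U.map P.subtype, Subgroup.map_subtype_le _, ?_, ?_, ?_, le_normalizer_map_subtype P U, ?_⟩
  · rintro _ ⟨x, hx, rfl⟩ _ ⟨y, hy, rfl⟩
    have h1 : (⟨x, hx⟩ : U) * ⟨y, hy⟩ = ⟨y, hy⟩ * ⟨x, hx⟩ := hUe.1.is_comm.comm _ _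
    have h2 := congrArg (fun z : U => ((z : P) : G)) h1
    simpa using h2
  · rintro _ ⟨x, hx, rfl⟩
    have := hUe.2 x hx
    rw [← map_pow, this, map_one]
  · rw [Subgroup.card_map_of_injective P.subtype_injective, hUc]
  · intro X hXP
    have h1 : (Subgroup.centralizer (U : Set P)).index ∣ p :=
      Cfsg.Agent.Lib.Helper24.index_centralizer_dvd_prime hP U hUc
    have h2 : (Subgroup.centralizer (U : Set P)).relIndex (X.subgroupOf P) ∣
        (Subgroup.centralizer (U : Set P)).index := Subgroup.relIndex_dvd_index_of_normal _ _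
    have h4 := card_mul_relIndex
      (inf_le_right : Subgroup.centralizer (U : Set P) ⊓ X.subgroupOf P ≤ X.subgroupOf P)
    rw [Subgroup.inf_relIndex_right] at h4
    have h5 : (Subgroup.centralizer (U : Set P)).relIndex (X.subgroupOf P) ≤ p :=
      Nat.le_of_dvd hp.pos (h2.trans h1)
    have h6 : Nat.card (X.subgroupOf P) = Nat.card X :=
      Nat.card_congr (Subgroup.subgroupOfEquivOfLe hXP).toEquiv
    have h7 : (Subgroup.centralizer (U : Set P) ⊓ X.subgroupOf P).map P.subtype ≤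
        X ⊓ Subgroup.centralizer ((U.map P.subtype : Subgroup G) : Set G) := by
      rintro _ ⟨t, ⟨htT, htX⟩, rfl⟩
      refine ⟨Subgroup.mem_subgroupOf.mp htX, ?_⟩
      show P.subtype t ∈ Subgroup.centralizer ((U.map P.subtype : Subgroup G) : Set G)
      rw [Subgroup.mem_centralizer_iff]
      rintro _ ⟨u, hu, rfl⟩
      have := Subgroup.mem_centralizer_iff.mp htT u hu
      exact congrArg Subtype.val this
    have h8 := Subgroup.card_le_of_le h7
    rw [Subgroup.card_map_of_injective P.subtype_injective] at h8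
    calc Nat.card X = Nat.card ↥(Subgroup.centralizer (U : Set P) ⊓ X.subgroupOf P) *
          (Subgroup.centralizer (U : Set P)).relIndex (X.subgroupOf P) := by rw [h4, h6]
      _ ≤ Nat.card ↥(X ⊓ Subgroup.centralizer ((U.map P.subtype : Subgroup G) : Set G)) * p :=
          Nat.mul_le_mul h8 h5
      _ = p * Nat.card ↥(X ⊓ Subgroup.centralizer ((U.map P.subtype : Subgroup G) : Set G)) :=
          mul_comm _ _

end Cfsg.Agent.Lib.Helper54
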