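import Cfsg.Agent.Lib.Helper54.BGElevenA
import Cfsg.Agent.Lib.Helper23.CoprimeHyperplane

/-!
# Bender–Glauberman Corollary 10.7 and Lemma 12.2, conditional on the Uniqueness Theorem
-/

set_option autoImplicit false

namespace Cfsg.Agent.Lib.Helper54

open scoped Pointwise
open Cfsg
open Cfsg.Agent.Lib.Helper34 (UniquenessThm)

variable {G : Type*} [Group G]

/-- Two subgroups whose orders involve disjoint sets of primes meet trivially. -/
theorem inf_eq_bot_of_isPi_disjoint [Finite G] {π₁ π₂ : Set ℕ} {X Y : Subgroup G}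
    (hX : ∀ r : ℕ, r.Prime → r ∣ Nat.card X → r ∈ π₁)
    (hY : ∀ r : ℕ, r.Prime → r ∣ Nat.card Y → r ∈ π₂) (hd : ∀ r ∈ π₁, r ∉ π₂) :
    X ⊓ Y = ⊥ := by
  rw [← Subgroup.card_eq_one]
  by_contra hne
  obtain ⟨r, hr, hrd⟩ := Nat.exists_prime_and_dvd hne
  exact hd r (hX r hr (hrd.trans (Subgroup.card_dvd_of_le inf_le_left)))
    (hY r hr (hrd.trans (Subgroup.card_dvd_of_le inf_le_right)))

/-- Two maximal `q`-subgroups of `G` are conjugate. -/
theorem exists_conj_of_maximal_pGroup [Finite G] {q : ℕ} [Fact q.Prime] {S T : Subgroup G}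
    (hS : IsPGroup q S) (hSmax : ∀ R : Subgroup G, IsPGroup q R → S ≤ R → R = S)
    (hT : IsPGroup q T) (hTmax : ∀ R : Subgroup G, IsPGroup q R → T ≤ R → R = T) :
    ∃ g : G, T = MulAut.conj g • S := by
  obtain ⟨S₀, hS₀⟩ := exists_sylow_eq S hS hSmax
  obtain ⟨T₀, hT₀⟩ := exists_sylow_eq T hT hTmax
  obtain ⟨g, hg⟩ := MulAction.exists_smul_eq G S₀ T₀
  refine ⟨g, ?_⟩
  rw [← hS₀, ← hT₀, ← hg]
  rfl

theorem normalizer_conj_smul (g : G) (S : Subgroup G) :
    Subgroup.normalizer ((MulAut.conj g • S : Subgroup G) : Set G) =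
      MulAut.conj g • Subgroup.normalizer (S : Set G) := by
  ext x
  rw [mem_normalizer_iff_conj_smul, mem_conj_smul_iff, mem_normalizer_iff_conj_smul]
  constructor
  · intro h
    calc MulAut.conj (g⁻¹ * x * g) • S
        = MulAut.conj g⁻¹ • (MulAut.conj x • (MulAut.conj g • S)) := by
          simp only [map_mul, mul_smul]
      _ = MulAut.conj g⁻¹ • MulAut.conj g • S := by rw [h]
      _ = S := by rw [← mul_smul, ← map_mul, inv_mul_cancel, map_one, one_smul]
  · intro h
    calc MulAut.conj x • MulAut.conj g • S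
        = MulAut.conj g • (MulAut.conj (g⁻¹ * x * g) • S) := by
          rw [← mul_smul, ← mul_smul, ← map_mul, ← map_mul]
          congr 2
          group
      _ = MulAut.conj g • S := by rw [h]

theorem isPGroup_conj_smul {q : ℕ} {S : Subgroup G} (hS : IsPGroup q S) (g : G) :
    IsPGroup q (MulAut.conj g • S : Subgroup G) := by
  rw [Subgroup.pointwise_smul_def]
  exact hS.map _

/-- **Bender–Glauberman Corollary 10.7.** -/
theorem sigma_disjoint [Finite G] (hG : IsMinSimpleOddOrder G) (hU : UniquenessThm G)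
    (M H : Subgroup G) (hM : IsCoatom M) (hH : IsCoatom H)
    (hnc : ∀ g : G, MulAut.conj g • M ≠ H) :
    ((∀ q ∈ alpha M, q ∉ sigma H) ∧ alphaCore M ⊓ sigmaCore H = ⊥) ∧
      (Group.IsNilpotent (sigmaCore M) →
        (∀ q ∈ sigma M, q ∉ sigma H) ∧ sigmaCore M ⊓ sigmaCore H = ⊥) := by
  have hs : IsSimpleGroup G := hG.2.1
  have hnc' := hG.2.2.1
  -- the common part of both arguments
  have key : ∀ q : ℕ, q ∈ sigma M → q ∈ sigma H →
      ∃ (_ : Fact q.Prime) (S : Subgroup G) (g : G), IsPGroup q S ∧ S ≤ sigmaCore M ∧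
        (∃ S₀ : Sylow q (sigmaCore M), (S₀ : Subgroup (sigmaCore M)).map (sigmaCore M).subtype = S) ∧
        (∃ S₁ : Sylow q M, (S₁ : Subgroup M).map M.subtype = S) ∧
        Subgroup.normalizer ((MulAut.conj g • S : Subgroup G) : Set G) ≤ H := by
    intro q hqM hqH
    have hqf : Fact q.Prime := ⟨hqM.1⟩
    obtain ⟨S₀⟩ : Nonempty (Sylow q (sigmaCore M)) := inferInstance
    obtain ⟨T₀⟩ : Nonempty (Sylow q (sigmaCore H)) := inferInstance
    obtain ⟨hSmax, hSN⟩ := sylow_sigmaCore_facts hG hU M hM q hqM S₀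
    obtain ⟨hTmax, hTN⟩ := sylow_sigmaCore_facts hG hU H hH q hqH T₀
    obtain ⟨g, hg⟩ := exists_conj_of_maximal_pGroup (S₀.isPGroup'.map _) hSmax
      (T₀.isPGroup'.map _) hTmax
    obtain ⟨S₁, hS₁⟩ := exists_sylow_map_eq _ (S₀.isPGroup'.map _) hSmax M
      ((Subgroup.map_subtype_le _).trans (sigmaCore_le M))
    refine ⟨hqf, _, g, S₀.isPGroup'.map _, Subgroup.map_subtype_le _, ⟨S₀, rfl⟩, ⟨S₁, hS₁⟩, ?_⟩
    rw [← hg]
    exact hTN
  have hα : ∀ q ∈ alpha M, q ∉ sigma H := by
    intro q hqα hqH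
    have hqM : q ∈ sigma M :=
      Cfsg.Agent.Lib.Helper50.alpha_subset_sigma hG (uniqThree_of_uniquenessThm hU) M hM hqα
    obtain ⟨hqf, S, g, hSq, hSM, -, ⟨S₁, hS₁⟩, hN⟩ := key q hqM hqH
    have hS3 : ¬ PRankLE q 2 ↥S := by
      intro h
      apply hqα.2
      apply pRankLE_of_sylow_rel M S₁
      rw [hS₁]
      exact h
    have hStop : S ≠ ⊤ := ne_top_of_isPGroup hs hnc' hSq
    have hSU : InUniqueMaximal S := by
      apply hU S hStop
      · intro h
        exact hS3 (pRankLE_mono_right hqf.out.pos (by norm_num) (h q hqf.out))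
      · left
        intro h
        exact hS3 (h q hqf.out)
    obtain ⟨M', hM', hSM', hu⟩ := exists_forall_of_inUniqueMaximal hSU
    have h1 : M = M' := hu M hM (hSM.trans (sigmaCore_le M))
    have h2 : MulAut.conj g⁻¹ • H = M' := by
      apply hu _ (isCoatom_conj_smul hH g⁻¹)
      have h3 : MulAut.conj g • S ≤ H := Subgroup.le_normalizer.trans hN
      have h4 := conj_smul_le_conj_smul (g := g⁻¹) h3
      rwa [← mul_smul, ← map_mul, inv_mul_cancel, map_one, one_smul] at h4
    apply hnc g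
    rw [h1, ← h2, ← mul_smul, ← map_mul, mul_inv_cancel, map_one, one_smul]
  refine ⟨⟨hα, inf_eq_bot_of_isPi_disjoint (alphaCore_isPi M) (sigmaCore_isPi H) hα⟩, ?_⟩
  intro hnil
  have hσ : ∀ q ∈ sigma M, q ∉ sigma H := by
    intro q hqM hqH
    obtain ⟨hqf, S, g, hSq, hSM, ⟨S₀, hS₀⟩, ⟨S₁, hS₁⟩, hN⟩ := key q hqM hqH
    -- `S` is normal in `M_σ`, hence in `M`
    have hS₀n : (S₀ : Subgroup (sigmaCore M)).Normal := by
      have := hnil
      infer_instance
    have hMsS : sigmaCore M ≤ Subgroup.normalizer (S : Set G) := by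
      rw [← hS₀]
      exact le_normalizer_map_subtype (sigmaCore M) (S₀ : Subgroup (sigmaCore M))
    have hMS : M ≤ Subgroup.normalizer (S : Set G) := by
      intro m hm
      rw [mem_normalizer_iff_conj_smul]
      have h1 : MulAut.conj m • S ≤ sigmaCore M := by
        have := conj_smul_le_conj_smul (g := m) hSM
        rwa [mem_normalizer_iff_conj_smul.mp (le_normalizer_sigmaCore M hm)] at this
      have h2 : MulAut.conj m • S ≤ S :=
        le_of_normal_sylow (sigmaCore M) S _ S₀ hS₀ hMsS h1 (isPGroup_conj_smul hSq m)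
      exact Subgroup.eq_of_le_of_card_ge h2 (by rw [card_conj_smul])
    have hS1 : S ≠ ⊥ := by
      intro h
      have hqS : ¬ q ∣ Nat.card (S₁ : Subgroup M) := by
        have : Nat.card (S₁ : Subgroup M) = 1 := by
          rw [← Subgroup.card_eq_one] at h
          rw [← h, ← hS₁]
          exact (Nat.card_congr
            ((S₁ : Subgroup M).equivMapOfInjective M.subtype M.subtype_injective).toEquiv)
        rw [this]
        exact hqf.out.one_lt.ne' ∘ Nat.dvd_one.mp
      apply hqS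
      rw [Sylow.card_eq_multiplicity]
      apply dvd_pow_self
      have hqM' : q ∣ Nat.card M := hqM.2.1
      exact (Nat.Prime.factorization_pos_of_dvd hqf.out Nat.card_pos.ne' hqM').ne'
    have hNS : Subgroup.normalizer (S : Set G) = M := by
      have := hs
      exact normalizer_eq_of_coatom hM (hSM.trans (sigmaCore_le M)) hS1 hMS
    apply hnc g
    rw [normalizer_conj_smul, hNS] at hN
    rcases (isCoatom_conj_smul hM g).le_iff.mp hN with h | h
    · exact absurd h hH.1
    · exact h.symm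
  exact ⟨hσ, inf_eq_bot_of_isPi_disjoint (sigmaCore_isPi M) (sigmaCore_isPi H) hσ⟩

/-- A `p`-group of `p`-rank at most one (`p` odd) is cyclic. -/
theorem isCyclic_of_pRankLE_one [Finite G] {p : ℕ} [Fact p.Prime] (hp2 : p ≠ 2) {B : Subgroup G}
    (hBp : IsPGroup p B) (hr : PRankLE p 1 ↥B) : IsCyclic B := by
  by_contra hnc
  obtain ⟨E, hEB, hEc, hEexp, hEcard⟩ := exists_elemAb_sq_of_not_isCyclic hp2 B hBp hnc
  have hp : p.Prime := Fact.out
  exact not_pRankLE_of_elemAb hEB hEc hEexp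
    (lt_of_lt_of_le (Nat.pow_lt_pow_right hp.one_lt (by norm_num)) hEcard) hr

/-- The normalizer of a cyclic `p`-group normalizes each of its subgroups. -/
theorem normalizer_le_normalizer_of_isCyclic [Finite G] {p : ℕ} [Fact p.Prime] {C X : Subgroup G}
    (hC : IsCyclic C) (hCp : IsPGroup p C) (hXC : X ≤ C) :
    Subgroup.normalizer (C : Set G) ≤ Subgroup.normalizer (X : Set G) := by
  intro g hg
  rw [mem_normalizer_iff_conj_smul]
  have h1 : MulAut.conj g • X ≤ C := by
    have := conj_smul_le_conj_smul (g := g) hXC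
    rwa [mem_normalizer_iff_conj_smul.mp hg] at this
  apply Subgroup.eq_of_le_of_card_ge
  · exact Cfsg.Agent.Lib.Helper23.le_of_card_le_of_le_cyclic hC hCp h1 hXC
      (by rw [card_conj_smul])
  · rw [card_conj_smul]

/-- **Bender–Glauberman Lemma 12.2(a).** -/
theorem mem_sigma_or_tau2_of_normalizer_le [Finite G] (hG : IsMinSimpleOddOrder G)
    (hU : UniquenessThm G) (M : Subgroup G) (hM : IsCoatom M) (p : ℕ) [Fact p.Prime]
    (X : Subgroup G) (hXp : IsPGroup p X) (hX1 : X ≠ ⊥)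
    (hNX : Subgroup.normalizer (X : Set G) ≤ M) : p ∈ sigma M ∨ p ∈ tau2 M := by
  have hp : p.Prime := Fact.out
  have hs : IsSimpleGroup G := hG.2.1
  by_contra hcon
  push Not at hcon
  obtain ⟨hσ, hτ⟩ := hcon
  have hXM : X ≤ M := Subgroup.le_normalizer.trans hNX
  have hr2 : PRankLE p 2 ↥M := Cfsg.Agent.Lib.Helper34.pRankLE_two_of_not_mem_sigma hU hM hσ
  have hr1 : PRankLE p 1 ↥M := by
    by_contra h
    exact hτ ⟨hp, hσ, hr2, h⟩
  have hpX : p ∣ Nat.card X := dvd_card_of_isPGroup_ne_bot hXp hX1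
  have hp2 : p ≠ 2 := ne_two_of_dvd_of_odd hG.1 (hpX.trans (Subgroup.card_subgroup_dvd_card _))
  obtain ⟨P, hXP⟩ := exists_sylow_map_ge hXM hXp
  have hPp : IsPGroup p ((P : Subgroup M).map M.subtype) := P.isPGroup'.map _
  have hPc : IsCyclic ((P : Subgroup M).map M.subtype) :=
    isCyclic_of_pRankLE_one hp2 hPp (pRankLE_of_le (Subgroup.map_subtype_le _) hr1)
  apply hσ
  refine ⟨hp, hpX.trans (Subgroup.card_dvd_of_le hXM), P, ?_⟩
  exact (normalizer_le_normalizer_of_isCyclic hPc hPp hXP).trans hNX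

/-- **Bender–Glauberman Lemma 12.2(b).** -/
theorem not_conj_of_normalizer_le [Finite G] (hG : IsMinSimpleOddOrder G)
    (hU : UniquenessThm G) (M Ms : Subgroup G) (hM : IsCoatom M) (p : ℕ)
    [Fact p.Prime] (X : Subgroup G) (hXp : IsPGroup p X) (hX1 : X ≠ ⊥) (hXM : X ≤ M)
    (hNX : Subgroup.normalizer (X : Set G) ≤ Ms)
    (h : (p ∈ sigma M ∧ M ≠ Ms) ∨ p ∈ tau1 M ∨ p ∈ tau3 M) :
    ∀ g : G, MulAut.conj g • M ≠ Ms := by
  intro g hg
  have hpσ : p ∈ sigma M := by
    -- in the second case, `p ∈ σ(M)` as well, by 12.2(a) applied to a conjugate of `X`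
    by_contra hσ
    have hr1 : PRankLE p 1 ↥M := by
      rcases h with h | h | h
      · exact absurd h.1 hσ
      · exact h.2.2.2.2
      · exact h.2.2.2
    have hN : Subgroup.normalizer ((MulAut.conj g⁻¹ • X : Subgroup G) : Set G) ≤ M := by
      rw [normalizer_conj_smul]
      have := conj_smul_le_conj_smul (g := g⁻¹) hNX
      rwa [← hg, ← mul_smul, ← map_mul, inv_mul_cancel, map_one, one_smul] at this
    have hX1' : MulAut.conj g⁻¹ • X ≠ ⊥ := by
      intro h0
      apply hX1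
      rw [← Subgroup.card_eq_one] at h0 ⊢
      rwa [card_conj_smul] at h0
    rcases mem_sigma_or_tau2_of_normalizer_le hG hU M hM p _ (isPGroup_conj_smul hXp g⁻¹) hX1' hN
      with h1 | h1
    · exact hσ h1
    · exact h1.2.2.2 hr1
  have hne : M ≠ Ms := by
    rcases h with h | h | h
    · exact h.2
    · exact absurd hpσ h.2.1
    · exact absurd hpσ h.2.1
  have hXg : X ≤ MulAut.conj g • M := by
    rw [hg]
    exact Subgroup.le_normalizer.trans hNX
  obtain ⟨c, hc, hcg⟩ := sigma_conj_eq hG hU M hM p hpσ X hXp hXM g hXg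
  have hcMs : c ∈ Ms := hNX (by
    rw [Subgroup.mem_normalizer_iff]
    intro x
    have hcx : ∀ y ∈ X, c * y * c⁻¹ = y := by
      intro y hy
      have := Subgroup.mem_centralizer_iff.mp hc y hy
      rw [← this, mul_inv_cancel_right]
    constructor
    · intro hx
      rw [hcx x hx]
      exact hx
    · intro hx
      have h2 := hcx _ hx
      have h3 : c * x * c⁻¹ = x := by
        have h4 : c * (c * x * c⁻¹) * c⁻¹ = c * x * c⁻¹ := h2
        have h5 : c * x * c⁻¹ = c⁻¹ * (c * (c * x * c⁻¹) * c⁻¹) * c := by group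
        rw [h4] at h5
        have h6 : c⁻¹ * (c * x * c⁻¹) * c = x := by group
        rw [h6] at h5
        exact h5
      rw [← h3]
      exact hx)
  apply hne
  have h1 : MulAut.conj c⁻¹ • Ms = Ms :=
    mem_normalizer_iff_conj_smul.mp (Subgroup.le_normalizer (Ms.inv_mem hcMs))
  rw [← h1, ← hg, hcg, ← mul_smul, ← map_mul, inv_mul_cancel, map_one, one_smul]

end Cfsg.Agent.Lib.Helper54
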