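import Mathlib
import Cfsg.Agent.Lib.Helper24.PFCycDefs
import Cfsg.Agent.Lib.Helper4.PFTypes
import Cfsg.Agent.Lib.Helper23.TypeP
import Cfsg.Agent.Lib.Helper26.PFEightC
import Cfsg.Agent.S1496

/-!
# helper24 PF bookkeeping, module [M-COVER]

Every element of `M` outside `M'` is `M`-conjugate into `W ∖ W₂` (`W = W₁ ⊔ W₂`), for type-P data
`(W₁, U, W₂)` of `M`.
-/

set_option autoImplicit false
set_option linter.unusedSectionVars false

namespace Cfsg.Agent.Lib.Helper24.PFCyc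

open Cfsg Cfsg.Agent.Lib.Helper4.PF
open Pointwise

universe u

variable {G : Type u} [Group G] [Finite G] {M W₁ U W₂ : Subgroup G} [Fintype M]

/-- MODULE [M-COVER] -/
theorem exists_conj_mem_W (hP : IsTypePWith M W₁ U W₂) (m : G) (hm : m ∈ M)
    (hmK : m ∉ ⁅M, M⁆) : ∃ x ∈ M, x * m * x⁻¹ ∈ W₁ ⊔ W₂ ∧ x * m * x⁻¹ ∉ W₂ := by
  obtain ⟨k, hk, w, hw, rfl⟩ := hP.W₁_compl.2.2.2 m hm
  have hder : ⁅M, M⁆ ≤ M := hP.W₁_compl.1
  have hW₁M : W₁ ≤ M := hP.W₁_compl.2.1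
  have hw1 : w ≠ 1 := by
    rintro rfl
    exact hmK (by simpa using hk)
  -- `w` normalizes `M'`
  have hnorm : M ≤ Subgroup.normalizer ((⁅M, M⁆ : Subgroup G) : Set G) := by
    rw [Subgroup.le_normalizer_iff]
    intro s hs a ha
    have h1 : s * a * s⁻¹ ∈ (⁅M, M⁆).map (MulAut.conj s).toMonoidHom := ⟨a, ha, rfl⟩
    rw [Subgroup.map_commutator] at h1
    have h2 : M.map (MulAut.conj s).toMonoidHom = M := by
      show MulAut.conj s • M = M
      exact Subgroup.conj_smul_eq_self_of_mem hs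
    rwa [h2] at h1
  have hwN : w ∈ Subgroup.normalizer ((⁅M, M⁆ : Subgroup G) : Set G) := hnorm (hW₁M hw)
  -- coprimality
  have hrel := Cfsg.Agent.Lib.Helper26.PFEight.relIndex_of_isComplIn hP.W₁_compl
  have hcop : (Nat.card W₁).Coprime (Nat.card ↥⁅M, M⁆) := by
    have := hP.W₁_hall
    rwa [hrel] at this
  have hcop' : Nat.Coprime (orderOf w) (Nat.card ↥⁅M, M⁆) :=
    Nat.Coprime.coprime_dvd_left (Subgroup.orderOf_dvd_natCard W₁ hw) hcop
  obtain ⟨x, hx, c, hc, hcw, hconj⟩ :=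
    Cfsg.Agent.S1496.result (⁅M, M⁆ : Subgroup G) w hwN hcop' k hk
  have hcW₂ : c ∈ W₂ := by
    rw [← hP.W₂_centralizer w hw hw1]
    refine ⟨hc, ?_⟩
    show c ∈ Subgroup.centralizer ({w} : Set G)
    rw [Subgroup.mem_centralizer_iff]
    intro y hy
    rw [Set.mem_singleton_iff] at hy
    subst hy
    exact hcw.symm
  refine ⟨x, hder hx, ?_, ?_⟩
  · rw [hconj]
    exact Subgroup.mul_mem _ (Subgroup.mem_sup_right hcW₂) (Subgroup.mem_sup_left hw)
  · rw [hconj]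
    intro hcw₂
    have hwW₂ : w ∈ W₂ := by
      have := W₂.mul_mem (W₂.inv_mem hcW₂) hcw₂
      simpa using this
    have : w ∈ W₁ ⊓ W₂ := ⟨hw, hwW₂⟩
    rw [hP.selfNormalizing.2.2.1] at this
    exact hw1 (by simpa using this)

end Cfsg.Agent.Lib.Helper24.PFCyc
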