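import Mathlib
import Cfsg.Agent.Lib.Helper16.PF13Defs
import Cfsg.Agent.Lib.Helper22.PFCycMu
import Cfsg.Agent.Lib.Helper26.PFFrozen
import Cfsg.Agent.Lib.Helper26.PFEightC
import Cfsg.Agent.Lib.Helper26.PFBookB
import Cfsg.Agent.Lib.Helper33.PFThirteenD
import Cfsg.Agent.Lib.Helper17.SylowSub
import Cfsg.Agent.Lib.Helper17.SylowBasic
import Cfsg.Agent.Lib.Helper17.Misc
import Cfsg.Agent.Lib.Helper23.TypeP

/-!
# PF sec.13, module PF13-[PSIDE] (helper16's sheet, board #4763)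

The standing context `PSide S W₁ U W₂ mu dl η` of one side of the pair from `PairHyp`, the frozen
statement S1543 (as a hypothesis `Stmt1543 G`) and the book-form inputs `BookBGData`, `BookPF8Data`.
Also PF13-[HII] (`litA_typeII`).
-/

set_option autoImplicit false
set_option linter.unusedVariables false

namespace Cfsg.Agent.Lib.Helper54.PF13PSide

open Cfsg Cfsg.Agent.Lib.Helper24.PFCyc Cfsg.Agent.Lib.Helper4.PF Cfsg.Agent.Lib.Helper16.PF13

universe u

variable {G : Type u} [Group G]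

/-! ### Type II / III data transported to given type-P data -/

/-- For `S` of Type II or III with given type-P data `(W₁, U, W₂)`: `U ≠ 1`, `|W₁|` is prime and
`U` is abelian. -/
theorem typeII_III_data [Finite G] {S W₁ U W₂ : Subgroup G}
    (hsolv : Group.IsSolvable ↥⁅S, S⁆) (hSP : IsTypePWith S W₁ U W₂)
    (h : IsOfTypeII S ∨ IsOfTypeIII S) :
    U ≠ ⊥ ∧ (Nat.card W₁).Prime ∧ ∀ x ∈ U, ∀ y ∈ U, x * y = y * x := by
  have key : ∀ (W₁' U' W₂' : Subgroup G), IsTypePWith S W₁' U' W₂' → U' ≠ ⊥ →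
      (Nat.card W₁').Prime → IsMulCommutative U' →
      U ≠ ⊥ ∧ (Nat.card W₁).Prime ∧ ∀ x ∈ U, ∀ y ∈ U, x * y = y * x := by
    intro W₁' U' W₂' hP' hU' hq' hcomm'
    obtain ⟨c, hc, hcU⟩ := Cfsg.Agent.Lib.Helper26.PFEight.exists_conj_of_typeP hsolv hSP hP'
    refine ⟨?_, ?_, ?_⟩
    · rintro rfl
      apply hU'
      rw [hcU, Subgroup.map_bot]
    · rw [Cfsg.Agent.Lib.Helper33.PF13.card_eq_of_isComplIn hSP.W₁_compl hP'.W₁_compl]
      exact hq'
    · intro x hx y hy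
      have hx' : c * x * c⁻¹ ∈ U' := by
        rw [hcU]
        exact ⟨x, hx, rfl⟩
      have hy' : c * y * c⁻¹ ∈ U' := by
        rw [hcU]
        exact ⟨y, hy, rfl⟩
      have h1 := hcomm'.is_comm.comm (⟨_, hx'⟩ : U') ⟨_, hy'⟩
      have h2 : (c * x * c⁻¹) * (c * y * c⁻¹) = (c * y * c⁻¹) * (c * x * c⁻¹) :=
        congrArg Subtype.val h1
      have h3 : c * (x * y) * c⁻¹ = c * (y * x) * c⁻¹ := by
        calc c * (x * y) * c⁻¹ = (c * x * c⁻¹) * (c * y * c⁻¹) := by group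
          _ = (c * y * c⁻¹) * (c * x * c⁻¹) := h2
          _ = c * (y * x) * c⁻¹ := by group
      exact mul_left_cancel (mul_right_cancel h3)
  rcases h with ⟨W₁', U', W₂', hP', hU', hq', -, hcomm', -⟩ | ⟨W₁', U', W₂', hP', hU', hq', -, hcomm', -⟩
  · exact key W₁' U' W₂' hP' hU' hq' hcomm'
  · exact key W₁' U' W₂' hP' hU' hq' hcomm'

/-! ### The set `A(S)` for `S` with type-P data -/

theorem mem_litA_iff {S W₁ U W₂ : Subgroup G} (hSP : IsTypePWith S W₁ U W₂) (a : G) :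
    a ∈ litA S ↔ a ∈ ⁅S, S⁆ ∧ a ≠ 1 ∧ ∃ x ∈ typeCore S, x ≠ 1 ∧ a * x = x * a := by
  unfold litA
  rw [if_pos ⟨W₁, U, W₂, hSP⟩]
  rfl

theorem typeCore_cases (S : Subgroup G) : typeCore S = ⁅S, S⁆ ∨ typeCore S = fittingHallOf S := by
  unfold typeCore
  split_ifs
  · exact Or.inl rfl
  · exact Or.inr rfl

theorem litA_sub {S W₁ U W₂ : Subgroup G} (hSP : IsTypePWith S W₁ U W₂) :
    ∀ a ∈ litA S, a ∈ ⁅S, S⁆ ∧ a ≠ 1 := by
  intro a ha
  rw [mem_litA_iff hSP] at ha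
  exact ⟨ha.1, ha.2.1⟩

theorem litA_mem {S W₁ U W₂ : Subgroup G} (hSP : IsTypePWith S W₁ U W₂) :
    ∀ a ∈ ⁅S, S⁆, a ≠ 1 → (∃ x ∈ fittingHallOf S, x ≠ 1 ∧ a * x = x * a) → a ∈ litA S := by
  intro a ha ha1 ⟨x, hx, hx1, hax⟩
  rw [mem_litA_iff hSP]
  exact ⟨ha, ha1, x,
    Cfsg.Agent.Lib.Helper26.PFEight.fittingHallOf_le_typeCore hSP.U_compl.1 hx, hx1, hax⟩

theorem litA_coset {S W₁ U W₂ : Subgroup G} (hSP : IsTypePWith S W₁ U W₂)
    (hPcomm : ∀ x ∈ fittingHallOf S, ∀ y ∈ fittingHallOf S, x * y = y * x) :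
    ∀ a ∈ litA S, a ∉ fittingHallOf S → ∀ x ∈ fittingHallOf S, x * a ∈ litA S := by
  intro a ha haH x hx
  rw [mem_litA_iff hSP] at ha ⊢
  obtain ⟨haS, ha1, y, hy, hy1, hay⟩ := ha
  have hxS : x ∈ ⁅S, S⁆ := hSP.U_compl.1 hx
  have hxa : x * a ∈ ⁅S, S⁆ := Subgroup.mul_mem _ hxS haS
  have hxa1 : x * a ≠ 1 := by
    intro h
    apply haH
    have : a = x⁻¹ := eq_inv_of_mul_eq_one_right h
    rw [this]
    exact Subgroup.inv_mem _ hx
  refine ⟨hxa, hxa1, ?_⟩
  rcases typeCore_cases S with hc | hc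
  · exact ⟨x * a, by rw [hc]; exact hxa, hxa1, rfl⟩
  · rw [hc] at hy ⊢
    refine ⟨y, hy, hy1, ?_⟩
    calc x * a * y = x * (a * y) := by group
      _ = x * (y * a) := by rw [hay]
      _ = (x * y) * a := by group
      _ = (y * x) * a := by rw [hPcomm x hx y hy]
      _ = y * (x * a) := by group

/-- PF13-[HII]: for `S` of Type II every element of `A(S)` centralizes a non-identity element of
`S_F`. -/
theorem litA_typeII [Finite G] {S W₁ U W₂ : Subgroup G}
    (hsolv : Group.IsSolvable ↥⁅S, S⁆) (hP : IsTypePWith S W₁ U W₂) (hII : IsOfTypeII S) :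
    ∀ a ∈ litA S, ∃ x ∈ fittingHallOf S, x ≠ 1 ∧ a * x = x * a := by
  intro a ha
  rw [mem_litA_iff hP, Cfsg.Agent.Lib.Helper26.PFEight.typeCore_eq_of_typeII hsolv hII] at ha
  exact ha.2.2

/-! ### `A₀(S)` -/

theorem ne_one_of_mem_litA0 {S W₁ U W₂ : Subgroup G} (hSP : IsTypePWith S W₁ U W₂) :
    ∀ a ∈ litA0 S, a ≠ 1 := by
  intro a ha
  rcases ha with ha | ⟨W₁', U', W₂', hP', m, hm, w, hw, hw1, hw2, rfl⟩
  · exact (litA_sub hSP a ha).2
  · intro h
    apply hw1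
    have : w = 1 := by
      have h2 : m⁻¹ * (m * w * m⁻¹) * m = m⁻¹ * 1 * m := by rw [h]
      have e1 : m⁻¹ * (m * w * m⁻¹) * m = w := by group
      have e2 : m⁻¹ * 1 * m = 1 := by group
      rw [e1, e2] at h2
      exact h2
    rw [this]
    exact Subgroup.one_mem _

/-- the elementwise TI property of `A₀(S)` from `IsTISubset` and the normalizer -/
theorem litA0_ti [Finite G] {S W₁ U W₂ : Subgroup G} (hSP : IsTypePWith S W₁ U W₂)
    (hTI : IsTISubset (typeA0 S)) (hN : Subgroup.normalizer (typeA0 S) = S) :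
    ∀ g : G, ∀ a ∈ litA0 S, a ≠ 1 → g * a * g⁻¹ ∈ litA0 S → g ∈ S := by
  have hEq := Cfsg.Agent.Lib.Helper26.PFBook.typeA0_eq_litA0_of_typeP ⟨W₁, U, W₂, hSP⟩
  rw [hEq] at hTI hN
  intro g a ha ha1 hga
  by_contra hg
  rw [← hN] at hg
  exact ha1 (hTI g hg a ha hga)

theorem litA0_supportR [Finite G] {S W₁ U W₂ : Subgroup G} (hSP : IsTypePWith S W₁ U W₂)
    (hTI : ∀ g : G, ∀ a ∈ litA0 S, a ≠ 1 → g * a * g⁻¹ ∈ litA0 S → g ∈ S) :
    ∀ a ∈ litA0 S, supportR S a = ⊥ := by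
  intro a ha
  apply Cfsg.Agent.Lib.Helper26.PFEight.supportR_eq_bot_of_le
  intro g hg
  apply hTI g a ha (ne_one_of_mem_litA0 hSP a ha)
  have hcomm : a * g = g * a := (Subgroup.mem_centralizer_iff.1 hg) a rfl
  have e : g * a * g⁻¹ = a := by rw [← hcomm]; group
  rw [e]
  exact ha

/-! ### `S_F` is a Sylow subgroup of `G` when it is a `p`-group -/

/-- If `S` is a maximal subgroup of the simple group `G` and `S_F` is a nontrivial `p`-group,
then every element of order `p` of `G` is conjugate into `S_F`. -/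
theorem exists_conj_mem_fittingHallOf [Finite G] [IsSimpleGroup G] {S : Subgroup G}
    (hS : IsCoatom S) {p n : ℕ} (hp : p.Prime) (hn : 0 < n)
    (hcard : Nat.card (fittingHallOf S) = p ^ n) :
    ∀ x : G, orderOf x = p → ∃ g : G, g * x * g⁻¹ ∈ fittingHallOf S := by
  have : Fact p.Prime := ⟨hp⟩
  set P := fittingHallOf S with hPdef
  have hPS : P ≤ S := Cfsg.Agent.Lib.Helper26.PFEight.fittingHallOf_le S
  have hPp : IsPGroup p P := IsPGroup.of_card hcard
  have hP1 : ∃ a ∈ (P : Set G), a ≠ 1 := by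
    by_contra hno
    push Not at hno
    have : P = ⊥ := by
      rw [eq_bot_iff]
      intro a ha
      rw [Subgroup.mem_bot]
      exact hno a ha
    rw [this, Subgroup.card_bot] at hcard
    have : 1 < p ^ n := Nat.one_lt_pow (by omega) hp.one_lt
    omega
  have hN : Subgroup.normalizer (P : Set G) = S :=
    Cfsg.Agent.Lib.Helper26.PFEight.normalizer_eq_of_isCoatom hS (fun a ha => hPS ha) hP1
      (fun m hm a ha => Cfsg.Agent.Lib.Helper4.PF9.conj_mem_fittingHallOf S hm ha)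
  -- the `p`-elements of `S` lie in `P`
  have hmemP : ∀ y ∈ S, IsPGroup p (Subgroup.zpowers y) → y ∈ P := by
    intro y hy hyp
    -- work inside `↥S`
    have hcop := Cfsg.Agent.Lib.Helper23.fittingHall_coprime ↥S
    have hcardF : Nat.card ↥(fittingHall ↥S) = p ^ n := by
      rw [← Cfsg.Agent.Lib.Helper4.PF9.card_fittingHallOf, ← hPdef, hcard]
    have hFp : IsPGroup p ↥(fittingHall ↥S) := IsPGroup.of_card hcardF
    have hidx : ¬ p ∣ (fittingHall ↥S).index := by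
      intro hdvd
      rw [hcardF] at hcop
      have h1 : (p ^ n).Coprime p := hcop.coprime_dvd_right hdvd
      have h2 : p ∣ p ^ n := dvd_pow_self p (by omega)
      have := Nat.Coprime.eq_one_of_dvd h1.symm h2
      exact hp.one_lt.ne' this
    set P0 : Sylow p ↥S := hFp.toSylow hidx with hP0
    have hP0coe : (P0 : Subgroup ↥S) = fittingHall ↥S := rfl
    have hynorm : (⟨y, hy⟩ : ↥S) ∈ Subgroup.normalizer ((P0 : Subgroup ↥S) : Set ↥S) := by
      rw [hP0coe, Subgroup.normalizer_eq_top]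
      trivial
    have hyp' : IsPGroup p (Subgroup.zpowers (⟨y, hy⟩ : ↥S)) := by
      have hinj : Function.Injective S.subtype := S.subtype_injective
      have hmap : (Subgroup.zpowers (⟨y, hy⟩ : ↥S)).map S.subtype = Subgroup.zpowers y := by
        rw [MonoidHom.map_zpowers]
        rfl
      have h1 : IsPGroup p ((Subgroup.zpowers (⟨y, hy⟩ : ↥S)).map S.subtype) := by
        rw [hmap]; exact hyp
      exact IsPGroup.of_equiv h1
        ((Subgroup.zpowers (⟨y, hy⟩ : ↥S)).equivMapOfInjective S.subtype hinj).symm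
    have hmem := Cfsg.Agent.Lib.Helper17.mem_sylow_of_mem_normalizer P0 (⟨y, hy⟩ : ↥S) hyp' hynorm
    rw [hP0coe] at hmem
    exact ⟨⟨y, hy⟩, hmem, rfl⟩
  -- `P` is a Sylow `p`-subgroup of `G`
  obtain ⟨Q, hPQ⟩ := hPp.exists_le_sylow
  have hPQeq : P = (Q : Subgroup G) := by
    by_contra hne
    obtain ⟨y, hyQ, hyN, hyP⟩ :=
      Cfsg.Agent.Lib.Helper17.exists_mem_normalizer_not_mem_of_ne (Q : Subgroup G) P Q.isPGroup'
        hPQ hne
    rw [hN] at hyN
    apply hyP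
    apply hmemP y hyN
    exact Q.isPGroup'.to_le (by rw [Subgroup.zpowers_le]; exact hyQ)
  intro x hx
  have hxp : IsPGroup p (Subgroup.zpowers x) :=
    Cfsg.Agent.Lib.Helper17.isPGroup_zpowers_of_orderOf_eq x hx
  obtain ⟨Q', hQ'⟩ := hxp.exists_le_sylow
  obtain ⟨g, hg⟩ := MulAction.exists_smul_eq G Q Q'
  have hxQ' : x ∈ ((g • Q : Sylow p G) : Subgroup G) := by
    rw [hg]
    exact hQ' (Subgroup.mem_zpowers x)
  rw [Cfsg.Agent.Lib.Helper17.mem_smul_sylow_iff] at hxQ'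
  refine ⟨g⁻¹, ?_⟩
  rw [hPQeq, inv_inv]
  exact hxQ'

/-! ### The instance -/

/-- **PF13-[PSIDE]**: the standing context of one side of the pair. -/
theorem exists_pside [Fintype G] (hG : IsMinSimpleOddOrder G) (bg : BookBGData G)
    (pf8 : BookPF8Data G) (h1543 : Stmt1543 G) {S T W₁ W₂ U V : Subgroup G} [Fintype S]
    (ph : PairHyp S T W₁ W₂ U V) {η : WChar W₁ W₂ → (G → ℂ)}
    (hη : IsCyclicTIFamily W₁ W₂ η) :
    ∃ (mu : WChar W₁ W₂ → (↥S → ℂ)) (dl : WChar W₁ W₂ → ℂ), PSide S W₁ U W₂ mu dl η := by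
  have : IsSimpleGroup G := hG.2.1
  have hodd : Odd (Nat.card G) := hG.1
  have hoddS : Odd (Nat.card S) := Odd.of_dvd_nat hodd (Subgroup.card_subgroup_dvd_card S)
  have hsolvS : Group.IsSolvable ↥⁅S, S⁆ :=
    Cfsg.Agent.Lib.Helper26.PFBook.isSolvable_of_isCoatom hG ph.hS
      (Cfsg.Agent.Lib.Helper26.PFEight.commutator_self_le S)
  obtain ⟨hS23, -, hEA, hcard, hTI0, hN0⟩ :=
    h1543 S T W₁ W₂ U V ph.hS ph.hT ph.hSP ph.hTP ph.hST ph.hII ph.hS25 ph.hT25
  have hST' : T ⊓ S = W₂ ⊔ W₁ := by rw [inf_comm, ph.hST, sup_comm]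
  obtain ⟨hT23, -⟩ :=
    h1543 T S W₂ W₁ V U ph.hT ph.hS ph.hTP ph.hSP hST' ph.hII.symm ph.hT25 ph.hS25
  obtain ⟨hU1, hq, hUcomm⟩ := typeII_III_data hsolvS ph.hSP hS23
  have hp : (Nat.card W₂).Prime := Cfsg.Agent.Lib.Helper33.PF13.card_W₂_prime ph.hTP hT23
  have hPcomm : ∀ x ∈ fittingHallOf S, ∀ y ∈ fittingHallOf S, x * y = y * x := by
    intro x hx y hy
    have := hEA.1.is_comm.comm (⟨x, hx⟩ : fittingHallOf S) ⟨y, hy⟩
    exact congrArg Subtype.val this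
  have hTI := litA0_ti ph.hSP hTI0 hN0
  obtain ⟨mu, dl, md⟩ := Cfsg.Agent.Lib.Helper22.PFCyc.exists_muData ph.hSP hoddS
  refine ⟨mu, dl, ?_⟩
  exact
    { hP := ph.hSP
      hodd := hodd
      hq := hq
      hp := hp
      hU1 := hU1
      hPcomm := hPcomm
      hPexp := hEA.2
      hPcard := hcard
      hUcomm := hUcomm
      hA_sub := litA_sub ph.hSP
      hA_mem := litA_mem ph.hSP
      hA_coset := litA_coset ph.hSP hPcomm
      hTI := hTI
      hR := litA0_supportR ph.hSP hTI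
      hD := (pf8.dade S ph.hS (litA0 S) (Or.inr (Or.inr rfl))).2
      hsylow := exists_conj_mem_fittingHallOf ph.hS hp hq.pos hcard
      md := md
      hη := hη }

end Cfsg.Agent.Lib.Helper54.PF13PSide
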