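/-
helper54: module ASCH-[SN] of helper99's PROJECT ASCH (S5630): Skolem-Noether for matrix algebras, sheet statement
`Cfsg.Agent.Lib.Helper99.Asch.skolem_noether`, from `Cfsg.Agent.Lib.Helper54.SkolemNoether.exists_conj_of_algHom`.
(The commutant / normalizer of `M_d ⊗ 1` used in [KRONNORM] are in the same library file:
`exists_one_kronecker_of_commute`, `exists_kronecker_of_normalizes`.)
-/
import Mathlib
import Cfsg.Agent.Lib.Helper54.SkolemNoether

set_option autoImplicit false

namespace Cfsg.Agent.Lib.Helper99.Asch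

open scoped MatrixGroups Matrix Kronecker

/-- ASCH-[SN]  Skolem–Noether for matrix algebras. -/
theorem skolem_noether {κ : Type} [Fintype κ] [DecidableEq κ] {K : Type*} [Field K]
    (φ : Matrix κ κ K →ₐ[K] Matrix κ κ K) :
    ∃ a : GL κ K, ∀ x, φ x = (a : Matrix κ κ K) * x * ((a⁻¹ : GL κ K) : Matrix κ κ K) :=
  Cfsg.Agent.Lib.Helper54.SkolemNoether.exists_conj_of_algHom φ

end Cfsg.Agent.Lib.Helper99.Asch
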