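import Mathlib
import Cfsg.Agent.Lib.Helper37.PlusField.Defs
import Cfsg.Agent.Lib.Helper43.OSplit
import Cfsg.Agent.Lib.Helper13.MinusCent2

/-!
# PF15-[EVENBC] (helper37's sheet, board #4519): base change keeps the class character

`plusEven (GL.map j A) ↔ plusEven A` for a ring homomorphism `j : F₀ →+* F` of fields.
The evenness of `g` is the parity of the rank of the lower-left block of `g`
(`finrank_inf_add_rank` of helper13), and the rank does not change under a field
extension (`rank_map_field` of helper79).
-/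

set_option autoImplicit false
set_option linter.unusedVariables false
set_option linter.unusedSimpArgs false

namespace Cfsg.Agent.Lib.Helper54.PlusField

open scoped MatrixGroups Matrix
open Module Matrix Cfsg.Agent.Lib.Helper45.PSLField Cfsg.Agent.Lib.Helper36 Cfsg.Agent.S2168
  Cfsg.Agent.Lib.Helper43 Cfsg.Agent.Lib.Helper13 Cfsg.Agent.Lib.Helper37.PlusField

/-- the standard basis of the standard maximal totally singular subspace -/
def uPlus (m : ℕ) (K : Type*) [Field K] : Fin m → (Fin m ⊕ Fin m → K) :=
  fun i => Pi.single (Sum.inl i) 1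

theorem linearCombination_uPlus (m : ℕ) (K : Type*) [Field K] :
    Fintype.linearCombination K (uPlus m K) = plusInl m K := by
  apply LinearMap.ext
  intro y
  funext k
  rw [Fintype.linearCombination_apply]
  rcases k with k | k
  · simp [uPlus, Finset.sum_apply, Pi.single_apply, plusInl]
  · simp [uPlus, Finset.sum_apply, Pi.single_apply, plusInl]

theorem range_linearCombination_uPlus (m : ℕ) (K : Type*) [Field K] :
    LinearMap.range (Fintype.linearCombination K (uPlus m K)) = stdPlus m K := by
  rw [linearCombination_uPlus]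
  rfl

/-- the matrix of polar values on the standard basis is the lower-left block -/
theorem polarMat_uPlus_apply (m : ℕ) (K : Type*) [Field K]
    (g : Matrix (Fin m ⊕ Fin m) (Fin m ⊕ Fin m) K) (i k : Fin m) :
    polarMat (plusQF m K) (uPlus m K) g i k = g (Sum.inr i) (Sum.inl k) := by
  rw [polarMat_apply, plusQF_polar, plusB_apply]
  have hw : ∀ l : Fin m ⊕ Fin m, (g *ᵥ uPlus m K k) l = g l (Sum.inl k) := by
    intro l
    unfold uPlus
    rw [Matrix.mulVec_single_one]
    rfl
  rw [Finset.sum_eq_single i]
  · rw [hw]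
    simp [uPlus]
  · intro l _ hl
    have h1 : uPlus m K i (Sum.inl l) = 0 := by
      unfold uPlus
      rw [Pi.single_apply, if_neg]
      intro h
      exact hl (Sum.inl.inj h)
    have h2 : uPlus m K i (Sum.inr l) = 0 := by
      unfold uPlus
      rw [Pi.single_apply, if_neg]
      intro h
      exact absurd h (by simp)
    rw [h1, h2, zero_mul, mul_zero, add_zero]
  · intro h
    exact absurd (Finset.mem_univ i) h

/-- evenness is the parity of the rank of the lower-left block -/
theorem plusEven_iff_even_rank {m : ℕ} {K : Type*} [Field K] (g : GL (Fin m ⊕ Fin m) K) :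
    plusEven g ↔ Even (polarMat (plusQF m K) (uPlus m K)
      (g : Matrix (Fin m ⊕ Fin m) (Fin m ⊕ Fin m) K)).rank := by
  have hinj : Function.Injective (Fintype.linearCombination K (uPlus m K)) := by
    rw [linearCombination_uPlus]
    exact plusInl_injective m K
  have hts : ∀ y, plusQF m K (Fintype.linearCombination K (uPlus m K) y) = 0 := by
    intro y
    apply stdPlus_ts m K
    rw [← range_linearCombination_uPlus]
    exact ⟨y, rfl⟩
  have h := finrank_inf_add_rank (plusQF m K) (plusQF_nondeg m K) m card_plus_index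
    (uPlus m K) (Fintype.card_fin m) hinj hts g
  rw [range_linearCombination_uPlus] at h
  unfold plusEven plusEvenLin
  have hd : m - finrank K ↥(stdPlus m K ⊓ (stdPlus m K).map
      ((glLinEquiv (Fin m ⊕ Fin m) K g : (Fin m ⊕ Fin m → K) ≃ₗ[K] (Fin m ⊕ Fin m → K)) :
        (Fin m ⊕ Fin m → K) →ₗ[K] (Fin m ⊕ Fin m → K))) =
      (polarMat (plusQF m K) (uPlus m K)
        (g : Matrix (Fin m ⊕ Fin m) (Fin m ⊕ Fin m) K)).rank := by
    omega
  rw [hd]

variable {m : ℕ} {F : Type*} [Field F] {F₀ : Type*} [Field F₀]

/-- the lower-left block commutes with base change -/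
theorem polarMat_uPlus_map (j : F₀ →+* F) (A : Matrix (Fin m ⊕ Fin m) (Fin m ⊕ Fin m) F₀) :
    polarMat (plusQF m F) (uPlus m F) (A.map j) =
      (polarMat (plusQF m F₀) (uPlus m F₀) A).map j := by
  ext i k
  rw [polarMat_uPlus_apply, Matrix.map_apply, Matrix.map_apply, polarMat_uPlus_apply]

/-- **PF15-[EVENBC]**, without the similarity hypothesis. -/
theorem plusEven_map_iff' (j : F₀ →+* F) (A : GL (Fin m ⊕ Fin m) F₀) :
    plusEven (Matrix.GeneralLinearGroup.map j A) ↔ plusEven A := by
  rw [plusEven_iff_even_rank, plusEven_iff_even_rank]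
  have hcoe : ((Matrix.GeneralLinearGroup.map j A : GL (Fin m ⊕ Fin m) F) :
      Matrix (Fin m ⊕ Fin m) (Fin m ⊕ Fin m) F) =
      (A : Matrix (Fin m ⊕ Fin m) (Fin m ⊕ Fin m) F₀).map j := rfl
  rw [hcoe, polarMat_uPlus_map, Cfsg.Agent.Lib.Helper79.rank_map_field j]

/-- **PF15-[EVENBC]** (exact statement of the sheet). -/
theorem plusEven_map_iff (j : F₀ →+* F) (A : GL (Fin m ⊕ Fin m) F₀)
    (hA : A ∈ Cfsg.Geo.quadSimilarityGroup (⇑(plusQF m F₀))) :
    plusEven (Matrix.GeneralLinearGroup.map j A) ↔ plusEven A :=
  plusEven_map_iff' j A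

end Cfsg.Agent.Lib.Helper54.PlusField
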