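/-
helper54: module ASCH-[KFOLD] of helper99's PROJECT ASCH (S5630), main part: the k-fold tensor decomposition
`kfold_of`, proved from the statement of ASCH-[BIN] (`BinStmt`, needed in positive degree only) taken as a hypothesis
and the landed ASCH-[BURNSIDE] (helper39).  The sheet theorem `Cfsg.Agent.Lib.Helper99.Asch.kfold_tensor` is `kfold_of`
applied to the landed [BIN] module (file `AschKFoldFinal.lean`).
-/
import Mathlib
import Cfsg.Prelude.Def_GeometricClasses
import Cfsg.Agent.Lib.Helper99.AschDefs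
import Cfsg.Agent.Lib.Helper39.AschBurnside

set_option autoImplicit false

namespace Cfsg.Agent.Lib.Helper54.AschKFold

open Cfsg Cfsg.Geo Cfsg.Agent.Lib.Helper99.Asch
open scoped MatrixGroups Matrix Kronecker

variable {F : Type*} [Field F]

section kron

variable (F) (α β : Type*) [Fintype α] [DecidableEq α] [Fintype β] [DecidableEq β]

/-- `a ↦ a ⊗ 1` as an algebra homomorphism -/
noncomputable def kronL : Matrix α α F →ₐ[F] Matrix (α × β) (α × β) F :=
  AlgHom.ofLinearMap
    { toFun := fun a => a ⊗ₖ (1 : Matrix β β F)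
      map_add' := fun a b => Matrix.add_kronecker a b 1
      map_smul' := fun c a => Matrix.smul_kronecker c a 1 }
    Matrix.one_kronecker_one
    (fun a b => by
      show (a * b) ⊗ₖ (1 : Matrix β β F) = a ⊗ₖ (1 : Matrix β β F) * b ⊗ₖ (1 : Matrix β β F)
      rw [← Matrix.mul_kronecker_mul, mul_one])

/-- `b ↦ 1 ⊗ b` as an algebra homomorphism -/
noncomputable def kronR : Matrix β β F →ₐ[F] Matrix (α × β) (α × β) F :=
  AlgHom.ofLinearMap
    { toFun := fun b => (1 : Matrix α α F) ⊗ₖ b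
      map_add' := fun a b => Matrix.kronecker_add 1 a b
      map_smul' := fun c a => Matrix.kronecker_smul c 1 a }
    Matrix.one_kronecker_one
    (fun a b => by
      show (1 : Matrix α α F) ⊗ₖ (a * b) = (1 : Matrix α α F) ⊗ₖ a * (1 : Matrix α α F) ⊗ₖ b
      rw [← Matrix.mul_kronecker_mul, mul_one])

variable {F α β}

@[simp] theorem kronL_apply (a : Matrix α α F) : kronL F α β a = a ⊗ₖ (1 : Matrix β β F) := rfl

@[simp] theorem kronR_apply (b : Matrix β β F) : kronR F α β b = (1 : Matrix α α F) ⊗ₖ b := rfl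

theorem kronL_injective [Nonempty β] : Function.Injective (kronL F α β) := by
  intro a a' h
  obtain ⟨s₀⟩ := ‹Nonempty β›
  ext i j
  have h1 := congrFun (congrFun h (i, s₀)) (j, s₀)
  simpa [Matrix.kroneckerMap_apply] using h1

theorem kronR_injective [Nonempty α] : Function.Injective (kronR F α β) := by
  intro b b' h
  obtain ⟨s₀⟩ := ‹Nonempty α›
  ext i j
  have h1 := congrFun (congrFun h (s₀, i)) (s₀, j)
  simpa [Matrix.kroneckerMap_apply] using h1

theorem kronL_commute_kronR (a : Matrix α α F) (b : Matrix β β F) :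
    kronL F α β a * kronR F α β b = kronR F α β b * kronL F α β a := by
  simp only [kronL_apply, kronR_apply]
  rw [← Matrix.mul_kronecker_mul, ← Matrix.mul_kronecker_mul, mul_one, one_mul, mul_one, one_mul]

end kron

section conj

variable {ι : Type*} [Fintype ι] [DecidableEq ι]

/-- `M ↦ B⁻¹ M B` as an algebra homomorphism -/
noncomputable def conjInv (B : (Matrix ι ι F)ˣ) : Matrix ι ι F →ₐ[F] Matrix ι ι F :=
  AlgHom.ofLinearMap
    { toFun := fun M => ((B⁻¹ : (Matrix ι ι F)ˣ) : Matrix ι ι F) * M * (B : Matrix ι ι F)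
      map_add' := fun a b => by rw [mul_add, add_mul]
      map_smul' := fun c a => by
        rw [RingHom.id_apply, Matrix.mul_smul, Matrix.smul_mul] }
    (by
      show ((B⁻¹ : (Matrix ι ι F)ˣ) : Matrix ι ι F) * 1 * (B : Matrix ι ι F) = 1
      rw [mul_one, Units.inv_mul])
    (fun a b => by
      show ((B⁻¹ : (Matrix ι ι F)ˣ) : Matrix ι ι F) * (a * b) * (B : Matrix ι ι F) =
        ((B⁻¹ : (Matrix ι ι F)ˣ) : Matrix ι ι F) * a * (B : Matrix ι ι F) *
          (((B⁻¹ : (Matrix ι ι F)ˣ) : Matrix ι ι F) * b * (B : Matrix ι ι F))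
      have h : (B : Matrix ι ι F) * ((B⁻¹ : (Matrix ι ι F)ˣ) : Matrix ι ι F) = 1 := Units.mul_inv B
      calc ((B⁻¹ : (Matrix ι ι F)ˣ) : Matrix ι ι F) * (a * b) * (B : Matrix ι ι F)
          = ((B⁻¹ : (Matrix ι ι F)ˣ) : Matrix ι ι F) * a * 1 * b * (B : Matrix ι ι F) := by
            simp only [mul_one, mul_assoc]
        _ = _ := by rw [← h]; simp only [mul_assoc])

@[simp] theorem conjInv_apply (B : (Matrix ι ι F)ˣ) (M : Matrix ι ι F) :
    conjInv B M = ((B⁻¹ : (Matrix ι ι F)ˣ) : Matrix ι ι F) * M * (B : Matrix ι ι F) := rfl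

theorem conjInv_injective (B : (Matrix ι ι F)ˣ) : Function.Injective (conjInv (F := F) B) := by
  intro M M' h
  simp only [conjInv_apply] at h
  have h1 : (B : Matrix ι ι F) * (((B⁻¹ : (Matrix ι ι F)ˣ) : Matrix ι ι F) * M * (B : Matrix ι ι F)) *
      ((B⁻¹ : (Matrix ι ι F)ˣ) : Matrix ι ι F) = M := by
    simp only [← mul_assoc, Units.mul_inv, one_mul]
    rw [mul_assoc, Units.mul_inv, mul_one]
  rw [← h1, h]
  simp only [← mul_assoc, Units.mul_inv, one_mul]
  rw [mul_assoc, Units.mul_inv, mul_one]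

end conj


/-- the glueing bijection `Fin d × Fin e ≃ (Fin (k+1) → Fin d)` -/
def glue {d e k : ℕ} (idx₁ : Fin e ≃ (Fin k → Fin d)) : Fin d × Fin e ≃ (Fin (k + 1) → Fin d) :=
  (Equiv.prodCongr (Equiv.refl (Fin d)) idx₁).trans (Fin.consEquiv fun _ => Fin d)

theorem glue_zero {d e k : ℕ} (idx₁ : Fin e ≃ (Fin k → Fin d)) (p : Fin d × Fin e) :
    glue idx₁ p 0 = p.1 := by
  simp [glue, Fin.consEquiv]

theorem glue_succ {d e k : ℕ} (idx₁ : Fin e ≃ (Fin k → Fin d)) (p : Fin d × Fin e) (j : Fin k) :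
    glue idx₁ p j.succ = idx₁ p.2 j := by
  simp [glue, Fin.consEquiv]

/-- slot `0` of the glued index set is the left Kronecker factor -/
theorem reindex_glue_slot_zero {d e k : ℕ} (idx₁ : Fin e ≃ (Fin k → Fin d))
    (a : Matrix (Fin d) (Fin d) F) :
    Matrix.reindex (glue idx₁).symm (glue idx₁).symm (slotMatrix (0 : Fin (k + 1)) a) =
      a ⊗ₖ (1 : Matrix (Fin e) (Fin e) F) := by
  ext ⟨p1, p2⟩ ⟨q1, q2⟩
  rw [Matrix.reindex_apply, Matrix.submatrix_apply, Equiv.symm_symm, Matrix.kroneckerMap_apply,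
    Matrix.one_apply]
  unfold slotMatrix
  rw [glue_zero, glue_zero]
  have hiff : (∀ j : Fin (k + 1), j ≠ 0 → glue idx₁ (p1, p2) j = glue idx₁ (q1, q2) j) ↔ p2 = q2 := by
    constructor
    · intro h
      apply idx₁.injective
      funext j
      have := h j.succ (Fin.succ_ne_zero j)
      rwa [glue_succ, glue_succ] at this
    · rintro rfl j hj
      obtain ⟨j', rfl⟩ := Fin.exists_succ_eq.mpr hj
      rw [glue_succ, glue_succ]
  by_cases h : p2 = q2
  · rw [if_pos (hiff.mpr h), if_pos h, mul_one]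
  · rw [if_neg (fun hc => h (hiff.mp hc)), if_neg h, mul_zero]

/-- slot `j+1` of the glued index set is slot `j` of the right Kronecker factor -/
theorem reindex_glue_slot_succ {d e k : ℕ} (idx₁ : Fin e ≃ (Fin k → Fin d)) (j : Fin k)
    (a : Matrix (Fin d) (Fin d) F) :
    Matrix.reindex (glue idx₁).symm (glue idx₁).symm (slotMatrix j.succ a) =
      (1 : Matrix (Fin d) (Fin d) F) ⊗ₖ
        (Matrix.reindex idx₁.symm idx₁.symm (slotMatrix j a) : Matrix (Fin e) (Fin e) F) := by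
  ext ⟨p1, p2⟩ ⟨q1, q2⟩
  rw [Matrix.reindex_apply, Matrix.submatrix_apply, Equiv.symm_symm, Matrix.kroneckerMap_apply,
    Matrix.one_apply, Matrix.reindex_apply, Matrix.submatrix_apply, Equiv.symm_symm]
  unfold slotMatrix
  rw [glue_succ, glue_succ]
  have hiff : (∀ l : Fin (k + 1), l ≠ j.succ → glue idx₁ (p1, p2) l = glue idx₁ (q1, q2) l) ↔
      (p1 = q1 ∧ ∀ l : Fin k, l ≠ j → idx₁ p2 l = idx₁ q2 l) := by
    constructor
    · intro h
      refine ⟨?_, fun l hl => ?_⟩
      · have := h 0 (Fin.succ_ne_zero j).symm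
        rwa [glue_zero, glue_zero] at this
      · have := h l.succ (fun hc => hl (Fin.succ_injective _ hc))
        rwa [glue_succ, glue_succ] at this
    · rintro ⟨h1, h2⟩ l hl
      rcases Fin.eq_zero_or_eq_succ l with rfl | ⟨l', rfl⟩
      · rw [glue_zero, glue_zero]; exact h1
      · rw [glue_succ, glue_succ]
        exact h2 l' (fun hc => hl (by rw [hc]))
  by_cases h1 : p1 = q1
  · by_cases h2 : ∀ l : Fin k, l ≠ j → idx₁ p2 l = idx₁ q2 l
    · rw [if_pos (hiff.mpr ⟨h1, h2⟩), if_pos h1, if_pos h2, one_mul]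
    · rw [if_neg (fun hc => h2 (hiff.mp hc).2), if_pos h1, if_neg h2, one_mul]
  · rw [if_neg (fun hc => h1 (hiff.mp hc).1), if_neg h1, zero_mul]


/-! ### the two embeddings attached to a tensor normal form -/

section emb

variable {ι α β : Type} [Fintype ι] [DecidableEq ι] [Fintype α] [DecidableEq α] [Fintype β]
  [DecidableEq β]

/-- `a ↦ B⁻¹ * reindex (a ⊗ 1) * B` -/
noncomputable def emb1 (idx : ι ≃ α × β) (B : GL ι F) : Matrix α α F →ₐ[F] Matrix ι ι F :=
  (conjInv B).comp ((Matrix.reindexAlgEquiv F F idx.symm).toAlgHom.comp (kronL F α β))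

/-- `b ↦ B⁻¹ * reindex (1 ⊗ b) * B` -/
noncomputable def emb2 (idx : ι ≃ α × β) (B : GL ι F) : Matrix β β F →ₐ[F] Matrix ι ι F :=
  (conjInv B).comp ((Matrix.reindexAlgEquiv F F idx.symm).toAlgHom.comp (kronR F α β))

theorem emb1_apply (idx : ι ≃ α × β) (B : GL ι F) (a : Matrix α α F) :
    emb1 idx B a = ((B⁻¹ : GL ι F) : Matrix ι ι F) *
      Matrix.reindex idx.symm idx.symm (a ⊗ₖ (1 : Matrix β β F)) * (B : Matrix ι ι F) := rfl

theorem emb2_apply (idx : ι ≃ α × β) (B : GL ι F) (b : Matrix β β F) :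
    emb2 idx B b = ((B⁻¹ : GL ι F) : Matrix ι ι F) *
      Matrix.reindex idx.symm idx.symm ((1 : Matrix α α F) ⊗ₖ b) * (B : Matrix ι ι F) := rfl

theorem emb1_injective [Nonempty β] (idx : ι ≃ α × β) (B : GL ι F) :
    Function.Injective (emb1 (F := F) idx B) := by
  intro a a' h
  exact kronL_injective ((Matrix.reindexAlgEquiv F F idx.symm).injective (conjInv_injective B h))

theorem emb2_injective [Nonempty α] (idx : ι ≃ α × β) (B : GL ι F) :
    Function.Injective (emb2 (F := F) idx B) := by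
  intro a a' h
  exact kronR_injective ((Matrix.reindexAlgEquiv F F idx.symm).injective (conjInv_injective B h))

theorem emb1_commute_emb2 (idx : ι ≃ α × β) (B : GL ι F) (a : Matrix α α F) (b : Matrix β β F) :
    emb1 idx B a * emb2 idx B b = emb2 idx B b * emb1 idx B a := by
  unfold emb1 emb2
  simp only [AlgHom.comp_apply]
  rw [← map_mul, ← map_mul, ← map_mul, ← map_mul, kronL_commute_kronR]

/-- `B y B⁻¹ = M` iff `y = B⁻¹ M B` -/
theorem coe_conj_eq_iff (B y : GL ι F) (M : Matrix ι ι F) :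
    ((B * y * B⁻¹ : GL ι F) : Matrix ι ι F) = M ↔
      (y : Matrix ι ι F) = ((B⁻¹ : GL ι F) : Matrix ι ι F) * M * (B : Matrix ι ι F) := by
  have h1 : ((B⁻¹ : GL ι F) : Matrix ι ι F) * (B : Matrix ι ι F) = 1 := Units.inv_mul B
  have h2 : (B : Matrix ι ι F) * ((B⁻¹ : GL ι F) : Matrix ι ι F) = 1 := Units.mul_inv B
  rw [Units.val_mul, Units.val_mul]
  constructor
  · intro h
    rw [← h]
    calc (y : Matrix ι ι F) = 1 * (y : Matrix ι ι F) * 1 := by rw [one_mul, mul_one]
      _ = _ := by rw [← h1]; simp only [mul_assoc]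
  · intro h
    rw [h]
    calc (B : Matrix ι ι F) * (((B⁻¹ : GL ι F) : Matrix ι ι F) * M * (B : Matrix ι ι F)) *
          ((B⁻¹ : GL ι F) : Matrix ι ι F)
        = ((B : Matrix ι ι F) * ((B⁻¹ : GL ι F) : Matrix ι ι F)) * M *
          ((B : Matrix ι ι F) * ((B⁻¹ : GL ι F) : Matrix ι ι F)) := by simp only [mul_assoc]
      _ = M := by rw [h2, one_mul, mul_one]

end emb

/-! ### generalities -/

theorem absIrred_mono {ι : Type} [Fintype ι] [DecidableEq ι] {S S' : Set (Matrix ι ι F)}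
    (h : ActsAbsolutelyIrreducibly S) (hS : S ⊆ S') : ActsAbsolutelyIrreducibly S' :=
  ⟨fun W hW => h.1 W (fun s hs => hW s (hS hs)), fun M hM => h.2 M (fun s hs => hM s (hS hs))⟩

/-- `slotMatrix j` as a linear map -/
def slotLin {k d : ℕ} (j : Fin k) :
    Matrix (Fin d) (Fin d) F →ₗ[F] Matrix (Fin k → Fin d) (Fin k → Fin d) F where
  toFun := slotMatrix j
  map_add' a b := by
    ext x y
    rw [Matrix.add_apply]
    unfold slotMatrix
    by_cases h : ∀ l, l ≠ j → x l = y l
    · rw [if_pos h, if_pos h, if_pos h, Matrix.add_apply]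
    · rw [if_neg h, if_neg h, if_neg h, add_zero]
  map_smul' c a := by
    ext x y
    rw [RingHom.id_apply, Matrix.smul_apply]
    unfold slotMatrix
    by_cases h : ∀ l, l ≠ j → x l = y l
    · rw [if_pos h, if_pos h, Matrix.smul_apply]
    · rw [if_neg h, if_neg h, smul_zero]

theorem slotMatrix_injective {k d : ℕ} (j : Fin k) :
    Function.Injective (slotMatrix (F := F) (d := d) j) := by
  intro a a' h
  ext s t
  have h1 := congrFun (congrFun h (fun _ => s)) (Function.update (fun _ => s) j t)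
  unfold slotMatrix at h1
  have hc : ∀ l, l ≠ j → (fun _ : Fin k => s) l = Function.update (fun _ : Fin k => s) j t l := by
    intro l hl
    rw [Function.update_of_ne hl]
  rw [if_pos hc, if_pos hc, Function.update_self] at h1
  exact h1

/-- the conclusion of ASCH-[KFOLD] -/
def KConcl {n k : ℕ} (Q : Fin k → Subgroup (GL (Fin n) F)) (d : ℕ) : Prop :=
  ∃ (idx : Fin n ≃ (Fin k → Fin d)) (B : GL (Fin n) F),
      (∀ i, ∀ x ∈ Q i, ∃ a : GL (Fin d) F,
        ((B * x * B⁻¹ : GL (Fin n) F) : Matrix (Fin n) (Fin n) F) =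
          Matrix.reindex idx.symm idx.symm (slotMatrix i (a : Matrix (Fin d) (Fin d) F))) ∧
      (∀ i (a : Matrix (Fin d) (Fin d) F),
        ((B⁻¹ : GL (Fin n) F) : Matrix (Fin n) (Fin n) F) *
          Matrix.reindex idx.symm idx.symm (slotMatrix i a) * (B : Matrix (Fin n) (Fin n) F) ∈
          Submodule.span F (matrixSet (Q i)))

/-- the glueing step -/
theorem step {n k d e : ℕ} (Q : Fin (k + 1) → Subgroup (GL (Fin n) F))
    (idx₀ : Fin n ≃ Fin d × Fin e) (B₀ : GL (Fin n) F)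
    (h1 : ∀ x ∈ Q 0, ∃ a : GL (Fin d) F,
      (x : Matrix (Fin n) (Fin n) F) = emb1 idx₀ B₀ (a : Matrix (Fin d) (Fin d) F))
    (hspan0 : ∀ a : Matrix (Fin d) (Fin d) F,
      emb1 idx₀ B₀ a ∈ Submodule.span F (matrixSet (Q 0)))
    (Qt : Fin k → Subgroup (GL (Fin e) F))
    (hQt : ∀ j : Fin k, Qt j = (Q j.succ).comap (Units.map (emb2 idx₀ B₀ : Matrix (Fin e) (Fin e) F →*
      Matrix (Fin n) (Fin n) F)))
    (h2 : ∀ j : Fin k, ∀ y ∈ Q j.succ, ∃ b : GL (Fin e) F,
      (y : Matrix (Fin n) (Fin n) F) = emb2 idx₀ B₀ (b : Matrix (Fin e) (Fin e) F))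
    (IH : KConcl Qt d) : KConcl Q d := by
  obtain ⟨idx₁, B₁, h1', h2'⟩ := IH
  set θ₂ : GL (Fin e) F →* GL (Fin n) F :=
    Units.map (emb2 idx₀ B₀ : Matrix (Fin e) (Fin e) F →* Matrix (Fin n) (Fin n) F) with hθ₂
  have hθ₂coe : ∀ b : GL (Fin e) F,
      ((θ₂ b : GL (Fin n) F) : Matrix (Fin n) (Fin n) F) = emb2 idx₀ B₀ (b : Matrix (Fin e) (Fin e) F) :=
    fun b => rfl
  -- reindexing through the composite bijection
  have hre : ∀ M : Matrix (Fin (k + 1) → Fin d) (Fin (k + 1) → Fin d) F,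
      Matrix.reindex (idx₀.trans (glue idx₁)).symm (idx₀.trans (glue idx₁)).symm M =
        Matrix.reindex idx₀.symm idx₀.symm (Matrix.reindex (glue idx₁).symm (glue idx₁).symm M) := by
    intro M
    ext p q
    simp [Matrix.reindex_apply, Matrix.submatrix_apply]
  -- conjugation by `B = B₀ * θ₂ B₁`
  have hconj : ∀ M : Matrix (Fin n) (Fin n) F,
      (((B₀ * θ₂ B₁)⁻¹ : GL (Fin n) F) : Matrix (Fin n) (Fin n) F) * M *
        ((B₀ * θ₂ B₁ : GL (Fin n) F) : Matrix (Fin n) (Fin n) F) =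
      emb2 idx₀ B₀ ((B₁⁻¹ : GL (Fin e) F) : Matrix (Fin e) (Fin e) F) *
        (((B₀⁻¹ : GL (Fin n) F) : Matrix (Fin n) (Fin n) F) * M * (B₀ : Matrix (Fin n) (Fin n) F)) *
        emb2 idx₀ B₀ (B₁ : Matrix (Fin e) (Fin e) F) := by
    intro M
    rw [mul_inv_rev, Units.val_mul, Units.val_mul, ← map_inv, hθ₂coe, hθ₂coe]
    simp only [mul_assoc]
  have hslot0 : ∀ a : Matrix (Fin d) (Fin d) F,
      (((B₀ * θ₂ B₁)⁻¹ : GL (Fin n) F) : Matrix (Fin n) (Fin n) F) *
        Matrix.reindex (idx₀.trans (glue idx₁)).symm (idx₀.trans (glue idx₁)).symm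
          (slotMatrix (0 : Fin (k + 1)) a) *
        ((B₀ * θ₂ B₁ : GL (Fin n) F) : Matrix (Fin n) (Fin n) F) = emb1 idx₀ B₀ a := by
    intro a
    rw [hconj, hre, reindex_glue_slot_zero, ← emb1_apply, ← emb1_commute_emb2, mul_assoc, ← map_mul,
      Units.inv_mul, map_one, mul_one]
  have hslotS : ∀ (j : Fin k) (a : Matrix (Fin d) (Fin d) F),
      (((B₀ * θ₂ B₁)⁻¹ : GL (Fin n) F) : Matrix (Fin n) (Fin n) F) *
        Matrix.reindex (idx₀.trans (glue idx₁)).symm (idx₀.trans (glue idx₁)).symm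
          (slotMatrix j.succ a) *
        ((B₀ * θ₂ B₁ : GL (Fin n) F) : Matrix (Fin n) (Fin n) F) =
      emb2 idx₀ B₀ (((B₁⁻¹ : GL (Fin e) F) : Matrix (Fin e) (Fin e) F) *
        Matrix.reindex idx₁.symm idx₁.symm (slotMatrix j a) * (B₁ : Matrix (Fin e) (Fin e) F)) := by
    intro j a
    rw [hconj, hre, reindex_glue_slot_succ, ← emb2_apply, ← map_mul, ← map_mul]
  refine ⟨idx₀.trans (glue idx₁), B₀ * θ₂ B₁, ?_, ?_⟩
  · -- (1)
    intro i x hx
    rcases Fin.eq_zero_or_eq_succ i with rfl | ⟨j, rfl⟩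
    · obtain ⟨a, ha⟩ := h1 x hx
      refine ⟨a, ?_⟩
      rw [coe_conj_eq_iff, hslot0, ha]
    · obtain ⟨b, hb⟩ := h2 j x hx
      have hbQ : b ∈ Qt j := by
        rw [hQt j, Subgroup.mem_comap]
        have : θ₂ b = x := Units.ext (by rw [hθ₂coe, hb])
        rw [this]
        exact hx
      obtain ⟨a, ha⟩ := h1' j b hbQ
      refine ⟨a, ?_⟩
      rw [coe_conj_eq_iff] at ha
      rw [coe_conj_eq_iff, hslotS, ← ha, hb]
  · -- (2)
    intro i a
    rcases Fin.eq_zero_or_eq_succ i with rfl | ⟨j, rfl⟩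
    · rw [hslot0]
      exact hspan0 a
    · rw [hslotS]
      have hmem := h2' j a
      have hle : (Submodule.span F (matrixSet (Qt j))).map (emb2 idx₀ B₀).toLinearMap ≤
          Submodule.span F (matrixSet (Q j.succ)) := by
        rw [Submodule.map_span]
        apply Submodule.span_mono
        rintro _ ⟨_, ⟨b, hb, rfl⟩, rfl⟩
        have hb' : θ₂ b ∈ Q j.succ := by
          have := hb
          rw [SetLike.mem_coe, hQt j, Subgroup.mem_comap] at this
          exact this
        exact ⟨θ₂ b, hb', rfl⟩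
      exact hle (Submodule.mem_map_of_mem hmem)

/-! ### the induction -/

theorem finrank_span_eq {V W : Type*} [AddCommGroup V] [Module F V] [AddCommGroup W] [Module F W]
    (f : V →ₗ[F] W) (hf : Function.Injective f) (S : Set W)
    (h1 : ∀ s ∈ S, ∃ v, f v = s) (h2 : ∀ v, f v ∈ Submodule.span F S) :
    Module.finrank F (Submodule.span F S) = Module.finrank F V := by
  have h : Submodule.span F S = LinearMap.range f := by
    apply le_antisymm
    · rw [Submodule.span_le]
      intro s hs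
      exact h1 s hs
    · rintro _ ⟨v, rfl⟩
      exact h2 v
  rw [h, LinearMap.finrank_range_of_inj hf]

theorem matrixSet_mono {ι : Type} [Fintype ι] [DecidableEq ι] {S T : Subgroup (GL ι F)} (h : S ≤ T) :
    matrixSet S ⊆ matrixSet T := by
  rintro _ ⟨g, hg, rfl⟩
  exact ⟨g, h hg, rfl⟩

/-- the statement of ASCH-[BIN] (`tensor_of_commuting`), in positive degree -/
def BinStmt (F : Type*) [Field F] : Prop :=
  ∀ (n : ℕ), 0 < n → ∀ (Q Q' : Subgroup (GL (Fin n) F)),
    (∀ x ∈ Q, ∀ y ∈ Q', x * y = y * x) →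
    ActsAbsolutelyIrreducibly (matrixSet (Q ⊔ Q')) →
    ∃ (d e : ℕ) (idx : Fin n ≃ Fin d × Fin e) (B : GL (Fin n) F), TensorNF Q d e idx B ∧
      (∀ y ∈ Q', ∃ b : GL (Fin e) F, ((B * y * B⁻¹ : GL (Fin n) F) : Matrix (Fin n) (Fin n) F) =
        Matrix.reindex idx.symm idx.symm
          ((1 : Matrix (Fin d) (Fin d) F) ⊗ₖ (b : Matrix (Fin e) (Fin e) F))) ∧
      ActsAbsolutelyIrreducibly {b : Matrix (Fin e) (Fin e) F | ∃ y ∈ Q',
        ((B * y * B⁻¹ : GL (Fin n) F) : Matrix (Fin n) (Fin n) F) =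
          Matrix.reindex idx.symm idx.symm ((1 : Matrix (Fin d) (Fin d) F) ⊗ₖ b)}

/-- the hypotheses of ASCH-[KFOLD] -/
structure KHyp {n k : ℕ} (Q : Fin k → Subgroup (GL (Fin n) F)) : Prop where
  comm : ∀ i j, i ≠ j → ∀ x ∈ Q i, ∀ y ∈ Q j, x * y = y * x
  abs : ActsAbsolutelyIrreducibly (matrixSet (iSup Q))
  dim : ∀ i j, Module.finrank F (Submodule.span F (matrixSet (Q i))) =
      Module.finrank F (Submodule.span F (matrixSet (Q j)))

/-- degree zero -/
theorem kfold_zero {k : ℕ} (hk : 0 < k) (Q : Fin k → Subgroup (GL (Fin 0) F)) : KConcl Q 0 := by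
  have : Nonempty (Fin k) := ⟨⟨0, hk⟩⟩
  refine ⟨Equiv.equivOfIsEmpty _ _, 1, ?_, ?_⟩
  · intro i x _
    exact ⟨1, Subsingleton.elim _ _⟩
  · intro i a
    have h : ((1⁻¹ : GL (Fin 0) F) : Matrix (Fin 0) (Fin 0) F) *
        Matrix.reindex (Equiv.equivOfIsEmpty (Fin 0) (Fin k → Fin 0)).symm
          (Equiv.equivOfIsEmpty (Fin 0) (Fin k → Fin 0)).symm (slotMatrix i a) *
        ((1 : GL (Fin 0) F) : Matrix (Fin 0) (Fin 0) F) = 0 := Subsingleton.elim _ _
    rw [h]
    exact Submodule.zero_mem _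

/-- one factor -/
theorem kfold_one {n : ℕ} (Q : Fin 1 → Subgroup (GL (Fin n) F)) (hQ : KHyp Q) : KConcl Q n := by
  have hsup : iSup Q = Q 0 := iSup_unique Q
  have habs : ActsAbsolutelyIrreducibly (matrixSet (Q 0)) := hsup ▸ hQ.abs
  have htop := span_eq_top_of_absIrred' (Q 0) habs
  have hslot : ∀ (i : Fin 1) (a : Matrix (Fin n) (Fin n) F),
      Matrix.reindex ((Equiv.funUnique (Fin 1) (Fin n)).symm).symm
        ((Equiv.funUnique (Fin 1) (Fin n)).symm).symm (slotMatrix i a) = a := by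
    intro i a
    ext p q
    rw [Matrix.reindex_apply, Matrix.submatrix_apply, Equiv.symm_symm]
    unfold slotMatrix
    rw [if_pos (fun j hj => absurd (Subsingleton.elim j i) hj)]
    rfl
  refine ⟨(Equiv.funUnique (Fin 1) (Fin n)).symm, 1, ?_, ?_⟩
  · intro i x _
    refine ⟨x, ?_⟩
    rw [hslot, inv_one, mul_one, one_mul]
  · intro i a
    rw [hslot, Subsingleton.elim i 0, htop]
    exact Submodule.mem_top

/-- the main induction, in positive degree -/
theorem kfold_pos (hBin : BinStmt F) : ∀ k : ℕ, 1 ≤ k → ∀ n : ℕ, 0 < n →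
    ∀ Q : Fin k → Subgroup (GL (Fin n) F), KHyp Q → ∃ d, KConcl Q d := by
  intro k hk
  induction k, hk using Nat.le_induction with
  | base => intro n _ Q hQ; exact ⟨n, kfold_one Q hQ⟩
  | succ k hk IH =>
    intro n hn Q hQ
    -- the join of the other factors
    set Q' : Subgroup (GL (Fin n) F) := ⨆ j : Fin k, Q j.succ with hQ'
    have hle : iSup Q ≤ Q 0 ⊔ Q' := by
      apply iSup_le
      intro i
      rcases Fin.eq_zero_or_eq_succ i with rfl | ⟨j, rfl⟩
      · exact le_sup_left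
      · exact le_trans (le_iSup (fun j : Fin k => Q j.succ) j) le_sup_right
    have hcomm0 : ∀ x ∈ Q 0, ∀ y ∈ Q', x * y = y * x := by
      intro x hx y hy
      have hle' : Q' ≤ Subgroup.centralizer (Q 0 : Set (GL (Fin n) F)) := by
        apply iSup_le
        intro j y hy
        rw [Subgroup.mem_centralizer_iff]
        intro h hh
        exact hQ.comm 0 j.succ (Fin.succ_ne_zero j).symm h hh y hy
      exact (Subgroup.mem_centralizer_iff.mp (hle' hy)) x hx
    obtain ⟨d₀, e, idx₀, B₀, hNF, hQ'b, habsb⟩ :=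
      hBin n hn (Q 0) Q' hcomm0 (absIrred_mono hQ.abs (matrixSet_mono hle))
    -- the degrees are positive
    have hcard : n = d₀ * e := by
      have := Fintype.card_congr idx₀
      rwa [Fintype.card_fin, Fintype.card_prod, Fintype.card_fin, Fintype.card_fin] at this
    have hd₀ : 0 < d₀ := Nat.pos_of_ne_zero (fun h => by rw [h, zero_mul] at hcard; omega)
    have he : 0 < e := Nat.pos_of_ne_zero (fun h => by rw [h, mul_zero] at hcard; omega)
    have : Nonempty (Fin d₀) := ⟨⟨0, hd₀⟩⟩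
    have : Nonempty (Fin e) := ⟨⟨0, he⟩⟩
    have : Nonempty (Fin k) := ⟨⟨0, hk⟩⟩
    -- the two embeddings
    set θ₁ : GL (Fin d₀) F →* GL (Fin n) F :=
      Units.map (emb1 idx₀ B₀ : Matrix (Fin d₀) (Fin d₀) F →* Matrix (Fin n) (Fin n) F) with hθ₁
    set θ₂ : GL (Fin e) F →* GL (Fin n) F :=
      Units.map (emb2 idx₀ B₀ : Matrix (Fin e) (Fin e) F →* Matrix (Fin n) (Fin n) F) with hθ₂
    have hθ₁coe : ∀ a : GL (Fin d₀) F, ((θ₁ a : GL (Fin n) F) : Matrix (Fin n) (Fin n) F) =
        emb1 idx₀ B₀ (a : Matrix (Fin d₀) (Fin d₀) F) := fun a => rfl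
    have hθ₂coe : ∀ b : GL (Fin e) F, ((θ₂ b : GL (Fin n) F) : Matrix (Fin n) (Fin n) F) =
        emb2 idx₀ B₀ (b : Matrix (Fin e) (Fin e) F) := fun b => rfl
    have hθ₂inj : Function.Injective θ₂ := by
      intro b b' h
      apply Units.ext
      apply emb2_injective idx₀ B₀
      rw [← hθ₂coe, ← hθ₂coe, h]
    -- the elements of `Q 0` and of `Q'` in terms of the embeddings
    have h1 : ∀ x ∈ Q 0, ∃ a : GL (Fin d₀) F,
        (x : Matrix (Fin n) (Fin n) F) = emb1 idx₀ B₀ (a : Matrix (Fin d₀) (Fin d₀) F) := by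
      intro x hx
      obtain ⟨a, ha⟩ := hNF.1 x hx
      exact ⟨a, (coe_conj_eq_iff B₀ x _).mp ha⟩
    have h2' : ∀ y ∈ Q', ∃ b : GL (Fin e) F,
        (y : Matrix (Fin n) (Fin n) F) = emb2 idx₀ B₀ (b : Matrix (Fin e) (Fin e) F) := by
      intro y hy
      obtain ⟨b, hb⟩ := hQ'b y hy
      exact ⟨b, (coe_conj_eq_iff B₀ y _).mp hb⟩
    have h2 : ∀ j : Fin k, ∀ y ∈ Q j.succ, ∃ b : GL (Fin e) F,
        (y : Matrix (Fin n) (Fin n) F) = emb2 idx₀ B₀ (b : Matrix (Fin e) (Fin e) F) :=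
      fun j y hy => h2' y (le_iSup (fun j : Fin k => Q j.succ) j hy)
    -- `Q 0` spans the image of the first embedding
    have hspan0 : ∀ a : Matrix (Fin d₀) (Fin d₀) F,
        emb1 idx₀ B₀ a ∈ Submodule.span F (matrixSet (Q 0)) := by
      set A₀ : Subgroup (GL (Fin d₀) F) := (Q 0).comap θ₁ with hA₀
      have hsub : {a : Matrix (Fin d₀) (Fin d₀) F | ∃ x ∈ Q 0,
          ((B₀ * x * B₀⁻¹ : GL (Fin n) F) : Matrix (Fin n) (Fin n) F) =
            Matrix.reindex idx₀.symm idx₀.symm (a ⊗ₖ (1 : Matrix (Fin e) (Fin e) F))} ⊆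
          matrixSet A₀ := by
        rintro a ⟨x, hx, hxa⟩
        obtain ⟨a', ha'⟩ := h1 x hx
        have hxa' := (coe_conj_eq_iff B₀ x _).mp hxa
        have haa' : a = (a' : Matrix (Fin d₀) (Fin d₀) F) := by
          apply emb1_injective idx₀ B₀
          rw [← ha', hxa']
          rfl
        refine ⟨a', ?_, haa'.symm⟩
        show θ₁ a' ∈ Q 0
        have : θ₁ a' = x := Units.ext (by rw [hθ₁coe, ha'])
        rw [this]
        exact hx
      have htop := span_eq_top_of_absIrred' A₀ (absIrred_mono hNF.2 hsub)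
      have hmap : (Submodule.span F (matrixSet A₀)).map (emb1 idx₀ B₀).toLinearMap ≤
          Submodule.span F (matrixSet (Q 0)) := by
        rw [Submodule.map_span]
        apply Submodule.span_mono
        rintro _ ⟨_, ⟨a, ha, rfl⟩, rfl⟩
        exact ⟨θ₁ a, ha, rfl⟩
      intro a
      apply hmap
      apply Submodule.mem_map_of_mem
      rw [htop]
      exact Submodule.mem_top
    -- the transported factors
    set Qt : Fin k → Subgroup (GL (Fin e) F) := fun j => (Q j.succ).comap θ₂ with hQt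
    have hlift : ∀ y ∈ Q', ∃ b ∈ iSup Qt, θ₂ b = y := by
      intro y hy
      refine Subgroup.iSup_induction (fun j : Fin k => Q j.succ)
        (C := fun y => ∃ b ∈ iSup Qt, θ₂ b = y) hy ?_ ?_ ?_
      · intro j y hy
        obtain ⟨b, hb⟩ := h2 j y hy
        have hby : θ₂ b = y := Units.ext (by rw [hθ₂coe, hb])
        refine ⟨b, le_iSup Qt j ?_, hby⟩
        show θ₂ b ∈ Q j.succ
        rw [hby]
        exact hy
      · exact ⟨1, Subgroup.one_mem _, map_one _⟩
      · rintro x y ⟨b₁, hb₁, rfl⟩ ⟨b₂, hb₂, rfl⟩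
        exact ⟨b₁ * b₂, Subgroup.mul_mem _ hb₁ hb₂, map_mul _ _ _⟩
    have key : ∀ j : Fin k, Module.finrank F (Submodule.span F (matrixSet (Qt j))) =
        Module.finrank F (Submodule.span F (matrixSet (Q j.succ))) := by
      intro j
      have himg : (emb2 idx₀ B₀).toLinearMap '' matrixSet (Qt j) = matrixSet (Q j.succ) := by
        ext M
        constructor
        · rintro ⟨_, ⟨b, hb, rfl⟩, rfl⟩
          exact ⟨θ₂ b, hb, rfl⟩
        · rintro ⟨y, hy, rfl⟩
          obtain ⟨b, hb⟩ := h2 j y hy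
          have hby : θ₂ b = y := Units.ext (by rw [hθ₂coe, hb])
          refine ⟨b, ⟨b, ?_, rfl⟩, hb.symm⟩
          show θ₂ b ∈ Q j.succ
          rw [hby]
          exact hy
      rw [← himg, ← Submodule.map_span]
      exact (LinearEquiv.finrank_eq (Submodule.equivMapOfInjective (emb2 idx₀ B₀).toLinearMap
        (emb2_injective idx₀ B₀) _))
    have hQt_hyp : KHyp Qt := by
      refine ⟨?_, ?_, ?_⟩
      · intro i j hij x hx y hy
        apply hθ₂inj
        rw [map_mul, map_mul]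
        exact hQ.comm i.succ j.succ (fun h => hij (Fin.succ_injective _ h)) (θ₂ x) hx (θ₂ y) hy
      · refine absIrred_mono habsb ?_
        rintro b ⟨y, hy, hyb⟩
        obtain ⟨b', hb', rfl⟩ := hlift y hy
        have h := (coe_conj_eq_iff B₀ (θ₂ b') _).mp hyb
        refine ⟨b', hb', ?_⟩
        apply emb2_injective idx₀ B₀
        rw [← hθ₂coe, h]
        rfl
      · intro i j
        rw [key, key]
        exact hQ.dim i.succ j.succ
    obtain ⟨d, hK⟩ := IH e he Qt hQt_hyp
    -- `d₀ = d` by counting dimensions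
    have hdd : d₀ = d := by
      obtain ⟨idx₁, B₁, hK1, hK2⟩ := hK
      let j₀ : Fin k := ⟨0, hk⟩
      have hf0 : Module.finrank F (Submodule.span F (matrixSet (Q 0))) = d₀ * d₀ := by
        rw [finrank_span_eq (emb1 idx₀ B₀).toLinearMap (emb1_injective idx₀ B₀) (matrixSet (Q 0))
          (by
            rintro _ ⟨x, hx, rfl⟩
            obtain ⟨a, ha⟩ := h1 x hx
            exact ⟨a, ha.symm⟩) hspan0]
        simp [Module.finrank_matrix]
      let ψ : Matrix (Fin d) (Fin d) F →ₗ[F] Matrix (Fin e) (Fin e) F :=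
        (conjInv B₁).toLinearMap ∘ₗ (Matrix.reindexLinearEquiv F F idx₁.symm idx₁.symm).toLinearMap ∘ₗ
          slotLin j₀
      have hψ : ∀ a, ψ a = ((B₁⁻¹ : GL (Fin e) F) : Matrix (Fin e) (Fin e) F) *
          Matrix.reindex idx₁.symm idx₁.symm (slotMatrix j₀ a) * (B₁ : Matrix (Fin e) (Fin e) F) :=
        fun a => rfl
      have hψinj : Function.Injective ψ := by
        intro a a' h
        exact slotMatrix_injective j₀
          ((Matrix.reindexLinearEquiv F F idx₁.symm idx₁.symm).injective (conjInv_injective B₁ h))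
      have hf1 : Module.finrank F (Submodule.span F (matrixSet (Qt j₀))) = d * d := by
        rw [finrank_span_eq ψ hψinj (matrixSet (Qt j₀))
          (by
            rintro _ ⟨b, hb, rfl⟩
            obtain ⟨a, ha⟩ := hK1 j₀ b hb
            exact ⟨a, ((coe_conj_eq_iff B₁ b _).mp ha).symm⟩)
          (fun a => hK2 j₀ a)]
        simp [Module.finrank_matrix]
      have hkey : Module.finrank F (Submodule.span F (matrixSet (Qt j₀))) =
          Module.finrank F (Submodule.span F (matrixSet (Q 0))) := by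
        exact (key j₀).trans (hQ.dim j₀.succ 0)
      rw [hf0, hf1] at hkey
      exact (Nat.mul_self_inj.mp hkey).symm
    subst hdd
    exact ⟨d₀, step Q idx₀ B₀ h1 hspan0 Qt (fun j => rfl) h2 hK⟩


/-- ASCH-[KFOLD], from the statement of ASCH-[BIN] -/
theorem kfold_of (hBin : BinStmt F) {n k : ℕ} (hk : 0 < k) (Q : Fin k → Subgroup (GL (Fin n) F))
    (hcomm : ∀ i j, i ≠ j → ∀ x ∈ Q i, ∀ y ∈ Q j, x * y = y * x)
    (habs : ActsAbsolutelyIrreducibly (matrixSet (iSup Q)))
    (hdim : ∀ i j, Module.finrank F (Submodule.span F (matrixSet (Q i))) =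
      Module.finrank F (Submodule.span F (matrixSet (Q j)))) :
    ∃ (d : ℕ) (idx : Fin n ≃ (Fin k → Fin d)) (B : GL (Fin n) F),
      (∀ i, ∀ x ∈ Q i, ∃ a : GL (Fin d) F,
        ((B * x * B⁻¹ : GL (Fin n) F) : Matrix (Fin n) (Fin n) F) =
          Matrix.reindex idx.symm idx.symm (slotMatrix i (a : Matrix (Fin d) (Fin d) F))) ∧
      (∀ i (a : Matrix (Fin d) (Fin d) F),
        ((B⁻¹ : GL (Fin n) F) : Matrix (Fin n) (Fin n) F) *
          Matrix.reindex idx.symm idx.symm (slotMatrix i a) * (B : Matrix (Fin n) (Fin n) F) ∈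
          Submodule.span F (matrixSet (Q i))) := by
  rcases Nat.eq_zero_or_pos n with rfl | hn
  · exact ⟨0, kfold_zero hk Q⟩
  · exact kfold_pos hBin k hk n hn Q ⟨hcomm, habs, hdim⟩

end Cfsg.Agent.Lib.Helper54.AschKFold
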