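/-
helper54: project ASCHO (helper5, S5673), module [C7] `geoO_of_slots`: slot forms `J i` in tensor-power coordinates
give a member of class 7.  `geoO_of_slots_of` takes the statement of [FORMCLASS] as a hypothesis; the sheet theorem uses
helper19's landed `symmetric_forms_similar_of_odd`.  Uses helper47's `pureT`/`tGL` and helper25's `mem_conj_reindex`.
-/
import Mathlib
import Cfsg.Prelude.Def_GeometricClasses
import Cfsg.Agent.Lib.Helper99.AschDefs
import Cfsg.Agent.Lib.Helper5.AschODefs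
import Cfsg.Agent.Lib.Helper47.AschSlotNorm
import Cfsg.Agent.Lib.Helper25.AschC4Aux
import Cfsg.Agent.Lib.Helper19.AschOFormClass

set_option autoImplicit false

namespace Cfsg.Agent.Lib.Helper54.AschOC7

open Cfsg Cfsg.Geo Cfsg.Agent.Lib.Helper99.Asch Cfsg.Agent.Lib.Helper5.AschO
open Cfsg.Agent.Lib.Helper47.AschSlotNorm Cfsg.Agent.Lib.Helper25.AschC4
open scoped MatrixGroups Matrix Kronecker

variable {F : Type*} [Field F]

/-! ### the bilinear form of a matrix -/

/-- the bilinear form `u ⬝ᵥ J *ᵥ v` -/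
def matForm {d : ℕ} (J : Matrix (Fin d) (Fin d) F) (u v : Fin d → F) : F := u ⬝ᵥ J *ᵥ v

theorem matForm_bilinear {d : ℕ} (J : Matrix (Fin d) (Fin d) F) : IsBilinearForm (matForm J) where
  add_left x y v := by unfold matForm; rw [add_dotProduct]
  smul_left c x v := by unfold matForm; rw [smul_dotProduct, smul_eq_mul]
  add_right v x y := by unfold matForm; rw [Matrix.mulVec_add, dotProduct_add]
  smul_right c v x := by unfold matForm; rw [Matrix.mulVec_smul, dotProduct_smul, smul_eq_mul]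

theorem matForm_single {d : ℕ} (J : Matrix (Fin d) (Fin d) F) (a b : Fin d) :
    matForm J (Pi.single a 1) (Pi.single b 1) = J a b := by
  unfold matForm
  simp

theorem gramMatrix_matForm {d : ℕ} (J : Matrix (Fin d) (Fin d) F) : gramMatrix (matForm J) = J := by
  ext a b
  exact matForm_single J a b

theorem matForm_symmetric {d : ℕ} (J : Matrix (Fin d) (Fin d) F) (hJs : Jᵀ = J)
    (hJu : IsUnit J.det) : IsSymmetricForm (matForm J) where
  bilinear := matForm_bilinear J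
  symm u v := by
    unfold matForm
    rw [Matrix.dotProduct_mulVec, ← Matrix.mulVec_transpose, hJs, dotProduct_comm]
  nondegenerate := by
    have hinj : Function.Injective J.mulVec :=
      Matrix.mulVec_injective_iff_isUnit.mpr ((Matrix.isUnit_iff_isUnit_det J).mpr hJu)
    have key : ∀ v : Fin d → F, v ≠ 0 → ∃ x, matForm J x v ≠ 0 := by
      intro v hv
      have h1 : J *ᵥ v ≠ 0 := fun h => hv (hinj (by rw [h, Matrix.mulVec_zero]))
      obtain ⟨i, hi⟩ : ∃ i, (J *ᵥ v) i ≠ 0 := by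
        by_contra hcon
        simp only [not_exists, not_not] at hcon
        exact h1 (funext hcon)
      refine ⟨Pi.single i 1, ?_⟩
      unfold matForm
      rw [single_one_dotProduct]
      exact hi
    intro v hv
    refine ⟨key v hv, ?_⟩
    obtain ⟨x, hx⟩ := key v hv
    refine ⟨x, ?_⟩
    have hsymm : matForm J v x = matForm J x v := by
      unfold matForm
      rw [Matrix.dotProduct_mulVec, ← Matrix.mulVec_transpose, hJs, dotProduct_comm]
    rw [hsymm]
    exact hx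

/-- invariance of `matForm` in matrix terms -/
theorem gram_of_matForm_eq {d : ℕ} (J J' A : Matrix (Fin d) (Fin d) F) (c : F)
    (h : ∀ u v, matForm J (A *ᵥ u) (A *ᵥ v) = c * matForm J' u v) : Aᵀ * J * A = c • J' := by
  ext a b
  have h1 := h (Pi.single a 1) (Pi.single b 1)
  rw [matForm_single] at h1
  rw [Matrix.smul_apply, smul_eq_mul, ← h1]
  unfold matForm
  rw [Matrix.mulVec_single_one, Matrix.mulVec_single_one, Matrix.mul_apply]
  simp only [dotProduct, Matrix.mulVec, Matrix.mul_apply, Matrix.transpose_apply, Matrix.col_apply]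
  simp only [Finset.sum_mul, Finset.mul_sum]
  rw [Finset.sum_comm]
  apply Finset.sum_congr rfl
  intro i _
  apply Finset.sum_congr rfl
  intro j _
  ring

/-! ### pure tensors -/

theorem pureT_transpose {k d : ℕ} (gs : Fin k → Matrix (Fin d) (Fin d) F) :
    (pureT gs)ᵀ = pureT (fun i => (gs i)ᵀ) := by
  ext x y
  rfl

theorem pureT_smul {k d : ℕ} (c : Fin k → F) (gs : Fin k → Matrix (Fin d) (Fin d) F) :
    pureT (fun i => c i • gs i) = (∏ i, c i) • pureT gs := by
  ext x y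
  simp only [pureT, Matrix.smul_apply, smul_eq_mul, Finset.prod_mul_distrib]

theorem reindex_mulVec_comp {n : ℕ} {κ : Type} [Fintype κ] [DecidableEq κ] (idx : Fin n ≃ κ)
    (T : Matrix κ κ F) (x : κ → F) :
    (Matrix.reindex idx.symm idx.symm T) *ᵥ (x ∘ idx) = (T *ᵥ x) ∘ idx := by
  funext i
  simp only [Matrix.mulVec, dotProduct, Matrix.reindex_apply, Matrix.submatrix_apply, Equiv.symm_symm,
    Function.comp_apply]
  exact Equiv.sum_comp idx (fun p => T (idx i) p * x p)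

theorem sum_sum_eq_dotProduct {κ : Type} [Fintype κ] (M : Matrix κ κ F) (x y : κ → F) :
    ∑ a, ∑ b, x a * M a b * y b = x ⬝ᵥ M *ᵥ y := by
  simp only [dotProduct, Matrix.mulVec, Finset.mul_sum, mul_assoc]

theorem dotProduct_mulVec_mulVec {κ : Type} [Fintype κ] (T M : Matrix κ κ F) (x y : κ → F) :
    (T *ᵥ x) ⬝ᵥ M *ᵥ (T *ᵥ y) = x ⬝ᵥ (Tᵀ * M * T) *ᵥ y := by
  rw [← Matrix.vecMul_transpose T x, ← Matrix.dotProduct_mulVec, Matrix.mulVec_mulVec,
    Matrix.mulVec_mulVec, Matrix.mul_assoc]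

/-! ### the module -/

/-- the statement of ASCHO-[FORMCLASS] -/
def FormClassStmt (F : Type*) [Field F] [Fintype F] : Prop :=
  ∀ {d : ℕ}, Odd d → Odd (Fintype.card F) →
    ∀ (f₁ f₂ : (Fin d → F) → (Fin d → F) → F), IsSymmetricForm f₁ → IsSymmetricForm f₂ →
    ∃ (A : GL (Fin d) F) (c : F), c ≠ 0 ∧
      ∀ u v, f₂ ((A : Matrix (Fin d) (Fin d) F) *ᵥ u) ((A : Matrix (Fin d) (Fin d) F) *ᵥ v) = c * f₁ u v

/-- ASCHO-[C7] from the statement of ASCHO-[FORMCLASS] -/
theorem geoO_of_slots_of [Fintype F] (hFC : FormClassStmt F) {n : ℕ} {Q : (Fin n → F) → F}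
    {H : Subgroup (GL (Fin n) F)} (hS : OSetup Q H) {k : ℕ} (hk : 2 ≤ k)
    (d : ℕ) (hd : 3 ≤ d) (h33 : ¬ (Fintype.card F = 3 ∧ d = 3))
    (idx : Fin n ≃ (Fin k → Fin d)) (B : GL (Fin n) F)
    (hH : ∀ h ∈ H, glReindex idx (B * h * B⁻¹) ∈ tensorWreathStandard d k F)
    (J : Fin k → Matrix (Fin d) (Fin d) F) (c : F) (hc : c ≠ 0) (hJs : ∀ i, (J i)ᵀ = J i)
    (hJu : ∀ i, IsUnit (J i).det)
    (hform : ∀ x y : (Fin k → Fin d) → F,
        QuadraticMap.polar Q (((B⁻¹ : GL (Fin n) F) : Matrix (Fin n) (Fin n) F) *ᵥ (x ∘ idx))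
          (((B⁻¹ : GL (Fin n) F) : Matrix (Fin n) (Fin n) F) *ᵥ (y ∘ idx)) =
        c * ∑ a, ∑ b, x a * (∏ i, J i (a i) (b i)) * y b) : GeoO Q H := by
  have hk0 : 0 < k := by omega
  let i0 : Fin k := ⟨0, hk0⟩
  -- `d` is odd
  have hcard : n = d ^ k := by
    have := Fintype.card_congr idx
    rwa [Fintype.card_fin, Fintype.card_fun, Fintype.card_fin, Fintype.card_fin] at this
  have hdodd : Odd d := by
    have h1 : Odd (d ^ k) := hcard ▸ hS.odd_dim
    exact (Nat.odd_pow_iff (by omega)).mp h1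
  -- the similarities between the slot forms
  have hsym : ∀ i, IsSymmetricForm (matForm (J i)) := fun i => matForm_symmetric (J i) (hJs i) (hJu i)
  choose A cA hcA hA using fun i => hFC hdodd hS.odd_card (matForm (J i0)) (matForm (J i)) (hsym i0) (hsym i)
  have hAJ : ∀ i, ((A i : GL (Fin d) F) : Matrix (Fin d) (Fin d) F)ᵀ * J i *
      ((A i : GL (Fin d) F) : Matrix (Fin d) (Fin d) F) = cA i • J i0 :=
    fun i => gram_of_matForm_eq (J i) (J i0) _ (cA i) (hA i)
  -- the base change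
  set T : GL (Fin k → Fin d) F := tGL A with hT
  have hTval : (T : Matrix (Fin k → Fin d) (Fin k → Fin d) F) =
      pureT (fun i => ((A i : GL (Fin d) F) : Matrix (Fin d) (Fin d) F)) := rfl
  set R : GL (Fin n) F := glReindex idx.symm T with hR
  have hRval : (R : Matrix (Fin n) (Fin n) F) = Matrix.reindex idx.symm idx.symm
      (T : Matrix (Fin k → Fin d) (Fin k → Fin d) F) := rfl
  have hTmem : T ∈ tensorWreathStandard d k F :=
    Subgroup.subset_closure (Or.inl ⟨A, fun x y => rfl⟩)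
  have hB'inv : (R⁻¹ * B)⁻¹ = B⁻¹ * R := by rw [mul_inv_rev, inv_inv]
  have hpure : (pureT (fun i => ((A i : GL (Fin d) F) : Matrix (Fin d) (Fin d) F)))ᵀ * pureT J *
      pureT (fun i => ((A i : GL (Fin d) F) : Matrix (Fin d) (Fin d) F)) =
      (∏ i, cA i) • pureT (fun _ : Fin k => J i0) := by
    rw [pureT_transpose, pureT_mul, pureT_mul, ← pureT_smul]
    congr 1
    funext i
    exact hAJ i
  refine GeoO.of_7 hS.le idx (R⁻¹ * B)⁻¹ (matForm (J i0)) hd hk h33 (hsym i0) ?_ ?_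
  · refine ⟨c * ∏ i, cA i, mul_ne_zero hc (Finset.prod_ne_zero_iff.mpr fun i _ => hcA i), ?_⟩
    intro x y
    rw [hB'inv, Units.val_mul, ← Matrix.mulVec_mulVec, ← Matrix.mulVec_mulVec, hRval,
      reindex_mulVec_comp, reindex_mulVec_comp, hform, gramMatrix_matForm]
    have h1 : ∀ u v : (Fin k → Fin d) → F, ∑ a, ∑ b, u a * (∏ i, J i (a i) (b i)) * v b =
        u ⬝ᵥ pureT J *ᵥ v := fun u v => sum_sum_eq_dotProduct (pureT J) u v
    have h2 : ∀ u v : (Fin k → Fin d) → F, ∑ a, ∑ b, u a * (∏ i : Fin k, J i0 (a i) (b i)) * id (v b) =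
        u ⬝ᵥ pureT (fun _ : Fin k => J i0) *ᵥ v :=
      fun u v => sum_sum_eq_dotProduct (pureT (fun _ : Fin k => J i0)) u v
    rw [h1, h2, hTval, dotProduct_mulVec_mulVec, hpure, Matrix.smul_mulVec, dotProduct_smul, smul_eq_mul]
    ring
  · intro h hh
    apply mem_conj_reindex idx (R⁻¹ * B) h (tensorWreathStandard d k F)
    have h1 : R⁻¹ * B * h * (R⁻¹ * B)⁻¹ = R⁻¹ * (B * h * B⁻¹) * R := by
      rw [hB'inv]; group
    have h2 : glReindex idx R = T := by
      apply Units.ext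
      rw [glReindex_val, hRval]
      ext x y
      simp
    rw [h1, map_mul, map_mul, map_inv, h2]
    exact Subgroup.mul_mem _ (Subgroup.mul_mem _ (Subgroup.inv_mem _ hTmem) (hH h hh)) hTmem

end Cfsg.Agent.Lib.Helper54.AschOC7

namespace Cfsg.Agent.Lib.Helper5.AschO

open Cfsg Cfsg.Geo Cfsg.Agent.Lib.Helper99.Asch
open scoped MatrixGroups Matrix Kronecker

variable {n : ℕ} {F : Type*} [Field F] [Fintype F]

/-- ASCHO-[C7] -/
theorem geoO_of_slots {Q : (Fin n → F) → F} {H : Subgroup (GL (Fin n) F)} (hS : OSetup Q H) {k : ℕ} (hk : 2 ≤ k)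
    (d : ℕ) (hd : 3 ≤ d) (h33 : ¬ (Fintype.card F = 3 ∧ d = 3))
    (idx : Fin n ≃ (Fin k → Fin d)) (B : GL (Fin n) F)
    (hH : ∀ h ∈ H, glReindex idx (B * h * B⁻¹) ∈ tensorWreathStandard d k F)
    (J : Fin k → Matrix (Fin d) (Fin d) F) (c : F) (hc : c ≠ 0) (hJs : ∀ i, (J i)ᵀ = J i)
    (hJu : ∀ i, IsUnit (J i).det)
    (hform : ∀ x y : (Fin k → Fin d) → F,
        QuadraticMap.polar Q (((B⁻¹ : GL (Fin n) F) : Matrix (Fin n) (Fin n) F) *ᵥ (x ∘ idx))
          (((B⁻¹ : GL (Fin n) F) : Matrix (Fin n) (Fin n) F) *ᵥ (y ∘ idx)) =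
        c * ∑ a, ∑ b, x a * (∏ i, J i (a i) (b i)) * y b) : GeoO Q H :=
  Cfsg.Agent.Lib.Helper54.AschOC7.geoO_of_slots_of
    (fun hd hodd f₁ f₂ h₁ h₂ => symmetric_forms_similar_of_odd hd hodd f₁ f₂ h₁ h₂)
    hS hk d hd h33 idx B hH J c hc hJs hJu hform

end Cfsg.Agent.Lib.Helper5.AschO
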