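/-
helper54: project ASCHO (helper5, S5673), module [ISOF] `isotypic_or_components`: helper80's ASCH-[ISO]
(`Cfsg.Agent.Lib.Helper80.AschIso.generic_main`, whose proof is copied here with one more clause) with three more
exported clauses: the components are stable under the commutant of `N`, under `N`, and an element of the centre of
the commutant is zero or injective on each component.
-/
import Mathlib
import Cfsg.Prelude.Def_GeometricClasses
import Cfsg.Agent.Lib.Helper99.AschDefs
import Cfsg.Agent.Lib.Helper80.AschIso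
import Cfsg.Agent.Lib.Helper66.AschSS
import Cfsg.Agent.Lib.Helper51.AschField

set_option autoImplicit false

namespace Cfsg.Agent.Lib.Helper54.AschOIsoF

open Cfsg.Agent.Lib.Helper80.AschIso

section Twist
variable {F V : Type*} [Field F] [AddCommGroup V] [Module F V]
variable {A : Subalgebra F (Module.End F V)}

/-- a fully invariant submodule meets an isotypic component trivially or contains it -/
theorem fullyInvariant_inf_component [IsSemisimpleModule A V] {K c : Submodule A V}
    (hK : K.IsFullyInvariant) (hc : c ∈ isotypicComponents A V) : K ⊓ c = ⊥ ∨ c ≤ K := by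
  rcases IsSemisimpleModule.eq_bot_or_exists_simple_le (K ⊓ c) with h | ⟨S, hle, hS⟩
  · left; exact h
  · right
    have := hS
    have h1 : c = isotypicComponent A V S := eq_isotypicComponent_of_le hc (hle.trans inf_le_right)
    rw [h1]
    exact isFullyInvariant_iff_le_imp_isotypicComponent_le.mp hK S (hle.trans inf_le_left)

/-- generic Clifford decomposition: either `V` is `A`-isotypic or the isotypic components form a
system of imprimitivity for the group `𝓗` -/
theorem generic_main' [FiniteDimensional F V] (𝓗 : Set (V ≃ₗ[F] V))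
    (hrefl : LinearEquiv.refl F V ∈ 𝓗)
    (hsymm : ∀ φ ∈ 𝓗, φ.symm ∈ 𝓗) (htrans : ∀ φ ∈ 𝓗, ∀ ψ ∈ 𝓗, φ.trans ψ ∈ 𝓗)
    (hnorm : ∀ φ ∈ 𝓗, NormA A φ)
    (hirr : ∀ W : Submodule F V, (∀ φ ∈ 𝓗, W.map (φ : V →ₗ[F] V) ≤ W) → W = ⊥ ∨ W = ⊤)
    [IsSemisimpleModule A V] :
    IsIsotypic A V ∨
    ∃ (t : ℕ) (D : Fin t → Submodule F V), 2 ≤ t ∧ (∀ i, D i ≠ ⊥) ∧ iSupIndep D ∧ iSup D = ⊤ ∧
      (∀ φ ∈ 𝓗, ∃ σ : Equiv.Perm (Fin t), ∀ i, (D i).map (φ : V →ₗ[F] V) = D (σ i)) ∧
      (∀ i j, ∃ φ ∈ 𝓗, (D i).map (φ : V →ₗ[F] V) = D j) ∧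
      (∀ f : V →ₗ[F] V, (f ∈ A ∨ ∀ a ∈ A, f ∘ₗ a = a ∘ₗ f) → ∀ i, (D i).map f ≤ D i) ∧
      (∀ K : Submodule A V, K.IsFullyInvariant → ∀ i,
        (∀ v ∈ D i, v ∈ K → v = 0) ∨ (∀ v ∈ D i, v ∈ K)) := by
  classical
  have hnoeth : IsNoetherian A V := isNoetherian_of_tower F inferInstance
  have hfin : Finite (isotypicComponents A V) := inferInstance
  by_cases hcard : Nat.card (isotypicComponents A V) ≤ 1
  · left
    exact isIsotypic_of_subsingleton (Finite.card_le_one_iff_subsingleton.mp hcard)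
  · right
    let e : isotypicComponents A V ≃ Fin (Nat.card (isotypicComponents A V)) := Finite.equivFin _
    have hc : ∀ i, ((e.symm i : isotypicComponents A V) : Submodule A V) ∈ isotypicComponents A V :=
      fun i => (e.symm i).2
    have hsymmN : ∀ φ ∈ 𝓗, NormA A φ.symm := fun φ hφ => hnorm _ (hsymm φ hφ)
    have hnorm' : ∀ φ ∈ 𝓗, NormA A φ.symm.symm := fun φ hφ => by
      rw [LinearEquiv.symm_symm]; exact hnorm φ hφ
    -- the action on the set of components
    let act : ∀ φ ∈ 𝓗, isotypicComponents A V → isotypicComponents A V := fun φ hφ c =>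
      ⟨pull φ.symm (hsymmN φ hφ) c,
        pull_mem_isotypicComponents φ.symm (hsymmN φ hφ) (hnorm' φ hφ) c.2⟩
    have hact_inj : ∀ φ (hφ : φ ∈ 𝓗), Function.Injective (act φ hφ) := by
      intro φ hφ c c' hcc
      have h1 : pull φ.symm (hsymmN φ hφ) c = pull φ.symm (hsymmN φ hφ) c' :=
        congrArg Subtype.val hcc
      exact Subtype.ext ((pullIso φ.symm (hsymmN φ hφ) (hnorm' φ hφ)).injective h1)
    refine ⟨Nat.card (isotypicComponents A V),
      fun i => ((e.symm i : isotypicComponents A V) : Submodule A V).restrictScalars F,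
      by omega, ?_, ?_, ?_, ?_, ?_, ?_, ?_⟩
    · intro i
      rw [Ne, Submodule.restrictScalars_eq_bot_iff]
      exact (bot_lt_isotypicComponents (hc i)).ne'
    · apply iSupIndep_restrictScalars
      have h1 := (sSupIndep_iff _).mp (sSupIndep_isotypicComponents A V)
      exact h1.comp e.symm.injective
    · rw [← Submodule.restrictScalars_iSup, Submodule.restrictScalars_eq_top_iff]
      rw [Equiv.iSup_comp (g := fun x : isotypicComponents A V => (x : Submodule A V)) e.symm,
        ← sSup_eq_iSup', sSup_isotypicComponents]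
    · intro φ hφ
      have hb : Function.Bijective (act φ hφ) := Finite.injective_iff_bijective.mp (hact_inj φ hφ)
      refine ⟨(e.symm.trans (Equiv.ofBijective _ hb)).trans e, ?_⟩
      intro i
      rw [map_eq_pull φ (hsymmN φ hφ)]
      simp only [Equiv.trans_apply, Equiv.ofBijective_apply, Equiv.symm_apply_apply]
      rfl
    · intro i j
      by_contra hcon
      push Not at hcon
      set ci : Submodule A V := ((e.symm i : isotypicComponents A V) : Submodule A V) with hci
      set cj : Submodule A V := ((e.symm j : isotypicComponents A V) : Submodule A V) with hcj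
      -- the orbit sum
      let U : Submodule F V := ⨆ φ : 𝓗, (ci.restrictScalars F).map ((φ : V ≃ₗ[F] V) : V →ₗ[F] V)
      have hUinv : ∀ ψ ∈ 𝓗, U.map (ψ : V →ₗ[F] V) ≤ U := by
        intro ψ hψ
        rw [Submodule.map_iSup]
        apply iSup_le
        intro φ
        rw [← Submodule.map_comp]
        have h1 : ((ψ : V →ₗ[F] V) ∘ₗ ((φ : V ≃ₗ[F] V) : V →ₗ[F] V)) =
            (((φ : V ≃ₗ[F] V).trans ψ : V ≃ₗ[F] V) : V →ₗ[F] V) := by
          ext v; simp
        rw [h1]
        exact le_iSup (fun φ : 𝓗 => (ci.restrictScalars F).map ((φ : V ≃ₗ[F] V) : V →ₗ[F] V))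
          ⟨_, htrans _ φ.2 _ hψ⟩
      have hUne : U ≠ ⊥ := by
        intro hU
        have h1 : ci.restrictScalars F ≤ U := by
          have := le_iSup (fun φ : 𝓗 => (ci.restrictScalars F).map ((φ : V ≃ₗ[F] V) : V →ₗ[F] V))
            ⟨_, hrefl⟩
          simpa using this
        rw [hU, le_bot_iff, Submodule.restrictScalars_eq_bot_iff] at h1
        exact (bot_lt_isotypicComponents (hc i)).ne' h1
      have hUtop : U = ⊤ := (hirr U hUinv).resolve_left hUne
      -- every translate of `ci` is a component different from `cj`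
      have hle : U ≤ (sSup (isotypicComponents A V \ {cj})).restrictScalars F := by
        apply iSup_le
        intro φ
        rw [map_eq_pull _ (hsymmN φ.1 φ.2)]
        apply Submodule.restrictScalars_mono
        apply le_sSup
        refine ⟨(act φ.1 φ.2 (e.symm i)).2, ?_⟩
        intro hmem
        apply hcon φ.1 φ.2
        rw [map_eq_pull _ (hsymmN φ.1 φ.2)]
        exact congrArg (Submodule.restrictScalars F) hmem
      have hcjle : cj ≤ sSup (isotypicComponents A V \ {cj}) := by
        rw [← Submodule.restrictScalars_le (S := F)]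
        refine le_trans ?_ hle
        rw [hUtop]
        exact le_top
      have hdisj := (sSupIndep_isotypicComponents A V) (hc j)
      have := hdisj.eq_bot_of_le hcjle
      exact (bot_lt_isotypicComponents (hc j)).ne' this
    · intro f hf i
      rcases hf with hf | hf
      · exact map_le_of_mem hf _
      · exact map_le_of_commute hf (hc i)
    · intro K hK i
      rcases fullyInvariant_inf_component hK (hc i) with h | h
      · left
        intro v hv hvK
        have : v ∈ K ⊓ ((e.symm i : isotypicComponents A V) : Submodule A V) := ⟨hvK, hv⟩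
        rw [h] at this
        exact (Submodule.mem_bot A).mp this
      · right
        intro v hv
        exact h hv

end Twist

section Mat
open Cfsg Cfsg.Geo Cfsg.Agent.Lib.Helper99.Asch Cfsg.Agent.Lib.Helper51.AschField
open scoped MatrixGroups Matrix

variable {ι : Type} [Fintype ι] [DecidableEq ι] {F : Type*} [Field F]

/-- the matrix of an element of the commutant commutes with `endAlg N` -/
theorem commute_endAlg_of_mem_commutant {N : Subgroup (GL ι F)} {c : Matrix ι ι F}
    (hc : c ∈ commutant N) (a : Module.End F (ι → F)) (ha : a ∈ endAlg N) :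
    Matrix.toLin' c ∘ₗ a = a ∘ₗ Matrix.toLin' c := by
  have h := commute_of_commute_gen N (Matrix.toLin' c) (fun g hg => by
    have h1 : (g : Matrix ι ι F) * c = c * (g : Matrix ι ι F) :=
      ((Subalgebra.mem_centralizer_iff F).mp hc) _ ⟨g, hg, rfl⟩
    rw [Module.End.mul_eq_comp, Module.End.mul_eq_comp, ← Matrix.toLin'_mul, ← Matrix.toLin'_mul,
      h1]) a ha
  rw [Module.End.mul_eq_comp, Module.End.mul_eq_comp] at h
  exact h

/-- ASCHO-[ISOF], with [SS] as a hypothesis, for any finite index type and any field -/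
theorem isotypic_or_components_of (H N : Subgroup (GL ι F))
    (hirr : ActsIrreducibly (matrixSet H)) (hnrm : Nrm H N)
    (hss : IsSemisimpleModule (endAlg N) (ι → F)) :
    IsIsotypic (endAlg N) (ι → F) ∨
    ∃ (t : ℕ) (D : Fin t → Submodule F (ι → F)), 2 ≤ t ∧ (∀ i, D i ≠ ⊥) ∧ iSupIndep D ∧ iSup D = ⊤ ∧
      (∀ h ∈ H, ∃ σ : Equiv.Perm (Fin t), ∀ i,
        (D i).map (Matrix.toLin' (h : Matrix ι ι F)) = D (σ i)) ∧
      (∀ i j, ∃ h ∈ H, (D i).map (Matrix.toLin' (h : Matrix ι ι F)) = D j) ∧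
      (∀ c ∈ commutant N, ∀ i, (D i).map (Matrix.toLin' c) ≤ D i) ∧
      (∀ x ∈ N, ∀ i, (D i).map (Matrix.toLin' (x : Matrix ι ι F)) ≤ D i) ∧
      (∀ c ∈ commutantCenter N, ∀ i,
        (∀ v ∈ D i, c *ᵥ v = 0) ∨ (∀ v ∈ D i, c *ᵥ v = 0 → v = 0)) := by
  have key := generic_main' (A := endAlg N) {φ | ∃ h ∈ H, φ = Lg h}
    ⟨1, H.one_mem, Lg_one.symm⟩
    (by rintro _ ⟨h, hh, rfl⟩; exact ⟨h⁻¹, H.inv_mem hh, Lg_symm h⟩)
    (by rintro _ ⟨h, hh, rfl⟩ _ ⟨h', hh', rfl⟩; exact ⟨h' * h, H.mul_mem hh' hh, Lg_trans h h'⟩)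
    (by rintro _ ⟨h, hh, rfl⟩; exact normA_of_nrm (hnrm h hh))
    (by
      intro W hW
      apply hirr W
      rintro _ ⟨h, hh, rfl⟩
      exact hW (Lg h) ⟨h, hh, rfl⟩)
  rcases key with h | ⟨t, D, ht, hne, hind, htop, hperm, htrans, hfix, hfi⟩
  · left; exact h
  · right
    refine ⟨t, D, ht, hne, hind, htop, ?_, ?_, ?_, ?_, ?_⟩
    · intro h hh
      obtain ⟨σ, hσ⟩ := hperm (Lg h) ⟨h, hh, rfl⟩
      exact ⟨σ, hσ⟩
    · intro i j
      obtain ⟨_, ⟨h, hh, rfl⟩, hφ⟩ := htrans i j
      exact ⟨h, hh, hφ⟩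
    · intro c hc i
      exact hfix _ (Or.inr (commute_endAlg_of_mem_commutant hc)) i
    · intro x hx i
      exact hfix _ (Or.inl (toLin_mem_endAlg hx)) i
    · intro c hc i
      rcases hfi (kerSub N c hc.1) (kerSub_fullyInvariant N c hc) i with h | h
      · right
        intro v hv hcv
        exact h v hv ((mem_kerSub N c hc.1 v).mpr hcv)
      · left
        intro v hv
        exact (mem_kerSub N c hc.1 v).mp (h v hv)

end Mat

end Cfsg.Agent.Lib.Helper54.AschOIsoF

namespace Cfsg.Agent.Lib.Helper5.AschO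

open Cfsg Cfsg.Geo Cfsg.Agent.Lib.Helper99.Asch
open scoped MatrixGroups Matrix Kronecker

variable {n : ℕ} {F : Type*} [Field F] [Fintype F]

/-- ASCHO-[ISOF] -/
theorem isotypic_or_components (H N : Subgroup (GL (Fin n) F))
    (hirr : ActsIrreducibly (matrixSet H)) (hnrm : Nrm H N) :
    IsIsotypic (endAlg N) (Fin n → F) ∨
    ∃ (t : ℕ) (D : Fin t → Submodule F (Fin n → F)), 2 ≤ t ∧ (∀ i, D i ≠ ⊥) ∧ iSupIndep D ∧ iSup D = ⊤ ∧
      (∀ h ∈ H, ∃ σ : Equiv.Perm (Fin t), ∀ i,
        (D i).map (Matrix.toLin' (h : Matrix (Fin n) (Fin n) F)) = D (σ i)) ∧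
      (∀ i j, ∃ h ∈ H, (D i).map (Matrix.toLin' (h : Matrix (Fin n) (Fin n) F)) = D j) ∧
      (∀ c ∈ commutant N, ∀ i, (D i).map (Matrix.toLin' c) ≤ D i) ∧
      (∀ x ∈ N, ∀ i, (D i).map (Matrix.toLin' (x : Matrix (Fin n) (Fin n) F)) ≤ D i) ∧
      (∀ c ∈ commutantCenter N, ∀ i,
        (∀ v ∈ D i, c *ᵥ v = 0) ∨ (∀ v ∈ D i, c *ᵥ v = 0 → v = 0)) :=
  Cfsg.Agent.Lib.Helper54.AschOIsoF.isotypic_or_components_of H N hirr hnrm
    (semisimple_of_normalized H N hirr hnrm)

end Cfsg.Agent.Lib.Helper5.AschO
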