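import Mathlib
import Cfsg.Agent.Lib.Helper24.PFCycDefs
import Cfsg.Agent.Lib.Helper4.PFTypes

/-!
# helper24 PF bookkeeping, modules [LITA] and [LITA0]

* [LITA]: for `M` of Type III, IV or V, `A(M) = M' ∖ {1}`.
* [LITA0]: the `M`-conjugates of the elements of `W ∖ (W₁ ∪ W₂)` lie in `A₀(M)` and have `R(x) = 1`.
-/

set_option autoImplicit false
set_option linter.unusedSectionVars false

namespace Cfsg.Agent.Lib.Helper24.PFCyc

open Cfsg Cfsg.Agent.Lib.Helper4.PF

universe u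

variable {G : Type u} [Group G] [Finite G] {M W₁ U W₂ : Subgroup G} [Fintype M]

/-- MODULE [LITA] -/
theorem litA_eq_of_typeIIItoV (hP : IsTypePWith M W₁ U W₂)
    (h : IsOfTypeIII M ∨ IsOfTypeIV M ∨ IsOfTypeV M) :
    litA M = ((⁅M, M⁆ : Subgroup G) : Set G) \ {1} := by
  have hTP : IsOfTypeP M := ⟨W₁, U, W₂, hP⟩
  have hcore : ⁅M, M⁆ ≤ typeCore M := by
    unfold typeCore
    by_cases h34 : IsOfTypeIII M ∨ IsOfTypeIV M
    · rw [if_pos h34]
    · rw [if_neg h34]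
      have h5 : IsOfTypeV M := by
        rcases h with h | h | h
        · exact absurd (Or.inl h) h34
        · exact absurd (Or.inr h) h34
        · exact h
      obtain ⟨W₁', U', W₂', hP', hU', -⟩ := h5
      intro a ha
      obtain ⟨x, hx, y, hy, rfl⟩ := hP'.U_compl.2.2.2 a ha
      rw [hU', Subgroup.mem_bot] at hy
      subst hy
      simpa using hx
  unfold litA
  rw [if_pos hTP]
  ext a
  constructor
  · rintro ⟨ha, ha1, -⟩
    exact ⟨ha, ha1⟩
  · rintro ⟨ha, ha1⟩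
    exact ⟨ha, ha1, a, hcore ha, ha1, rfl⟩

/-- MODULE [LITA0] -/
theorem litA0_facts (hP : IsTypePWith M W₁ U W₂) :
    (∀ w ∈ W₁ ⊔ W₂, w ∉ W₁ → w ∉ W₂ → ∀ m ∈ M, m * w * m⁻¹ ∈ litA0 M ∧
      supportR M (m * w * m⁻¹) = ⊥) := by
  intro w hw hw₁ hw₂ m hm
  refine ⟨Or.inr ⟨W₁, U, W₂, hP, m, hm, w, hw, hw₁, hw₂, rfl⟩, ?_⟩
  -- `C_G(m w m⁻¹) ≤ M`
  have hW₁M : W₁ ≤ M := hP.W₁_compl.2.1
  have hW₂M : W₂ ≤ M :=
    (hP.W₂_le.trans inf_le_left).trans ((hP.U_compl.1).trans hP.W₁_compl.1)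
  have hWM : W₁ ⊔ W₂ ≤ M := sup_le hW₁M hW₂M
  have hN : Subgroup.normalizer ({w} : Set G) = W₁ ⊔ W₂ := by
    apply hP.selfNormalizing.2.2.2.2.2 {w}
    · intro x hx
      rw [Set.mem_singleton_iff] at hx
      subst hx
      refine ⟨hw, ?_⟩
      rintro (h | h)
      · exact hw₁ h
      · exact hw₂ h
    · exact Set.singleton_nonempty w
  have hcent : Subgroup.centralizer ({m * w * m⁻¹} : Set G) ≤ M := by
    intro c hc
    rw [Subgroup.mem_centralizer_iff] at hc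
    have hc' := hc (m * w * m⁻¹) rfl
    -- `m⁻¹ c m` centralizes `w`
    have h1 : m⁻¹ * c * m ∈ Subgroup.centralizer ({w} : Set G) := by
      rw [Subgroup.mem_centralizer_iff]
      intro y hy
      rw [Set.mem_singleton_iff] at hy
      subst hy
      have : y * (m⁻¹ * c * m) = m⁻¹ * ((m * y * m⁻¹) * c) * m := by group
      rw [this, hc']
      group
    have h2 : m⁻¹ * c * m ∈ M := by
      have h3 : m⁻¹ * c * m ∈ Subgroup.normalizer ({w} : Set G) :=
        Subgroup.centralizer_le_normalizer ({w} : Set G) h1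
      rw [hN] at h3
      exact hWM h3
    have : c = m * (m⁻¹ * c * m) * m⁻¹ := by group
    rw [this]
    exact M.mul_mem (M.mul_mem hm h2) (M.inv_mem hm)
  unfold supportR
  rw [dif_neg]
  intro hc
  exact hc.1 hcent

end Cfsg.Agent.Lib.Helper24.PFCyc
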