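import Cfsg.Agent.Lib.Helper54.UqNine1
import Cfsg.Agent.S0058

/-!
# Bender–Glauberman Lemmas 9.2 and 9.3 (library form)
-/

set_option autoImplicit false

namespace Cfsg.Agent.Lib.Helper54

open scoped Pointwise
open Cfsg

variable {G : Type*} [Group G]

theorem not_isCyclic_of_elemAb [Finite G] {p : ℕ} (hp : p.Prime) {B : Subgroup G}
    (hexp : ∀ x ∈ B, x ^ p = 1) (hcard : p ^ 2 ≤ Nat.card B) : ¬ IsCyclic B := by
  intro hcyc
  obtain ⟨g, hg⟩ := hcyc.exists_generator
  have h1 : orderOf g = Nat.card B := orderOf_eq_card_of_forall_mem_zpowers hg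
  have h2 : g ^ p = 1 := by
    apply Subtype.ext
    simpa using hexp g.1 g.2
  have h3 : orderOf g ∣ p := orderOf_dvd_of_pow_eq_one h2
  have h4 := Nat.le_of_dvd hp.pos h3
  have hpp : p < p ^ 2 := by
    calc p = p ^ 1 := (pow_one p).symm
      _ < p ^ 2 := Nat.pow_lt_pow_right hp.one_lt (by norm_num)
  omega

theorem isPGroup_of_exponent {p : ℕ} {B : Subgroup G} (hexp : ∀ x ∈ B, x ^ p = 1) :
    IsPGroup p B := by
  intro b
  refine ⟨1, ?_⟩
  rw [pow_one]
  apply Subtype.ext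
  simpa using hexp b b.2

/-- A simple noncommutative finite group has no unique maximal subgroup. -/
theorem not_inUniqueMaximal_bot [Finite G] (hnc : ¬ IsMulCommutative G) :
    ¬ InUniqueMaximal (⊥ : Subgroup G) := by
  intro h
  obtain ⟨M, hM, -, hu⟩ := exists_forall_of_inUniqueMaximal h
  obtain ⟨g, -, hg⟩ := SetLike.exists_of_lt (lt_top_iff_ne_top.mpr hM.1)
  apply hg
  have h1 : Subgroup.zpowers g ≠ ⊤ := by
    intro h2
    apply hnc
    refine ⟨⟨fun x y => ?_⟩⟩
    have hx : x ∈ Subgroup.zpowers g := h2 ▸ Subgroup.mem_top x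
    have hy : y ∈ Subgroup.zpowers g := h2 ▸ Subgroup.mem_top y
    obtain ⟨i, rfl⟩ := Subgroup.mem_zpowers_iff.mp hx
    obtain ⟨j, rfl⟩ := Subgroup.mem_zpowers_iff.mp hy
    exact (Commute.zpow_zpow (Commute.refl g) i j).eq
  exact le_of_unique_coatom hu h1 bot_le (Subgroup.mem_zpowers g)

/-- **Lemma 9.2**: a noncyclic elementary abelian `p`-subgroup `B` with `C_G(b) ≤ M` for all
`b ∈ B^#` lies in the unique maximal subgroup `M`. -/
theorem uniqueness_of_centralizers_le [Finite G] (hG : IsMinSimpleOddOrder G) (M : Subgroup G)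
    (hM : IsCoatom M) (p : ℕ) [Fact p.Prime] (B : Subgroup G)
    (hBc : ∀ x ∈ B, ∀ y ∈ B, x * y = y * x) (hBexp : ∀ x ∈ B, x ^ p = 1)
    (hBcard : p ^ 2 ≤ Nat.card B)
    (h : ∀ b ∈ B, b ≠ 1 → Subgroup.centralizer ({b} : Set G) ≤ M) :
    B ≤ M ∧ ∀ L : Subgroup G, IsCoatom L → B ≤ L → L = M := by
  have hp : p.Prime := Fact.out
  have hBp : IsPGroup p B := isPGroup_of_exponent hBexp
  have hBnc : ¬ IsCyclic B := not_isCyclic_of_elemAb hp hBexp hBcard
  have hB1 : B ≠ ⊥ := by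
    rintro rfl
    exact hBnc inferInstance
  have hBM : B ≤ M := by
    obtain ⟨⟨b, hbB⟩, hb⟩ := Subgroup.ne_bot_iff_exists_ne_one.mp hB1
    have hb1 : b ≠ 1 := fun h' => hb (Subtype.ext h')
    intro x hx
    apply h b hbB hb1
    rw [Subgroup.mem_centralizer_singleton_iff]
    exact hBc x hx b hbB
  have hBcm : IsMulCommutative B := by
    refine ⟨⟨?_⟩⟩
    rintro ⟨x, hx⟩ ⟨y, hy⟩
    apply Subtype.ext
    exact hBc x hx y hy
  refine ⟨hBM, ?_⟩
  apply uniqueness_of_invariant_le hG M hM p B hBM hBp hB1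
  intro Y hY hBY
  have hcop : (Nat.card B).Coprime (Nat.card Y) := by
    obtain ⟨j, hj⟩ := hBp.exists_card_eq
    rw [hj]
    exact Nat.Coprime.pow_left j hY.symm
  have hgen := Cfsg.Agent.S0058.result B Y hBnc hBY hcop
  rw [← hgen]
  apply iSup_le
  intro b
  apply iSup_le
  rintro ⟨hbB, hb1⟩
  exact inf_le_right.trans (h b hbB hb1)

/-- **Lemma 9.3**: if `L` lies in a unique maximal subgroup and `K ≤ C_G(L)` contains an elementary
abelian subgroup `B` of order at least `p ^ 2`, then `B` (hence every proper overgroup of `B`) lies in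
the same unique maximal subgroup. -/
theorem uniqueness_of_centralizing_elemAb [Finite G] (hG : IsMinSimpleOddOrder G)
    (L M : Subgroup G) (hM : IsCoatom M)
    (hu : ∀ X : Subgroup G, IsCoatom X → L ≤ X → X = M)
    (p : ℕ) [Fact p.Prime] (B : Subgroup G) (hBL : B ≤ Subgroup.centralizer (L : Set G))
    (hBc : ∀ x ∈ B, ∀ y ∈ B, x * y = y * x) (hBexp : ∀ x ∈ B, x ^ p = 1)
    (hBcard : p ^ 2 ≤ Nat.card B) :
    B ≤ M ∧ ∀ X : Subgroup G, IsCoatom X → B ≤ X → X = M := by
  apply uniqueness_of_centralizers_le hG M hM p B hBc hBexp hBcard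
  intro b hbB hb1
  apply le_of_unique_coatom hu (centralizer_singleton_ne_top hG.2.1 hG.2.2.1 hb1)
  intro l hl
  rw [Subgroup.mem_centralizer_singleton_iff]
  exact (Subgroup.mem_centralizer_iff.mp (hBL hbB) l hl)

end Cfsg.Agent.Lib.Helper54
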