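import Cfsg.Agent.Lib.Helper54.UqFinalA

/-!
# Bender–Glauberman Theorem 9.5, part B

The final argument, with the transfer input (`P ≤ N_G(R₀)'` for some `A ≤ R₀ ≤ P`) and the
"small rank" centralizing lemma as hypotheses.
-/

set_option autoImplicit false

namespace Cfsg.Agent.Lib.Helper54

open scoped Pointwise
open Cfsg

variable {G : Type*} [Group G]

/-- **Steps 2, 3**: a maximal subgroup `M` with `P ≤ M'` has `F(M)` of rank at least three. -/
theorem fitting_rank_three_of_le_commutator [Finite G] (hG : IsMinSimpleOddOrder G) (p : ℕ)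
    [Fact p.Prime] (A : Subgroup G) (hAp : IsPGroup p A) (hAc : IsMulCommutative A)
    (hA3 : ¬ PRankLE p 2 ↥A) (hnU : ¬ InUniqueMaximal A) (M : Subgroup G) (hM : IsCoatom M)
    (hAM' : A ≤ ⁅M, M⁆) : ¬ RankLE 2 ↥(fittingOf M) := by
  intro hr
  have hMs : Group.IsSolvable M := hG.2.2.2 M hM.1
  have hr' : RankLE 2 ↥(fittingSubgroup ↥M) := by
    intro r hr0
    exact (pRankLE_map_subtype_iff M (fittingSubgroup ↥M)).mp (hr r hr0)
  have hnil : Group.IsNilpotent ↥(commutator ↥M) :=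
    (Cfsg.Agent.S1451.result (G := ↥M) (odd_card_subgroup hG.1 M) (Or.inr hr')).1
  have hle : commutator ↥M ≤ fittingSubgroup ↥M := le_sSup ⟨inferInstance, hnil⟩
  have hle' : ⁅M, M⁆ ≤ fittingOf M := by
    rw [← Subgroup.map_subtype_commutator]
    exact Subgroup.map_mono hle
  apply hA3
  exact pRankLE_of_le (hAM'.trans hle')
    (fitting_pRankLE_of_not_unique hG p A hAp hAc hA3 hnU M hM)

/-- **Bender–Glauberman Theorem 9.5**, modulo the transfer input `hTr` and the small rank
centralizing lemma `hSt4`. -/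
theorem scn_three_unique_of_transfer [Finite G] (hG : IsMinSimpleOddOrder G) (p : ℕ)
    [Fact p.Prime] (PG : Sylow p G) (A : Subgroup G) (hscn : IsSCN (PG : Subgroup G) A)
    (hA3 : ¬ PRankLE p 2 ↥A)
    (hTr : ∃ R0 : Subgroup G, IsPGroup p R0 ∧ A ≤ R0 ∧
      A ≤ ⁅Subgroup.normalizer (R0 : Set G), Subgroup.normalizer (R0 : Set G)⁆)
    (hSt4 : ∀ (t : ℕ) [Fact t.Prime], t ≠ p → ∀ L W T : Subgroup G, Group.IsSolvable L →
      Odd (Nat.card L) → A ≤ ⁅L, L⁆ → W ≤ L → L ≤ Subgroup.normalizer (W : Set G) →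
      (Nat.card W).Coprime p → T ≤ W → IsPGroup t T → ¬ t ∣ T.relIndex W →
      A ≤ Subgroup.normalizer (T : Set G) → PRankLE t 2 ↥T →
      A ≤ Subgroup.centralizer (T : Set G)) :
    InUniqueMaximal A := by
  by_contra hnU
  have hp : p.Prime := Fact.out
  have hs : IsSimpleGroup G := hG.2.1
  have hnc := hG.2.2.1
  obtain ⟨hTH, hAp, hAc, hπ, htr⟩ := scn_transitivity hG p PG A hscn hA3
  have hAc' : ∀ x ∈ A, ∀ y ∈ A, x * y = y * x := by
    intro x hx y hy
    exact congrArg Subtype.val (hAc.is_comm.comm ⟨x, hx⟩ ⟨y, hy⟩)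
  obtain ⟨R0, hR0p, hAR0, hAN⟩ := hTr
  -- Step 2
  have hstep2 : ∀ M : Subgroup G, IsCoatom M → Subgroup.centralizer (A : Set G) ≤ M →
      A ≤ ⁅M, M⁆ := by
    intro M hM hCM
    obtain ⟨q, hq, hqp, hQM⟩ :=
      exists_prime_maxInv_normalizer_le hG p PG A hscn hA3 hnU M hM hCM
    have hN := normalizer_le_of_maxInv hG p PG A hscn hA3 M hCM q hq hqp hQM R0 hR0p hAR0
    exact hAN.trans (Subgroup.commutator_mono hN hN)
  -- Step 3
  have hstep3 : ∀ M : Subgroup G, IsCoatom M → Subgroup.centralizer (A : Set G) ≤ M →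
      ¬ RankLE 2 ↥(fittingOf M) := fun M hM hCM =>
    fitting_rank_three_of_le_commutator hG p A hAp hAc hA3 hnU M hM (hstep2 M hM hCM)
  -- a maximal subgroup over `C_G(A)`
  obtain ⟨a0, ha01⟩ := (Subgroup.ne_bot_iff_exists_ne_one.mp hTH.1)
  have ha0A : (a0 : G) ∈ A := a0.2
  have ha01' : (a0 : G) ≠ 1 := fun h => ha01 (Subtype.ext h)
  have hCAtop : Subgroup.centralizer (A : Set G) ≠ ⊤ := by
    intro h
    apply centralizer_singleton_ne_top hs hnc ha01'
    rw [eq_top_iff, ← h]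
    exact Subgroup.centralizer_le (Set.singleton_subset_iff.mpr ha0A)
  obtain ⟨M1, hM1, hCM1⟩ := exists_isCoatom_ge hCAtop
  have hAM1 : A ≤ M1 := le_of_isSCN_centralizer_le hscn hCM1
  have hr3 := hstep3 M1 hM1 hCM1
  unfold RankLE at hr3
  push Not at hr3
  obtain ⟨t, ht, hF⟩ := hr3
  have htf : Fact t.Prime := ⟨ht⟩
  have htp : t ≠ p := by
    intro h
    rw [h] at hF
    exact hF (fitting_pRankLE_of_not_unique hG p A hAp hAc hA3 hnU M1 hM1)
  have hmax := maxInv_of_fitting_rank_three hG p PG A hscn hA3 M1 hM1 hCM1 t htp hF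
  have hAV : A ≤ Subgroup.normalizer (pcOf t M1 : Set G) := hAM1.trans (le_normalizer_pcOf t M1)
  have hAsolv : Group.IsSolvable A := by
    have : Group.IsNilpotent A := hAp.isNilpotent
    infer_instance
  -- Step 4
  have hstep4 : ∀ L : Subgroup G, IsCoatom L → Subgroup.centralizer (A : Set G) ≤ L → L ≠ M1 →
      ∀ Y : Subgroup G, Y ≤ L → IsPGroup t Y → A ≤ Subgroup.normalizer (Y : Set G) →
      Y ≤ Subgroup.centralizer (A : Set G) := by
    intro L hL hCL hLM1 Y hYL hYt hAY
    have hAL : A ≤ L := le_of_isSCN_centralizer_le hscn hCL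
    have hYcop : (Nat.card Y).Coprime (Nat.card A) := by
      obtain ⟨j, hj⟩ := hAp.exists_card_eq
      rw [hj]
      exact Nat.Coprime.pow_right j (coprime_card_of_isPGroup htp hYt)
    obtain ⟨W, hWdef⟩ : ∃ W : Subgroup G, W = piCoreOf (primesNotDvd (Nat.card A)) L := ⟨_, rfl⟩
    have hYW : Y ≤ W := by
      rw [hWdef]
      exact le_piCoreOf_of_transitivityHypothesis A hTH hL.1 hAL hYL hYcop hAY
    have hWpi : ∀ r : ℕ, r.Prime → r ∣ Nat.card W → r ∈ primesNotDvd p := by
      rw [hWdef, ← hπ]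
      exact piCoreOf_isPi _ _
    have hWcop : (Nat.card W).Coprime p := coprime_of_primesNotDvd hWpi
    have hWL : W ≤ L := by
      rw [hWdef]
      exact piCoreOf_le _ L
    have hLW : L ≤ Subgroup.normalizer (W : Set G) := by
      rw [hWdef]
      exact le_normalizer_piCoreOf _ L
    have hAW : A ≤ Subgroup.normalizer (W : Set G) := hAL.trans hLW
    have hcop : (Nat.card A).Coprime (Nat.card W) := by
      obtain ⟨j, hj⟩ := hAp.exists_card_eq
      rw [hj]
      exact Nat.Coprime.pow_left j hWcop.symm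
    obtain ⟨T0, hYT, hAT⟩ := exists_invariant_sylow_ge A W hAW hcop (Or.inl hAsolv) t Y hYW hYt hAY
    have hTt : IsPGroup t ((T0 : Subgroup W).map W.subtype) := T0.isPGroup'.map _
    have hTW : (T0 : Subgroup W).map W.subtype ≤ W := Subgroup.map_subtype_le _
    have hrank : PRankLE t 2 ↥((T0 : Subgroup W).map W.subtype) := by
      by_contra h3
      obtain ⟨X, hXT, hXc, hXexp, hXcard⟩ := exists_elemAb_of_not_pRankLE t 2 _ h3
      have hTinv : (T0 : Subgroup W).map W.subtype ∈ invSubgroups ⊤ A {t} := by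
        rw [mem_invSubgroups_iff']
        exact ⟨le_top, hTt, hAT⟩
      obtain ⟨Qs, hQs, hTQs⟩ := exists_maxInv_ge' hTinv
      have hXM1 : X ≤ M1 :=
        (hXT.trans hTQs).trans (Subgroup.le_normalizer.trans (hmax Qs hQs).2)
      apply hLM1
      exact coatom_unique_of_rank_three hG M1 hM1 t hF X hXM1 hXc hXexp hXcard L hL
        (hXT.trans (hTW.trans hWL))
    have hidx : ¬ t ∣ ((T0 : Subgroup W).map W.subtype).relIndex W := by
      rw [Subgroup.relIndex, Subgroup.subgroupOf,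
        Subgroup.comap_map_eq_self_of_injective (Subgroup.subtype_injective _)]
      exact T0.not_dvd_index
    have hcent := hSt4 t htp L W _ (hG.2.2.2 L hL.1) (odd_card_subgroup hG.1 L)
      (hstep2 L hL hCL) hWL hLW hWcop hTW hTt hidx hAT hrank
    intro y hy
    rw [Subgroup.mem_centralizer_iff]
    intro a ha
    exact (Subgroup.mem_centralizer_iff.mp (hcent ha) y (hYT hy)).symm
  -- Step 5
  have hstep5 : ∀ e ∈ A, e ≠ 1 → ¬ Subgroup.centralizer ({e} : Set G) ≤ M1 →
      pcOf t M1 ⊓ Subgroup.centralizer ({e} : Set G) ≤ Subgroup.centralizer (A : Set G) := by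
    intro e he he1 hnot
    obtain ⟨L, hL, hCL⟩ := exists_isCoatom_ge (centralizer_singleton_ne_top hs hnc he1)
    have hLM1 : L ≠ M1 := by
      rintro rfl
      exact hnot hCL
    have hCAe : Subgroup.centralizer (A : Set G) ≤ Subgroup.centralizer ({e} : Set G) :=
      Subgroup.centralizer_le (Set.singleton_subset_iff.mpr he)
    have hAe : A ≤ Subgroup.centralizer ({e} : Set G) := by
      intro a ha
      rw [Subgroup.mem_centralizer_iff]
      intro x hx
      rw [Set.mem_singleton_iff.mp hx]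
      exact hAc' e he a ha
    apply hstep4 L hL (hCAe.trans hCL) hLM1 _ (inf_le_right.trans hCL)
      ((pcOf_isPGroup t M1).to_le inf_le_left)
    exact le_normalizer_inf hAV (hAe.trans Subgroup.le_normalizer)
  -- Step 6
  obtain ⟨X0, hX0F, hX0c, hX0exp, hX0card⟩ := exists_elemAb_of_not_pRankLE t 2 (fittingOf M1) hF
  have hX0V : X0 ≤ pcOf t M1 := le_pcOf_of_isPGroup t (isPGroup_of_exponent hX0exp) hX0F
  have hVnot : ¬ pcOf t M1 ≤ Subgroup.centralizer (A : Set G) := by
    intro hV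
    apply hnU
    have hX0U : InUniqueMaximal X0 := inUniqueMaximal_of_forall hM1
      (hX0F.trans (fittingOf_le M1))
      (coatom_unique_of_rank_three hG M1 hM1 t hF X0 (hX0F.trans (fittingOf_le M1)) hX0c
        hX0exp hX0card)
    have hAX0 : A ≤ Subgroup.centralizer (X0 : Set G) := by
      intro a ha
      rw [Subgroup.mem_centralizer_iff]
      intro x hx
      exact (Subgroup.mem_centralizer_iff.mp (hV (hX0V hx)) a ha).symm
    have hAr1 : ¬ RankLE 1 ↥A := fun h =>
      hA3 (pRankLE_mono_right hp.pos (by norm_num) (h p hp))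
    exact Cfsg.Agent.S1399.result hG X0 A hX0U hAX0 hAr1
  obtain ⟨E3, hE3A, hE3c, hE3exp, hE3card⟩ := exists_elemAb_card_cube p A hA3
  have hVp : ¬ p ∣ Nat.card (pcOf t M1) := by
    have h1 : (Nat.card (pcOf t M1)).Coprime p := coprime_card_of_isPGroup htp (pcOf_isPGroup t M1)
    exact (Nat.Prime.coprime_iff_not_dvd hp).mp h1.symm
  obtain ⟨B, hBE3, hBcard, hBnot⟩ := exists_hyperplane_centralizer E3 (pcOf t M1)
    (Subgroup.centralizer (A : Set G)) hE3c hE3exp hVp (hE3A.trans hAV) hVnot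
  have hB2 : p ^ 2 ≤ Nat.card B := by
    rw [hE3card] at hBcard
    have : p * p ^ 2 ≤ p * Nat.card B := by
      calc p * p ^ 2 = p ^ 3 := by ring
        _ ≤ p * Nat.card B := hBcard
    exact Nat.le_of_mul_le_mul_left this hp.pos
  have hBcent : ∀ b ∈ B, b ≠ 1 → Subgroup.centralizer ({b} : Set G) ≤ M1 := by
    intro b hb hb1
    by_contra hnot
    apply hBnot
    have h5 := hstep5 b (hE3A (hBE3 hb)) hb1 hnot
    exact (inf_le_inf_left _
      (Subgroup.centralizer_le (Set.singleton_subset_iff.mpr hb))).trans h5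
  obtain ⟨hBM1, hBu⟩ := uniqueness_of_centralizers_le hG M1 hM1 p B
    (fun x hx y hy => hE3c x (hBE3 hx) y (hBE3 hy)) (fun x hx => hE3exp x (hBE3 hx)) hB2 hBcent
  exact hnU (inUniqueMaximal_mono (inUniqueMaximal_of_forall hM1 hBM1 hBu)
    (hBE3.trans hE3A) hTH.2.1)

end Cfsg.Agent.Lib.Helper54
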