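import Cfsg.Agent.Lib.Helper54.BGTransitivity

/-!
# Transfer of `p`-rank bounds along injective homomorphisms, conjugation and Sylow subgroups
-/

set_option autoImplicit false

namespace Cfsg.Agent.Lib.Helper54

open scoped Pointwise
open Cfsg

theorem pRankLE_of_injective {X Y : Type*} [Group X] [Group Y] {p k : ℕ} (f : X →* Y)
    (hf : Function.Injective f) (h : PRankLE p k Y) : PRankLE p k X := by
  intro A hAc hAexp
  have h1 : IsMulCommutative (A.map f) := by
    refine ⟨⟨?_⟩⟩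
    rintro ⟨_, ⟨x, hx, rfl⟩⟩ ⟨_, ⟨y, hy, rfl⟩⟩
    apply Subtype.ext
    have h2 : (⟨x, hx⟩ : A) * ⟨y, hy⟩ = ⟨y, hy⟩ * ⟨x, hx⟩ := hAc.is_comm.comm _ _
    have h3 : x * y = y * x := congrArg Subtype.val h2
    show f x * f y = f y * f x
    rw [← map_mul, ← map_mul, h3]
  have h2 : ∀ a ∈ A.map f, a ^ p = 1 := by
    rintro _ ⟨x, hx, rfl⟩
    rw [← map_pow, hAexp x hx, map_one]
  have h3 := h (A.map f) h1 h2
  rwa [Subgroup.card_map_of_injective hf] at h3

theorem pRankLE_of_mulEquiv {X Y : Type*} [Group X] [Group Y] {p k : ℕ} (e : X ≃* Y)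
    (h : PRankLE p k Y) : PRankLE p k X :=
  pRankLE_of_injective e.toMonoidHom e.injective h

theorem pRankLE_mono_right {X : Type*} [Group X] {p k l : ℕ} (hp : 0 < p) (hkl : k ≤ l)
    (h : PRankLE p k X) : PRankLE p l X := by
  intro A hAc hAexp
  exact (h A hAc hAexp).trans (Nat.pow_le_pow_right hp hkl)

variable {G : Type*} [Group G]

theorem pRankLE_of_le {p k : ℕ} {E E' : Subgroup G} (hEE' : E ≤ E') (h : PRankLE p k E') :
    PRankLE p k E :=
  pRankLE_of_injective (Subgroup.inclusion hEE') (Subgroup.inclusion_injective hEE') h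

theorem pRankLE_conj_smul_iff {p k : ℕ} (g : G) (E : Subgroup G) :
    PRankLE p k ↥(MulAut.conj g • E : Subgroup G) ↔ PRankLE p k E :=
  ⟨fun h => pRankLE_of_mulEquiv (Subgroup.equivSMul (MulAut.conj g) E) h,
    fun h => pRankLE_of_mulEquiv (Subgroup.equivSMul (MulAut.conj g) E).symm h⟩

theorem pRankLE_map_subtype_iff {p k : ℕ} (H : Subgroup G) (E : Subgroup H) :
    PRankLE p k ↥(E.map H.subtype) ↔ PRankLE p k E :=
  ⟨fun h => pRankLE_of_mulEquiv (E.equivMapOfInjective H.subtype H.subtype_injective) h,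
    fun h => pRankLE_of_mulEquiv (E.equivMapOfInjective H.subtype H.subtype_injective).symm h⟩

/-- An elementary abelian subgroup of `E` of order greater than `p ^ k` witnesses `¬ PRankLE p k E`. -/
theorem not_pRankLE_of_elemAb {p k : ℕ} {E B : Subgroup G} (hBE : B ≤ E)
    (hBc : ∀ x ∈ B, ∀ y ∈ B, x * y = y * x) (hBexp : ∀ x ∈ B, x ^ p = 1)
    (hcard : p ^ k < Nat.card B) : ¬ PRankLE p k E := by
  intro h
  have h1 : IsMulCommutative (B.subgroupOf E) := by
    refine ⟨⟨?_⟩⟩
    rintro ⟨x, hx⟩ ⟨y, hy⟩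
    apply Subtype.ext
    apply Subtype.ext
    rw [Subgroup.mem_subgroupOf] at hx hy
    exact hBc _ hx _ hy
  have h2 : ∀ a ∈ B.subgroupOf E, a ^ p = 1 := by
    intro a ha
    rw [Subgroup.mem_subgroupOf] at ha
    apply Subtype.ext
    have := hBexp _ ha
    simpa using this
  have h3 := h (B.subgroupOf E) h1 h2
  rw [Nat.card_congr (Subgroup.subgroupOfEquivOfLe hBE).toEquiv] at h3
  omega

/-- The `p`-rank of a finite group is attained in every Sylow `p`-subgroup. -/
theorem pRankLE_of_sylow {X : Type*} [Group X] [Finite X] {p k : ℕ} [Fact p.Prime] (S : Sylow p X)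
    (h : PRankLE p k ↥(S : Subgroup X)) : PRankLE p k X := by
  intro A hAc hAexp
  have hAp : IsPGroup p A := by
    intro a
    refine ⟨1, ?_⟩
    rw [pow_one]
    apply Subtype.ext
    simpa using hAexp a a.2
  obtain ⟨S', hS'⟩ := hAp.exists_le_sylow
  obtain ⟨g, hg⟩ := MulAction.exists_smul_eq X S S'
  have h1 : PRankLE p k ↥(S' : Subgroup X) := by
    rw [← hg, Sylow.smul_def, Sylow.pointwise_smul_def]
    exact (pRankLE_conj_smul_iff g (S : Subgroup X)).mpr h
  have h2 : PRankLE p k ↥A := pRankLE_of_le hS' h1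
  have h3 := h2 ⊤ (by
    refine ⟨⟨?_⟩⟩
    rintro ⟨x, _⟩ ⟨y, _⟩
    apply Subtype.ext
    exact hAc.is_comm.comm x y) (by
    intro a _
    apply Subtype.ext
    simpa using hAexp a a.2)
  rwa [Subgroup.card_top] at h3

/-- Relative version: the `p`-rank of `H ≤ G` is attained in the image of any Sylow `p`-subgroup. -/
theorem pRankLE_of_sylow_rel [Finite G] {p k : ℕ} [Fact p.Prime] (H : Subgroup G) (S : Sylow p H)
    (h : PRankLE p k ↥((S : Subgroup H).map H.subtype)) : PRankLE p k H :=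
  pRankLE_of_sylow S ((pRankLE_map_subtype_iff H _).mp h)

end Cfsg.Agent.Lib.Helper54
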