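import Cfsg.Agent.Lib.Helper54.UqNine1
import Cfsg.Agent.Lib.Helper54.UqRank
import Cfsg.Agent.Lib.Helper24.RankTwo
import Cfsg.Agent.S1460

/-!
# Bender–Glauberman Theorem 9.5, part C

A `p`-subgroup of `L'` centralizes every invariant Sylow `t`-subgroup of rank at most two of a normal
`p'`-subgroup of `L` (`L` solvable of odd order).
-/

set_option autoImplicit false

namespace Cfsg.Agent.Lib.Helper54

open scoped Pointwise
open Cfsg

variable {G : Type*} [Group G]

/-- Let `L` be a solvable subgroup of odd order, `A ≤ L'` a `p`-subgroup, `W` a normal `p'`-subgroup of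
`L` and `T` an `A`-invariant Sylow `t`-subgroup of `W` of rank at most two (`t ≠ p`). Then `A`
centralizes `T`. -/
theorem le_centralizer_sylow_of_le_commutator [Finite G] (p t : ℕ) [Fact p.Prime] [Fact t.Prime]
    (htp : t ≠ p) (L A W T : Subgroup G) (hLs : Group.IsSolvable L) (hLodd : Odd (Nat.card L))
    (hAp : IsPGroup p A) (hAL' : A ≤ ⁅L, L⁆) (hWL : W ≤ L)
    (hLW : L ≤ Subgroup.normalizer (W : Set G)) (hWcop : (Nat.card W).Coprime p) (hTW : T ≤ W)
    (hTt : IsPGroup t T) (hidx : ¬ t ∣ T.relIndex W)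
    (hAT : A ≤ Subgroup.normalizer (T : Set G)) (hrank : PRankLE t 2 ↥T) :
    A ≤ Subgroup.centralizer (T : Set G) := by
  have hp : p.Prime := Fact.out
  have ht : t.Prime := Fact.out
  by_cases hT1 : T = ⊥
  · rw [hT1]
    intro a _
    rw [Subgroup.mem_centralizer_iff]
    intro x hx
    rw [Subgroup.coe_bot, Set.mem_singleton_iff] at hx
    rw [hx, one_mul, mul_one]
  have ht2 : t ≠ 2 := ne_two_of_dvd_of_odd hLodd
    ((dvd_card_of_isPGroup_ne_bot hTt hT1).trans (Subgroup.card_dvd_of_le (hTW.trans hWL)))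
  have hAL : A ≤ L := hAL'.trans (Subgroup.commutator_le_self L)
  -- `T` as a Sylow subgroup of `W`
  have hTt' : IsPGroup t (T.subgroupOf W) := isPGroup_subgroupOf hTW hTt
  obtain ⟨T0, hT0⟩ : ∃ T0 : Sylow t W, (T0 : Subgroup W) = T.subgroupOf W :=
    ⟨hTt'.toSylow hidx, IsPGroup.toSylow_coe hTt' hidx⟩
  have hT0map : (T0 : Subgroup W).map W.subtype = T := by
    rw [hT0, Subgroup.subgroupOf_map_subtype, inf_eq_left.mpr hTW]
  -- the subgroups of `L`
  have hKn : (W.subgroupOf L).Normal := (Subgroup.normal_subgroupOf_iff_le_normalizer hWL).mpr hLW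
  have hKU : W.subgroupOf L ⊔ (Subgroup.normalizer (T : Set G)).subgroupOf L = ⊤ := by
    rw [eq_top_iff]
    intro l _
    obtain ⟨k, hk, hkl⟩ := frattini_rel W T0 (l : G) (hLW l.2)
    rw [hT0map] at hkl
    have hkL : k ∈ L := hWL hk
    have e : l = (⟨k, hkL⟩ : L) * ((⟨k, hkL⟩ : L)⁻¹ * l) := by group
    rw [e]
    apply Subgroup.mul_mem_sup
    · exact Subgroup.mem_subgroupOf.mpr hk
    · exact Subgroup.mem_subgroupOf.mpr hkl
  have hHU : A.subgroupOf L ≤ (Subgroup.normalizer (T : Set G)).subgroupOf L := by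
    intro x hx
    exact Subgroup.mem_subgroupOf.mpr (hAT (Subgroup.mem_subgroupOf.mp hx))
  have hcop : (Nat.card (A.subgroupOf L)).Coprime (Nat.card (W.subgroupOf L)) := by
    obtain ⟨j, hj⟩ := (isPGroup_subgroupOf hAL hAp).exists_card_eq
    rw [hj, Nat.card_congr (Subgroup.subgroupOfEquivOfLe hWL).toEquiv]
    exact Nat.Coprime.pow_left j hWcop.symm
  have h1460 := (Cfsg.Agent.S1460.result (G := ↥L) (W.subgroupOf L)
    ((Subgroup.normalizer (T : Set G)).subgroupOf L) (A.subgroupOf L) hKU hHU hcop).1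
  have hHcomm : A.subgroupOf L ≤ commutator ↥L := by
    intro x hx
    have h1 : (x : G) ∈ ⁅L, L⁆ := hAL' (Subgroup.mem_subgroupOf.mp hx)
    rw [← Subgroup.map_subtype_commutator] at h1
    obtain ⟨y, hy, hyx⟩ := h1
    have : y = x := Subtype.ext hyx
    rw [← this]
    exact hy
  have hHU' : A.subgroupOf L ≤
      ⁅(Subgroup.normalizer (T : Set G)).subgroupOf L,
        (Subgroup.normalizer (T : Set G)).subgroupOf L⁆ := by
    have : A.subgroupOf L ≤ A.subgroupOf L ⊓ commutator ↥L := le_inf le_rfl hHcomm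
    rw [h1460] at this
    exact this.trans inf_le_right
  -- back in `G`
  have hAN : A ≤ ⁅Subgroup.normalizer (T : Set G) ⊓ L, Subgroup.normalizer (T : Set G) ⊓ L⁆ := by
    intro a ha
    have h1 : (⟨a, hAL ha⟩ : L) ∈ A.subgroupOf L := Subgroup.mem_subgroupOf.mpr ha
    have h2 := hHU' h1
    have h3 : a ∈ (⁅(Subgroup.normalizer (T : Set G)).subgroupOf L,
        (Subgroup.normalizer (T : Set G)).subgroupOf L⁆).map L.subtype := ⟨_, h2, rfl⟩
    rwa [Subgroup.map_commutator, Subgroup.subgroupOf_map_subtype] at h3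
  have hNs : Group.IsSolvable ↥(Subgroup.normalizer (T : Set G) ⊓ L) :=
    isSolvable_of_le inf_le_right hLs
  have hNodd : Odd (Nat.card ↥(Subgroup.normalizer (T : Set G) ⊓ L)) :=
    Odd.of_dvd_nat hLodd (Subgroup.card_dvd_of_le inf_le_right)
  have hrank' : Cfsg.Agent.Lib.Helper24.RankLETwo t T := by
    intro E hET hc he
    by_contra h
    push Not at h
    exact not_pRankLE_of_elemAb hET hc he h hrank
  intro a ha
  rw [Subgroup.mem_centralizer_iff]
  intro r hr
  have hcopa : (orderOf a).Coprime t := by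
    obtain ⟨k, hk⟩ := hAp ⟨a, ha⟩
    have hk' : a ^ p ^ k = 1 := by
      have := congrArg Subtype.val hk
      simpa using this
    have hdvd : orderOf a ∣ p ^ k := orderOf_dvd_of_pow_eq_one hk'
    apply Nat.Coprime.coprime_dvd_left hdvd
    apply Nat.Coprime.pow_left
    exact (Nat.coprime_primes hp ht).mpr (Ne.symm htp)
  exact (Cfsg.Agent.Lib.Helper24.centralizes_of_rankLETwo t ht2
    (Subgroup.normalizer (T : Set G) ⊓ L) hNodd T hTt hrank' inf_le_left a (hAN ha) hcopa r hr).symm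

end Cfsg.Agent.Lib.Helper54
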