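import Cfsg.Agent.Lib.Helper54.UqCore
import Cfsg.Agent.S1450

/-!
# Sylow bookkeeping for the uniqueness theorems
-/

set_option autoImplicit false

namespace Cfsg.Agent.Lib.Helper54

open scoped Pointwise
open Cfsg

variable {G : Type*} [Group G]

theorem isPGroup_subgroupOf {p : ℕ} {Q K : Subgroup G} (hQK : Q ≤ K) (hQ : IsPGroup p Q) :
    IsPGroup p (Q.subgroupOf K) :=
  hQ.of_equiv (Subgroup.subgroupOfEquivOfLe hQK).symm

theorem exists_sylow_map_ge [Finite G] {p : ℕ} [Fact p.Prime] {K Q : Subgroup G} (hQK : Q ≤ K)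
    (hQ : IsPGroup p Q) : ∃ S₀ : Sylow p K, Q ≤ (S₀ : Subgroup K).map K.subtype := by
  obtain ⟨S₀, hS₀⟩ := (isPGroup_subgroupOf hQK hQ).exists_le_sylow
  refine ⟨S₀, ?_⟩
  intro x hx
  exact ⟨⟨x, hQK hx⟩, hS₀ (by rw [Subgroup.mem_subgroupOf]; exact hx), rfl⟩

theorem le_sylow_map_of_le [Finite G] {p : ℕ} [Fact p.Prime] {K : Subgroup G} (S₀ : Sylow p K)
    {Q : Subgroup G} (hQK : Q ≤ K) (hQ : IsPGroup p Q)
    (hSQ : (S₀ : Subgroup K).map K.subtype ≤ Q) : Q ≤ (S₀ : Subgroup K).map K.subtype := by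
  have h1 : (S₀ : Subgroup K) ≤ Q.subgroupOf K := by
    intro s hs
    rw [Subgroup.mem_subgroupOf]
    exact hSQ ⟨s, hs, rfl⟩
  have h2 := S₀.is_maximal' (isPGroup_subgroupOf hQK hQ) h1
  intro x hx
  have h3 : (⟨x, hQK hx⟩ : K) ∈ Q.subgroupOf K := by
    rw [Subgroup.mem_subgroupOf]; exact hx
  rw [h2] at h3
  exact ⟨⟨x, hQK hx⟩, h3, rfl⟩

theorem card_le_of_isPGroup_le [Finite G] {p : ℕ} [hp : Fact p.Prime] {Q K : Subgroup G}
    (hQK : Q ≤ K) (hQ : IsPGroup p Q) : Nat.card Q ≤ p ^ (Nat.card K).factorization p := by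
  obtain ⟨j, hj⟩ := hQ.exists_card_eq
  rw [hj]
  apply Nat.pow_le_pow_right hp.out.pos
  have h1 : p ^ j ∣ Nat.card K := hj ▸ Subgroup.card_dvd_of_le hQK
  exact (hp.out.pow_dvd_iff_le_factorization (Nat.card_pos.ne')).mp h1

/-- If `M` contains the normalizer of its Sylow `p`-subgroup `P`, then `P` is a maximal `p`-subgroup
of `G`. -/
theorem eq_of_isPGroup_ge_of_normalizer_le [Finite G] {p : ℕ} [Fact p.Prime] (M : Subgroup G)
    (P₀ : Sylow p M)
    (hN : Subgroup.normalizer (((P₀ : Subgroup M).map M.subtype : Subgroup G) : Set G) ≤ M)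
    {Q : Subgroup G} (hQ : IsPGroup p Q) (hPQ : (P₀ : Subgroup M).map M.subtype ≤ Q) :
    Q = (P₀ : Subgroup M).map M.subtype := by
  symm
  apply eq_of_inf_normalizer_le Q _ hQ hPQ
  apply le_sylow_map_of_le P₀ (inf_le_right.trans hN) (hQ.to_le inf_le_left)
  exact le_inf hPQ Subgroup.le_normalizer

theorem exists_sylow_map_eq [Finite G] {p : ℕ} [Fact p.Prime] (P : Subgroup G) (hP : IsPGroup p P)
    (hmax : ∀ Q : Subgroup G, IsPGroup p Q → P ≤ Q → Q = P) (H : Subgroup G) (hPH : P ≤ H) :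
    ∃ S : Sylow p H, (S : Subgroup H).map H.subtype = P := by
  obtain ⟨S, hS⟩ := exists_sylow_map_ge hPH hP
  exact ⟨S, hmax _ (S.isPGroup'.map _) hS⟩

theorem exists_sylow_eq [Finite G] {p : ℕ} [Fact p.Prime] (P : Subgroup G) (hP : IsPGroup p P)
    (hmax : ∀ Q : Subgroup G, IsPGroup p Q → P ≤ Q → Q = P) :
    ∃ S : Sylow p G, (S : Subgroup G) = P := by
  obtain ⟨S, hS⟩ := hP.exists_le_sylow
  exact ⟨S, hmax _ S.isPGroup' hS⟩

/-- A `p`-subgroup lies in every normal subgroup of index prime to `p`. -/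
theorem le_of_normal_of_index_coprime {X : Type*} [Group X] [Finite X] {p : ℕ} [Fact p.Prime]
    (N : Subgroup X) [N.Normal] (hN : N.index.Coprime p) {Q : Subgroup X} (hQ : IsPGroup p Q) :
    Q ≤ N := by
  have h1 : IsPGroup p (Q.map (QuotientGroup.mk' N)) := hQ.map _
  obtain ⟨j, hj⟩ := h1.exists_card_eq
  have h2 : Nat.card (Q.map (QuotientGroup.mk' N)) ∣ N.index := by
    rw [Subgroup.index_eq_card]
    exact Subgroup.card_subgroup_dvd_card _
  have h3 : (p ^ j).Coprime p := hj ▸ Nat.Coprime.coprime_dvd_left h2 hN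
  have hj0 : j = 0 := by
    by_contra hj0
    have : p ∣ p ^ j := dvd_pow_self p hj0
    have h4 := Nat.Coprime.eq_one_of_dvd h3.symm this
    exact (Fact.out : p.Prime).one_lt.ne' h4
  rw [hj0, pow_zero] at hj
  have h5 := Subgroup.card_eq_one.mp hj
  rw [Subgroup.map_eq_bot_iff, QuotientGroup.ker_mk'] at h5
  exact h5

theorem dvd_card_of_isPGroup_ne_bot [Finite G] {p : ℕ} [Fact p.Prime] {P : Subgroup G}
    (hP : IsPGroup p P) (hP1 : P ≠ ⊥) : p ∣ Nat.card P := by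
  obtain ⟨j, hj⟩ := hP.exists_card_eq
  have hj0 : j ≠ 0 := by
    rintro rfl
    rw [pow_zero] at hj
    exact hP1 (Subgroup.card_eq_one.mp hj)
  rw [hj]
  exact dvd_pow_self p hj0

theorem odd_card_subgroup [Finite G] (hodd : Odd (Nat.card G)) (H : Subgroup G) :
    Odd (Nat.card H) :=
  Odd.of_dvd_nat hodd (Subgroup.card_subgroup_dvd_card H)

/-- In a solvable subgroup `H` of odd order with `p`-rank at most `2`, the Sylow `p`-subgroups lie in
`O_{p',p}(H)`. -/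
theorem sylow_le_relR_of_pRankLE [Finite G] {p : ℕ} [Fact p.Prime] (H : Subgroup G)
    (hHs : Group.IsSolvable H) (hodd : Odd (Nat.card H)) (hpH : p ∣ Nat.card H)
    (hr : PRankLE p 2 H) (S : Sylow p H) : (S : Subgroup H).map H.subtype ≤ relR p H := by
  have h1 := (Cfsg.Agent.S1450.result hodd p hpH hr).2.2.2.2.2
  have h2 : (S : Subgroup H) ≤ pPrimePCore p ↥H := le_of_normal_of_index_coprime _ h1 S.isPGroup'
  exact Subgroup.map_mono h2

end Cfsg.Agent.Lib.Helper54
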