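import Cfsg.Agent.Lib.Helper54.UqTrans
import Cfsg.Agent.Lib.Helper54.UqSylow
import Cfsg.Agent.Lib.Helper45.NormalEpp
import Cfsg.Agent.S1452
import Cfsg.Agent.S1457

/-!
# Bender–Glauberman Lemma 9.1, in a form valid for every nontrivial `p`-subgroup `B`

If `M` is a maximal subgroup of the minimal simple group `G` of odd order, `B ≤ M` a nontrivial
`p`-subgroup, and every `B`-invariant `p'`-subgroup of `G` lies in `M`, then `M` is the only maximal
subgroup containing `B`.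
-/

set_option autoImplicit false

namespace Cfsg.Agent.Lib.Helper54

open scoped Pointwise
open Cfsg Cfsg.Agent.Lib.Helper97

variable {G : Type*} [Group G]

/-- Existence of `A ∈ SCN_3(P)` for a `p`-group `P` of rank at least `3`, `p` odd. -/
theorem exists_scn_three [Finite G] {p : ℕ} [Fact p.Prime] (hp2 : p ≠ 2) (P : Subgroup G)
    (hP : IsPGroup p P) (h3 : ¬ PRankLE p 2 ↥P) :
    ∃ A : Subgroup G, IsSCN P A ∧ ¬ PRankLE p 2 ↥A := by
  have h3' := h3
  unfold PRankLE at h3'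
  push Not at h3'
  obtain ⟨E₃, hc, hexp, hcard⟩ := h3'
  obtain ⟨U, hUn, hUe, hUc⟩ :=
    Cfsg.Agent.Lib.Helper45.exists_normal_elementaryAbelian_sq hP E₃ hc hexp hcard
  obtain ⟨A₁, -, hAn, hAC, hA3⟩ := Cfsg.Agent.S1452.result p hp2 hP h3 U hUe hUc
  refine ⟨A₁.map P.subtype, ⟨Subgroup.map_subtype_le _, le_normalizer_map_subtype P A₁, ?_⟩,
    fun h => hA3 ((pRankLE_map_subtype_iff P A₁).mp h)⟩
  ext x
  constructor
  · rintro ⟨hxP, hxC⟩
    have h1 : (⟨x, hxP⟩ : P) ∈ Subgroup.centralizer (A₁ : Set P) := by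
      rw [Subgroup.mem_centralizer_iff]
      intro a ha
      apply Subtype.ext
      exact Subgroup.mem_centralizer_iff.mp hxC (a : G) ⟨a, ha, rfl⟩
    rw [hAC] at h1
    exact ⟨⟨x, hxP⟩, h1, rfl⟩
  · rintro ⟨a, ha, rfl⟩
    refine ⟨a.2, ?_⟩
    show P.subtype a ∈ Subgroup.centralizer ((A₁.map P.subtype : Subgroup G) : Set G)
    rw [Subgroup.mem_centralizer_iff]
    rintro _ ⟨b, hb, rfl⟩
    have h1 : a ∈ Subgroup.centralizer (A₁ : Set P) := by rw [hAC]; exact ha
    have h2 := Subgroup.mem_centralizer_iff.mp h1 b hb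
    exact congrArg Subtype.val h2

/-- An abelian subgroup of a Sylow `p`-subgroup of `H` normalized by it lies in `O_{p',p}(H)`. -/
theorem le_relR_of_normal_abelian [Finite G] {p : ℕ} [Fact p.Prime] (H : Subgroup G)
    (hHs : Group.IsSolvable H) (hodd : Odd (Nat.card H)) (S : Sylow p H) (A : Subgroup G)
    (hAS : A ≤ (S : Subgroup H).map H.subtype) (hAc : ∀ x ∈ A, ∀ y ∈ A, x * y = y * x)
    (hSA : (S : Subgroup H).map H.subtype ≤ Subgroup.normalizer (A : Set G)) :
    A ≤ relR p H := by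
  have hAH : A ≤ H := hAS.trans (Subgroup.map_subtype_le _)
  have h1 : A.subgroupOf H ≤ (S : Subgroup H) := by
    intro a ha
    rw [Subgroup.mem_subgroupOf] at ha
    obtain ⟨s, hs, hsa⟩ := hAS ha
    have : s = a := Subtype.ext hsa
    exact this ▸ hs
  have h2 : IsMulCommutative ↥(A.subgroupOf H) := by
    refine ⟨⟨?_⟩⟩
    rintro ⟨x, hx⟩ ⟨y, hy⟩
    apply Subtype.ext
    apply Subtype.ext
    rw [Subgroup.mem_subgroupOf] at hx hy
    exact hAc _ hx _ hy
  have h3 : (S : Subgroup H) ≤ Subgroup.normalizer ((A.subgroupOf H : Subgroup H) : Set H) := by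
    intro s hs
    have h4 : (s : G) ∈ Subgroup.normalizer (A : Set G) := hSA ⟨s, hs, rfl⟩
    rw [Subgroup.mem_normalizer_iff]
    intro y
    rw [Subgroup.mem_subgroupOf, Subgroup.mem_subgroupOf]
    have := (Subgroup.mem_normalizer_iff.mp h4) (y : G)
    simpa using this
  have h5 := Cfsg.Agent.S1457.result hodd p S (A.subgroupOf H) h1 h2 h3
  intro a ha
  have h6 : (⟨a, hAH ha⟩ : H) ∈ A.subgroupOf H := by
    rw [Subgroup.mem_subgroupOf]; exact ha
  exact (coe_mem_relR_iff p H ⟨a, hAH ha⟩).mpr (h5 h6)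

theorem ne_two_of_dvd_of_odd {p n : ℕ} (hodd : Odd n) (hp : p ∣ n) : p ≠ 2 := by
  rintro rfl
  exact (Nat.not_even_iff_odd.mpr hodd) (even_iff_two_dvd.mpr hp)

/-- Step 3 of Lemma 9.1: a maximal subgroup `H` containing a Sylow `p`-subgroup `P` of `M`, where
`B ≤ P` and all `B`-invariant `p'`-subgroups lie in `M`, is contained in `M`. -/
theorem le_of_sylow_le [Finite G] (hG : IsMinSimpleOddOrder G) (M : Subgroup G) (hM : IsCoatom M)
    (p : ℕ) [Fact p.Prime] (B : Subgroup G) (hB1 : B ≠ ⊥)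
    (hinv : ∀ Y : Subgroup G, (Nat.card Y).Coprime p → B ≤ Subgroup.normalizer (Y : Set G) → Y ≤ M)
    (P₀ : Sylow p M) (hBP : B ≤ (P₀ : Subgroup M).map M.subtype)
    (H : Subgroup G) (hH : IsCoatom H) (hPH : (P₀ : Subgroup M).map M.subtype ≤ H) : H ≤ M := by
  have hs : IsSimpleGroup G := hG.2.1
  have hsolv := hG.2.2.2
  have hodd := hG.1
  have hPp : IsPGroup p ((P₀ : Subgroup M).map M.subtype) := P₀.isPGroup'.map _
  have hPM : (P₀ : Subgroup M).map M.subtype ≤ M := Subgroup.map_subtype_le _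
  have hP1 : (P₀ : Subgroup M).map M.subtype ≠ ⊥ := ne_bot_of_le_ne_bot hB1 hBP
  have hpP := dvd_card_of_isPGroup_ne_bot hPp hP1
  have hp2 : p ≠ 2 := ne_two_of_dvd_of_odd hodd (hpP.trans (Subgroup.card_subgroup_dvd_card _))
  have hMs : Group.IsSolvable M := hsolv M hM.1
  have hHs : Group.IsSolvable H := hsolv H hH.1
  have hMo := odd_card_subgroup hodd M
  have hHo := odd_card_subgroup hodd H
  have Fact2 : ∀ Y : Subgroup G, (Nat.card Y).Coprime p →
      (P₀ : Subgroup M).map M.subtype ≤ Subgroup.normalizer (Y : Set G) → Y ≤ relK p M := by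
    intro Y hY hPY
    have hYM := hinv Y hY (hBP.trans hPY)
    exact le_relK_of_sylow_invariant hp2 M hMs P₀ hYM hY hPY
  have hDM : relK p M ≤ M := relK_le p M
  have hDcop : (Nat.card (relK p M)).Coprime p := card_relK_coprime p M
  have hZM : relK p M = ⊥ →
      Subgroup.normalizer (zL ((P₀ : Subgroup M).map M.subtype) : Set G) = M := by
    intro hD
    have h1 := le_normalizer_zL_of_relK_eq_bot hp2 M hMs hMo P₀ hD
    exact normalizer_eq_of_coatom hM ((zL_le _).trans hPM) (zL_ne_bot _ hPp hP1) h1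
  have hNP : Subgroup.normalizer (((P₀ : Subgroup M).map M.subtype : Subgroup G) : Set G) ≤ M := by
    by_cases hD : relK p M = ⊥
    · exact (normalizer_le_normalizer_zL _).trans (hZM hD).le
    · have h2 := normalizer_eq_of_coatom hM hDM hD (le_normalizer_relK p M)
      intro x hx
      have h3 := mem_normalizer_iff_conj_smul.mp hx
      have h4 : MulAut.conj x • (P₀ : Subgroup M).map M.subtype ≤
          Subgroup.normalizer ((MulAut.conj x • relK p M : Subgroup G) : Set G) :=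
        conj_smul_le_normalizer (hPM.trans (le_normalizer_relK p M))
      rw [h3] at h4
      have h5 : MulAut.conj x • relK p M ≤ relK p M :=
        Fact2 _ (by rw [card_conj_smul]; exact hDcop) h4
      have h6 : MulAut.conj x • relK p M = relK p M :=
        Subgroup.eq_of_le_of_card_ge h5 (by rw [card_conj_smul])
      rw [← h2]
      exact mem_normalizer_iff_conj_smul.mpr h6
  have hmax : ∀ Q : Subgroup G, IsPGroup p Q → (P₀ : Subgroup M).map M.subtype ≤ Q →
      Q = (P₀ : Subgroup M).map M.subtype :=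
    fun Q hQ hPQ => eq_of_isPGroup_ge_of_normalizer_le M P₀ hNP hQ hPQ
  obtain ⟨S_H, hS_H⟩ := exists_sylow_map_eq _ hPp hmax H hPH
  have hKD : relK p H ≤ relK p M :=
    Fact2 _ (card_relK_coprime p H) (hPH.trans (le_normalizer_relK p H))
  by_cases hD : relK p M = ⊥
  · have hKH : relK p H = ⊥ := le_bot_iff.mp (hD ▸ hKD)
    have h1 := le_normalizer_zL_of_relK_eq_bot hp2 H hHs hHo S_H hKH
    rw [hS_H] at h1
    exact h1.trans (hZM hD).le
  · have hND := normalizer_eq_of_coatom hM hDM hD (le_normalizer_relK p M)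
    have hKM : relK p H ≤ M := hKD.trans hDM
    have hSM : (S_H : Subgroup H).map H.subtype ≤ M := hS_H ▸ hPM
    have hpH : p ∣ Nat.card H := hpP.trans (Subgroup.card_dvd_of_le hPH)
    by_cases hr : PRankLE p 2 ↥H
    · have hPR : (P₀ : Subgroup M).map M.subtype ≤ relR p H :=
        hS_H ▸ sylow_le_relR_of_pRankLE H hHs hHo hpH hr S_H
      exact le_of_control M H S_H hSM hKM _ hPp hPR
        (fun y hy => mem_of_conj_sylow_le M P₀ hNP hy)
    · have hP3 : ¬ PRankLE p 2 ↥((P₀ : Subgroup M).map M.subtype) :=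
        fun h => hr (pRankLE_of_sylow_rel H S_H (hS_H ▸ h))
      obtain ⟨A, hscn, hA3⟩ := exists_scn_three hp2 _ hPp hP3
      obtain ⟨PG, hPG⟩ := exists_sylow_eq _ hPp hmax
      have hscn' : IsSCN (PG : Subgroup G) A := hPG ▸ hscn
      have hinvA := invariant_le_of_scn hG p PG A hscn' hA3 _ hscn.1 (hPG ▸ le_rfl) (relK p M) Fact2
      have hctrl : ∀ y : G, MulAut.conj y • A ≤ M → y ∈ M := fun y hy =>
        mem_of_conj_le_of_invariant M (relK p M) A (le_normalizer_relK p M) hND.le hDcop hinvA hy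
      have hAc : ∀ x ∈ A, ∀ y ∈ A, x * y = y * x := by
        intro x hx y hy
        have h1 : y ∈ (P₀ : Subgroup M).map M.subtype ⊓ Subgroup.centralizer (A : Set G) := by
          rw [hscn.2.2]; exact hy
        exact (Subgroup.mem_centralizer_iff.mp h1.2 x hx)
      have hAR : A ≤ relR p H :=
        le_relR_of_normal_abelian H hHs hHo S_H A (hS_H ▸ hscn.1) hAc (hS_H ▸ hscn.2.1)
      exact le_of_control M H S_H hSM hKM A (hPp.to_le hscn.1) hAR hctrl

/-- Lemma A: under a maximal choice of `H`, normalizers of characteristic subgroups of a Sylow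
subgroup `R` of `H ∩ M` that is not Sylow in `M` lie in `M`. -/
theorem normalizer_le_of_maximal_choice [Finite G] (hs : IsSimpleGroup G) (M : Subgroup G)
    (hM : IsCoatom M) (p : ℕ) [Fact p.Prime] (B H : Subgroup G)
    (hHmax : ∀ L : Subgroup G, IsCoatom L → B ≤ L → L ≠ M →
      (Nat.card (L ⊓ M : Subgroup G)).factorization p ≤
        (Nat.card (H ⊓ M : Subgroup G)).factorization p)
    (R P : Subgroup G) (hBR : B ≤ R)
    (hRcard : Nat.card R = p ^ (Nat.card (H ⊓ M : Subgroup G)).factorization p)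
    (hPp : IsPGroup p P) (hPM : P ≤ M) (hRP : R ≤ P) (hne : R ≠ P)
    (C : Subgroup G) (hC1 : C ≠ ⊥) (hCM : C ≤ M)
    (hNC : Subgroup.normalizer (R : Set G) ≤ Subgroup.normalizer (C : Set G)) :
    Subgroup.normalizer (C : Set G) ≤ M := by
  have hp : p.Prime := Fact.out
  have hCtop : C ≠ ⊤ := fun h => hM.1 (eq_top_iff.mpr (h ▸ hCM))
  obtain ⟨L, hL, hNL⟩ := exists_isCoatom_ge (normalizer_ne_top_of_simple hs hC1 hCtop)
  by_cases hLM : L = M
  · exact hLM ▸ hNL
  · exfalso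
    apply hne
    have hBL : B ≤ L := hBR.trans (Subgroup.le_normalizer.trans (hNC.trans hNL))
    have hμ := hHmax L hL hBL hLM
    have hQ : P ⊓ Subgroup.normalizer (R : Set G) ≤ L ⊓ M :=
      le_inf (inf_le_right.trans (hNC.trans hNL)) (inf_le_left.trans hPM)
    have hQp : IsPGroup p ↥(P ⊓ Subgroup.normalizer (R : Set G)) := hPp.to_le inf_le_left
    have h1 := card_le_of_isPGroup_le hQ hQp
    have h2 : Nat.card ↥(P ⊓ Subgroup.normalizer (R : Set G)) ≤ Nat.card R :=
      h1.trans (hRcard ▸ Nat.pow_le_pow_right hp.pos hμ)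
    have h3 : R ≤ P ⊓ Subgroup.normalizer (R : Set G) := le_inf hRP Subgroup.le_normalizer
    have h4 : R = P ⊓ Subgroup.normalizer (R : Set G) := Subgroup.eq_of_le_of_card_ge h3 h2
    exact eq_of_inf_normalizer_le P R hPp hRP h4.ge

/-- Step 2 of Lemma 9.1. -/
theorem le_of_sylow_inf_ne [Finite G] (hG : IsMinSimpleOddOrder G) (M : Subgroup G)
    (hM : IsCoatom M) (p : ℕ) [Fact p.Prime] (hp2 : p ≠ 2) (B : Subgroup G) (hB1 : B ≠ ⊥)
    (H : Subgroup G) (hH : IsCoatom H) (hKM : relK p H ≤ M)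
    (hHmax : ∀ L : Subgroup G, IsCoatom L → B ≤ L → L ≠ M →
      (Nat.card (L ⊓ M : Subgroup G)).factorization p ≤
        (Nat.card (H ⊓ M : Subgroup G)).factorization p)
    (R₀ : Sylow p ↥(H ⊓ M)) (hBR : B ≤ (R₀ : Subgroup ↥(H ⊓ M)).map (H ⊓ M).subtype)
    (P : Subgroup G) (hPp : IsPGroup p P) (hPM : P ≤ M)
    (hRP : (R₀ : Subgroup ↥(H ⊓ M)).map (H ⊓ M).subtype ≤ P)
    (hne : (R₀ : Subgroup ↥(H ⊓ M)).map (H ⊓ M).subtype ≠ P) : H ≤ M := by
  have hs : IsSimpleGroup G := hG.2.1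
  have hHs : Group.IsSolvable H := hG.2.2.2 H hH.1
  have hHo := odd_card_subgroup hG.1 H
  have hRp : IsPGroup p ((R₀ : Subgroup ↥(H ⊓ M)).map (H ⊓ M).subtype) := R₀.isPGroup'.map _
  have hRI : (R₀ : Subgroup ↥(H ⊓ M)).map (H ⊓ M).subtype ≤ H ⊓ M := Subgroup.map_subtype_le _
  have hR1 : (R₀ : Subgroup ↥(H ⊓ M)).map (H ⊓ M).subtype ≠ ⊥ := ne_bot_of_le_ne_bot hB1 hBR
  have hRcard := card_map_sylow (H ⊓ M) R₀
  have hNR := normalizer_le_of_maximal_choice hs M hM p B H hHmax _ P hBR hRcard hPp hPM hRP hne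
    _ hR1 (hRI.trans inf_le_right) le_rfl
  have hNZ := normalizer_le_of_maximal_choice hs M hM p B H hHmax _ P hBR hRcard hPp hPM hRP hne
    (zL ((R₀ : Subgroup ↥(H ⊓ M)).map (H ⊓ M).subtype)) (zL_ne_bot _ hRp hR1)
    ((zL_le _).trans (hRI.trans inf_le_right)) (normalizer_le_normalizer_zL _)
  obtain ⟨S₁, hS₁⟩ := exists_sylow_map_ge (hRI.trans inf_le_left) hRp
  have hS₁p : IsPGroup p ((S₁ : Subgroup H).map H.subtype) := S₁.isPGroup'.map _
  have hS₁H : (S₁ : Subgroup H).map H.subtype ≤ H := Subgroup.map_subtype_le _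
  have h1 : (S₁ : Subgroup H).map H.subtype ⊓
      Subgroup.normalizer (((R₀ : Subgroup ↥(H ⊓ M)).map (H ⊓ M).subtype : Subgroup G) : Set G) ≤
      (R₀ : Subgroup ↥(H ⊓ M)).map (H ⊓ M).subtype := by
    apply le_sylow_map_of_le R₀ (le_inf (inf_le_left.trans hS₁H) (inf_le_right.trans hNR))
      (hS₁p.to_le inf_le_left)
    exact le_inf hS₁ Subgroup.le_normalizer
  have h2 := eq_of_inf_normalizer_le _ _ hS₁p hS₁ h1
  intro h hh
  obtain ⟨k, hk, n, -, hn, rfl⟩ := exists_mul_relK_normalizer_zL hp2 H hHs hHo S₁ hh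
  rw [← h2] at hn
  exact M.mul_mem (hKM hk) (hNZ hn)

/-- **Bender–Glauberman Lemma 9.1** (general form). -/
theorem uniqueness_of_invariant_le [Finite G] (hG : IsMinSimpleOddOrder G) (M : Subgroup G)
    (hM : IsCoatom M) (p : ℕ) [Fact p.Prime] (B : Subgroup G) (hBM : B ≤ M) (hBp : IsPGroup p B)
    (hB1 : B ≠ ⊥)
    (hinv : ∀ Y : Subgroup G, (Nat.card Y).Coprime p → B ≤ Subgroup.normalizer (Y : Set G) → Y ≤ M) :
    ∀ L : Subgroup G, IsCoatom L → B ≤ L → L = M := by
  by_contra hcon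
  push Not at hcon
  have hp2 : p ≠ 2 := ne_two_of_dvd_of_odd hG.1
    ((dvd_card_of_isPGroup_ne_bot hBp hB1).trans (Subgroup.card_subgroup_dvd_card _))
  have hne : ({L : Subgroup G | IsCoatom L ∧ B ≤ L ∧ L ≠ M}).Nonempty := hcon
  obtain ⟨H, ⟨hH, hBH, hHM⟩, hHmax'⟩ := Set.exists_max_image _
    (fun X : Subgroup G => (Nat.card (X ⊓ M : Subgroup G)).factorization p) (Set.toFinite _) hne
  have hHmax : ∀ L : Subgroup G, IsCoatom L → B ≤ L → L ≠ M →
      (Nat.card (L ⊓ M : Subgroup G)).factorization p ≤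
        (Nat.card (H ⊓ M : Subgroup G)).factorization p :=
    fun L hL hBL hLM => hHmax' L ⟨hL, hBL, hLM⟩
  apply hHM
  have hle : H ≤ M := by
    have hKM : relK p H ≤ M :=
      hinv _ (card_relK_coprime p H) (hBH.trans (le_normalizer_relK p H))
    obtain ⟨R₀, hBR⟩ := exists_sylow_map_ge (le_inf hBH hBM) hBp
    have hRM : (R₀ : Subgroup ↥(H ⊓ M)).map (H ⊓ M).subtype ≤ M :=
      (Subgroup.map_subtype_le _).trans inf_le_right
    obtain ⟨P₀, hRP⟩ := exists_sylow_map_ge hRM (R₀.isPGroup'.map _)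
    by_cases hRP' : (R₀ : Subgroup ↥(H ⊓ M)).map (H ⊓ M).subtype = (P₀ : Subgroup M).map M.subtype
    · apply le_of_sylow_le hG M hM p B hB1 hinv P₀ (hRP' ▸ hBR) H hH
      rw [← hRP']
      exact (Subgroup.map_subtype_le _).trans inf_le_left
    · exact le_of_sylow_inf_ne hG M hM p hp2 B hB1 H hH hKM hHmax R₀ hBR _ (P₀.isPGroup'.map _)
        (Subgroup.map_subtype_le _) hRP hRP'
  rcases eq_or_lt_of_le hle with h | h
  · exact h
  · exact absurd (hH.2 M h) hM.1

end Cfsg.Agent.Lib.Helper54
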