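import Mathlib
import Cfsg.Prelude.Def_OddOrderLocal

/-!
# Bender–Glauberman §14: statement-Props used as hypotheses of conditional modules  (helper54)

`Stmt1430 G`, `Stmt1431 G` are the frozen statements of S1430 / S1431 (B&G Theorem 14.2 (a)–(c) and
(d)–(f)) for a fixed group `G` (the hypothesis `IsMinSimpleOddOrder G` is dropped: it is discharged by
the caller).  `KappaHallCyclic G` is the second half of S1351, `SigmaDisjoint G` is B&G Theorem 13.9
(second half of S1378), `KstarCentUniq G` is the uniqueness half of B&G Lemma 13.6 as used in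
Theorem 14.2 (first half of S1367).

A final file `SNNNN.lean` discharges them by
`fun M hM K hK hK1 => Cfsg.Agent.S1430.result hG M hM K hK hK1` and the like.
-/

set_option autoImplicit false

namespace Cfsg.Agent.Lib.Helper54

open Cfsg

universe u

variable (G : Type u) [Group G]

/-- The frozen statement of S1430 (B&G Theorem 14.2 (a), (b), (c)) for the group `G`. -/
def Stmt1430 : Prop :=
  ∀ (M : Subgroup G), IsCoatom M → ∀ (K : Subgroup G), IsPiHallOf (kappa M) K M → K ≠ ⊥ →
    (∀ k ∈ K, k ≠ 1 → sigmaCore M ⊓ Subgroup.centralizer ({k} : Set G) =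
        (sigmaCore M ⊓ Subgroup.centralizer (K : Set G))) ∧
      (∃ U : Subgroup G, IsMulCommutative U ∧
        IsPiHallOf {q | q.Prime ∧ q ∉ kappa M ∧ q ∉ sigma M} U M ∧
        K ≤ Subgroup.normalizer (U : Set G) ∧
        ∀ k ∈ K, k ≠ 1 → U ⊓ Subgroup.centralizer ({k} : Set G) = ⊥) ∧
      ∀ X : Subgroup G, X ≤ K → (Nat.card X).Prime →
        M ⊓ Subgroup.normalizer (X : Set G) =
            K ⊔ (sigmaCore M ⊓ Subgroup.centralizer (K : Set G)) ∧
          M ⊓ Subgroup.normalizer (K : Set G) =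
            K ⊔ (sigmaCore M ⊓ Subgroup.centralizer (K : Set G)) ∧
          ∀ Mstar : Subgroup G, IsCoatom Mstar → Subgroup.normalizer (X : Set G) ≤ Mstar →
            X ≤ sigmaCore Mstar

/-- The frozen statement of S1431 (B&G Theorem 14.2 (d), (e), (f)) for the group `G`. -/
def Stmt1431 : Prop :=
  ∀ (M : Subgroup G), IsCoatom M → ∀ (K : Subgroup G), IsPiHallOf (kappa M) K M → K ≠ ⊥ →
    (∀ g : G, g ∉ M → (sigmaCore M ⊓ Subgroup.centralizer (K : Set G)) ⊓
        M.map (MulAut.conj g).toMonoidHom = ⊥) ∧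
      (∀ g ∈ M, g ∉ K ⊔ (sigmaCore M ⊓ Subgroup.centralizer (K : Set G)) →
        K ⊓ K.map (MulAut.conj g).toMonoidHom = ⊥) ∧
      (∀ (p : ℕ), p.Prime → p ∣ Nat.card ↥(sigmaCore M ⊓ Subgroup.centralizer (K : Set G)) →
        ∀ S : Sylow p ↥(sigmaCore M),
          InUniqueMaximal ((S : Subgroup ↥(sigmaCore M)).map (sigmaCore M).subtype) ∧
          (S : Subgroup ↥(sigmaCore M)).map (sigmaCore M).subtype ≤ M ∧
          ¬ (S : Subgroup ↥(sigmaCore M)).map (sigmaCore M).subtype ≤
            (sigmaCore M ⊓ Subgroup.centralizer (K : Set G))) ∧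
      ∀ Y : Subgroup G, (∀ p : ℕ, p.Prime → p ∣ Nat.card Y → p ∈ sigma M) →
        Y ⊓ (sigmaCore M ⊓ Subgroup.centralizer (K : Set G)) ≠ ⊥ → Y ≤ sigmaCore M

/-- Every Hall `κ(M)`-subgroup of a maximal subgroup `M` is cyclic (second half of S1351; a
by-product of the proof of B&G Theorem 14.2). -/
def KappaHallCyclic : Prop :=
  ∀ (M : Subgroup G), IsCoatom M → ∀ (K : Subgroup G), IsPiHallOf (kappa M) K M → IsCyclic K

/-- B&G Theorem 13.9: `σ(M) ∩ σ(L) = ∅` for non-conjugate maximal subgroups (second half of S1378). -/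
def SigmaDisjoint : Prop :=
  ∀ (M L : Subgroup G), IsCoatom M → IsCoatom L →
    (∀ g : G, L.map (MulAut.conj g).toMonoidHom ≠ M) → ∀ p ∈ sigma M, p ∉ sigma L

/-- The uniqueness half of B&G Lemma 13.6 in the form used in Theorem 14.2 (first half of S1367):
`M` is the only maximal subgroup containing `C_G(X)`, for `X ≤ K* = C_{M_σ}(K)` of prime order. -/
def KstarCentUniq : Prop :=
  ∀ (M : Subgroup G), IsCoatom M → ∀ (K : Subgroup G), IsPiHallOf (kappa M) K M → K ≠ ⊥ →
    ∀ X : Subgroup G, X ≤ sigmaCore M ⊓ Subgroup.centralizer (K : Set G) → (Nat.card X).Prime →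
      ∀ L : Subgroup G, IsCoatom L → Subgroup.centralizer (X : Set G) ≤ L → L = M

end Cfsg.Agent.Lib.Helper54
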