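import Cfsg.Agent.Lib.Helper54.Bender
import Cfsg.Agent.Lib.Helper21.BenderMax

/-!
# Uniqueness of the maximal subgroup over a subgroup of `F(H)` containing `Z(F(H))`

Elementary proof: `Ω₁(Z(F)_p)`, the `P × Q` lemma, and a symmetric argument on the `O_p`'s of two
maximal subgroups `H`, `L` with `F(H) ≤ L` and `F(L) ≤ H`.
-/

set_option autoImplicit false

namespace Cfsg.Agent.Lib.Helper54

open Cfsg

section BGU

open scoped Pointwise

variable {G : Type*} [Group G]

/-- `O_p(X)` for a subgroup `X` of `G`, as a subgroup of `G`. -/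
def pcOf (p : ℕ) (X : Subgroup G) : Subgroup G := (pCore p ↥X).map X.subtype

theorem pcOf_le (p : ℕ) (X : Subgroup G) : pcOf p X ≤ X := Subgroup.map_subtype_le _

theorem pcOf_le_fittingOf [Finite G] (p : ℕ) [Fact p.Prime] (X : Subgroup G) : pcOf p X ≤ fittingOf X :=
  Subgroup.map_mono (Cfsg.Agent.Lib.Helper24.pCore_le_fittingSubgroup p)

theorem pcOf_isPGroup (p : ℕ) [Fact p.Prime] (X : Subgroup G) : IsPGroup p (pcOf p X) :=
  (Cfsg.Agent.Lib.Helper1.pCore_isPGroup p).map _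

theorem le_normalizer_pcOf (p : ℕ) (X : Subgroup G) :
    X ≤ Subgroup.normalizer (pcOf p X : Set G) := by
  have : (pCore p ↥X).Normal := inferInstance
  exact le_normalizer_map_subtype X _

/-- A `p`-subgroup of `F(X)` lies in `O_p(X)`. -/
theorem le_pcOf_of_isPGroup [Finite G] (p : ℕ) [Fact p.Prime] {X Q : Subgroup G}
    (hQ : IsPGroup p Q) (hQF : Q ≤ fittingOf X) : Q ≤ pcOf p X := by
  have hQX : Q ≤ X := hQF.trans (fittingOf_le X)
  have h1 : Q.subgroupOf X ≤ pCore p ↥X := by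
    apply Cfsg.Agent.Lib.Helper24.le_pCore_of_le_fittingSubgroup p _ (hQ.comap_subtype)
    intro y hy
    obtain ⟨f, hf, hfy⟩ := hQF (Subgroup.mem_subgroupOf.mp hy)
    have : f = y := Subtype.ext hfy
    rwa [← this]
  intro y hy
  exact ⟨⟨y, hQX hy⟩, h1 (Subgroup.mem_subgroupOf.mpr hy), rfl⟩

/-- A normal `p`-subgroup of `X` lies in `O_p(X)`. -/
theorem le_pcOf_of_normal (p : ℕ) {X Q : Subgroup G} (hQ : IsPGroup p Q) (hQX : Q ≤ X)
    (hn : X ≤ Subgroup.normalizer (Q : Set G)) : Q ≤ pcOf p X := by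
  have hN : (Q.subgroupOf X).Normal := by
    refine ⟨fun a ha g => ?_⟩
    rw [Subgroup.mem_subgroupOf] at ha ⊢
    exact (Subgroup.mem_normalizer_iff.mp (hn g.2) _).mp ha
  have h1 : Q.subgroupOf X ≤ pCore p ↥X :=
    Cfsg.Agent.Lib.Helper1.le_pCore hN hQ.comap_subtype
  intro y hy
  exact ⟨⟨y, hQX hy⟩, h1 (Subgroup.mem_subgroupOf.mpr hy), rfl⟩

/-- `F(X)` lies in every subgroup containing all the `O_p(X)`. -/
theorem fittingOf_le_of_forall_pcOf_le [Finite G] {X Y : Subgroup G}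
    (h : ∀ p : ℕ, p.Prime → pcOf p X ≤ Y) : fittingOf X ≤ Y := by
  unfold fittingOf
  rw [Cfsg.Agent.Lib.Helper1.fittingSubgroup_eq_iSup_pCore, Subgroup.map_iSup]
  exact iSup_le fun p => h p p.2

/-- `p ∣ #F(X)` iff `O_p(X) ≠ 1`. -/
theorem pcOf_ne_bot_of_dvd [Finite G] (p : ℕ) [Fact p.Prime] (X : Subgroup G)
    (hp : p ∣ Nat.card (fittingOf X)) : pcOf p X ≠ ⊥ := by
  intro h
  have h1 : zOmega X p ≤ pcOf p X :=
    le_pcOf_of_isPGroup p (zOmega_isPGroup X p) (zOmega_le_fittingOf X p)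
  rw [h, le_bot_iff] at h1
  exact zOmega_ne_bot X p hp h1

theorem dvd_card_fittingOf_of_pcOf_ne_bot [Finite G] (p : ℕ) [Fact p.Prime] (X : Subgroup G)
    (h : pcOf p X ≠ ⊥) : p ∣ Nat.card (fittingOf X) := by
  have hP := pcOf_isPGroup p X
  obtain ⟨k, hk⟩ := IsPGroup.iff_card.mp hP
  have hk0 : k ≠ 0 := by
    intro h0
    rw [h0, pow_zero] at hk
    exact h ((Subgroup.card_eq_one).mp hk)
  have h1 : p ∣ Nat.card (pcOf p X) := by rw [hk]; exact dvd_pow_self p hk0
  exact h1.trans (Subgroup.card_dvd_of_le (pcOf_le_fittingOf p X))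

/-- An element of a `p`-group and an `r`-group (`p ≠ r`) is trivial. -/
theorem eq_one_of_mem_pGroup_of_mem_pGroup {p r : ℕ} [Fact p.Prime] [Fact r.Prime] (hpr : p ≠ r)
    {P Q : Subgroup G} (hP : IsPGroup p P) (hQ : IsPGroup r Q) {x : G} (hxP : x ∈ P)
    (hxQ : x ∈ Q) : x = 1 := by
  have h := IsPGroup.disjoint_of_ne p r hpr P Q hP hQ
  rw [Subgroup.disjoint_def] at h
  exact h hxP hxQ

/-- The `P × Q` lemma in the form used here: `P` a `p`-group, `Q` an `r`-group (`r ≠ p`) commuting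
with `P`, both normalizing the `p`-group `U`, and `C_U(P)` normalizing `Q`. Then `Q` centralizes
`U`. -/
theorem pq_centralizes [Finite G] {p r : ℕ} [Fact p.Prime] [Fact r.Prime] (hpr : p ≠ r)
    {P Q U : Subgroup G} (hP : IsPGroup p P) (hQ : IsPGroup r Q) (hU : IsPGroup p U)
    (hPQ : P ≤ Subgroup.centralizer (Q : Set G))
    (hPU : P ≤ Subgroup.normalizer (U : Set G)) (hQU : Q ≤ Subgroup.normalizer (U : Set G))
    (hN : U ⊓ Subgroup.centralizer (P : Set G) ≤ Subgroup.normalizer (Q : Set G)) :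
    Q ≤ Subgroup.centralizer (U : Set G) := by
  have hQc : (Nat.card Q).Coprime p := by
    obtain ⟨k, hk⟩ := IsPGroup.iff_card.mp hQ
    rw [hk]
    exact Nat.Coprime.pow_left k ((Nat.coprime_primes Fact.out Fact.out).mpr hpr.symm)
  apply Cfsg.Agent.S0028.result p P Q U hP hQc hU hPQ hPU hQU
  rintro d ⟨hdU, hdP⟩
  rw [Subgroup.mem_centralizer_iff]
  intro z hz
  have hdN := hN ⟨hdU, hdP⟩
  -- `w = d z d⁻¹ z⁻¹` lies in `Q ∩ U`
  have hw1 : d * z * d⁻¹ * z⁻¹ ∈ Q :=
    Q.mul_mem ((Subgroup.mem_normalizer_iff.mp hdN z).mp hz) (Q.inv_mem hz)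
  have hw2 : d * z * d⁻¹ * z⁻¹ ∈ U := by
    have h1 : z * d⁻¹ * z⁻¹ ∈ U :=
      (Subgroup.mem_normalizer_iff.mp (hQU hz) d⁻¹).mp (U.inv_mem hdU)
    have e : d * z * d⁻¹ * z⁻¹ = d * (z * d⁻¹ * z⁻¹) := by group
    rw [e]
    exact U.mul_mem hdU h1
  have hw := eq_one_of_mem_pGroup_of_mem_pGroup hpr hU hQ hw2 hw1
  have e2 : z * d = (d * z * d⁻¹ * z⁻¹)⁻¹ * (d * z) := by group
  rw [e2, hw, inv_one, one_mul]

/-- `Ω₁(Z(F(H))_r)` centralizes `O_p(L)` when `L` contains `Ω₁(Z(F(H))_p)` and `Ω₁(Z(F(H))_r)`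
and `C_G(Ω₁(Z(F(H))_p)) ≤ H`. -/
theorem zOmega_le_centralizer_pcOf [Finite G] {p r : ℕ} [Fact p.Prime] [Fact r.Prime]
    (hpr : p ≠ r) (H L : Subgroup G) (hpL : zOmega H p ≤ L) (hrL : zOmega H r ≤ L)
    (hC : Subgroup.centralizer (zOmega H p : Set G) ≤ H) :
    zOmega H r ≤ Subgroup.centralizer (pcOf p L : Set G) := by
  apply pq_centralizes hpr (zOmega_isPGroup H p) (zOmega_isPGroup H r) (pcOf_isPGroup p L)
  · intro z hz
    rw [Subgroup.mem_centralizer_iff]
    intro w hw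
    exact zOmega_commute H r p hw hz
  · exact hpL.trans (le_normalizer_pcOf p L)
  · exact hrL.trans (le_normalizer_pcOf p L)
  · exact (inf_le_right.trans hC).trans (le_normalizer_zOmega H r)

theorem pcOf_le_of_zOmega [Finite G] {p r : ℕ} [Fact p.Prime] [Fact r.Prime]
    (hpr : p ≠ r) (H L : Subgroup G) (hpL : zOmega H p ≤ L) (hrL : zOmega H r ≤ L)
    (hCp : Subgroup.centralizer (zOmega H p : Set G) ≤ H)
    (hCr : Subgroup.centralizer (zOmega H r : Set G) ≤ H) :
    pcOf p L ≤ H := by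
  have h1 := zOmega_le_centralizer_pcOf hpr H L hpL hrL hCp
  have h2 : pcOf p L ≤ Subgroup.centralizer (zOmega H r : Set G) :=
    Subgroup.le_centralizer_iff.mp h1
  exact h2.trans hCr

/-! ### The complement `O_{p'}(F(X))` -/

/-- The join of the `O_s(X)`, `s ≠ p`, as a subgroup of `G`. -/
def pcComplOf (p : ℕ) (X : Subgroup G) : Subgroup G :=
  (Cfsg.Agent.Lib.Helper24.pCoreCompl p ↥X).map X.subtype

theorem pcComplOf_le_of_forall {p : ℕ} {X Y : Subgroup G}
    (h : ∀ s : ℕ, s.Prime → s ≠ p → pcOf s X ≤ Y) : pcComplOf p X ≤ Y := by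
  unfold pcComplOf Cfsg.Agent.Lib.Helper24.pCoreCompl
  rw [Subgroup.map_iSup]
  refine iSup_le fun q => ?_
  rw [Subgroup.map_iSup]
  exact iSup_le fun hq => h q q.2 hq

theorem exists_pow_eq_one_of_mem_pcComplOf [Finite G] (p : ℕ) [Fact p.Prime] (X : Subgroup G) :
    ∃ m : ℕ, m.Coprime p ∧ ∀ b ∈ pcComplOf p X, b ^ m = 1 := by
  refine ⟨Nat.card (Cfsg.Agent.Lib.Helper24.pCoreCompl p ↥X),
    Cfsg.Agent.Lib.Helper24.card_pCoreCompl_coprime p, ?_⟩
  rintro _ ⟨b, hb, rfl⟩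
  have h := congrArg Subtype.val
    (pow_card_eq_one' (G := Cfsg.Agent.Lib.Helper24.pCoreCompl p ↥X) (x := ⟨b, hb⟩))
  rw [Subgroup.coe_pow, Subgroup.coe_one] at h
  have h2 := congrArg (Subtype.val : ↥X → G) h
  simpa using h2

theorem exists_mul_of_mem_fittingOf [Finite G] (p : ℕ) (X : Subgroup G) {k : G}
    (hk : k ∈ fittingOf X) : ∃ a ∈ pcOf p X, ∃ b ∈ pcComplOf p X, k = a * b := by
  obtain ⟨k', hk', rfl⟩ := hk
  have h1 := Cfsg.Agent.Lib.Helper24.fittingSubgroup_le_sup p hk'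
  have h2 : k' ∈ ((pCore p ↥X ⊔ Cfsg.Agent.Lib.Helper24.pCoreCompl p ↥X : Subgroup ↥X) :
      Set ↥X) := h1
  rw [Subgroup.mul_normal] at h2
  obtain ⟨a, ha, b, hb, rfl⟩ := Set.mem_mul.mp h2
  exact ⟨_, ⟨a, ha, rfl⟩, _, ⟨b, hb, rfl⟩, by simp⟩

theorem pcOf_commute_self (p s : ℕ) [Fact p.Prime] [Fact s.Prime] (hps : p ≠ s)
    (X : Subgroup G) {a b : G} (ha : a ∈ pcOf p X) (hb : b ∈ pcOf s X) : a * b = b * a := by
  obtain ⟨a', ha', rfl⟩ := ha
  obtain ⟨b', hb', rfl⟩ := hb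
  have := Cfsg.Agent.Lib.Helper24.pCore_commute p s hps a' ha' b' hb'
  have h2 := congrArg (Subtype.val : ↥X → G) this
  simpa using h2

theorem pcOf_commute_pcComplOf (p : ℕ) [Fact p.Prime] (X : Subgroup G) {a b : G}
    (ha : a ∈ pcOf p X) (hb : b ∈ pcComplOf p X) : a * b = b * a := by
  have h : pcComplOf p X ≤ Subgroup.centralizer (pcOf p X : Set G) := by
    apply pcComplOf_le_of_forall
    intro s hs hsp y hy
    have : Fact s.Prime := ⟨hs⟩
    rw [Subgroup.mem_centralizer_iff]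
    intro a ha
    exact pcOf_commute_self p s (Ne.symm hsp) X ha hy
  exact Subgroup.mem_centralizer_iff.mp (h hb) a ha

/-- Conjugating by an element of the normalizer of `N` preserves `C_G(N)`. -/
theorem conj_mem_centralizer {N : Subgroup G} {u v : G}
    (hv : v ∈ Subgroup.normalizer (N : Set G)) (hu : u ∈ Subgroup.centralizer (N : Set G)) :
    v * u * v⁻¹ ∈ Subgroup.centralizer (N : Set G) := by
  rw [Subgroup.mem_centralizer_iff]
  intro n hn
  have h1 : v⁻¹ * n * v⁻¹⁻¹ ∈ N :=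
    (Subgroup.mem_normalizer_iff.mp ((Subgroup.normalizer _).inv_mem hv) n).mp hn
  have h2 := Subgroup.mem_centralizer_iff.mp hu _ h1
  have e1 : n * (v * u * v⁻¹) = v * ((v⁻¹ * n * v⁻¹⁻¹) * u) * v⁻¹ := by group
  have e2 : v * u * v⁻¹ * n = v * (u * (v⁻¹ * n * v⁻¹⁻¹)) * v⁻¹ := by group
  rw [e1, e2, h2]

/-! ### Two subgroups containing each other's Fitting subgroups -/

/-- If `F(H) ≤ L` and `F(L) ≤ H` then `O_p(H)` and `O_s(L)` commute for `p ≠ s`. -/
theorem pcOf_commute_of_le [Finite G] {H L : Subgroup G} (hFL : fittingOf H ≤ L)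
    (hKH : fittingOf L ≤ H) {p s : ℕ} [Fact p.Prime] [Fact s.Prime] (hps : p ≠ s) {f k : G}
    (hf : f ∈ pcOf p H) (hk : k ∈ pcOf s L) : f * k = k * f := by
  have hfL : f ∈ L := hFL (pcOf_le_fittingOf p H hf)
  have hkH : k ∈ H := hKH (pcOf_le_fittingOf s L hk)
  have hw1 : f * k * f⁻¹ * k⁻¹ ∈ pcOf s L :=
    (pcOf s L).mul_mem ((Subgroup.mem_normalizer_iff.mp (le_normalizer_pcOf s L hfL) k).mp hk)
      ((pcOf s L).inv_mem hk)
  have hw2 : f * k * f⁻¹ * k⁻¹ ∈ pcOf p H := by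
    have h1 : k * f⁻¹ * k⁻¹ ∈ pcOf p H :=
      (Subgroup.mem_normalizer_iff.mp (le_normalizer_pcOf p H hkH) f⁻¹).mp
        ((pcOf p H).inv_mem hf)
    have e : f * k * f⁻¹ * k⁻¹ = f * (k * f⁻¹ * k⁻¹) := by group
    rw [e]
    exact (pcOf p H).mul_mem hf h1
  have hw := eq_one_of_mem_pGroup_of_mem_pGroup hps (pcOf_isPGroup p H) (pcOf_isPGroup s L)
    hw2 hw1
  have e2 : f * k = (f * k * f⁻¹ * k⁻¹) * (k * f) := by group
  rw [e2, hw, one_mul]

/-- In a solvable subgroup `L`, an element of `L` centralizing every `O_s(L)` lies in `F(L)`. -/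
theorem mem_fittingOf_of_forall_mem_centralizer [Finite G] {L : Subgroup G}
    (hLs : Group.IsSolvable L) {c : G} (hcL : c ∈ L)
    (hc : ∀ s : ℕ, s.Prime → c ∈ Subgroup.centralizer (pcOf s L : Set G)) : c ∈ fittingOf L := by
  have h1 : fittingOf L ≤ Subgroup.centralizer (Subgroup.zpowers c : Set G) := by
    apply fittingOf_le_of_forall_pcOf_le
    intro s hs
    rw [Subgroup.le_centralizer_iff, Subgroup.zpowers_le]
    exact hc s hs
  have h2 : c ∈ Subgroup.centralizer (fittingOf L : Set G) := by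
    have := Subgroup.le_centralizer_iff.mp h1
    exact this (Subgroup.mem_zpowers c)
  have h3 := inf_le_fittingOf_of_solvable L L hLs (inf_le_left.trans Subgroup.le_normalizer)
  exact h3 ⟨⟨hcL, h2⟩, hcL⟩

/-- Key step: an `r`-element `x` of `L` centralizing `O_s(L)` for all `s ≠ r` centralizes `O_p(H)`
for `p ≠ r`. -/
theorem commute_of_rElement [Finite G] {H L : Subgroup G} (hFL : fittingOf H ≤ L)
    (hKH : fittingOf L ≤ H) (hLs : Group.IsSolvable L) {p r : ℕ} [Fact p.Prime] [Fact r.Prime]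
    (hpr : p ≠ r) {x : G} (hxL : x ∈ L) {j : ℕ} (hxr : x ^ r ^ j = 1)
    (hx : ∀ s : ℕ, s.Prime → s ≠ r → x ∈ Subgroup.centralizer (pcOf s L : Set G))
    {f : G} (hf : f ∈ pcOf p H) : x * f = f * x := by
  have hfL : f ∈ L := hFL (pcOf_le_fittingOf p H hf)
  -- `f` centralizes `O_s(L)` for `s ≠ p`
  have hfc : ∀ s : ℕ, s.Prime → s ≠ p → f ∈ Subgroup.centralizer (pcOf s L : Set G) := by
    intro s hs hsp
    have : Fact s.Prime := ⟨hs⟩
    rw [Subgroup.mem_centralizer_iff]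
    intro k hk
    exact (pcOf_commute_of_le hFL hKH (Ne.symm hsp) hf hk).symm
  -- the commutator `c`
  have hcL : x * f * x⁻¹ * f⁻¹ ∈ L :=
    L.mul_mem (L.mul_mem (L.mul_mem hxL hfL) (L.inv_mem hxL)) (L.inv_mem hfL)
  have hcc : ∀ s : ℕ, s.Prime → x * f * x⁻¹ * f⁻¹ ∈ Subgroup.centralizer (pcOf s L : Set G) := by
    intro s hs
    by_cases hsr : s = r
    · have hsp : s ≠ p := by rw [hsr]; exact Ne.symm hpr
      have h1 := conj_mem_centralizer (le_normalizer_pcOf s L hxL) (hfc s hs hsp)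
      exact Subgroup.mul_mem _ h1 (Subgroup.inv_mem _ (hfc s hs hsp))
    · have h1 := conj_mem_centralizer (le_normalizer_pcOf s L hfL)
        (Subgroup.inv_mem _ (hx s hs hsr))
      have e : x * f * x⁻¹ * f⁻¹ = x * (f * x⁻¹ * f⁻¹) := by group
      rw [e]
      exact Subgroup.mul_mem _ (hx s hs hsr) h1
  have hcF := mem_fittingOf_of_forall_mem_centralizer hLs hcL hcc
  obtain ⟨a, ha, b, hb, hcab⟩ := exists_mul_of_mem_fittingOf p L hcF
  have hab : a * b = b * a := pcOf_commute_pcComplOf p L ha hb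
  have hfb : f * b = b * f := by
    have h : pcComplOf p L ≤ Subgroup.centralizer (Subgroup.zpowers f : Set G) := by
      apply pcComplOf_le_of_forall
      intro s hs hsp
      rw [Subgroup.le_centralizer_iff, Subgroup.zpowers_le]
      exact hfc s hs hsp
    exact (Subgroup.mem_centralizer_iff.mp (h hb) f (Subgroup.mem_zpowers f))
  obtain ⟨m, hm, hbm⟩ := exists_pow_eq_one_of_mem_pcComplOf p L
  -- `a * f` is a `p`-element
  have hV : IsPGroup p (pcOf p H ⊔ pcOf p L : Subgroup G) :=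
    (pcOf_isPGroup p H).to_sup_of_normal_right' (pcOf_isPGroup p L)
      (((pcOf_le_fittingOf p H).trans hFL).trans (le_normalizer_pcOf p L))
  have hgV : a * f ∈ pcOf p H ⊔ pcOf p L :=
    Subgroup.mul_mem _ (Subgroup.mem_sup_right ha) (Subgroup.mem_sup_left hf)
  obtain ⟨i, hi⟩ := hV ⟨a * f, hgV⟩
  have hi' : (a * f) ^ p ^ i = 1 := by
    have := congrArg Subtype.val hi
    rwa [Subgroup.coe_pow, Subgroup.coe_one] at this
  obtain ⟨i', hfi⟩ := (pcOf_isPGroup p H) ⟨f, hf⟩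
  have hfi' : f ^ p ^ i' = 1 := by
    have := congrArg Subtype.val hfi
    rwa [Subgroup.coe_pow, Subgroup.coe_one] at this
  -- `x f x⁻¹ = b * (a * f)`
  have hconj : x * f * x⁻¹ = b * (a * f) := by
    have e : x * f * x⁻¹ = (x * f * x⁻¹ * f⁻¹) * f := by group
    rw [e, hcab, hab, mul_assoc]
  have hbg : Commute b (a * f) := by
    have h1 : Commute b a := hab.symm
    have h2 : Commute b f := hfb.symm
    exact h1.mul_right h2
  -- `b = 1`
  have hb1 : b = 1 := by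
    have h1 : (x * f * x⁻¹) ^ p ^ (i + i') = 1 := by
      rw [conj_pow, pow_add, pow_mul', hfi', one_pow, mul_one, mul_inv_cancel]
    rw [hconj, hbg.mul_pow] at h1
    have h2 : (a * f) ^ p ^ (i + i') = 1 := by
      rw [pow_add, pow_mul, hi', one_pow]
    rw [h2, mul_one] at h1
    have h3 := pow_gcd_eq_one.mpr ⟨h1, hbm b hb⟩
    have h4 : (p ^ (i + i')).gcd m = 1 := Nat.Coprime.pow_left _ hm.symm
    rwa [h4, pow_one] at h3
  rw [hb1, one_mul] at hconj
  -- `x` commutes with `a`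
  have hxa : x * a = a * x := by
    have := hx p Fact.out hpr
    exact (Subgroup.mem_centralizer_iff.mp this a ha).symm
  have hpow : ∀ n : ℕ, x ^ n * f * (x ^ n)⁻¹ = a ^ n * f := by
    intro n
    induction n with
    | zero => simp
    | succ n ih =>
      have hxan : x * a ^ n = a ^ n * x := (Commute.pow_right hxa n)
      have e : x ^ (n + 1) * f * (x ^ (n + 1))⁻¹ = x * (x ^ n * f * (x ^ n)⁻¹) * x⁻¹ := by
        rw [pow_succ']; group
      rw [e, ih]
      have e2 : x * (a ^ n * f) * x⁻¹ = (x * a ^ n) * (x⁻¹ * (x * f * x⁻¹)) := by group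
      rw [e2, hxan, hconj, pow_succ]
      group
  have ha1 : a = 1 := by
    have h1 := hpow (r ^ j)
    rw [hxr, one_mul, inv_one, mul_one] at h1
    have h2 : a ^ r ^ j = 1 := by
      have := mul_right_cancel (b := f) (a := 1) (c := a ^ r ^ j) (by rw [one_mul]; exact h1)
      exact this.symm
    obtain ⟨i'', hai⟩ := (pcOf_isPGroup p L) ⟨a, ha⟩
    have hai' : a ^ p ^ i'' = 1 := by
      have := congrArg Subtype.val hai
      rwa [Subgroup.coe_pow, Subgroup.coe_one] at this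
    have h3 := pow_gcd_eq_one.mpr ⟨h2, hai'⟩
    have h4 : (r ^ j).gcd (p ^ i'') = 1 :=
      Nat.Coprime.pow _ _ ((Nat.coprime_primes Fact.out Fact.out).mpr (Ne.symm hpr))
    rwa [h4, pow_one] at h3
  rw [ha1, one_mul] at hconj
  have e3 : x * f = (x * f * x⁻¹) * x := by group
  rw [e3, hconj]

/-- An `r`-subgroup `Q ⊴ A ⊴ L` lies in `O_r(L)`. -/
theorem le_pcOf_of_normal_normal [Finite G] (r : ℕ) [Fact r.Prime] {L A Q : Subgroup G}
    (hQ : IsPGroup r Q) (hQA : Q ≤ A) (hAL : A ≤ L)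
    (hAQ : A ≤ Subgroup.normalizer (Q : Set G)) (hLA : L ≤ Subgroup.normalizer (A : Set G)) :
    Q ≤ pcOf r L := by
  have hAn : (A.subgroupOf L).Normal := (Subgroup.normal_subgroupOf_iff_le_normalizer hAL).mpr hLA
  have hAs : (A.subgroupOf L).IsSubnormal := hAn.isSubnormal
  have hle : Q.subgroupOf L ≤ A.subgroupOf L := by
    intro y hy
    rw [Subgroup.mem_subgroupOf] at hy ⊢
    exact hQA hy
  have hQn : ((Q.subgroupOf L).subgroupOf (A.subgroupOf L)).Normal := by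
    rw [Subgroup.normal_subgroupOf_iff_le_normalizer hle]
    intro a ha
    rw [Subgroup.mem_normalizer_iff]
    intro y
    have h1 := Subgroup.mem_normalizer_iff.mp (hAQ (Subgroup.mem_subgroupOf.mp ha)) (y : G)
    simp only [Subgroup.mem_subgroupOf]
    simpa using h1
  have hQs : (Q.subgroupOf L).IsSubnormal :=
    Subgroup.IsSubnormal.step _ _ hle hAs hQn
  have h1 := Cfsg.Agent.Lib.Helper21.le_pCore_of_isSubnormal_of_isPGroup r hQs hQ.comap_subtype
  intro y hy
  exact ⟨⟨y, hAL (hQA hy)⟩, h1 (Subgroup.mem_subgroupOf.mpr hy), rfl⟩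

/-- The symmetric step: with `F(H) ≤ L`, `F(L) ≤ H`, `L` solvable, and a prime `p ≠ r` with
`C_G(O_p(H)) ≤ H`, we get `O_r(H) ≤ O_r(L)`. -/
theorem pcOf_le_pcOf [Finite G] {H L : Subgroup G} (hFL : fittingOf H ≤ L)
    (hKH : fittingOf L ≤ H) (hLs : Group.IsSolvable L) {p r : ℕ} [Fact p.Prime] [Fact r.Prime]
    (hpr : p ≠ r) (hCp : Subgroup.centralizer (pcOf p H : Set G) ≤ H) :
    pcOf r H ≤ pcOf r L := by
  -- the generating set
  let S : Set G := {x | x ∈ L ∧ (∃ j : ℕ, x ^ r ^ j = 1) ∧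
    ∀ s : ℕ, s.Prime → s ≠ r → x ∈ Subgroup.centralizer (pcOf s L : Set G)}
  have hAL : Subgroup.closure S ≤ L := by
    rw [Subgroup.closure_le]
    intro x hx
    exact hx.1
  have hLA : L ≤ Subgroup.normalizer (Subgroup.closure S : Set G) := by
    rw [Subgroup.le_normalizer_closure_iff]
    rintro l hl x ⟨hxL, ⟨j, hxj⟩, hxc⟩
    apply Subgroup.subset_closure
    refine ⟨L.mul_mem (L.mul_mem hl hxL) (L.inv_mem hl), ⟨j, ?_⟩, ?_⟩
    · rw [conj_pow, hxj, mul_one, mul_inv_cancel]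
    · intro s hs hsr
      exact conj_mem_centralizer (le_normalizer_pcOf s L hl) (hxc s hs hsr)
  have hAC : Subgroup.closure S ≤ Subgroup.centralizer (pcOf p H : Set G) := by
    rw [Subgroup.closure_le]
    rintro x ⟨hxL, ⟨j, hxj⟩, hxc⟩
    rw [SetLike.mem_coe, Subgroup.mem_centralizer_iff]
    intro f hf
    exact (commute_of_rElement hFL hKH hLs hpr hxL hxj hxc hf).symm
  have hAH : Subgroup.closure S ≤ H := hAC.trans hCp
  have hQA : pcOf r H ≤ Subgroup.closure S := by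
    intro f hf
    apply Subgroup.subset_closure
    refine ⟨hFL (pcOf_le_fittingOf r H hf), ?_, ?_⟩
    · obtain ⟨i, hi⟩ := (pcOf_isPGroup r H) ⟨f, hf⟩
      refine ⟨i, ?_⟩
      have := congrArg Subtype.val hi
      rwa [Subgroup.coe_pow, Subgroup.coe_one] at this
    · intro s hs hsr
      have : Fact s.Prime := ⟨hs⟩
      rw [Subgroup.mem_centralizer_iff]
      intro k hk
      exact (pcOf_commute_of_le hFL hKH (Ne.symm hsr) hf hk).symm
  exact le_pcOf_of_normal_normal r (pcOf_isPGroup r H) hQA hAL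
    (hAH.trans (le_normalizer_pcOf r H)) hLA

/-! ### The uniqueness theorem -/

/-- In a simple group a maximal subgroup contains the centralizer of each of its nontrivial normal
subgroups. -/
theorem centralizer_le_of_coatom [IsSimpleGroup G] {X W : Subgroup G} (hX : IsCoatom X)
    (hWX : W ≤ X) (hW : W ≠ ⊥) (hXW : X ≤ Subgroup.normalizer (W : Set G)) :
    Subgroup.centralizer (W : Set G) ≤ X :=
  Cfsg.Agent.Lib.Helper21.centralizer_le_of_isCoatom hX hWX hW hXW

theorem normalizer_eq_of_coatom [IsSimpleGroup G] {X W : Subgroup G} (hX : IsCoatom X)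
    (hWX : W ≤ X) (hW : W ≠ ⊥) (hXW : X ≤ Subgroup.normalizer (W : Set G)) :
    Subgroup.normalizer (W : Set G) = X := by
  rcases hX.le_iff.mp hXW with h | h
  · exfalso
    have hn : W.Normal := Subgroup.normalizer_eq_top_iff.mp h
    rcases hn.eq_bot_or_eq_top with h' | h'
    · exact hW h'
    · apply hX.1
      rw [eq_top_iff, ← h']
      exact hWX
  · exact h

/-- Uniqueness of the maximal subgroup over `M`, where `Z(F(H)) ≤ M ≤ F(H)`, `#F(H)` has at least
two prime divisors, and no nontrivial `M`-invariant `π(F(H))'`-subgroup exists. -/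
theorem fitting_overgroup_unique [Finite G] [IsSimpleGroup G]
    (hsolv : ∀ X : Subgroup G, X ≠ ⊤ → Group.IsSolvable X)
    (H : Subgroup G) (hH : IsCoatom H)
    (hF2 : 2 ≤ (Nat.card (fittingOf H)).primeFactors.card)
    (M : Subgroup G) (hZM : fittingOf H ⊓ Subgroup.centralizer (fittingOf H : Set G) ≤ M)
    (hinv : ∀ Y ∈ invSubgroups ⊤ M (primesNotDvd (Nat.card (fittingOf H))), Y = ⊥)
    (L : Subgroup G) (hL : IsCoatom L) (hML : M ≤ L) : L = H := by
  have hHs : Group.IsSolvable H := hsolv H hH.1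
  have hLs : Group.IsSolvable L := hsolv L hL.1
  -- another prime in `π(F(H))`
  have hex : ∀ p : ℕ, ∃ r : ℕ, r.Prime ∧ r ∣ Nat.card (fittingOf H) ∧ r ≠ p := by
    intro p
    by_cases hp : p ∈ (Nat.card (fittingOf H)).primeFactors
    · have h1 : 1 < (Nat.card (fittingOf H)).primeFactors.card := by omega
      obtain ⟨r, hr, hrp⟩ := Finset.exists_mem_ne h1 p
      exact ⟨r, (Nat.mem_primeFactors.mp hr).1, (Nat.mem_primeFactors.mp hr).2.1, hrp⟩
    · have hne : (Nat.card (fittingOf H)).primeFactors.Nonempty := by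
        rw [← Finset.card_pos]; omega
      obtain ⟨r, hr⟩ := hne
      refine ⟨r, (Nat.mem_primeFactors.mp hr).1, (Nat.mem_primeFactors.mp hr).2.1, ?_⟩
      rintro rfl
      exact hp hr
  -- centralizers of the `Ω₁(Z(F)_p)`
  have hcZ : ∀ (X : Subgroup G), IsCoatom X → ∀ (p : ℕ) [Fact p.Prime],
      p ∣ Nat.card (fittingOf X) → Subgroup.centralizer (zOmega X p : Set G) ≤ X := by
    intro X hX p _ hp
    exact centralizer_le_of_coatom hX ((zOmega_le_fittingOf X p).trans (fittingOf_le X))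
      (zOmega_ne_bot X p hp) (le_normalizer_zOmega X p)
  have hcP : ∀ (X : Subgroup G), IsCoatom X → ∀ (p : ℕ) [Fact p.Prime],
      p ∣ Nat.card (fittingOf X) → Subgroup.centralizer (pcOf p X : Set G) ≤ X := by
    intro X hX p _ hp
    exact centralizer_le_of_coatom hX (pcOf_le p X) (pcOf_ne_bot_of_dvd p X hp)
      (le_normalizer_pcOf p X)
  have hZL : ∀ p : ℕ, zOmega H p ≤ L := by
    intro p z hz
    exact hML (hZM ⟨hz.1, hz.2.1⟩)
  -- `O_s(L) = 1` for `s ∉ π(F(H))`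
  have hbot : ∀ s : ℕ, s.Prime → ¬ s ∣ Nat.card (fittingOf H) → pcOf s L = ⊥ := by
    intro s hs hsd
    have : Fact s.Prime := ⟨hs⟩
    apply hinv
    refine ⟨le_top, ?_, hML.trans (le_normalizer_pcOf s L)⟩
    intro q hq hqd
    obtain ⟨k, hk⟩ := IsPGroup.iff_card.mp (pcOf_isPGroup s L)
    rw [hk] at hqd
    have hqs : q = s := (Nat.prime_dvd_prime_iff_eq hq hs).mp (hq.dvd_of_dvd_pow hqd)
    rw [hqs]
    exact ⟨hs, hsd⟩
  -- `F(L) ≤ H`
  have hKH : fittingOf L ≤ H := by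
    apply fittingOf_le_of_forall_pcOf_le
    intro p hp
    have : Fact p.Prime := ⟨hp⟩
    by_cases hpd : p ∣ Nat.card (fittingOf H)
    · obtain ⟨r, hr, hrd, hrp⟩ := hex p
      have : Fact r.Prime := ⟨hr⟩
      exact pcOf_le_of_zOmega (Ne.symm hrp) H L (hZL p) (hZL r) (hcZ H hH p hpd) (hcZ H hH r hrd)
    · rw [hbot p hp hpd]
      exact bot_le
  -- `π(F(H)) ⊆ π(F(L))`
  have hπ : ∀ r : ℕ, r.Prime → r ∣ Nat.card (fittingOf H) → r ∣ Nat.card (fittingOf L) := by
    intro r hr hrd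
    have : Fact r.Prime := ⟨hr⟩
    by_contra hnd
    have hrbot : pcOf r L = ⊥ := by
      by_contra hne
      exact hnd (dvd_card_fittingOf_of_pcOf_ne_bot r L hne)
    have hc : ∀ s : ℕ, s.Prime → zOmega H r ≤ Subgroup.centralizer (pcOf s L : Set G) := by
      intro s hs
      have : Fact s.Prime := ⟨hs⟩
      by_cases hsd : s ∣ Nat.card (fittingOf H)
      · by_cases hsr : s = r
        · subst hsr
          rw [hrbot]
          intro z _
          rw [Subgroup.mem_centralizer_iff]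
          intro h hh
          rw [SetLike.mem_coe, Subgroup.mem_bot] at hh
          rw [hh, mul_one, one_mul]
        · exact zOmega_le_centralizer_pcOf hsr H L (hZL s) (hZL r) (hcZ H hH s hsd)
      · rw [hbot s hs hsd]
        intro z _
        rw [Subgroup.mem_centralizer_iff]
        intro h hh
        rw [SetLike.mem_coe, Subgroup.mem_bot] at hh
        rw [hh, mul_one, one_mul]
    have h1 : zOmega H r ≤ fittingOf L := by
      intro z hz
      exact mem_fittingOf_of_forall_mem_centralizer hLs (hZL r hz) (fun s hs => hc s hs hz)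
    have h2 := le_pcOf_of_isPGroup r (zOmega_isPGroup H r) h1
    rw [hrbot, le_bot_iff] at h2
    exact zOmega_ne_bot H r hrd h2
  -- `π(F(L)) ⊆ π(F(H))`
  have hπ' : ∀ s : ℕ, s.Prime → s ∣ Nat.card (fittingOf L) → s ∣ Nat.card (fittingOf H) := by
    intro s hs hsd
    have : Fact s.Prime := ⟨hs⟩
    by_contra hnd
    exact pcOf_ne_bot_of_dvd s L hsd (hbot s hs hnd)
  -- `F(H) ≤ L`
  have hFL : fittingOf H ≤ L := by
    apply fittingOf_le_of_forall_pcOf_le
    intro p hp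
    have : Fact p.Prime := ⟨hp⟩
    by_cases hpd : p ∣ Nat.card (fittingOf H)
    · obtain ⟨r, hr, hrd, hrp⟩ := hex p
      have : Fact r.Prime := ⟨hr⟩
      have hZH : ∀ q : ℕ, zOmega L q ≤ H := fun q => (zOmega_le_fittingOf L q).trans hKH
      exact pcOf_le_of_zOmega (Ne.symm hrp) L H (hZH p) (hZH r) (hcZ L hL p (hπ p hp hpd))
        (hcZ L hL r (hπ r hr hrd))
    · have : pcOf p H = ⊥ := by
        by_contra hne
        exact hpd (dvd_card_fittingOf_of_pcOf_ne_bot p H hne)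
      rw [this]
      exact bot_le
  -- the final step
  obtain ⟨r, hr, hrd, -⟩ := hex 0
  obtain ⟨p, hp, hpd, hpr⟩ := hex r
  have : Fact r.Prime := ⟨hr⟩
  have : Fact p.Prime := ⟨hp⟩
  have h1 : pcOf r H ≤ pcOf r L := pcOf_le_pcOf hFL hKH hLs hpr (hcP H hH p hpd)
  have h2 : pcOf r L ≤ pcOf r H := pcOf_le_pcOf hKH hFL hHs hpr (hcP L hL p (hπ p hp hpd))
  have heq : pcOf r H = pcOf r L := le_antisymm h1 h2
  have hne : pcOf r H ≠ ⊥ := pcOf_ne_bot_of_dvd r H hrd
  have hNH := normalizer_eq_of_coatom hH (pcOf_le r H) hne (le_normalizer_pcOf r H)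
  have hNL := normalizer_eq_of_coatom hL (pcOf_le r L) (heq ▸ hne) (le_normalizer_pcOf r L)
  rw [← hNL, ← heq, hNH]

end BGU

end Cfsg.Agent.Lib.Helper54
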