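import Cfsg.Agent.Lib.Helper54.BGSubnormal
import Cfsg.Agent.Lib.Helper54.BGUnique

/-!
# Basic facts on subgroups lying in a unique maximal subgroup

Coatoms above a proper subgroup, monotonicity of `InUniqueMaximal`, and generation of a subgroup by
(invariant) Sylow subgroups.
-/

set_option autoImplicit false

namespace Cfsg.Agent.Lib.Helper54

open scoped Pointwise
open Cfsg

variable {G : Type*} [Group G]

theorem exists_isCoatom_ge [Finite G] {X : Subgroup G} (hX : X ≠ ⊤) :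
    ∃ M : Subgroup G, IsCoatom M ∧ X ≤ M := by
  rcases eq_top_or_exists_le_coatom X with h | h
  · exact absurd h hX
  · exact h

theorem inUniqueMaximal_of_forall {X M : Subgroup G} (hM : IsCoatom M) (hXM : X ≤ M)
    (h : ∀ L : Subgroup G, IsCoatom L → X ≤ L → L = M) : InUniqueMaximal X :=
  ⟨M, ⟨hM, hXM⟩, fun L hL => h L hL.1 hL.2⟩

theorem exists_forall_of_inUniqueMaximal {X : Subgroup G} (h : InUniqueMaximal X) :
    ∃ M : Subgroup G, IsCoatom M ∧ X ≤ M ∧ ∀ L : Subgroup G, IsCoatom L → X ≤ L → L = M := by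
  obtain ⟨M, ⟨hM, hXM⟩, hu⟩ := h
  exact ⟨M, hM, hXM, fun L hL hXL => hu L ⟨hL, hXL⟩⟩

theorem le_of_unique_coatom [Finite G] {X M : Subgroup G}
    (h : ∀ L : Subgroup G, IsCoatom L → X ≤ L → L = M) {Y : Subgroup G} (hY : Y ≠ ⊤)
    (hXY : X ≤ Y) : Y ≤ M := by
  obtain ⟨L, hL, hYL⟩ := exists_isCoatom_ge hY
  rw [← h L hL (hXY.trans hYL)]
  exact hYL

theorem inUniqueMaximal_mono [Finite G] {X Y : Subgroup G} (h : InUniqueMaximal X) (hXY : X ≤ Y)
    (hY : Y ≠ ⊤) : InUniqueMaximal Y := by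
  obtain ⟨M, hM, hXM, hu⟩ := exists_forall_of_inUniqueMaximal h
  exact inUniqueMaximal_of_forall hM (le_of_unique_coatom hu hY hXY)
    (fun L hL hYL => hu L hL (hXY.trans hYL))

/-- A subgroup is contained in `D` as soon as, for every prime, one of its Sylow subgroups is. -/
theorem le_of_forall_exists_sylow_le [Finite G] {Y D : Subgroup G}
    (h : ∀ q : ℕ, ∀ _ : Fact q.Prime, ∃ Q : Sylow q Y, (Q : Subgroup Y).map Y.subtype ≤ D) :
    Y ≤ D := by
  have h1 : (D.subgroupOf Y).index = 1 := by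
    by_contra hne
    obtain ⟨q, hq, hdvd⟩ := Nat.exists_prime_and_dvd hne
    have hqf : Fact q.Prime := ⟨hq⟩
    obtain ⟨Q, hQ⟩ := h q hqf
    have hle : (Q : Subgroup Y) ≤ D.subgroupOf Y := by
      intro y hy
      rw [Subgroup.mem_subgroupOf]
      exact hQ (Subgroup.mem_map_of_mem _ hy)
    exact Q.not_dvd_index (hdvd.trans (Subgroup.index_dvd_of_le hle))
  rw [Subgroup.index_eq_one, Subgroup.subgroupOf_eq_top] at h1
  exact h1

/-- A subgroup normalized by `A`, of order coprime to `|A|`, is contained in `D` as soon as all its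
`A`-invariant subgroups of prime power order are. -/
theorem le_of_forall_invariant_pGroup_le [Finite G] {A Y D : Subgroup G}
    (hAY : A ≤ Subgroup.normalizer (Y : Set G)) (hcop : (Nat.card A).Coprime (Nat.card Y))
    (hsolv : Group.IsSolvable A ∨ Group.IsSolvable Y)
    (h : ∀ q : ℕ, ∀ _ : Fact q.Prime, ∀ Q : Subgroup G, Q ≤ Y → IsPGroup q Q →
      A ≤ Subgroup.normalizer (Q : Set G) → Q ≤ D) : Y ≤ D := by
  apply le_of_forall_exists_sylow_le
  intro q hq
  obtain ⟨Q, hQ⟩ := exists_invariant_sylow A Y hAY hcop hsolv q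
  exact ⟨Q, h q hq _ (Subgroup.map_subtype_le _) (Q.isPGroup'.map _) hQ⟩

end Cfsg.Agent.Lib.Helper54
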