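import Mathlib
import Cfsg.Agent.Lib.Helper54.Coprime

/-!
# Tools for B&G Theorem 14.7 (`Ptype_embedding`)  (helper54)

* `card_conjSupport`: the union of the conjugates of a set `X` with `N`-invariance and the TI-type
  property `k z k⁻¹ ∈ X → k ∈ N` has `[G : N] * |X|` elements.
* products `Z = A ⊔ B` of two elementwise commuting abelian subgroups of coprime orders: decomposition,
  the factors of an element are powers of it, elements of order dividing `|B|` lie in `B`, the number of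
  elements outside `A ∪ B`.
* `le_commutator_of_fixedPointFree`: if `k` normalizes `U` and `C_U(k) = 1` then every element of `U` is
  a commutator `[k, u]`.
-/

set_option autoImplicit false

namespace Cfsg.Agent.Lib.Helper54

universe u

variable {G : Type u} [Group G]

/-- the union of the conjugates of a set `X` -/
def conjSupport (X : Set G) : Set G := {a | ∃ g : G, ∃ z ∈ X, a = g * z * g⁻¹}

theorem card_conjSupport [Finite G] (X : Set G) (N : Subgroup G)
    (hN : ∀ n ∈ N, ∀ z ∈ X, n * z * n⁻¹ ∈ X)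
    (hTI : ∀ k : G, ∀ z ∈ X, k * z * k⁻¹ ∈ X → k ∈ N) :
    (conjSupport X).ncard = N.index * X.ncard := by
  rw [← Nat.card_coe_set_eq, ← Nat.card_coe_set_eq, Subgroup.index, ← Nat.card_prod]
  symm
  let f : (G ⧸ N) × X → conjSupport X := fun qz =>
    ⟨qz.1.out * (qz.2 : G) * qz.1.out⁻¹, qz.1.out, qz.2, qz.2.2, rfl⟩
  apply Nat.card_eq_of_bijective f
  constructor
  · rintro ⟨q, z, hz⟩ ⟨q', z', hz'⟩ h
    have h' : q.out * z * q.out⁻¹ = q'.out * z' * q'.out⁻¹ := congrArg Subtype.val h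
    have hk : q'.out⁻¹ * q.out ∈ N := by
      apply hTI (q'.out⁻¹ * q.out) z hz
      have : q'.out⁻¹ * q.out * z * (q'.out⁻¹ * q.out)⁻¹
          = q'.out⁻¹ * (q.out * z * q.out⁻¹) * q'.out := by group
      rw [this, h']
      have : q'.out⁻¹ * (q'.out * z' * q'.out⁻¹) * q'.out = z' := by group
      rw [this]; exact hz'
    have hq : q' = q := by
      rw [← QuotientGroup.out_eq' q', ← QuotientGroup.out_eq' q]
      exact QuotientGroup.eq.mpr hk
    subst hq
    have hz2 : z = z' := by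
      have : z = q'.out⁻¹ * (q'.out * z * q'.out⁻¹) * q'.out := by group
      rw [this, h']; group
    subst hz2
    rfl
  · rintro ⟨y, k, z, hz, rfl⟩
    obtain ⟨u, hu⟩ := QuotientGroup.mk_out_eq_mul N k
    set q : G ⧸ N := QuotientGroup.mk k with hq
    have hzmem : q.out⁻¹ * (k * z * k⁻¹) * q.out ∈ X := by
      rw [hu]
      have : (k * (u : G))⁻¹ * (k * z * k⁻¹) * (k * (u : G)) = (u : G)⁻¹ * z * ((u : G)⁻¹)⁻¹ := by
        group
      rw [this]
      exact hN _ (N.inv_mem u.2) _ hz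
    refine ⟨⟨q, ⟨_, hzmem⟩⟩, ?_⟩
    apply Subtype.ext
    show q.out * (q.out⁻¹ * (k * z * k⁻¹) * q.out) * q.out⁻¹ = k * z * k⁻¹
    group

section Prod

variable {A B : Subgroup G}

/-- elements of `A ⊔ B` are products, when `A` and `B` commute elementwise -/
theorem exists_mul_of_mem_sup_of_commute (hAB : ∀ a ∈ A, ∀ b ∈ B, a * b = b * a) {z : G}
    (hz : z ∈ A ⊔ B) : ∃ a ∈ A, ∃ b ∈ B, z = a * b := by
  rw [Subgroup.sup_eq_closure] at hz
  induction hz using Subgroup.closure_induction with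
  | mem x hx =>
    rcases hx with hx | hx
    · exact ⟨x, hx, 1, B.one_mem, (mul_one x).symm⟩
    · exact ⟨1, A.one_mem, x, hx, (one_mul x).symm⟩
  | one => exact ⟨1, A.one_mem, 1, B.one_mem, (mul_one 1).symm⟩
  | mul x y _ _ hx hy =>
    obtain ⟨a, ha, b, hb, rfl⟩ := hx
    obtain ⟨a', ha', b', hb', rfl⟩ := hy
    refine ⟨a * a', A.mul_mem ha ha', b * b', B.mul_mem hb hb', ?_⟩
    calc a * b * (a' * b') = a * (b * a') * b' := by group
      _ = a * (a' * b) * b' := by rw [hAB a' ha' b hb]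
      _ = a * a' * (b * b') := by group
  | inv x _ hx =>
    obtain ⟨a, ha, b, hb, rfl⟩ := hx
    refine ⟨a⁻¹, A.inv_mem ha, b⁻¹, B.inv_mem hb, ?_⟩
    rw [mul_inv_rev]
    have := hAB a⁻¹ (A.inv_mem ha) b⁻¹ (B.inv_mem hb)
    exact this.symm

/-- in a product `z = a b` of commuting elements with `a ^ m = 1`, `b ^ n = 1`, `(m, n) = 1`, both factors
are powers of `z` -/
theorem exists_pow_eq_of_coprime [Finite G] {a b : G} {m n : ℕ} (hab : a * b = b * a)
    (ha : a ^ m = 1) (hb : b ^ n = 1) (hmn : m.Coprime n) :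
    (∃ i : ℕ, (a * b) ^ i = a) ∧ ∃ j : ℕ, (a * b) ^ j = b := by
  have hc : Commute a b := hab
  constructor
  · have h1 : n.Coprime (orderOf a) :=
      Nat.Coprime.coprime_dvd_right (orderOf_dvd_of_pow_eq_one ha) hmn.symm
    obtain ⟨i, hi⟩ := exists_pow_eq_self_of_coprime h1
    refine ⟨n * i, ?_⟩
    rw [pow_mul, hc.mul_pow, hb, mul_one, hi]
  · have h1 : m.Coprime (orderOf b) :=
      Nat.Coprime.coprime_dvd_right (orderOf_dvd_of_pow_eq_one hb) hmn
    obtain ⟨j, hj⟩ := exists_pow_eq_self_of_coprime h1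
    refine ⟨m * j, ?_⟩
    rw [pow_mul, hc.mul_pow, ha, one_mul, hj]

end Prod

/-- If `k` normalizes `U` and no non-identity element of `U` commutes with `k`, then every element of
`U` has the form `k u k⁻¹ u⁻¹` with `u ∈ U`. -/
theorem exists_commutator_eq_of_fixedPointFree [Finite G] {U : Subgroup G} {k : G}
    (hk : k ∈ Subgroup.normalizer (U : Set G))
    (hfix : ∀ u ∈ U, k * u = u * k → u = 1) (v : G) (hv : v ∈ U) :
    ∃ u ∈ U, v = k * u * k⁻¹ * u⁻¹ := by
  let f : U → U := fun u => ⟨k * (u : G) * k⁻¹ * (u : G)⁻¹,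
    U.mul_mem ((Subgroup.mem_normalizer_iff.mp hk (u : G)).mp u.2) (U.inv_mem u.2)⟩
  have hinj : Function.Injective f := by
    intro u w h
    have h' : k * (u : G) * k⁻¹ * (u : G)⁻¹ = k * (w : G) * k⁻¹ * (w : G)⁻¹ :=
      congrArg Subtype.val h
    have h2 : k * ((w : G)⁻¹ * (u : G)) = ((w : G)⁻¹ * (u : G)) * k := by
      have e1 : (u : G) * k⁻¹ * (u : G)⁻¹ = (w : G) * k⁻¹ * (w : G)⁻¹ := by
        have := congrArg (fun t => k⁻¹ * t) h'
        simpa [mul_assoc] using this
      have e2 : ((w : G)⁻¹ * (u : G)) * k⁻¹ = k⁻¹ * ((w : G)⁻¹ * (u : G)) := by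
        have := congrArg (fun t => (w : G)⁻¹ * t * (u : G)) e1
        simpa [mul_assoc] using this
      have e3 := congrArg (fun t => k * t * k) e2
      simp only [mul_assoc] at e3
      simpa [mul_assoc] using e3
    have h3 := hfix ((w : G)⁻¹ * (u : G)) (U.mul_mem (U.inv_mem w.2) u.2) h2
    apply Subtype.ext
    have : (u : G) = (w : G) * ((w : G)⁻¹ * (u : G)) := by group
    rw [this, h3, mul_one]
  have hsurj : Function.Surjective f := Finite.surjective_of_injective hinj
  obtain ⟨u, hu⟩ := hsurj ⟨v, hv⟩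
  exact ⟨u, u.2, (congrArg Subtype.val hu).symm⟩

end Cfsg.Agent.Lib.Helper54
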