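import Cfsg.Agent.Lib.Helper54.BGElevenC
import Cfsg.Agent.Lib.Helper25.PLength
import Cfsg.Agent.Lib.Helper9.BG36Tools2

/-!
# Bender–Glauberman §11: the reduction step of Theorem 11.7

`M_σ A ⊴ M` follows once `A` centralizes `O_q(M)` for all primes `q ∉ σ(M) ∪ {p}`.
-/

set_option autoImplicit false

namespace Cfsg.Agent.Lib.Helper54

open scoped Pointwise commutatorElement
open Cfsg
open Cfsg.Agent.Lib.Helper34 (UniquenessThm)

variable {G : Type*} [Group G]

/-- If `M'` is nilpotent modulo a normal subgroup `N₀ ≤ K` of `M`, then every `q`-subgroup of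
`C_M(K) ∩ M'` lies in `O_q(M)`. -/
theorem le_pcOf_of_le_centralizer_of_le_commutator [Finite G] (M K Q : Subgroup G) (q : ℕ)
    [Fact q.Prime] (hMK : M ≤ Subgroup.normalizer (K : Set G))
    (N₀ : Subgroup ↥M) [N₀.Normal] (hN₀ : N₀.map M.subtype ≤ K)
    (hnil : Group.IsNilpotent ↥((commutator ↥M).map (QuotientGroup.mk' N₀)))
    (hQ : IsPGroup q Q) (hQc : Q ≤ Subgroup.centralizer (K : Set G)) (hQM : Q ≤ ⁅M, M⁆) :
    Q ≤ pcOf q M := by
  have hMC : M ≤ Subgroup.normalizer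
      ((Subgroup.centralizer (K : Set G) : Subgroup G) : Set G) :=
    hMK.trans (normalizer_le_normalizer_centralizer K)
  have hn1 : ((Subgroup.centralizer (K : Set G)).subgroupOf M).Normal :=
    Subgroup.normal_subgroupOf_of_le_normalizer hMC
  set D' : Subgroup ↥M := (Subgroup.centralizer (K : Set G)).subgroupOf M ⊓ commutator ↥M with hD'
  have hD'n : D'.Normal := by
    rw [hD']
    infer_instance
  -- `D'` is nilpotent
  have hD'nil : Group.IsNilpotent ↥D' := by
    let H := ↥((commutator ↥M).map (QuotientGroup.mk' N₀))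
    let f : ↥D' →* H :=
      ((QuotientGroup.mk' N₀).comp D'.subtype).codRestrict _ (by
        intro x
        exact Subgroup.mem_map_of_mem _ (Subgroup.mem_inf.mp x.2).2)
    have hker : f.ker ≤ Subgroup.center ↥D' := by
      intro x hx
      rw [MonoidHom.mem_ker] at hx
      have h1 : (QuotientGroup.mk' N₀) (x : ↥M) = 1 := congrArg Subtype.val hx
      have h2 : (x : ↥M) ∈ N₀ := by
        rw [← QuotientGroup.ker_mk' N₀, MonoidHom.mem_ker]
        exact h1
      have h3 : ((x : ↥M) : G) ∈ K := hN₀ (Subgroup.mem_map_of_mem _ h2)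
      rw [Subgroup.mem_center_iff]
      intro y
      have hy : ((y : ↥M) : G) ∈ Subgroup.centralizer (K : Set G) :=
        Subgroup.mem_subgroupOf.mp (Subgroup.mem_inf.mp y.2).1
      have h4 := Subgroup.mem_centralizer_iff.mp hy _ h3
      apply Subtype.ext
      apply Subtype.ext
      simpa using h4.symm
    exact Subgroup.isNilpotent_of_ker_le_center f hker
  have hD'F : D' ≤ fittingSubgroup ↥M := le_sSup ⟨hD'n, hD'nil⟩
  have hQD : Q ≤ D'.map M.subtype := by
    intro x hx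
    have hxM' : x ∈ ⁅M, M⁆ := hQM hx
    have hxM : x ∈ M := by
      have h0 : ⁅M, M⁆ ≤ M := by
        rw [Subgroup.commutator_le]
        intro a ha b hb
        exact M.mul_mem (M.mul_mem (M.mul_mem ha hb) (M.inv_mem ha)) (M.inv_mem hb)
      exact h0 hxM'
    refine ⟨⟨x, hxM⟩, Subgroup.mem_inf.mpr ⟨Subgroup.mem_subgroupOf.mpr (hQc hx), ?_⟩, rfl⟩
    have h1 : (commutator ↥M).map M.subtype = ⁅M, M⁆ := by
      rw [commutator_def, Subgroup.map_commutator, ← MonoidHom.range_eq_map, Subgroup.range_subtype]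
    have h2 : x ∈ (commutator ↥M).map M.subtype := by rw [h1]; exact hxM'
    obtain ⟨y, hy, hyx⟩ := h2
    have : y = ⟨x, hxM⟩ := Subtype.ext hyx
    rwa [← this]
  apply le_pcOf_of_isPGroup q hQ
  exact hQD.trans (Subgroup.map_mono hD'F)

/-- An element conjugating a finite subgroup into itself normalizes it. -/
theorem mem_normalizer_of_conj_mem [Finite G] {A : Subgroup G} {n : G}
    (h : ∀ a ∈ A, n * a * n⁻¹ ∈ A) : n ∈ Subgroup.normalizer (A : Set G) := by
  apply mem_normalizer_iff_conj_smul.mpr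
  apply Subgroup.eq_of_le_of_card_ge
  · intro x hx
    rw [mem_conj_smul_iff] at hx
    have := h _ hx
    have e : n * (n⁻¹ * x * n) * n⁻¹ = x := by group
    rwa [e] at this
  · rw [card_conj_smul]

/-- **Reduction step of Bender–Glauberman Theorem 11.7.** -/
theorem exc_normal_of_pcore_centralized [Finite G] (hG : IsMinSimpleOddOrder G)
    (hU : UniquenessThm G) (p : ℕ) [Fact p.Prime] (M A₀ A : Subgroup G)
    (hexc : IsExceptional M p A₀ A) (hPLM : PLengthLE p 1 ↥M)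
    (P : Sylow p ↥M) (hAP : A ≤ (P : Subgroup ↥M).map M.subtype)
    (hOm : ∀ x ∈ (P : Subgroup ↥M).map M.subtype, x ^ p = 1 ↔ x ∈ A)
    (hE : ∀ (q : ℕ) [Fact q.Prime], q ≠ p → q ∉ sigma M → ∀ R : Subgroup G, R ≤ M → IsPGroup q R →
      A ≤ Subgroup.normalizer (R : Set G) →
      ∀ a ∈ A, ∀ g ∈ R, g⁻¹ * (a * g * a⁻¹) ∈ Subgroup.centralizer (sigmaCore M : Set G))
    (hY : ∀ (q : ℕ) [Fact q.Prime], q ≠ p → q ∉ sigma M →
      A ≤ Subgroup.centralizer (pcOf q M : Set G)) :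
    M ≤ Subgroup.normalizer ((sigmaCore M ⊔ A : Subgroup G) : Set G) := by
  have hp : p.Prime := Fact.out
  have hM := hexc.coatom
  set K := sigmaCore M with hK
  have hMK : M ≤ Subgroup.normalizer (K : Set G) := le_normalizer_sigmaCore M
  have hAsolv : Group.IsSolvable A :=
    Group.isSolvable_of_comm fun a b => Subtype.ext (hexc.comm a a.2 b b.2)
  -- normalizing `K` and `A` normalizes `K ⊔ A`
  have hsup : ∀ n : G, n ∈ Subgroup.normalizer (K : Set G) → n ∈ Subgroup.normalizer (A : Set G) →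
      n ∈ Subgroup.normalizer ((K ⊔ A : Subgroup G) : Set G) := by
    intro n h1 h2
    apply mem_normalizer_iff_conj_smul.mpr
    rw [Subgroup.smul_sup, mem_normalizer_iff_conj_smul.mp h1, mem_normalizer_iff_conj_smul.mp h2]
  obtain ⟨K₀, hK₀n, hK₀cop, hK₀⟩ := Cfsg.Agent.Lib.Helper25.plength_one_frattini p hPLM
  set L : Subgroup G := K₀.map M.subtype with hL
  set Nm : Subgroup G := (Subgroup.normalizer ((P : Subgroup ↥M) : Set ↥M)).map M.subtype with hNm
  have hMeq : M = L ⊔ Nm := by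
    rw [hL, hNm, ← Subgroup.map_sup, hK₀ P, ← MonoidHom.range_eq_map, Subgroup.range_subtype]
  have hLM : L ≤ M := Subgroup.map_subtype_le _
  have hLcop : (Nat.card L).Coprime p := by
    rw [hL, Subgroup.card_map_of_injective (Subgroup.subtype_injective _)]
    exact hK₀cop
  have hML : M ≤ Subgroup.normalizer (L : Set G) := by
    intro m hm
    apply mem_normalizer_of_conj_mem
    rintro _ ⟨y, hy, rfl⟩
    exact ⟨⟨m, hm⟩ * y * ⟨m, hm⟩⁻¹, hK₀n.conj_mem y hy ⟨m, hm⟩, rfl⟩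
  rw [hMeq]
  apply sup_le
  · -- `L ≤ N_G(K ⊔ A)`
    have hAL : A ≤ Subgroup.normalizer (L : Set G) := hexc.le.trans hML
    have hcopAL : (Nat.card A).Coprime (Nat.card L) := by
      rw [hexc.card]
      exact Nat.Coprime.pow_left 2 hLcop.symm
    apply le_of_forall_invariant_pGroup_le hAL hcopAL (Or.inl hAsolv)
    intro q hqF R hRL hR hAR
    have hqp : q.Prime := hqF.out
    have hRM : R ≤ M := hRL.trans hLM
    by_cases hq : q ∈ sigma M
    · -- `R ≤ K`
      have hRK : R ≤ K := by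
        apply le_sigmaCore_of_isPi hG hU M hM hRM
        intro r hr hrR
        obtain ⟨k, hk⟩ := hR.exists_card_eq
        rw [hk] at hrR
        have := (Nat.prime_dvd_prime_iff_eq hr hqp).mp (hr.dvd_of_dvd_pow hrR)
        rw [this]
        exact hq
      exact hRK.trans (le_sup_left.trans Subgroup.le_normalizer)
    · by_cases hR1 : R = ⊥
      · rw [hR1]; exact bot_le
      have hqne : q ≠ p := by
        rintro rfl
        have h1 : q ∣ Nat.card R := dvd_card_of_isPGroup_ne_bot hR hR1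
        have h2 : q ∣ Nat.card L := h1.trans (Subgroup.card_dvd_of_le hRL)
        exact (Nat.Prime.coprime_iff_not_dvd hqp).mp hLcop.symm h2
      -- `[R, A] ≤ C_G(K) ∩ M'`
      have hcent : ⁅R, A⁆ ≤ Subgroup.centralizer (K : Set G) := by
        rw [Subgroup.commutator_le]
        intro g hg a ha
        have := hE q hqne hq R hRM hR hAR a ha g⁻¹ (R.inv_mem hg)
        have e : ⁅g, a⁆ = g⁻¹⁻¹ * (a * g⁻¹ * a⁻¹) := by
          rw [commutatorElement_def]; group
        rw [e]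
        exact this
      have hRA_R : ⁅R, A⁆ ≤ R := by
        rw [Subgroup.commutator_le]
        intro g hg a ha
        have h1 : a * g⁻¹ * a⁻¹ ∈ R :=
          (Subgroup.mem_normalizer_iff.mp (hAR ha) g⁻¹).mp (R.inv_mem hg)
        have e : ⁅g, a⁆ = g * (a * g⁻¹ * a⁻¹) := by
          rw [commutatorElement_def]; group
        rw [e]
        exact R.mul_mem hg h1
      have hRA_q : IsPGroup q (⁅R, A⁆ : Subgroup G) := hR.to_le hRA_R
      have hRA_M' : ⁅R, A⁆ ≤ ⁅M, M⁆ := Subgroup.commutator_mono hRM hexc.le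
      have h1405 := Cfsg.Agent.Lib.Helper50.s1405_of hG (uniqThree_of_uniquenessThm hU) M hM
      have hα : (piCore (alpha M) ↥M).map M.subtype ≤ K := h1405.2.2.1
      have hRA_O : ⁅R, A⁆ ≤ pcOf q M :=
        le_pcOf_of_le_centralizer_of_le_commutator M K ⁅R, A⁆ q hMK (piCore (alpha M) ↥M) hα
          h1405.2.2.2.2 hRA_q hcent hRA_M'
      have hRAA : ⁅⁅R, A⁆, A⁆ = ⊥ := by
        rw [Subgroup.commutator_eq_bot_iff_le_centralizer]
        intro x hx
        have h2 := hY q hqne hq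
        rw [Subgroup.mem_centralizer_iff]
        intro a ha
        exact (Subgroup.mem_centralizer_iff.mp (h2 ha) x (hRA_O hx)).symm
      have hcopRA : (Nat.card R).Coprime (Nat.card A) := by
        obtain ⟨k, hk⟩ := hR.exists_card_eq
        rw [hk, hexc.card]
        apply Nat.Coprime.pow
        exact (Nat.coprime_primes hqp hp).mpr hqne
      have hRA0 : ⁅R, A⁆ = ⊥ := by
        rw [← Cfsg.Agent.Lib.Helper9.commutator_commutator_eq_of_coprime R A hAR hcopRA
          (Or.inl hAsolv), hRAA]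
      have hRC : R ≤ Subgroup.centralizer (A : Set G) :=
        (Subgroup.commutator_eq_bot_iff_le_centralizer).mp hRA0
      intro x hx
      exact hsup x (hMK (hRM hx)) (Subgroup.centralizer_le_normalizer (s := (A : Set G)) (hRC hx))
  · -- `N_M(P) ≤ N_G(K ⊔ A)`
    rintro _ ⟨n, hn, rfl⟩
    apply hsup _ (hMK n.2)
    apply mem_normalizer_of_conj_mem
    intro a ha
    obtain ⟨a', ha', rfl⟩ := hAP ha
    have h1 : n * a' * n⁻¹ ∈ (P : Subgroup ↥M) :=
      (Subgroup.mem_normalizer_iff.mp hn a').mp ha'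
    have h2 : M.subtype n * M.subtype a' * (M.subtype n)⁻¹ ∈ (P : Subgroup ↥M).map M.subtype :=
      ⟨n * a' * n⁻¹, h1, by simp⟩
    apply (hOm _ h2).mp
    have h3 : (M.subtype a') ^ p = 1 := hexc.elemAb.2 _ ha
    rw [conj_pow, h3, mul_one, mul_inv_cancel]

/-- Two distinct subgroups of order `p` of a group of order `p ^ 2` generate it. -/
theorem eq_sup_of_two_points [Finite G] {p : ℕ} [Fact p.Prime] {A A₁ A₂ : Subgroup G}
    (hA : Nat.card A = p ^ 2) (h1 : A₁ ≤ A) (h2 : A₂ ≤ A) (hc1 : Nat.card A₁ = p)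
    (hc2 : Nat.card A₂ = p) (hne : A₁ ≠ A₂) : A = A₁ ⊔ A₂ := by
  have hp : p.Prime := Fact.out
  symm
  apply Subgroup.eq_of_le_of_card_ge (sup_le h1 h2)
  have hd1 : Nat.card A₁ ∣ Nat.card (A₁ ⊔ A₂ : Subgroup G) := Subgroup.card_dvd_of_le le_sup_left
  have hd2 : Nat.card (A₁ ⊔ A₂ : Subgroup G) ∣ Nat.card A := Subgroup.card_dvd_of_le (sup_le h1 h2)
  rw [hA] at hd2 ⊢
  obtain ⟨k, hk, hkc⟩ := (Nat.dvd_prime_pow hp).mp hd2
  have hk1 : k ≠ 0 := by
    intro h0
    rw [h0, pow_zero] at hkc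
    rw [hkc, hc1] at hd1
    exact hp.one_lt.ne' (Nat.dvd_one.mp hd1)
  have hk2 : k ≠ 1 := by
    intro h0
    rw [h0, pow_one] at hkc
    have e1 : A₁ = A₁ ⊔ A₂ :=
      Subgroup.eq_of_le_of_card_ge le_sup_left (by rw [hkc, hc1])
    have e2 : A₂ = A₁ ⊔ A₂ :=
      Subgroup.eq_of_le_of_card_ge le_sup_right (by rw [hkc, hc2])
    exact hne (e1.trans e2.symm)
  have : k = 2 := by omega
  rw [hkc, this]

/-- Passing from two generating subgroups to the whole group in Shult-type conclusions: if `A₁`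
and `A₂` centralize `R` modulo `C` (a subgroup normalized by `R` and `A`), so does `A ≤ A₁ ⊔ A₂`. -/
theorem comm_mem_of_sup (C R A A₁ A₂ : Subgroup G)
    (hAC : A ≤ Subgroup.normalizer (C : Set G))
    (hAR : A ≤ Subgroup.normalizer (R : Set G)) (hA₁ : A₁ ≤ A) (hA₂ : A₂ ≤ A)
    (hle : A ≤ A₁ ⊔ A₂)
    (h1 : ∀ a ∈ A₁, ∀ g ∈ R, g⁻¹ * (a * g * a⁻¹) ∈ C)
    (h2 : ∀ a ∈ A₂, ∀ g ∈ R, g⁻¹ * (a * g * a⁻¹) ∈ C) :
    ∀ a ∈ A, ∀ g ∈ R, g⁻¹ * (a * g * a⁻¹) ∈ C := by
  let T : Subgroup G :=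
    { carrier := {a | a ∈ Subgroup.normalizer (R : Set G) ∧ a ∈ Subgroup.normalizer (C : Set G) ∧
        ∀ g ∈ R, g⁻¹ * (a * g * a⁻¹) ∈ C}
      one_mem' := by
        refine ⟨Subgroup.one_mem _, Subgroup.one_mem _, ?_⟩
        intro g _
        simp
      mul_mem' := by
        rintro a b ⟨haR, haC, ha⟩ ⟨hbR, hbC, hb⟩
        refine ⟨Subgroup.mul_mem _ haR hbR, Subgroup.mul_mem _ haC hbC, ?_⟩
        intro g hg
        have hg' : b * g * b⁻¹ ∈ R := (Subgroup.mem_normalizer_iff.mp hbR g).mp hg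
        have hc : g⁻¹ * (b * g * b⁻¹) ∈ C := hb g hg
        have hc' : a * (g⁻¹ * (b * g * b⁻¹)) * a⁻¹ ∈ C :=
          (Subgroup.mem_normalizer_iff.mp haC _).mp hc
        have e : g⁻¹ * (a * b * g * (a * b)⁻¹) =
            (g⁻¹ * (a * g * a⁻¹)) * (a * (g⁻¹ * (b * g * b⁻¹)) * a⁻¹) := by group
        rw [e]
        exact C.mul_mem (ha g hg) hc'
      inv_mem' := by
        rintro a ⟨haR, haC, ha⟩
        refine ⟨Subgroup.inv_mem _ haR, Subgroup.inv_mem _ haC, ?_⟩
        intro g hg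
        have hg' : a⁻¹ * g * a⁻¹⁻¹ ∈ R :=
          (Subgroup.mem_normalizer_iff.mp (Subgroup.inv_mem _ haR) g).mp hg
        have := ha _ hg'
        have e : g⁻¹ * (a⁻¹ * g * a⁻¹⁻¹) =
            ((a⁻¹ * g * a⁻¹⁻¹)⁻¹ * (a * (a⁻¹ * g * a⁻¹⁻¹) * a⁻¹))⁻¹ := by group
        rw [e]
        exact C.inv_mem this }
  have hT1 : A₁ ≤ T := fun a ha => ⟨hAR (hA₁ ha), hAC (hA₁ ha), h1 a ha⟩
  have hT2 : A₂ ≤ T := fun a ha => ⟨hAR (hA₂ ha), hAC (hA₂ ha), h2 a ha⟩
  intro a ha g hg
  exact (sup_le hT1 hT2 (hle ha)).2.2 g hg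

end Cfsg.Agent.Lib.Helper54
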