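import Cfsg.Agent.Lib.Helper54.BGElevenB

/-!
# Bender–Glauberman §11: exceptional maximal subgroups, Lemma 11.1 and Corollary 11.2

Conditional on the Uniqueness Theorem `hU` and on `p`-length one of the proper subgroups `hPL`
(Theorem 10.6).
-/

set_option autoImplicit false

namespace Cfsg.Agent.Lib.Helper54

open scoped Pointwise
open Cfsg
open Cfsg.Agent.Lib.Helper34 (UniquenessThm)

variable {G : Type*} [Group G]

/-- Hypothesis 11.1 of Bender–Glauberman: `M` is an exceptional maximal subgroup with respect to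
`p`, `A₀`, `A`. -/
structure IsExceptional (M : Subgroup G) (p : ℕ) (A₀ A : Subgroup G) : Prop where
  coatom : IsCoatom M
  not_sigma : p ∉ sigma M
  le : A ≤ M
  elemAb : IsElementaryAbelian p A
  card : Nat.card A = p ^ 2
  le₀ : A₀ ≤ A
  card₀ : Nat.card A₀ = p
  norm : Subgroup.normalizer (A₀ : Set G) ≤ M

namespace IsExceptional

variable {M A₀ A : Subgroup G} {p : ℕ}

theorem comm (h : IsExceptional M p A₀ A) : ∀ x ∈ A, ∀ y ∈ A, x * y = y * x := fun _ hx _ hy =>
  Cfsg.Agent.Lib.Helper45.IsElementaryAbelian_comm h.elemAb hx hy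

theorem isPGroup [Fact p.Prime] (h : IsExceptional M p A₀ A) : IsPGroup p A :=
  isPGroup_of_exponent h.elemAb.2

theorem le_centralizer (h : IsExceptional M p A₀ A) : A ≤ Subgroup.centralizer (A : Set G) := by
  intro a ha
  rw [Subgroup.mem_centralizer_iff]
  intro y hy
  exact h.comm y hy a ha

theorem centralizer_le (h : IsExceptional M p A₀ A) : Subgroup.centralizer (A : Set G) ≤ M :=
  (Subgroup.centralizer_le h.le₀).trans ((Subgroup.centralizer_le_normalizer (s := (A₀ : Set G))).trans h.norm)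

theorem ne_bot [Fact p.Prime] (h : IsExceptional M p A₀ A) : A ≠ ⊥ := by
  intro h0
  have hp : p.Prime := Fact.out
  have := h.card
  rw [h0, Subgroup.card_bot] at this
  have h1 : 1 < p ^ 2 := Nat.one_lt_pow (by norm_num) hp.one_lt
  omega

theorem ne_bot₀ [Fact p.Prime] (h : IsExceptional M p A₀ A) : A₀ ≠ ⊥ := by
  intro h0
  have hp : p.Prime := Fact.out
  have := h.card₀
  rw [h0, Subgroup.card_bot] at this
  exact hp.one_lt.ne this

/-- `A` is a maximal elementary abelian `p`-subgroup of `G`. -/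
theorem maximal [Finite G] [Fact p.Prime] (h : IsExceptional M p A₀ A)
    (hG : IsMinSimpleOddOrder G) (hU : UniquenessThm G) :
    ∀ B : Subgroup G, IsElementaryAbelian p B → A ≤ B → B = A := by
  have hs : IsSimpleGroup G := hG.2.1
  intro B hB hAB
  exact Cfsg.Agent.Lib.Helper34.eq_of_le_isElementaryAbelian hU h.coatom h.not_sigma h.le
    h.elemAb h.card hB hAB

/-- The elements of order dividing `p` of `C_G(A)` are those of `A`. -/
theorem mem_of_pow_eq_one [Finite G] [Fact p.Prime] (h : IsExceptional M p A₀ A)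
    (hG : IsMinSimpleOddOrder G) (hU : UniquenessThm G) {x : G}
    (hx : x ∈ Subgroup.centralizer (A : Set G)) (hxp : x ^ p = 1) : x ∈ A := by
  have hB : IsElementaryAbelian p (A ⊔ Subgroup.zpowers x) := by
    apply Cfsg.Agent.Lib.Helper45.isElementaryAbelian_sup h.elemAb
      (Cfsg.Agent.Lib.Helper34.isElementaryAbelian_zpowers hxp)
    intro a ha b hb
    obtain ⟨k, rfl⟩ := Subgroup.mem_zpowers_iff.mp hb
    have h1 : Commute a x := (Subgroup.mem_centralizer_iff.mp hx a ha)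
    exact (h1.zpow_right k)
  have := h.maximal hG hU _ hB le_sup_left
  rw [← this]
  exact Subgroup.mem_sup_right (Subgroup.mem_zpowers x)

theorem transitivityHypothesis [Finite G] [Fact p.Prime] (h : IsExceptional M p A₀ A)
    (hG : IsMinSimpleOddOrder G) (hU : UniquenessThm G)
    (hPL : ∀ H : Subgroup G, H ≠ ⊤ → PLengthLE p 1 H) : TransitivityHypothesis A := by
  have hpG : p ∣ Nat.card G :=
    (dvd_card_of_isPGroup_ne_bot h.isPGroup h.ne_bot).trans (Subgroup.card_subgroup_dvd_card _)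
  refine Cfsg.Agent.S1396.result hG p hpG A h.isPGroup h.elemAb.1 (Or.inl ⟨?_, hPL⟩)
  intro x hx
  exact ⟨fun hxp => h.mem_of_pow_eq_one hG hU hx hxp, fun hxA => h.elemAb.2 x hxA⟩

end IsExceptional

/-- For `q ∈ σ(M)`, a maximal `q`-subgroup of `G` contained in `M` has its normalizer in `M`. -/
theorem normalizer_le_of_maximal_pGroup [Finite G] (M : Subgroup G) (q : ℕ) [Fact q.Prime]
    (hq : q ∈ sigma M) (Q : Subgroup G) (hQ : IsPGroup q Q)
    (hQmax : ∀ R : Subgroup G, IsPGroup q R → Q ≤ R → R = Q) (hQM : Q ≤ M) :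
    Subgroup.normalizer (Q : Set G) ≤ M := by
  obtain ⟨S', hS'⟩ := exists_sylow_map_eq Q hQ hQmax M hQM
  obtain ⟨-, -, P₀, h0⟩ := hq
  rw [← hS']
  exact Cfsg.Agent.Lib.Helper34.normalizer_map_sylow_le_of_exists P₀ h0 S'

/-- **Bender–Glauberman Lemma 11.1.** -/
theorem exceptional_TI_sylow [Finite G] (hG : IsMinSimpleOddOrder G) (hU : UniquenessThm G)
    (p : ℕ) [Fact p.Prime] (hPL : ∀ H : Subgroup G, H ≠ ⊤ → PLengthLE p 1 H)
    (M A₀ A : Subgroup G) (hexc : IsExceptional M p A₀ A) (g : G) (hg : g ∉ M)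
    (q : ℕ) [Fact q.Prime] (hq : q ∈ sigma M) (Q₁ Q₂ : Subgroup G)
    (hQ₁ : IsPGroup q Q₁) (hQ₁max : ∀ R : Subgroup G, IsPGroup q R → Q₁ ≤ R → R = Q₁)
    (hQ₁M : Q₁ ≤ M) (hAQ₁ : A ≤ Subgroup.normalizer (Q₁ : Set G))
    (hQ₂ : IsPGroup q Q₂) (hQ₂max : ∀ R : Subgroup G, IsPGroup q R → Q₂ ≤ R → R = Q₂)
    (hQ₂M : Q₂ ≤ MulAut.conj g • M) (hAQ₂ : A ≤ Subgroup.normalizer (Q₂ : Set G)) :
    (∀ X : Subgroup G, X ≤ A → X ≠ ⊥ →
        Q₁ ⊓ Subgroup.centralizer (X : Set G) = ⊥ ∨ Q₂ ⊓ Subgroup.centralizer (X : Set G) = ⊥) ∧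
      Q₁ ⊓ Q₂ = ⊥ := by
  have hp : p.Prime := Fact.out
  have hqp : q.Prime := Fact.out
  have hs : IsSimpleGroup G := hG.2.1
  have hnc := hG.2.2.1
  have hM := hexc.coatom
  have hTH := hexc.transitivityHypothesis hG hU hPL
  have hqne : q ≠ p := by
    rintro rfl
    exact hexc.not_sigma hq
  have hqA : ¬ q ∣ Nat.card A := by
    rw [hexc.card]
    intro h
    exact hqne ((Nat.prime_dvd_prime_iff_eq hqp hp).mp (hqp.dvd_of_dvd_pow h))
  have hMbot : M ≠ ⊥ := by
    intro h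
    apply hexc.ne_bot
    rw [eq_bot_iff, ← h]
    exact hexc.le
  have hNM : Subgroup.normalizer (M : Set G) = M :=
    normalizer_eq_of_coatom hM le_rfl hMbot Subgroup.le_normalizer
  have hmem : ∀ Q : Subgroup G, IsPGroup q Q →
      (∀ R : Subgroup G, IsPGroup q R → Q ≤ R → R = Q) →
      A ≤ Subgroup.normalizer (Q : Set G) → Q ∈ maxInvSubgroups ⊤ A {q} := by
    intro Q hQ hQmax hAQ
    refine ⟨(mem_invSubgroups_iff' (q := q)).mpr ⟨le_top, hQ, hAQ⟩, ?_⟩
    intro R hR hQR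
    exact hQmax R ((mem_invSubgroups_iff' (q := q)).mp hR).2.1 hQR
  have hb : ∀ X : Subgroup G, X ≤ A → X ≠ ⊥ →
      Q₁ ⊓ Subgroup.centralizer (X : Set G) = ⊥ ∨
        Q₂ ⊓ Subgroup.centralizer (X : Set G) = ⊥ := by
    intro X hXA hX1
    by_contra hcon
    push Not at hcon
    obtain ⟨h1, h2⟩ := hcon
    obtain ⟨x, hx1⟩ := Subgroup.ne_bot_iff_exists_ne_one.mp hX1
    have hx1' : (x : G) ≠ 1 := fun h => hx1 (Subtype.ext h)
    have hCtop : Subgroup.centralizer (X : Set G) ≠ ⊤ := by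
      intro h
      apply centralizer_singleton_ne_top hs hnc hx1'
      rw [eq_top_iff, ← h]
      exact Subgroup.centralizer_le (Set.singleton_subset_iff.mpr x.2)
    have hAC : A ≤ Subgroup.centralizer (X : Set G) :=
      hexc.le_centralizer.trans (Subgroup.centralizer_le hXA)
    obtain ⟨k, hk, hQk⟩ := bg_conj_of_common_overgroup A hs hG.2.2.2 hTH q hqA Q₁
      (hmem Q₁ hQ₁ hQ₁max hAQ₁) Q₂ (hmem Q₂ hQ₂ hQ₂max hAQ₂)
      ⟨Subgroup.centralizer (X : Set G), hCtop, hAC, by rwa [inf_comm], by rwa [inf_comm]⟩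
    have hkM : k ∈ M := hexc.centralizer_le (piCoreOf_le _ _ hk)
    have hQ₂M' : Q₂ ≤ M := by
      rw [hQk]
      exact conj_smul_le_of_mem hkM hQ₁M
    obtain ⟨c, hc, hgc⟩ := sigma_conj_eq hG hU M hM q hq Q₂ hQ₂ hQ₂M' g hQ₂M
    have hcM : c ∈ M :=
      normalizer_le_of_maximal_pGroup M q hq Q₂ hQ₂ hQ₂max hQ₂M'
        (Subgroup.centralizer_le_normalizer (s := (Q₂ : Set G)) hc)
    have hcM' : MulAut.conj c • M = M :=
      mem_normalizer_iff_conj_smul.mp (Subgroup.le_normalizer hcM)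
    rw [hcM'] at hgc
    apply hg
    rw [← hNM]
    exact mem_normalizer_iff_conj_smul.mpr hgc
  refine ⟨hb, ?_⟩
  by_contra hD
  have hDq : IsPGroup q (Q₁ ⊓ Q₂ : Subgroup G) := hQ₁.to_le inf_le_left
  have hDp : ¬ p ∣ Nat.card (Q₁ ⊓ Q₂ : Subgroup G) := by
    obtain ⟨k, hk⟩ := hDq.exists_card_eq
    rw [hk]
    intro h
    exact hqne.symm ((Nat.prime_dvd_prime_iff_eq hp hqp).mp (hp.dvd_of_dvd_pow h))
  have hAD : A ≤ Subgroup.normalizer ((Q₁ ⊓ Q₂ : Subgroup G) : Set G) := by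
    intro a ha
    have h1 := mem_normalizer_iff_conj_smul.mp (hAQ₁ ha)
    have h2 := mem_normalizer_iff_conj_smul.mp (hAQ₂ ha)
    apply mem_normalizer_iff_conj_smul.mpr
    rw [Subgroup.smul_inf, h1, h2]
  obtain ⟨B, hBA, hBcard, hBD⟩ := exists_hyperplane_centralizer (p := p) A (Q₁ ⊓ Q₂) ⊥
    hexc.comm hexc.elemAb.2 hDp hAD (fun h => hD (le_bot_iff.mp h))
  have hB1 : B ≠ ⊥ := by
    intro h
    rw [h, Subgroup.card_bot, hexc.card] at hBcard
    have : p * p ≤ p * 1 := by rw [← pow_two]; exact hBcard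
    have := Nat.le_of_mul_le_mul_left this hp.pos
    exact absurd hp.one_lt (by omega)
  rcases hb B hBA hB1 with h | h
  · apply hBD
    rw [← h]
    exact inf_le_inf_right _ inf_le_left
  · apply hBD
    rw [← h]
    exact inf_le_inf_right _ inf_le_right

/-- A `q`-subgroup with the order of a maximal `q`-subgroup is a maximal `q`-subgroup. -/
theorem maximal_pGroup_of_card_eq [Finite G] {q : ℕ} [Fact q.Prime] {Q₁ Q₂ : Subgroup G}
    (hQ₁ : IsPGroup q Q₁) (hQ₁max : ∀ R : Subgroup G, IsPGroup q R → Q₁ ≤ R → R = Q₁)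
    (hcard : Nat.card Q₂ = Nat.card Q₁) :
    ∀ R : Subgroup G, IsPGroup q R → Q₂ ≤ R → R = Q₂ := by
  intro R hR hQR
  obtain ⟨S, hS⟩ := exists_sylow_eq Q₁ hQ₁ hQ₁max
  obtain ⟨S', hRS'⟩ := hR.exists_le_sylow
  have h1 : Nat.card (S' : Subgroup G) = Nat.card (S : Subgroup G) := by
    rw [Sylow.card_eq_multiplicity, Sylow.card_eq_multiplicity]
  have h2 : Nat.card (S' : Subgroup G) ≤ Nat.card Q₂ := by
    rw [h1, hS, hcard]
  have h3 : Q₂ = (S' : Subgroup G) := Subgroup.eq_of_le_of_card_ge (hQR.trans hRS') h2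
  exact le_antisymm (hRS'.trans h3.ge) hQR

/-- **Bender–Glauberman Corollary 11.2(a).** -/
theorem exceptional_sigmaCore_inf_conj [Finite G] (hG : IsMinSimpleOddOrder G)
    (hU : UniquenessThm G) (p : ℕ) [Fact p.Prime]
    (hPL : ∀ H : Subgroup G, H ≠ ⊤ → PLengthLE p 1 H)
    (M A₀ A : Subgroup G) (hexc : IsExceptional M p A₀ A) (g : G) (hg : g ∉ M)
    (hAg : A ≤ MulAut.conj g • M) :
    sigmaCore M ⊓ MulAut.conj g • M = ⊥ := by
  have hp : p.Prime := Fact.out
  have hM := hexc.coatom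
  have hAMs : A ≤ Subgroup.normalizer (sigmaCore M : Set G) :=
    hexc.le.trans (le_normalizer_sigmaCore M)
  have hAgM : A ≤ Subgroup.normalizer ((MulAut.conj g • M : Subgroup G) : Set G) :=
    hAg.trans Subgroup.le_normalizer
  have hAgMs : A ≤ Subgroup.normalizer ((MulAut.conj g • sigmaCore M : Subgroup G) : Set G) := by
    rw [normalizer_conj_smul]
    exact hAg.trans (conj_smul_le_conj_smul (le_normalizer_sigmaCore M))
  have hcopMs : (Nat.card A).Coprime (Nat.card (sigmaCore M)) := by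
    rw [hexc.card]
    apply Nat.Coprime.pow_left
    rw [Nat.Prime.coprime_iff_not_dvd hp]
    intro h
    exact hexc.not_sigma (sigmaCore_isPi M p hp h)
  have hAsolv : Group.IsSolvable A :=
    Group.isSolvable_of_comm fun a b => Subtype.ext (hexc.comm a a.2 b b.2)
  set Y : Subgroup G := sigmaCore M ⊓ MulAut.conj g • M with hY
  have hAY : A ≤ Subgroup.normalizer (Y : Set G) := by
    intro a ha
    have h1 := mem_normalizer_iff_conj_smul.mp (hAMs ha)
    have h2 := mem_normalizer_iff_conj_smul.mp (hAgM ha)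
    apply mem_normalizer_iff_conj_smul.mpr
    rw [hY, Subgroup.smul_inf, h1, h2]
  have hcopY : (Nat.card A).Coprime (Nat.card Y) :=
    Nat.Coprime.coprime_dvd_right (Subgroup.card_dvd_of_le inf_le_left) hcopMs
  rw [eq_bot_iff]
  apply le_of_forall_invariant_pGroup_le hAY hcopY (Or.inl hAsolv)
  intro q hqF Q hQY hQ hAQ
  have hqp : q.Prime := hqF.out
  by_cases hQ1 : Q = ⊥
  · rw [hQ1]
  exfalso
  have hqQ : q ∣ Nat.card Q := dvd_card_of_isPGroup_ne_bot hQ hQ1
  have hQMs : Q ≤ sigmaCore M := hQY.trans inf_le_left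
  have hQgM : Q ≤ MulAut.conj g • M := hQY.trans inf_le_right
  have hq : q ∈ sigma M :=
    sigmaCore_isPi M q hqp (hqQ.trans (Subgroup.card_dvd_of_le hQMs))
  -- `Q ≤ Q₁`, an `A`-invariant Sylow `q`-subgroup of `M_σ`
  obtain ⟨P₁, hQP₁, hAP₁⟩ := exists_invariant_sylow_ge A (sigmaCore M) hAMs hcopMs
    (Or.inl hAsolv) q Q hQMs hQ hAQ
  obtain ⟨hP₁max, -⟩ := sylow_sigmaCore_facts hG hU M hM q hq P₁
  -- `Q ≤ (M_σ)^g`
  have hQgMs : Q ≤ MulAut.conj g • sigmaCore M := by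
    have h1 : MulAut.conj g⁻¹ • Q ≤ sigmaCore M := by
      apply le_sigmaCore_of_isPi hG hU M hM
      · intro x hx
        rw [mem_conj_smul_iff] at hx
        have := mem_conj_smul_iff.mp (hQgM hx)
        simpa [mul_assoc] using this
      · intro r hr hrQ
        rw [card_conj_smul] at hrQ
        obtain ⟨k, hk⟩ := hQ.exists_card_eq
        rw [hk] at hrQ
        have := (Nat.prime_dvd_prime_iff_eq hr hqp).mp (hr.dvd_of_dvd_pow hrQ)
        rw [this]
        exact hq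
    intro x hx
    rw [mem_conj_smul_iff]
    have h2 : g⁻¹ * x * g ∈ MulAut.conj g⁻¹ • Q := by
      rw [mem_conj_smul_iff]
      simpa [mul_assoc] using hx
    exact h1 h2
  have hcopgMs : (Nat.card A).Coprime (Nat.card (MulAut.conj g • sigmaCore M : Subgroup G)) := by
    rw [card_conj_smul]
    exact hcopMs
  obtain ⟨P₂, hQP₂, hAP₂⟩ := exists_invariant_sylow_ge A (MulAut.conj g • sigmaCore M) hAgMs
    hcopgMs (Or.inl hAsolv) q Q hQgMs hQ hAQ
  set Q₁ : Subgroup G := (P₁ : Subgroup (sigmaCore M)).map (sigmaCore M).subtype with hQ₁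
  set Q₂ : Subgroup G := (P₂ : Subgroup (MulAut.conj g • sigmaCore M : Subgroup G)).map
    (MulAut.conj g • sigmaCore M : Subgroup G).subtype with hQ₂
  have hQ₁p : IsPGroup q Q₁ := P₁.isPGroup'.map _
  have hQ₂p : IsPGroup q Q₂ := P₂.isPGroup'.map _
  have hcard : Nat.card Q₂ = Nat.card Q₁ := by
    rw [hQ₁, hQ₂, Subgroup.card_map_of_injective (Subgroup.subtype_injective _),
      Subgroup.card_map_of_injective (Subgroup.subtype_injective _),
      Sylow.card_eq_multiplicity, Sylow.card_eq_multiplicity, card_conj_smul]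
  have hQ₂max := maximal_pGroup_of_card_eq hQ₁p hP₁max hcard
  have hQ₁M : Q₁ ≤ M := (Subgroup.map_subtype_le _).trans (sigmaCore_le M)
  have hQ₂gM : Q₂ ≤ MulAut.conj g • M :=
    (Subgroup.map_subtype_le _).trans (conj_smul_le_conj_smul (sigmaCore_le M))
  have h11 := (exceptional_TI_sylow hG hU p hPL M A₀ A hexc g hg q hq Q₁ Q₂ hQ₁p hP₁max hQ₁M hAP₁
    hQ₂p hQ₂max hQ₂gM hAP₂).2
  apply hQ1
  rw [eq_bot_iff, ← h11]
  exact le_inf hQP₁ hQP₂

/-- **Bender–Glauberman Corollary 11.2(b).** -/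
theorem exceptional_sigmaCore_inf_centralizer [Finite G] (hG : IsMinSimpleOddOrder G)
    (hU : UniquenessThm G) (p : ℕ) [Fact p.Prime]
    (hPL : ∀ H : Subgroup G, H ≠ ⊤ → PLengthLE p 1 H)
    (M A₀ A : Subgroup G) (hexc : IsExceptional M p A₀ A) (g : G) (hg : g ∉ M)
    (hAg : A ≤ MulAut.conj g • M) :
    sigmaCore M ⊓ Subgroup.centralizer ((MulAut.conj g • A₀ : Subgroup G) : Set G) = ⊥ := by
  rw [eq_bot_iff, ← exceptional_sigmaCore_inf_conj hG hU p hPL M A₀ A hexc g hg hAg]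
  refine inf_le_inf_left _ ?_
  refine (Subgroup.centralizer_le_normalizer
    (s := ((MulAut.conj g • A₀ : Subgroup G) : Set G))).trans ?_
  rw [normalizer_conj_smul]
  exact conj_smul_le_conj_smul hexc.norm

end Cfsg.Agent.Lib.Helper54
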