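import Mathlib
import Cfsg.Prelude.Def_OddOrderLocal
import Cfsg.Agent.Lib.Helper68.BGSignalizer
import Cfsg.Agent.Lib.Helper34.NonSigma
import Cfsg.Agent.Lib.Helper24.NarrowOfMaxSq
import Cfsg.Agent.Lib.Helper55.BGElevenB

/-!
# Bender–Glauberman Proposition 10.11(b), strong form (helper54)

`exists_sylow_le_centralizer_of_maxInv_narrow` : same hypotheses as
`Helper68.le_centralizer_of_maxInv_narrow`; conclusion: some Sylow `p`-subgroup `S` of `G` contains `A`
and centralizes `Q`.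
-/

set_option autoImplicit false

namespace Cfsg.Agent.Lib.Helper54

open Cfsg
open scoped Pointwise

variable {G : Type*} [Group G] [Finite G]

/-- **BG Proposition 10.11(b)** (strong form of helper68's TOOL P). -/
theorem exists_sylow_le_centralizer_of_maxInv_narrow (hG : IsMinSimpleOddOrder G) (p q : ℕ)
    [hp : Fact p.Prime] [hq : Fact q.Prime] (hpq : p ≠ q) (A : Subgroup G) (hAp : IsPGroup p A)
    (hAc : IsMulCommutative A) (hA1 : A ≠ ⊥)
    (hAnc : ¬ RankLE 1 ↥(A ⊓ Subgroup.centralizer (A : Set G)))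
    (hAmax : ∀ x ∈ Subgroup.centralizer (A : Set G), x ^ p = 1 ↔ x ∈ A)
    (hpl : ∀ H : Subgroup G, H ≠ ⊤ → PLengthLE p 1 H)
    (h1411 : ∀ P : Sylow p G, (P : Subgroup G) ≤
      ⁅Subgroup.normalizer ((P : Subgroup G) : Set G), Subgroup.normalizer ((P : Subgroup G) : Set G)⁆)
    (Q : Subgroup G) (hQ : Q ∈ maxInvSubgroups ⊤ A {q})
    (hqC : q ∣ Nat.card (Subgroup.centralizer (A : Set G))) (hQn : IsNarrow q Q) :
    ∃ S : Sylow p G, A ≤ (S : Subgroup G) ∧ (S : Subgroup G) ≤ Subgroup.centralizer (Q : Set G) := by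
  have hs : IsSimpleGroup G := hG.2.1
  have hnc : ¬ IsMulCommutative G := hG.2.2.1
  have hodd : Odd (Nat.card G) := hG.1
  have hpG : p ∣ Nat.card G := by
    obtain ⟨n, hn⟩ := hAp.exists_card_eq
    have hn0 : n ≠ 0 := by
      rintro rfl
      rw [pow_zero] at hn
      exact hA1 (Subgroup.eq_bot_of_card_eq _ hn)
    have h1 : p ∣ Nat.card A := by rw [hn]; exact dvd_pow_self p hn0
    exact h1.trans (Subgroup.card_subgroup_dvd_card A)
  have hTH : TransitivityHypothesis A :=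
    Cfsg.Agent.S1396.result hG p hpG A hAp hAc (Or.inl ⟨hAmax, hpl⟩)
  have hqA : ¬ q ∣ Nat.card A := by
    intro hd
    obtain ⟨n, hn⟩ := hAp.exists_card_eq
    rw [hn] at hd
    exact hpq ((Nat.prime_dvd_prime_iff_eq hq.out hp.out).mp (hq.out.dvd_of_dvd_pow hd)).symm
  have hq2 : q ≠ 2 := by
    rintro rfl
    have h1 : 2 ∣ Nat.card G := hqC.trans (Subgroup.card_subgroup_dvd_card _)
    exact (Nat.not_even_iff_odd.mpr hodd) (even_iff_two_dvd.mpr h1)
  have htr := Cfsg.Agent.S1394.result hG A hTH hAnc q hq.out hqA hqC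
  obtain ⟨S₀, hAS₀⟩ := hAp.exists_le_sylow
  have hS₀top : (S₀ : Subgroup G) ≠ ⊤ := Cfsg.Agent.Lib.Helper54.ne_top_of_isPGroup hs hnc S₀.isPGroup'
  have hPπ : ∀ r : ℕ, r.Prime → r ∣ Nat.card (S₀ : Subgroup G) → r ∣ Nat.card A := by
    intro r hr hrd
    obtain ⟨n, hn⟩ := S₀.isPGroup'.exists_card_eq
    rw [hn] at hrd
    have hrp : r = p := (Nat.prime_dvd_prime_iff_eq hr hp.out).mp (hr.dvd_of_dvd_pow hrd)
    rw [hrp]
    obtain ⟨m, hm⟩ := hAp.exists_card_eq
    have hm0 : m ≠ 0 := by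
      rintro rfl
      rw [pow_zero] at hm
      exact hA1 (Subgroup.eq_bot_of_card_eq _ hm)
    rw [hm]; exact dvd_pow_self p hm0
  obtain ⟨-, -, hc, hd⟩ := Cfsg.Agent.S1395.result hG A hTH q hq.out hqA (S₀ : Subgroup G) hS₀top hPπ hAS₀
    (Cfsg.Agent.Lib.Helper9.isSubnormal_of_isPGroup S₀.isPGroup' _) htr
  obtain ⟨Q', hQ', -⟩ := Cfsg.Agent.Lib.Helper54.exists_maxInv_ge (S₀ : Subgroup G) q
    (Cfsg.Agent.Lib.Helper54.bot_mem_invSubgroups ⊤ (S₀ : Subgroup G) q)
  have hQ'A : Q' ∈ maxInvSubgroups ⊤ A {q} := hc hQ'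
  obtain ⟨k, hk, hQeq⟩ := htr Q' hQ'A Q hQ
  have hkA : k ∈ Subgroup.centralizer (A : Set G) := Cfsg.Agent.Lib.Helper54.piCoreOf_le _ _ hk
  have hS₀N : (S₀ : Subgroup G) ≤ ⁅Subgroup.normalizer (Q' : Set G), Subgroup.normalizer (Q' : Set G)⁆ :=
    (le_inf le_rfl (h1411 S₀)).trans (hd Q' hQ').1
  have hQ'q : IsPGroup q Q' := ((Cfsg.Agent.Lib.Helper54.mem_invSubgroups_iff A q).mp hQ'A.1).1
  have hQ'n : IsNarrow q ↥Q' := by
    have hinj : Function.Injective (MulAut.conj k).toMonoidHom := (MulAut.conj k).injective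
    have e : ↥Q ≃* ↥Q' :=
      (MulEquiv.subgroupCongr hQeq).trans (Q'.equivMapOfInjective _ hinj).symm
    exact Cfsg.Agent.Lib.Helper68.isNarrow_of_mulEquiv q e hQn
  -- `S₀` centralizes `Q'`
  have hAQ' : ∀ a ∈ (S₀ : Subgroup G), ∀ r ∈ Q', a * r = r * a := by
    by_cases hQ'1 : Q' = ⊥
    · intro a _ r hr
      rw [hQ'1, Subgroup.mem_bot] at hr
      rw [hr, mul_one, one_mul]
    have hQ'top : Q' ≠ ⊤ := Cfsg.Agent.Lib.Helper54.ne_top_of_isPGroup hs hnc hQ'q
    have hNtop : Subgroup.normalizer (Q' : Set G) ≠ ⊤ :=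
      Cfsg.Agent.Lib.Helper54.normalizer_ne_top_of_simple hs hQ'1 hQ'top
    have hNsolv : Group.IsSolvable ↥(Subgroup.normalizer (Q' : Set G)) := hG.2.2.2 _ hNtop
    have hNodd : Odd (Nat.card ↥(Subgroup.normalizer (Q' : Set G))) :=
      hodd.of_dvd_nat (Subgroup.card_subgroup_dvd_card _)
    intro a ha r hr
    have haN : a ∈ ⁅Subgroup.normalizer (Q' : Set G), Subgroup.normalizer (Q' : Set G)⁆ :=
      hS₀N ha
    have hcop : (orderOf a).Coprime q := by
      obtain ⟨j, hj⟩ := (IsPGroup.iff_orderOf.mp S₀.isPGroup') ⟨a, ha⟩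
      rw [Subgroup.orderOf_mk] at hj
      rw [hj]
      exact Nat.Coprime.pow_left j ((Nat.coprime_primes hp.out hq.out).mpr hpq)
    by_cases hr2 : PRankLE q 2 ↥Q'
    · exact Cfsg.Agent.Lib.Helper24.centralizes_of_rankLETwo q hq2 (Subgroup.normalizer (Q' : Set G))
        hNodd Q' hQ'q (Cfsg.Agent.Lib.Helper24.rankLETwo_of_pRankLE q Q' hr2) le_rfl a haN hcop r hr
    · rw [← Subgroup.map_subtype_commutator] at haN
      obtain ⟨x, hx, rfl⟩ := haN
      have hle : Q' ≤ Subgroup.normalizer (Q' : Set G) := Subgroup.le_normalizer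
      have hnorm : (Subgroup.inclusion hle).range.Normal := by
        have h1 : (Subgroup.inclusion hle).range = Q'.subgroupOf (Subgroup.normalizer (Q' : Set G)) := by
          ext y
          constructor
          · rintro ⟨z, rfl⟩
            rw [Subgroup.mem_subgroupOf]
            exact z.2
          · intro hy
            rw [Subgroup.mem_subgroupOf] at hy
            exact ⟨⟨y, hy⟩, rfl⟩
        rw [h1]
        exact Subgroup.normal_in_normalizer
      have hcop' : (orderOf x).Coprime q := by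
        rw [← Subgroup.orderOf_coe]
        exact hcop
      have h2 := Cfsg.Agent.Lib.Helper67.narrow_commutator_centralizes q hq2 hQ'q hQ'n hr2
        (Subgroup.inclusion hle) (Subgroup.inclusion_injective hle) hnorm x hx hcop' ⟨r, hr⟩
      have h3 := congrArg Subtype.val h2
      simpa using h3
  -- transport by `k`
  refine ⟨k • S₀, ?_, ?_⟩
  · intro a ha
    rw [Sylow.smul_def, Sylow.pointwise_smul_def] at *
    show a ∈ (MulAut.conj k) • (S₀ : Subgroup G)
    rw [Subgroup.mem_pointwise_smul_iff_inv_smul_mem]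
    show (MulAut.conj k)⁻¹ a ∈ (S₀ : Subgroup G)
    have hka : k * a = a * k := (Subgroup.mem_centralizer_iff.mp hkA a ha).symm
    have h1 : (MulAut.conj k)⁻¹ a = a := by
      rw [← map_inv, MulAut.conj_apply, inv_inv]
      rw [mul_assoc, ← hka, ← mul_assoc, inv_mul_cancel, one_mul]
    rw [h1]
    exact hAS₀ ha
  · intro y hy
    have hy' : y ∈ (MulAut.conj k) • (S₀ : Subgroup G) := hy
    rw [Subgroup.mem_pointwise_smul_iff_inv_smul_mem] at hy'
    have hy'' : k⁻¹ * y * k ∈ (S₀ : Subgroup G) := by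
      have h1 : (MulAut.conj k)⁻¹ • y = k⁻¹ * y * k := by
        show (MulAut.conj k)⁻¹ y = _
        rw [← map_inv, MulAut.conj_apply, inv_inv]
      rw [← h1]
      exact hy'
    rw [Subgroup.mem_centralizer_iff]
    intro z hz
    rw [hQeq] at hz
    obtain ⟨r, hr, rfl⟩ := hz
    have h := hAQ' _ hy'' r hr
    show (MulAut.conj k) r * y = y * (MulAut.conj k) r
    rw [MulAut.conj_apply]
    calc k * r * k⁻¹ * y = k * (r * (k⁻¹ * y * k)) * k⁻¹ := by group
      _ = k * ((k⁻¹ * y * k) * r) * k⁻¹ := by rw [h]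
      _ = y * (k * r * k⁻¹) := by group


/-- A `q`-subgroup `Q` of `G` containing a subgroup `B` which is elementary abelian of order `q ^ 2` and
maximal among the elementary abelian `q`-subgroups of `G` is narrow. -/
theorem isNarrow_of_le_of_maximal_sq (q : ℕ) [hq : Fact q.Prime] (hq2 : q ≠ 2) (Q B : Subgroup G)
    (hQ : IsPGroup q Q) (hBQ : B ≤ Q) (hBe : IsElementaryAbelian q B) (hBc : Nat.card B = q ^ 2)
    (hBmax : ∀ B' : Subgroup G, IsElementaryAbelian q B' → B ≤ B' → B' = B) : IsNarrow q ↥Q := by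
  by_cases hr : PRankLE q 2 ↥Q
  · exact Or.inl hr
  refine Cfsg.Agent.Lib.Helper24.isNarrow_of_maximal_sq q hq2 hQ hr (B.subgroupOf Q) ?_ ?_ ?_
  · refine ⟨⟨⟨?_⟩⟩, ?_⟩
    · rintro ⟨a, ha⟩ ⟨b, hb⟩
      rw [Subgroup.mem_subgroupOf] at ha hb
      apply Subtype.ext
      apply Subtype.ext
      exact Cfsg.Agent.Lib.Helper45.IsElementaryAbelian_comm hBe ha hb
    · intro a ha
      rw [Subgroup.mem_subgroupOf] at ha
      apply Subtype.ext
      have := hBe.2 a.1 ha
      simpa using this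
  · rw [← hBc]
    exact Nat.card_congr (Subgroup.subgroupOfEquivOfLe hBQ).toEquiv
  · intro B' hB' hle
    have h1 : IsElementaryAbelian q (B'.map Q.subtype) := by
      refine ⟨⟨⟨?_⟩⟩, ?_⟩
      · rintro ⟨a, ha⟩ ⟨b, hb⟩
        obtain ⟨a', ha', rfl⟩ := ha
        obtain ⟨b', hb', rfl⟩ := hb
        apply Subtype.ext
        have h2 := Cfsg.Agent.Lib.Helper45.IsElementaryAbelian_comm hB' ha' hb'
        have h3 := congrArg Subtype.val h2
        simpa using h3
      · rintro a ⟨a', ha', rfl⟩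
        have := hB'.2 a' ha'
        have h2 := congrArg Subtype.val this
        simpa using h2
    have h2 : B ≤ B'.map Q.subtype := by
      intro b hb
      exact ⟨⟨b, hBQ hb⟩, hle (Subgroup.mem_subgroupOf.mpr hb), rfl⟩
    have h3 := hBmax _ h1 h2
    apply le_antisymm _ hle
    intro x hx
    rw [Subgroup.mem_subgroupOf, ← h3]
    exact ⟨x, hx, rfl⟩

/-- In a maximal subgroup `M` of a minimal simple group of odd order (with the Uniqueness Theorem), an
elementary abelian subgroup `A ≤ M` of order `p ^ 2` with `p ∉ σ(M)` satisfies `Ω₁(C_G(A)) = A`. -/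
theorem pow_eq_one_iff_mem_of_not_mem_sigma [IsSimpleGroup G]
    (hU : Cfsg.Agent.Lib.Helper34.UniquenessThm G) {M : Subgroup G} (hM : IsCoatom M) {p : ℕ}
    [Fact p.Prime] (hp : p ∉ sigma M) {A : Subgroup G} (hAM : A ≤ M) (hAe : IsElementaryAbelian p A)
    (hAc : Nat.card A = p ^ 2) : ∀ x ∈ Subgroup.centralizer (A : Set G), x ^ p = 1 ↔ x ∈ A := by
  intro x hx
  refine ⟨fun hxp => ?_, fun hxA => hAe.2 x hxA⟩
  have hAcomm : ∀ a ∈ A, ∀ b ∈ A, a * b = b * a := by
    intro a ha b hb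
    exact Cfsg.Agent.Lib.Helper45.IsElementaryAbelian_comm hAe ha hb
  have h1 : IsElementaryAbelian p (Subgroup.closure ((A : Set G) ∪ {x})) := by
    apply Cfsg.Agent.Lib.Helper55.BGEleven.isElementaryAbelian_closure
    · rintro a (ha | ha) b (hb | hb)
      · exact hAcomm a ha b hb
      · rw [Set.mem_singleton_iff] at hb; subst hb
        exact Subgroup.mem_centralizer_iff.mp hx a ha
      · rw [Set.mem_singleton_iff] at ha; subst ha
        exact (Subgroup.mem_centralizer_iff.mp hx b hb).symm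
      · rw [Set.mem_singleton_iff] at ha hb; rw [ha, hb]
    · rintro a (ha | ha)
      · exact hAe.2 a ha
      · rw [Set.mem_singleton_iff] at ha; subst ha; exact hxp
  have h2 : A ≤ Subgroup.closure ((A : Set G) ∪ {x}) := fun a ha =>
    Subgroup.subset_closure (Or.inl ha)
  have h3 := Cfsg.Agent.Lib.Helper34.eq_of_le_isElementaryAbelian hU hM hp hAM hAe hAc h1 h2
  rw [← h3]
  exact Subgroup.subset_closure (Or.inr rfl)

/-- **BG 10.11(b) for two primes outside `σ(M)`** (helper21's `hToolP`): `A, B ≤ M` elementary abelian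
of orders `p ^ 2`, `r ^ 2`, `p ≠ r`, both primes outside `σ(M)`, `B` centralizes `A`.  Then some Sylow
`p`-subgroup of `G` contains `A` and centralizes `B`. -/
theorem exists_sylow_le_centralizer_of_not_mem_sigma (hG : IsMinSimpleOddOrder G)
    (hU : Cfsg.Agent.Lib.Helper34.UniquenessThm G) (M : Subgroup G) (hM : IsCoatom M) (p r : ℕ)
    [hp : Fact p.Prime] [hr : Fact r.Prime] (hrp : r ≠ p) (hpσ : p ∉ sigma M) (hrσ : r ∉ sigma M)
    (hpl : ∀ H : Subgroup G, H ≠ ⊤ → PLengthLE p 1 H)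
    (h1411 : ∀ P : Sylow p G, (P : Subgroup G) ≤
      ⁅Subgroup.normalizer ((P : Subgroup G) : Set G), Subgroup.normalizer ((P : Subgroup G) : Set G)⁆)
    (A B : Subgroup G) (hAM : A ≤ M) (hAe : IsElementaryAbelian p A) (hAc : Nat.card A = p ^ 2)
    (hBM : B ≤ M) (hBe : IsElementaryAbelian r B) (hBc : Nat.card B = r ^ 2)
    (hBA : B ≤ Subgroup.centralizer (A : Set G)) :
    ∃ S : Sylow p G, A ≤ (S : Subgroup G) ∧ (S : Subgroup G) ≤ Subgroup.centralizer (B : Set G) := by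
  have hs : IsSimpleGroup G := hG.2.1
  have hodd : Odd (Nat.card G) := hG.1
  have hAp : IsPGroup p A := Cfsg.Agent.Lib.Helper34.isPGroup_of_isElementaryAbelian hAe
  have hBr : IsPGroup r B := Cfsg.Agent.Lib.Helper34.isPGroup_of_isElementaryAbelian hBe
  have hA1 : A ≠ ⊥ := by
    intro h
    rw [h, Subgroup.card_bot] at hAc
    have : 1 < p ^ 2 := Nat.one_lt_pow (by norm_num) hp.out.one_lt
    omega
  have hAcomm : ∀ a ∈ A, ∀ b ∈ A, a * b = b * a := by
    intro a ha b hb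
    exact Cfsg.Agent.Lib.Helper45.IsElementaryAbelian_comm hAe ha hb
  have hAC : A ≤ A ⊓ Subgroup.centralizer (A : Set G) := by
    refine le_inf le_rfl ?_
    intro a ha
    rw [Subgroup.mem_centralizer_iff]
    intro b hb
    exact hAcomm b hb a ha
  have hAnc : ¬ RankLE 1 ↥(A ⊓ Subgroup.centralizer (A : Set G)) := by
    apply Cfsg.Agent.Lib.Helper34.not_rankLE_of_isElementaryAbelian hAe hAC
    rw [hAc, pow_one]
    calc p = p ^ 1 := (pow_one p).symm
      _ < p ^ 2 := Nat.pow_lt_pow_right hp.out.one_lt (by norm_num)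
  have hAmax := pow_eq_one_iff_mem_of_not_mem_sigma hU hM hpσ hAM hAe hAc
  have hAB : A ≤ Subgroup.normalizer (B : Set G) := by
    intro a ha
    apply Subgroup.centralizer_le_normalizer
    rw [Subgroup.mem_centralizer_iff]
    intro b hb
    exact (Subgroup.mem_centralizer_iff.mp (hBA hb) a ha).symm
  have hBinv : B ∈ invSubgroups ⊤ A {r} := (mem_invSubgroups_iff A r).mpr ⟨hBr, hAB⟩
  obtain ⟨Q, hQ, hBQ⟩ := exists_maxInv_ge A r hBinv
  have hQr : IsPGroup r Q := ((mem_invSubgroups_iff A r).mp hQ.1).1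
  have hrB : r ∣ Nat.card B := by rw [hBc]; exact dvd_pow_self r (by norm_num)
  have hrC : r ∣ Nat.card (Subgroup.centralizer (A : Set G)) :=
    hrB.trans (Subgroup.card_dvd_of_le hBA)
  have hr2 : r ≠ 2 := by
    rintro rfl
    have h1 : 2 ∣ Nat.card G := hrB.trans (Subgroup.card_subgroup_dvd_card _)
    exact (Nat.not_even_iff_odd.mpr hodd) (even_iff_two_dvd.mpr h1)
  have hQn : IsNarrow r ↥Q :=
    isNarrow_of_le_of_maximal_sq r hr2 Q B hQr hBQ hBe hBc
      (fun B' hB' hle =>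
        Cfsg.Agent.Lib.Helper34.eq_of_le_isElementaryAbelian hU hM hrσ hBM hBe hBc hB' hle)
  obtain ⟨S, hAS, hSQ⟩ := exists_sylow_le_centralizer_of_maxInv_narrow hG p r (Ne.symm hrp) A hAp
    hAe.1 hA1 hAnc hAmax hpl h1411 Q hQ hrC hQn
  exact ⟨S, hAS, hSQ.trans (Subgroup.centralizer_le hBQ)⟩


/-- helper21's `hToolP` hypothesis of `s1419_tau2`, in exactly that shape. -/
theorem toolP_tau2 (hG : IsMinSimpleOddOrder G) (hU : Cfsg.Agent.Lib.Helper34.UniquenessThm G)
    (M : Subgroup G) (hM : IsCoatom M) (p : ℕ) [hp : Fact p.Prime] (hpτ : p ∈ tau2 M)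
    (hpl : ∀ H : Subgroup G, H ≠ ⊤ → PLengthLE p 1 H)
    (h1411 : ∀ P : Sylow p G, (P : Subgroup G) ≤
      ⁅Subgroup.normalizer ((P : Subgroup G) : Set G), Subgroup.normalizer ((P : Subgroup G) : Set G)⁆)
    (A : Subgroup G) (hAM : A ≤ M) (hAe : IsElementaryAbelian p A) (hAc : Nat.card A = p ^ 2) :
    ∀ (r : ℕ) [Fact r.Prime] (B : Subgroup G), r ≠ p → r ∈ tau2 M → B ≤ M →
      IsElementaryAbelian r B → Nat.card B = r ^ 2 → B ≤ Subgroup.centralizer (A : Set G) →
      A ≤ Subgroup.normalizer (B : Set G) →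
      ∃ S : Sylow p G, A ≤ (S : Subgroup G) ∧ (S : Subgroup G) ≤ Subgroup.centralizer (B : Set G) :=
  fun r _ B hrp hrτ hBM hBe hBc hBA _ =>
    exists_sylow_le_centralizer_of_not_mem_sigma hG hU M hM p r hrp hpτ.2.1 hrτ.2.1 hpl h1411 A B hAM
      hAe hAc hBM hBe hBc hBA

end Cfsg.Agent.Lib.Helper54
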