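import Mathlib
import Cfsg.Prelude.Def_OddOrderLocal
import Cfsg.Agent.Lib.Helper54.BGFourteenDefs
import Cfsg.Agent.Lib.Helper50.SigmaDecomp
import Cfsg.Agent.Lib.Helper62.PiHall
import Cfsg.Agent.Lib.Helper30.BGNonab
import Cfsg.Agent.S1350
import Cfsg.Agent.S1403
import Cfsg.Agent.S1416
import Cfsg.Agent.S1417
import Cfsg.Agent.S1418
import Cfsg.Agent.S1420

/-!
# Bender–Glauberman Corollary 14.3 (`pi_of_cent_sigma`, S1432), conditional on Theorem 14.2  (helper54)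

`x ∈ M_σ^#`, `x' ∈ C_M(x)^#` a `σ(M)'`-element.  Then either `x'` is a `κ(M)`-element and
`C_G(x) ≤ M`, or `x'` is a `τ₂(M)`-element, all its primes lie in `σ(L)` for one maximal `L`, and
`𝓜(C_G(x')) = {M}`.

Inputs: `Stmt1430 G`, `Stmt1431 G` (Theorem 14.2) and the landed rows S1350, S1403, S1416, S1417,
S1418, S1420.
-/

set_option autoImplicit false

namespace Cfsg.Agent.Lib.Helper54

open Cfsg
open Cfsg.Agent.Lib.Helper50 (UniqThree alpha_subset_sigma eq_one_of_commute_of_not_mem_kappa)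

universe u

variable {G : Type u} [Group G]

/-- a power of `x` of prime order `p ∣ o(x)` -/
theorem exists_pow_orderOf_eq_prime [Finite G] {x : G} {p : ℕ} (_hp : p.Prime) (hpx : p ∣ orderOf x) :
    ∃ c : ℕ, orderOf (x ^ c) = p := by
  obtain ⟨c, hc⟩ := hpx
  refine ⟨c, ?_⟩
  have hpos : 0 < orderOf x := orderOf_pos x
  have hcpos : 0 < c := by
    rcases Nat.eq_zero_or_pos c with h | h
    · rw [h, mul_zero] at hc; omega
    · exact h
  rw [orderOf_pow' x hcpos.ne', hc, Nat.gcd_eq_right (Dvd.intro_left p rfl)]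
  exact Nat.mul_div_cancel _ hcpos

theorem uniqThree_of_minSimple [Finite G] (hG : IsMinSimpleOddOrder G) : UniqThree G :=
  fun K hK h1 h2 => Cfsg.Agent.S1403.result hG K hK h1 (Or.inl h2)

/-- a prime divisor `p ∉ σ(M)` of the order of an element of `M` centralizing a nonidentity element of
`M_σ` lies in `κ(M)` or in `τ₂(M)` -/
theorem mem_kappa_or_tau2_of_dvd_orderOf [Finite G] (hG : IsMinSimpleOddOrder G) (M : Subgroup G)
    (hM : IsCoatom M) {x x' : G} (hx : x ∈ sigmaCore M) (hx1 : x ≠ 1) (hx'M : x' ∈ M)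
    (hc : x' * x = x * x') {p : ℕ} (hp : p.Prime) (hpx : p ∣ orderOf x') (hpσ : p ∉ sigma M) :
    p ∈ kappa M ∨ p ∈ tau2 M := by
  have : Fact p.Prime := ⟨hp⟩
  have hU := uniqThree_of_minSimple hG
  have hpM : p ∣ Nat.card M := by
    have h1 : orderOf x' ∣ Nat.card M := by
      have := orderOf_dvd_natCard (⟨x', hx'M⟩ : M)
      rwa [Subgroup.orderOf_mk] at this
    exact hpx.trans h1
  have hp2 : p ≠ 2 := by
    intro h
    have h2 : 2 ∣ Nat.card G := h ▸ hpM.trans (Subgroup.card_subgroup_dvd_card M)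
    exact (Nat.not_even_iff_odd.mpr hG.1) (even_iff_two_dvd.mpr h2)
  have hr2 : PRankLE p 2 M := by
    by_contra h
    exact hpσ (alpha_subset_sigma hG hU M hM ⟨hp, h⟩)
  by_cases hr1 : PRankLE p 1 M
  · left
    by_contra hκ
    obtain ⟨c, hcp⟩ := exists_pow_orderOf_eq_prime hp hpx
    have hv1 : x' ^ c ≠ 1 := by
      intro h
      rw [h, orderOf_one] at hcp
      exact hp.one_lt.ne hcp
    have hvp : IsPGroup p (Subgroup.zpowers (x' ^ c)) := by
      apply IsPGroup.of_card (n := 1)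
      rw [Nat.card_zpowers, hcp, pow_one]
    have hvy : x' ^ c * x = x * x' ^ c := ((show Commute x' x from hc).pow_left c).eq
    exact hx1 (eq_one_of_commute_of_not_mem_kappa hp2 hpM hpσ hκ hr1
      (M.pow_mem hx'M c) hv1 hvp hx hvy)
  · right
    exact ⟨hp, hpσ, hr2, hr1⟩

/-- a Hall `κ(M)`-subgroup of `M` containing a given element of prime order `p ∈ κ(M)` -/
theorem exists_kappaHall_mem [Finite G] (hG : IsMinSimpleOddOrder G) (M : Subgroup G)
    (hM : IsCoatom M) {a : G} (haM : a ∈ M) {p : ℕ} (hpκ : p ∈ kappa M) (hap : orderOf a = p) :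
    ∃ K : Subgroup G, IsPiHallOf (kappa M) K M ∧ a ∈ K ∧ K ≠ ⊥ := by
  have hMs : Group.IsSolvable M := hG.2.2.2 M hM.1
  obtain ⟨K, hK, haK⟩ := Cfsg.Agent.Lib.Helper62.isPiHallOf_dom (π := kappa M) hMs
    (Subgroup.zpowers_le.mpr haM) (by
      intro q hq hqd
      rw [Nat.card_zpowers, hap] at hqd
      rwa [(Nat.prime_dvd_prime_iff_eq hq hpκ.1).mp hqd])
  refine ⟨K, hK, haK (Subgroup.mem_zpowers a), ?_⟩
  intro h
  have ha1 : a = 1 := by
    have := haK (Subgroup.mem_zpowers a)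
    rwa [h, Subgroup.mem_bot] at this
  rw [ha1, orderOf_one] at hap
  exact hpκ.1.one_lt.ne hap

/-- `|K K*| = |K| |K*|` for a `κ(M)`-subgroup `K` and `K* = C_{M_σ}(K)`. -/
theorem prime_dvd_card_sup_kstar [Finite G] (hG : IsMinSimpleOddOrder G) (M : Subgroup G)
    (hM : IsCoatom M) {K : Subgroup G} (hK : IsPiHallOf (kappa M) K M) {q : ℕ} (hq : q.Prime)
    (hqd : q ∣ Nat.card ↥(K ⊔ (sigmaCore M ⊓ Subgroup.centralizer (K : Set G)))) :
    q ∈ kappa M ∨ q ∈ sigma M := by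
  have h1350 := (Cfsg.Agent.S1350.result hG M hM).1
  set Ks := sigmaCore M ⊓ Subgroup.centralizer (K : Set G) with hKs
  have hnorm : Ks ≤ Subgroup.normalizer (K : Set G) :=
    inf_le_right.trans (Subgroup.centralizer_le_normalizer _)
  have hcop : (Nat.card K).Coprime (Nat.card Ks) := by
    apply Nat.coprime_of_dvd
    intro r hr hrK hrKs
    have h1 : r ∈ kappa M := hK.2.1 r hr hrK
    have h2 : r ∈ sigma M :=
      h1350.2.1 r hr (hrKs.trans (Subgroup.card_dvd_of_le inf_le_left))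
    exact h1.2.2.1 h2
  have hdisj : K ⊓ Ks = ⊥ := (Subgroup.disjoint_of_coprime_natCard hcop).eq_bot
  have hcard := card_sup_of_le_normalizer hnorm hdisj
  rw [hcard] at hqd
  rcases (Nat.Prime.dvd_mul hq).mp hqd with h | h
  · exact Or.inl (hK.2.1 q hq h)
  · exact Or.inr (h1350.2.1 q hq (h.trans (Subgroup.card_dvd_of_le inf_le_left)))

/-- a prime `p ∉ σ(L)` for which `L` contains an elementary abelian subgroup of order `p ^ 2` lies in
`τ₂(L)` -/
theorem mem_tau2_of_elemAb [Finite G] (hG : IsMinSimpleOddOrder G) (L : Subgroup G)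
    (hL : IsCoatom L) {p : ℕ} [hp : Fact p.Prime] (hpσ : p ∉ sigma L) {A : Subgroup G}
    (hAL : A ≤ L) (hAe : IsElementaryAbelian p A) (hAc : Nat.card A = p ^ 2) : p ∈ tau2 L := by
  have hU := uniqThree_of_minSimple hG
  refine ⟨hp.out, hpσ, ?_, ?_⟩
  · by_contra h
    exact hpσ (alpha_subset_sigma hG hU L hL ⟨hp.out, h⟩)
  · apply not_pRankLE_of_elemAb hAL
      (fun x hx y hy => Cfsg.Agent.Lib.Helper45.IsElementaryAbelian_comm hAe hx hy) hAe.2
    rw [hAc]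
    exact Nat.pow_lt_pow_right hp.out.one_lt (by norm_num)

/-- If `N_G(A) ≤ L` for an elementary abelian subgroup `A` of order `p ^ 2`, then `p ∈ σ(L)`
(S1417(b) applied to `L`). -/
theorem mem_sigma_of_normalizer_elemAb_le [Finite G] (hG : IsMinSimpleOddOrder G) (L : Subgroup G)
    (hL : IsCoatom L) {p : ℕ} [hp : Fact p.Prime] {A : Subgroup G}
    (hAe : IsElementaryAbelian p A) (hAc : Nat.card A = p ^ 2)
    (hNA : Subgroup.normalizer (A : Set G) ≤ L) : p ∈ sigma L := by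
  have hAL : A ≤ L := Subgroup.le_normalizer.trans hNA
  by_contra hpσ
  have hτ := mem_tau2_of_elemAb hG L hL hpσ hAL hAe hAc
  have h17 := (Cfsg.Agent.S1417.result hG L hL p hτ A ⟨hAL, hAe, hAc⟩).2.1
  have hAp : IsPGroup p A := IsPGroup.of_card hAc
  obtain ⟨P, hP⟩ := exists_sylow_map_ge hAL hAp
  obtain ⟨-, h2⟩ := h17 P
  obtain ⟨hΩ, hN⟩ := h2 hP
  apply hN
  refine le_trans ?_ hNA
  intro g hg
  rw [Subgroup.mem_normalizer_iff] at hg ⊢
  -- it suffices to show that normalizing elements map `A` into `A`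
  have key : ∀ g : G, (∀ h, h ∈ (P : Subgroup L).map L.subtype ↔
      g * h * g⁻¹ ∈ (P : Subgroup L).map L.subtype) → ∀ a ∈ A, g * a * g⁻¹ ∈ A := by
    intro g hg a ha
    have h1 : g * a * g⁻¹ ∈ (P : Subgroup L).map L.subtype := (hg a).mp (hP ha)
    rw [← hΩ _ h1]
    have : (g * a * g⁻¹) ^ p = g * a ^ p * g⁻¹ := conj_pow
    rw [this, hAe.2 a ha]
    group
  intro a
  constructor
  · exact key g hg a
  · intro ha
    have hg' : ∀ h, h ∈ (P : Subgroup L).map L.subtype ↔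
        g⁻¹ * h * g⁻¹⁻¹ ∈ (P : Subgroup L).map L.subtype := by
      intro h
      rw [hg (g⁻¹ * h * g⁻¹⁻¹)]
      have : g * (g⁻¹ * h * g⁻¹⁻¹) * g⁻¹ = h := by group
      rw [this]
    have := key g⁻¹ hg' _ ha
    have h3 : g⁻¹ * (g * a * g⁻¹) * g⁻¹⁻¹ = a := by group
    rwa [h3] at this

/-- all `τ₂(M)`-primes of an element of `M` lie in `σ(L)` for a single maximal subgroup `L` -/
theorem exists_coatom_sigma_of_tau2 [Finite G] (hG : IsMinSimpleOddOrder G) (M : Subgroup G)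
    (hM : IsCoatom M) {x' : G} (hx'1 : x' ≠ 1)
    (hτ : ∀ p : ℕ, p.Prime → p ∣ orderOf x' → p ∈ tau2 M) :
    ∃ L : Subgroup G, IsCoatom L ∧ ∀ p : ℕ, p.Prime → p ∣ orderOf x' → p ∈ sigma L := by
  have h1350 := (Cfsg.Agent.S1350.result hG M hM).1
  obtain ⟨E, hE⟩ := Cfsg.Agent.Lib.Helper30.BGNonab.exists_isComplIn M h1350
  -- elementary abelian subgroups of `E` of order `p ^ 2`, `p ∈ τ₂(M)`
  have hA : ∀ (p : ℕ) [Fact p.Prime], p ∈ tau2 M →
      ∃ A : Subgroup G, A ≤ E ∧ IsElementaryAbelian p A ∧ Nat.card A = p ^ 2 := by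
    intro p _ hp
    have h1 : ¬ PRankLE p 1 ↥E :=
      Cfsg.Agent.Lib.Helper97.BGTwelve.not_pRankLE_complement hE h1350.2.1 hp.2.1 hp.2.2.2
    exact Cfsg.Agent.Lib.Helper97.BGTwelve.exists_elemAb_sq_of_not_pRankLE_one E h1
  have ho : orderOf x' ≠ 1 := fun h => hx'1 (orderOf_eq_one_iff.mp h)
  obtain ⟨p₀, hp₀, hp₀x⟩ := Nat.exists_prime_and_dvd ho
  have : Fact p₀.Prime := ⟨hp₀⟩
  have hτ₀ := hτ p₀ hp₀ hp₀x
  obtain ⟨A₀, hA₀E, hA₀e, hA₀c⟩ := hA p₀ hτ₀
  have h18 := Cfsg.Agent.S1418.result hG M hM E hE p₀ hτ₀ A₀ ⟨hA₀E, hA₀e, hA₀c⟩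
  have hEN : E ≤ Subgroup.normalizer (A₀ : Set G) := h18.1.1
  have hNM : ¬ Subgroup.normalizer (A₀ : Set G) ≤ M := h18.2.1.2.2
  have hA₀bot : A₀ ≠ ⊥ := by
    intro h
    rw [h, Subgroup.card_bot] at hA₀c
    have := Nat.one_lt_pow (n := 2) (by norm_num) hp₀.one_lt
    omega
  have hA₀top : A₀ ≠ ⊤ := by
    intro h
    apply hM.1
    rw [eq_top_iff, ← h]
    exact hA₀E.trans hE.1
  have hNtop := normalizer_ne_top_of_simple hG.2.1 hA₀bot hA₀top
  obtain ⟨L, hL, hNL⟩ := (eq_top_or_exists_le_coatom _).resolve_left hNtop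
  have hLM : M ≠ L := fun h => hNM (h ▸ hNL)
  have hEL : E ≤ L := hEN.trans hNL
  have hp₀L : p₀ ∈ sigma L := mem_sigma_of_normalizer_elemAb_le hG L hL hA₀e hA₀c hNL
  have h1350L := (Cfsg.Agent.S1350.result hG L hL).1
  have hA₀Lσ : A₀ ≤ sigmaCore L :=
    Cfsg.Agent.Lib.Helper30.BGNonab.le_sigmaCore_of_isPGroup L h1350L hp₀L
      (IsPGroup.of_card hA₀c) (hA₀E.trans hEL)
  refine ⟨L, hL, ?_⟩
  intro p hp hpx
  have : Fact p.Prime := ⟨hp⟩
  have hτp := hτ p hp hpx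
  obtain ⟨A, hAE, hAe, hAc⟩ := hA p hτp
  by_contra hpσ
  have hτL := mem_tau2_of_elemAb hG L hL hpσ (hAE.trans hEL) hAe hAc
  have h17 := (Cfsg.Agent.S1417.result hG L hL p hτL A ⟨hAE.trans hEL, hAe, hAc⟩).2.2.2.2.1
  have h0 := h17 M hM hLM (hAE.trans hE.1)
  apply hA₀bot
  rw [eq_bot_iff, ← h0]
  exact le_inf hA₀Lσ (hA₀E.trans hE.1)

/-- **S1432** (B&G Corollary 14.3), conditional on Theorem 14.2 (`Stmt1430`, `Stmt1431`). -/
theorem s1432_of [Finite G] (hG : IsMinSimpleOddOrder G) (h30 : Stmt1430 G) (h31 : Stmt1431 G)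
    (M : Subgroup G) (hM : IsCoatom M) (x : G) (hx : x ∈ sigmaCore M) (hx1 : x ≠ 1) (x' : G)
    (hx' : x' ∈ M ⊓ Subgroup.centralizer ({x} : Set G)) (hx'1 : x' ≠ 1)
    (hσ : ∀ p : ℕ, p.Prime → p ∣ orderOf x' → p ∉ sigma M) :
    ((∀ p : ℕ, p.Prime → p ∣ orderOf x' → p ∈ kappa M) ∧
        Subgroup.centralizer ({x} : Set G) ≤ M) ∨
      ((∀ p : ℕ, p.Prime → p ∣ orderOf x' → p ∈ tau2 M) ∧
        (∃ L : Subgroup G, IsCoatom L ∧ ∀ p : ℕ, p.Prime → p ∣ orderOf x' → p ∈ sigma L) ∧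
        (Subgroup.centralizer ({x'} : Set G) ≤ M ∧
          ∀ L : Subgroup G, IsCoatom L → Subgroup.centralizer ({x'} : Set G) ≤ L → L = M)) := by
  have h1350 := (Cfsg.Agent.S1350.result hG M hM).1
  have hx'M : x' ∈ M := hx'.1
  have hxM : x ∈ M := h1350.1 hx
  have hc : x' * x = x * x' := by
    have := (Subgroup.mem_centralizer_iff.mp hx'.2) x (Set.mem_singleton x)
    exact this.symm
  have hcl := fun (p : ℕ) (hp : p.Prime) (hpx : p ∣ orderOf x') =>
    mem_kappa_or_tau2_of_dvd_orderOf hG M hM hx hx1 hx'M hc hp hpx (hσ p hp hpx)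
  -- an element of prime order `p ∈ κ(M)` dividing `o(x')` gives `K`, with `x ∈ K*`
  have hK : ∀ p : ℕ, p.Prime → p ∣ orderOf x' → p ∈ kappa M →
      ∃ (K : Subgroup G) (a : G), IsPiHallOf (kappa M) K M ∧ K ≠ ⊥ ∧ a ∈ K ∧ orderOf a = p ∧
        (∃ c : ℕ, a = x' ^ c) := by
    intro p hp hpx hpκ
    obtain ⟨c, hcp⟩ := exists_pow_orderOf_eq_prime hp hpx
    obtain ⟨K, hK, haK, hK1⟩ := exists_kappaHall_mem hG M hM (M.pow_mem hx'M c) hpκ hcp
    exact ⟨K, x' ^ c, hK, hK1, haK, hcp, c, rfl⟩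
  by_cases hall : ∀ p : ℕ, p.Prime → p ∣ orderOf x' → p ∈ kappa M
  · left
    refine ⟨hall, ?_⟩
    have ho : orderOf x' ≠ 1 := fun h => hx'1 (orderOf_eq_one_iff.mp h)
    obtain ⟨p₁, hp₁, hp₁x⟩ := Nat.exists_prime_and_dvd ho
    obtain ⟨K, a, hKH, hK1, haK, hap, c, hac⟩ := hK p₁ hp₁ hp₁x (hall p₁ hp₁ hp₁x)
    have ha1 : a ≠ 1 := by
      intro h
      rw [h, orderOf_one] at hap
      exact hp₁.one_lt.ne hap
    obtain ⟨h30a, -, -⟩ := h30 M hM K hKH hK1
    obtain ⟨h31a, -, -, -⟩ := h31 M hM K hKH hK1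
    have hxa : a * x = x * a := by
      rw [hac]; exact ((show Commute x' x from hc).pow_left c).eq
    have hxKs : x ∈ sigmaCore M ⊓ Subgroup.centralizer (K : Set G) := by
      rw [← h30a a haK ha1]
      refine ⟨hx, ?_⟩
      show x ∈ Subgroup.centralizer ({a} : Set G)
      rw [Subgroup.mem_centralizer_iff]
      intro h hh
      rw [Set.mem_singleton_iff] at hh
      rw [hh]; exact hxa
    intro g hg
    by_contra hgM
    have hgx : g * x * g⁻¹ = x := by
      have := (Subgroup.mem_centralizer_iff.mp hg) x (Set.mem_singleton x)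
      rw [← this]; group
    have : x ∈ (sigmaCore M ⊓ Subgroup.centralizer (K : Set G)) ⊓
        M.map (MulAut.conj g).toMonoidHom := by
      refine ⟨hxKs, x, hxM, ?_⟩
      simpa [MulAut.conj_apply] using hgx
    rw [h31a g hgM, Subgroup.mem_bot] at this
    exact hx1 this
  · right
    push Not at hall
    obtain ⟨p₂, hp₂, hp₂x, hp₂κ⟩ := hall
    have hτall : ∀ p : ℕ, p.Prime → p ∣ orderOf x' → p ∈ tau2 M := by
      intro p hp hpx
      rcases hcl p hp hpx with hκ | hτ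
      swap
      · exact hτ
      exfalso
      obtain ⟨K, a, hKH, hK1, haK, hap, c, hac⟩ := hK p hp hpx hκ
      obtain ⟨-, -, h30c⟩ := h30 M hM K hKH hK1
      have hXK : Subgroup.zpowers a ≤ K := Subgroup.zpowers_le.mpr haK
      have hXc : (Nat.card (Subgroup.zpowers a)).Prime := by
        rw [Nat.card_zpowers, hap]; exact hp
      obtain ⟨hN, -, -⟩ := h30c (Subgroup.zpowers a) hXK hXc
      obtain ⟨c₂, hc₂⟩ := exists_pow_orderOf_eq_prime hp₂ hp₂x
      set b := x' ^ c₂ with hb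
      have hbM : b ∈ M := M.pow_mem hx'M c₂
      have hab : b * a = a * b := by
        rw [hac, hb, ← pow_add, ← pow_add, add_comm]
      have hbN : b ∈ M ⊓ Subgroup.normalizer ((Subgroup.zpowers a : Subgroup G) : Set G) := by
        refine ⟨hbM, ?_⟩
        apply Subgroup.centralizer_le_normalizer
        rw [Subgroup.mem_centralizer_iff]
        intro h hh
        obtain ⟨k, rfl⟩ := Subgroup.mem_zpowers_iff.mp hh
        exact ((show Commute b a from hab).zpow_right k).eq.symm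
      rw [hN] at hbN
      have hdvd : p₂ ∣ Nat.card ↥(K ⊔ (sigmaCore M ⊓ Subgroup.centralizer (K : Set G))) := by
        have h1 := orderOf_dvd_natCard (⟨b, hbN⟩ :
          ↥(K ⊔ (sigmaCore M ⊓ Subgroup.centralizer (K : Set G))))
        rwa [Subgroup.orderOf_mk, hc₂] at h1
      rcases prime_dvd_card_sup_kstar hG M hM hKH hp₂ hdvd with h | h
      · exact hp₂κ h
      · exact hσ p₂ hp₂ hp₂x h
    refine ⟨hτall, exists_coatom_sigma_of_tau2 hG M hM hx'1 hτall, ?_⟩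
    obtain ⟨E, hE⟩ := Cfsg.Agent.Lib.Helper30.BGNonab.exists_isComplIn M h1350
    exact (Cfsg.Agent.S1420.result hG M hM E hE).2.2.2 x' hx'M hx'1 hτall
      ⟨hx'M, x, hx, hx1, hc⟩

end Cfsg.Agent.Lib.Helper54
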