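import Mathlib
import Cfsg.Prelude.Def_OddOrderLocal
import Cfsg.Agent.Lib.Helper54.BGFourteenDefs
import Cfsg.Agent.Lib.Helper54.BGFourteenEmbedA
import Cfsg.Agent.Lib.Helper54.BGFourteenThree
import Cfsg.Agent.Lib.Helper24.PrimeAction
import Cfsg.Agent.Lib.Helper51.BGTwelveA

/-!
# B&G Theorem 14.7 (`Ptype_embedding`) for a given partner `M*` (S1434), conditional  (helper54)

Inputs: `Stmt1430 G`, `Stmt1431 G` (Theorem 14.2), `KappaHallCyclic G`, and
`hR : M_σ ⊓ M*_σ = ⊥` (a consequence of B&G 13.9, or of 13.2(a)).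
-/

set_option autoImplicit false

namespace Cfsg.Agent.Lib.Helper54

open Cfsg
open scoped Pointwise commutatorElement

universe u

variable {G : Type u} [Group G]

section Kstar

variable [Finite G] (hG : IsMinSimpleOddOrder G) {M : Subgroup G} (hM : IsCoatom M)
  {K : Subgroup G} (hK : IsPiHallOf (kappa M) K M)

include hG hM hK

theorem coprime_card_kstar :
    (Nat.card K).Coprime (Nat.card ↥(sigmaCore M ⊓ Subgroup.centralizer (K : Set G))) := by
  have h1350 := (Cfsg.Agent.S1350.result hG M hM).1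
  apply Nat.coprime_of_dvd
  intro r hr hrK hrKs
  have h1 : r ∈ kappa M := hK.2.1 r hr hrK
  have h2 : r ∈ sigma M :=
    h1350.2.1 r hr (hrKs.trans (Subgroup.card_dvd_of_le inf_le_left))
  exact h1.2.2.1 h2

theorem inf_kstar_eq_bot : K ⊓ (sigmaCore M ⊓ Subgroup.centralizer (K : Set G)) = ⊥ :=
  (Subgroup.disjoint_of_coprime_natCard (coprime_card_kstar hG hM hK)).eq_bot

theorem card_sup_kstar :
    Nat.card ↥(K ⊔ (sigmaCore M ⊓ Subgroup.centralizer (K : Set G))) =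
      Nat.card K * Nat.card ↥(sigmaCore M ⊓ Subgroup.centralizer (K : Set G)) :=
  card_sup_of_le_normalizer (inf_le_right.trans (Subgroup.centralizer_le_normalizer _))
    (inf_kstar_eq_bot hG hM hK)

omit [Finite G] hG hM hK in
theorem commute_kstar {a b : G} (ha : a ∈ K)
    (hb : b ∈ sigmaCore M ⊓ Subgroup.centralizer (K : Set G)) : a * b = b * a :=
  (Subgroup.mem_centralizer_iff.mp hb.2) a ha

/-- a non-identity element of a nontrivial Hall `κ(M)`-subgroup commuting with a non-identity element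
of `M_σ` -/
theorem exists_mem_kappaHall_commute (hK1 : K ≠ ⊥) :
    ∃ k ∈ K, k ≠ 1 ∧ ∃ y ∈ sigmaCore M, y ≠ 1 ∧ k * y = y * k := by
  have hMs : Group.IsSolvable M := hG.2.2.2 M hM.1
  have hc1 : Nat.card K ≠ 1 := by
    intro h
    exact hK1 (Subgroup.card_eq_one.mp h)
  obtain ⟨p, hp, hpK⟩ := Nat.exists_prime_and_dvd hc1
  have hpκ : p ∈ kappa M := hK.2.1 p hp hpK
  have : Fact p.Prime := ⟨hp⟩
  obtain ⟨P⟩ : Nonempty (Sylow p M) := inferInstance
  obtain ⟨-, x₀, hx₀P, hx₀1, y, hy, hy1, hxy⟩ := hpκ.2.2.2 P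
  have hx₀M : (x₀ : G) ∈ M := x₀.2
  have hnum : Cfsg.Agent.Lib.Helper62.IsPiNum (kappa M)
      (Nat.card (Subgroup.zpowers (x₀ : G))) := by
    intro q hq hqd
    rw [Nat.card_zpowers, Subgroup.orderOf_coe] at hqd
    obtain ⟨n, hn⟩ := (IsPGroup.iff_orderOf.mp P.2) ⟨x₀, hx₀P⟩
    have h2 : orderOf x₀ = p ^ n := by
      rw [← hn]
      exact (Subgroup.orderOf_mk x₀ hx₀P).symm
    rw [h2] at hqd
    rwa [(Nat.prime_dvd_prime_iff_eq hq hp).mp (hq.dvd_of_dvd_pow hqd)]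
  obtain ⟨K', hK', hxK'⟩ := Cfsg.Agent.Lib.Helper62.isPiHallOf_dom (π := kappa M) hMs
    (Subgroup.zpowers_le.mpr hx₀M) hnum
  obtain ⟨m, hm, hmK⟩ := Cfsg.Agent.Lib.Helper62.isPiHallOf_conj hMs hK' hK
  refine ⟨m * (x₀ : G) * m⁻¹, ?_, ?_, m * y * m⁻¹,
    Cfsg.Agent.Lib.Helper50.conj_mem_sigmaCore' hm hy, ?_, ?_⟩
  · rw [← hmK]
    exact conj_mem_conj_smul (hxK' (Subgroup.mem_zpowers _))
  · intro h
    apply hx₀1
    have h2 : (x₀ : G) = m⁻¹ * (m * (x₀ : G) * m⁻¹) * m := by group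
    rw [h] at h2
    apply Subtype.ext
    rw [h2]; simp
  · intro h
    apply hy1
    have h2 : y = m⁻¹ * (m * y * m⁻¹) * m := by group
    rw [h] at h2
    rw [h2]; simp
  · calc m * (x₀ : G) * m⁻¹ * (m * y * m⁻¹) = m * ((x₀ : G) * y) * m⁻¹ := by group
      _ = m * (y * (x₀ : G)) * m⁻¹ := by rw [hxy]
      _ = m * y * m⁻¹ * (m * (x₀ : G) * m⁻¹) := by group

end Kstar

section Abstract

variable {A B : Subgroup G}

/-- the product of two elementwise commuting abelian subgroups is abelian -/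
theorem commute_of_mem_sup (hA : ∀ a ∈ A, ∀ a' ∈ A, a * a' = a' * a)
    (hB : ∀ b ∈ B, ∀ b' ∈ B, b * b' = b' * b) (hAB : ∀ a ∈ A, ∀ b ∈ B, a * b = b * a)
    {z w : G} (hz : z ∈ A ⊔ B) (hw : w ∈ A ⊔ B) : z * w = w * z := by
  obtain ⟨a, ha, b, hb, rfl⟩ := exists_mul_of_mem_sup_of_commute hAB hz
  obtain ⟨a', ha', b', hb', rfl⟩ := exists_mul_of_mem_sup_of_commute hAB hw
  calc a * b * (a' * b') = a * (b * a') * b' := by group
    _ = a * (a' * b) * b' := by rw [hAB a' ha' b hb]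
    _ = (a * a') * (b * b') := by group
    _ = (a' * a) * (b' * b) := by rw [hA a ha a' ha', hB b hb b' hb']
    _ = a' * (a * b') * b := by group
    _ = a' * (b' * a) * b := by rw [hAB a ha b' hb']
    _ = a' * b' * (a * b) := by group

/-- an element of `A ⊔ B` whose `|B|`-th power is trivial lies in `B` (coprime orders) -/
theorem mem_right_of_pow_card_eq_one [Finite G] (hAB : ∀ a ∈ A, ∀ b ∈ B, a * b = b * a)
    (hcop : (Nat.card A).Coprime (Nat.card B)) {w : G} (hw : w ∈ A ⊔ B)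
    (hpow : w ^ Nat.card B = 1) : w ∈ B := by
  obtain ⟨a, ha, b, hb, rfl⟩ := exists_mul_of_mem_sup_of_commute hAB hw
  have hc : Commute a b := hAB a ha b hb
  have hb1 : b ^ Nat.card B = 1 := by
    have := pow_card_eq_one' (G := B) (x := ⟨b, hb⟩)
    exact congrArg Subtype.val this
  rw [hc.mul_pow, hb1, mul_one] at hpow
  have ha1 : a ^ Nat.card A = 1 := by
    have := pow_card_eq_one' (G := A) (x := ⟨a, ha⟩)
    exact congrArg Subtype.val this
  have h1 : orderOf a ∣ Nat.gcd (Nat.card A) (Nat.card B) :=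
    Nat.dvd_gcd (orderOf_dvd_of_pow_eq_one ha1) (orderOf_dvd_of_pow_eq_one hpow)
  rw [hcop.gcd_eq_one, Nat.dvd_one, orderOf_eq_one_iff] at h1
  rw [h1, one_mul]; exact hb

theorem mem_left_of_pow_card_eq_one [Finite G] (hAB : ∀ a ∈ A, ∀ b ∈ B, a * b = b * a)
    (hcop : (Nat.card A).Coprime (Nat.card B)) {w : G} (hw : w ∈ A ⊔ B)
    (hpow : w ^ Nat.card A = 1) : w ∈ A := by
  rw [sup_comm] at hw
  exact mem_right_of_pow_card_eq_one (fun b hb a ha => (hAB a ha b hb).symm) hcop.symm hw hpow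

/-- the number of elements of `A ⊔ B` outside `A ∪ B` -/
theorem ncard_sup_diff_union [Finite G] (hAB : ∀ a ∈ A, ∀ b ∈ B, a * b = b * a)
    (hdisj : A ⊓ B = ⊥) :
    ((↑(A ⊔ B) : Set G) \ ((A : Set G) ∪ ↑B)).ncard + Nat.card A + Nat.card B =
      Nat.card A * Nat.card B + 1 := by
  have hcard : Nat.card ↥(A ⊔ B) = Nat.card A * Nat.card B := by
    have hn : B ≤ Subgroup.normalizer (A : Set G) := by
      refine le_trans ?_ (Subgroup.centralizer_le_normalizer _)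
      intro b hb
      rw [Subgroup.mem_centralizer_iff]
      intro a ha
      exact hAB a ha b hb
    exact card_sup_of_le_normalizer hn hdisj
  have hsub : ((A : Set G) ∪ ↑B) ⊆ (↑(A ⊔ B) : Set G) := by
    intro x hx
    rcases hx with hx | hx
    · exact (le_sup_left : A ≤ A ⊔ B) hx
    · exact (le_sup_right : B ≤ A ⊔ B) hx
  have h1 := Set.ncard_sdiff_add_ncard_of_subset hsub (Set.toFinite _)
  have h2 := Set.ncard_union_add_ncard_inter (A : Set G) (B : Set G) (Set.toFinite _)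
    (Set.toFinite _)
  have h3 : ((A : Set G) ∩ ↑B) = {1} := by
    ext x
    constructor
    · intro hx
      have : x ∈ A ⊓ B := hx
      rw [hdisj, Subgroup.mem_bot] at this
      exact this
    · intro hx
      rw [Set.mem_singleton_iff] at hx
      rw [hx]; exact ⟨A.one_mem, B.one_mem⟩
  rw [h3, Set.ncard_singleton] at h2
  have h4 : (A : Set G).ncard = Nat.card A := Nat.card_coe_set_eq (A : Set G) ▸ rfl
  have h5 : (B : Set G).ncard = Nat.card B := Nat.card_coe_set_eq (B : Set G) ▸ rfl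
  have h6 : (↑(A ⊔ B) : Set G).ncard = Nat.card ↥(A ⊔ B) :=
    Nat.card_coe_set_eq (↑(A ⊔ B) : Set G) ▸ rfl
  rw [h4, h5] at h2
  rw [h6, hcard] at h1
  omega

end Abstract

section Main

variable [Finite G]

omit [Finite G] in
/-- `C_G(y) ≤ M` for `1 ≠ y ∈ K*` (from Theorem 14.2(d)) -/
theorem centralizer_le_of_mem_kstar {M K : Subgroup G}
    (h31a : ∀ g : G, g ∉ M → (sigmaCore M ⊓ Subgroup.centralizer (K : Set G)) ⊓
        M.map (MulAut.conj g).toMonoidHom = ⊥)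
    (hKsM : sigmaCore M ⊓ Subgroup.centralizer (K : Set G) ≤ M)
    {y : G} (hy : y ∈ sigmaCore M ⊓ Subgroup.centralizer (K : Set G)) (hy1 : y ≠ 1) :
    Subgroup.centralizer ({y} : Set G) ≤ M := by
  intro g hg
  by_contra hgM
  have hgy : g * y * g⁻¹ = y := by
    have := (Subgroup.mem_centralizer_iff.mp hg) y (Set.mem_singleton y)
    rw [← this]; group
  have : y ∈ (sigmaCore M ⊓ Subgroup.centralizer (K : Set G)) ⊓
      M.map (MulAut.conj g).toMonoidHom := by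
    refine ⟨hy, y, hKsM hy, ?_⟩
    simpa [MulAut.conj_apply] using hgy
  rw [h31a g hgM, Subgroup.mem_bot] at this
  exact hy1 this

/-- **S1434** (B&G Theorem 14.7 (b)–(e) for a given partner `M*`), conditional. -/
theorem s1434_of (hG : IsMinSimpleOddOrder G) (h30 : Stmt1430 G) (h31 : Stmt1431 G)
    (hcyc : KappaHallCyclic G)
    (M : Subgroup G) (hM : IsCoatom M) (K U : Subgroup G) (hKU : IsSigmaDecomposition M K U)
    (hK1 : K ≠ ⊥) (Mstar : Subgroup G) (hMstar : IsCoatom Mstar)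
    (hKst : K = sigmaCore Mstar ⊓ Subgroup.centralizer
      ((sigmaCore M ⊓ Subgroup.centralizer (K : Set G)) : Set G))
    (hKstH : IsPiHallOf (kappa Mstar) (sigmaCore M ⊓ Subgroup.centralizer (K : Set G)) Mstar)
    (hR : sigmaCore M ⊓ sigmaCore Mstar = ⊥) :
    kappa M = tau1 M ∧ IsPiHallOf (sigma M) (sigmaCore M ⊓ Subgroup.centralizer (K : Set G)) Mstar ∧
      (∀ x ∈ K, x ≠ 1 → ∀ y ∈ (sigmaCore M ⊓ Subgroup.centralizer (K : Set G)), y ≠ 1 →
        M ⊓ Subgroup.centralizer ({x} : Set G) = K ⊔ (sigmaCore M ⊓ Subgroup.centralizer (K : Set G)) ∧ Mstar ⊓ Subgroup.centralizer ({y} : Set G) = K ⊔ (sigmaCore M ⊓ Subgroup.centralizer (K : Set G)) ∧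
        Subgroup.centralizer ({x * y} : Set G) = K ⊔ (sigmaCore M ⊓ Subgroup.centralizer (K : Set G))) ∧
      (∀ g : G, g ∉ M → ∀ z ∈ ((↑(K ⊔ (sigmaCore M ⊓ Subgroup.centralizer (K : Set G))) : Set G) \ ((K : Set G) ∪ ↑(sigmaCore M ⊓ Subgroup.centralizer (K : Set G)))), z ∉ M.map (MulAut.conj g).toMonoidHom) ∧
      Nat.card K * Nat.card ↥(sigmaCore M ⊓ Subgroup.centralizer (K : Set G)) * Set.ncard {a : G | ∃ g : G, ∃ z ∈ ((↑(K ⊔ (sigmaCore M ⊓ Subgroup.centralizer (K : Set G))) : Set G) \ ((K : Set G) ∪ ↑(sigmaCore M ⊓ Subgroup.centralizer (K : Set G)))), a = g * z * g⁻¹} =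
        (Nat.card K * Nat.card ↥(sigmaCore M ⊓ Subgroup.centralizer (K : Set G)) - Nat.card K - Nat.card ↥(sigmaCore M ⊓ Subgroup.centralizer (K : Set G)) + 1) * Nat.card G ∧
      Nat.card G < 2 * Set.ncard {a : G | ∃ g : G, ∃ z ∈ ((↑(K ⊔ (sigmaCore M ⊓ Subgroup.centralizer (K : Set G))) : Set G) \ ((K : Set G) ∪ ↑(sigmaCore M ⊓ Subgroup.centralizer (K : Set G)))), a = g * z * g⁻¹} := by
  have h1350 := (Cfsg.Agent.S1350.result hG M hM).1
  have h1350s := (Cfsg.Agent.S1350.result hG Mstar hMstar).1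
  have hKH : IsPiHallOf (kappa M) K M := hKU.hall
  set Ks : Subgroup G := sigmaCore M ⊓ Subgroup.centralizer (K : Set G) with hKs_def
  have hKM : K ≤ M := hKH.1
  have hKsM : Ks ≤ M := inf_le_left.trans h1350.1
  have hKsMs : Ks ≤ Mstar := hKstH.1
  have hKMs : K ≤ Mstar := by
    rw [hKst]; exact inf_le_left.trans h1350s.1
  have hKσs : K ≤ sigmaCore Mstar := by
    rw [hKst]; exact inf_le_left
  obtain ⟨h30a, ⟨U₀, -, hU₀H, hU₀N, hU₀f⟩, h30c⟩ := h30 M hM K hKH hK1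
  obtain ⟨h31a, h31b, -, h31d⟩ := h31 M hM K hKH hK1
  -- `K* ≠ 1`
  have hKs1 : Ks ≠ ⊥ := by
    obtain ⟨k, hk, hk1, y, hy, hy1, hky⟩ := exists_mem_kappaHall_commute hG hM hKH hK1
    intro h
    apply hy1
    have : y ∈ sigmaCore M ⊓ Subgroup.centralizer ({k} : Set G) := by
      refine ⟨hy, ?_⟩
      show y ∈ Subgroup.centralizer ({k} : Set G)
      rw [Subgroup.mem_centralizer_iff]
      intro h' hh'
      rw [Set.mem_singleton_iff] at hh'
      rw [hh']; exact hky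
    rw [h30a k hk hk1, ← hKs_def, h, Subgroup.mem_bot] at this
    exact this
  have hstar : sigmaCore Mstar ⊓ Subgroup.centralizer (Ks : Set G) = K := hKst.symm
  obtain ⟨-, -, h30c'⟩ := h30 Mstar hMstar Ks hKstH hKs1
  obtain ⟨h31a', -, -, -⟩ := h31 Mstar hMstar Ks hKstH hKs1
  rw [hstar] at h30c' h31a'
  have hKscyc : IsCyclic Ks := hcyc Mstar hMstar Ks hKstH
  have hKcyc : IsCyclic K := hKU.cyclic
  have hKab : ∀ a ∈ K, ∀ a' ∈ K, a * a' = a' * a := by
    intro a ha a' ha'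
    let _ := IsCyclic.commGroup (α := K)
    exact congrArg Subtype.val (mul_comm (⟨a, ha⟩ : K) ⟨a', ha'⟩)
  have hKsab : ∀ b ∈ Ks, ∀ b' ∈ Ks, b * b' = b' * b := by
    intro a ha a' ha'
    let _ := IsCyclic.commGroup (α := Ks)
    exact congrArg Subtype.val (mul_comm (⟨a, ha⟩ : Ks) ⟨a', ha'⟩)
  have hcomm : ∀ a ∈ K, ∀ b ∈ Ks, a * b = b * a := fun a ha b hb => commute_kstar ha hb
  have hcop : (Nat.card K).Coprime (Nat.card Ks) := coprime_card_kstar hG hM hKH
  have hdisj : K ⊓ Ks = ⊥ := inf_kstar_eq_bot hG hM hKH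
  have hZab : ∀ z ∈ K ⊔ Ks, ∀ w ∈ K ⊔ Ks, z * w = w * z :=
    fun z hz w hw => commute_of_mem_sup hKab hKsab hcomm hz hw
  have hZM : K ⊔ Ks ≤ M := sup_le hKM hKsM
  have hZMs : K ⊔ Ks ≤ Mstar := sup_le hKMs hKsMs
  have hpowK : ∀ a ∈ K, a ^ Nat.card K = 1 := fun a ha =>
    congrArg Subtype.val (pow_card_eq_one' (G := K) (x := ⟨a, ha⟩))
  have hpowKs : ∀ b ∈ Ks, b ^ Nat.card Ks = 1 := fun b hb =>
    congrArg Subtype.val (pow_card_eq_one' (G := Ks) (x := ⟨b, hb⟩))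
  -- centralizers of elements of `K*`, `K`
  have hCy : ∀ y ∈ Ks, y ≠ 1 → Subgroup.centralizer ({y} : Set G) ≤ M := fun y hy hy1 =>
    centralizer_le_of_mem_kstar h31a hKsM hy hy1
  have hCx : ∀ x ∈ K, x ≠ 1 → Subgroup.centralizer ({x} : Set G) ≤ Mstar := by
    intro x hx hx1
    have hx' : x ∈ sigmaCore Mstar ⊓ Subgroup.centralizer (Ks : Set G) := hstar ▸ hx
    have h31a'' : ∀ g : G, g ∉ Mstar → (sigmaCore Mstar ⊓ Subgroup.centralizer (Ks : Set G)) ⊓
        Mstar.map (MulAut.conj g).toMonoidHom = ⊥ := by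
      rw [hstar]; exact h31a'
    exact centralizer_le_of_mem_kstar h31a'' (hstar ▸ hKMs) hx' hx1
  -- `C_M(x) = Z`
  have hCMx : ∀ x ∈ K, x ≠ 1 → M ⊓ Subgroup.centralizer ({x} : Set G) = K ⊔ Ks := by
    intro x hx hx1
    apply le_antisymm
    · have ho : orderOf x ≠ 1 := fun h => hx1 (orderOf_eq_one_iff.mp h)
      obtain ⟨p, hp, hpx⟩ := Nat.exists_prime_and_dvd ho
      obtain ⟨c, hc⟩ := exists_pow_orderOf_eq_prime hp hpx
      have hXK : Subgroup.zpowers (x ^ c) ≤ K := Subgroup.zpowers_le.mpr (K.pow_mem hx c)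
      have hXc : (Nat.card (Subgroup.zpowers (x ^ c))).Prime := by
        rw [Nat.card_zpowers, hc]; exact hp
      rw [← (h30c _ hXK hXc).1]
      refine inf_le_inf_left M ?_
      refine le_trans ?_ (Subgroup.centralizer_le_normalizer _)
      intro g hg
      rw [Subgroup.mem_centralizer_iff] at hg ⊢
      intro h hh
      obtain ⟨k, rfl⟩ := Subgroup.mem_zpowers_iff.mp hh
      have h1 : Commute x g := hg x (Set.mem_singleton x)
      exact ((h1.pow_left c).zpow_left k).eq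
    · refine le_inf hZM ?_
      intro z hz
      rw [Subgroup.mem_centralizer_iff]
      intro h hh
      rw [Set.mem_singleton_iff] at hh
      rw [hh]
      exact hZab x ((le_sup_left : K ≤ K ⊔ Ks) hx) z hz
  have hCMy : ∀ y ∈ Ks, y ≠ 1 → Mstar ⊓ Subgroup.centralizer ({y} : Set G) = K ⊔ Ks := by
    intro y hy hy1
    apply le_antisymm
    · have ho : orderOf y ≠ 1 := fun h => hy1 (orderOf_eq_one_iff.mp h)
      obtain ⟨p, hp, hpy⟩ := Nat.exists_prime_and_dvd ho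
      obtain ⟨c, hc⟩ := exists_pow_orderOf_eq_prime hp hpy
      have hXK : Subgroup.zpowers (y ^ c) ≤ Ks := Subgroup.zpowers_le.mpr (Ks.pow_mem hy c)
      have hXc : (Nat.card (Subgroup.zpowers (y ^ c))).Prime := by
        rw [Nat.card_zpowers, hc]; exact hp
      rw [sup_comm, ← (h30c' _ hXK hXc).1]
      refine inf_le_inf_left Mstar ?_
      refine le_trans ?_ (Subgroup.centralizer_le_normalizer _)
      intro g hg
      rw [Subgroup.mem_centralizer_iff] at hg ⊢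
      intro h hh
      obtain ⟨k, rfl⟩ := Subgroup.mem_zpowers_iff.mp hh
      have h1 : Commute y g := hg y (Set.mem_singleton y)
      exact ((h1.pow_left c).zpow_left k).eq
    · refine le_inf hZMs ?_
      intro z hz
      rw [Subgroup.mem_centralizer_iff]
      intro h hh
      rw [Set.mem_singleton_iff] at hh
      rw [hh]
      exact hZab y ((le_sup_right : Ks ≤ K ⊔ Ks) hy) z hz
  -- `C_G(xy) = Z`
  have hCxy : ∀ x ∈ K, x ≠ 1 → ∀ y ∈ Ks, y ≠ 1 →
      Subgroup.centralizer ({x * y} : Set G) = K ⊔ Ks := by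
    intro x hx hx1 y hy hy1
    apply le_antisymm
    · intro g hg
      have hgc : Commute (x * y) g :=
        (Subgroup.mem_centralizer_iff.mp hg) (x * y) (Set.mem_singleton _)
      obtain ⟨⟨i, hi⟩, ⟨j, hj⟩⟩ := exists_pow_eq_of_coprime (hcomm x hx y hy) (hpowK x hx)
        (hpowKs y hy) hcop
      have hgx : Commute x g := hi ▸ hgc.pow_left i
      have hgy : Commute y g := hj ▸ hgc.pow_left j
      have hgM : g ∈ M := by
        apply hCy y hy hy1
        rw [Subgroup.mem_centralizer_iff]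
        intro h hh
        rw [Set.mem_singleton_iff] at hh
        rw [hh]; exact hgy.eq
      rw [← hCMx x hx hx1]
      refine ⟨hgM, ?_⟩
      show g ∈ Subgroup.centralizer ({x} : Set G)
      rw [Subgroup.mem_centralizer_iff]
      intro h hh
      rw [Set.mem_singleton_iff] at hh
      rw [hh]; exact hgx.eq
    · intro z hz
      rw [Subgroup.mem_centralizer_iff]
      intro h hh
      rw [Set.mem_singleton_iff] at hh
      rw [hh]
      exact hZab (x * y) (mul_mem ((le_sup_left : K ≤ K ⊔ Ks) hx)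
        ((le_sup_right : Ks ≤ K ⊔ Ks) hy)) z hz
  -- decomposition of the elements of `Ẑ`
  have hZhat : ∀ z ∈ ((↑(K ⊔ Ks) : Set G) \ ((K : Set G) ∪ ↑Ks)), ∃ a ∈ K, ∃ b ∈ Ks,
      a ≠ 1 ∧ b ≠ 1 ∧ z = a * b ∧ (∃ i : ℕ, z ^ i = a) ∧ ∃ j : ℕ, z ^ j = b := by
    intro z hz
    obtain ⟨a, ha, b, hb, rfl⟩ := exists_mul_of_mem_sup_of_commute hcomm hz.1
    have ha1 : a ≠ 1 := by
      rintro rfl
      exact hz.2 (Or.inr (by simpa using hb))
    have hb1 : b ≠ 1 := by
      rintro rfl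
      exact hz.2 (Or.inl (by simpa using ha))
    exact ⟨a, ha, b, hb, ha1, hb1, rfl,
      exists_pow_eq_of_coprime (hcomm a ha b hb) (hpowK a ha) (hpowKs b hb) hcop⟩
  have hC4 : ∀ g : G, g ∉ M → ∀ z ∈ ((↑(K ⊔ Ks) : Set G) \ ((K : Set G) ∪ ↑Ks)),
      z ∉ M.map (MulAut.conj g).toMonoidHom := by
    intro g hg z hz hzM
    obtain ⟨a, ha, b, hb, ha1, hb1, rfl, -, j, hj⟩ := hZhat z hz
    have hbM : b ∈ M.map (MulAut.conj g).toMonoidHom := hj ▸ Subgroup.pow_mem _ hzM j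
    have : b ∈ Ks ⊓ M.map (MulAut.conj g).toMonoidHom := ⟨hb, hbM⟩
    rw [h31a g hg, Subgroup.mem_bot] at this
    exact hb1 this
  -- the TI property of `Ẑ`
  have hconj1 : ∀ h w : G, h * w * h⁻¹ = 1 → w = 1 := by
    intro h w hw
    have : w = h⁻¹ * (h * w * h⁻¹) * h := by group
    rw [this, hw]; group
  have hTI : ∀ h : G, ∀ z ∈ ((↑(K ⊔ Ks) : Set G) \ ((K : Set G) ∪ ↑Ks)),
      h * z * h⁻¹ ∈ ((↑(K ⊔ Ks) : Set G) \ ((K : Set G) ∪ ↑Ks)) → h ∈ K ⊔ Ks := by
    intro h z hz hz'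
    obtain ⟨a, ha, b, hb, ha1, hb1, rfl, ⟨i, hi⟩, j, hj⟩ := hZhat z hz
    have hbZ : h * b * h⁻¹ ∈ K ⊔ Ks := by
      have : h * b * h⁻¹ = (h * (a * b) * h⁻¹) ^ j := by rw [conj_pow, hj]
      rw [this]; exact Subgroup.pow_mem _ hz'.1 j
    have hbKs : h * b * h⁻¹ ∈ Ks := by
      apply mem_right_of_pow_card_eq_one hcomm hcop hbZ
      rw [conj_pow, hpowKs b hb]; group
    have haZ : h * a * h⁻¹ ∈ K ⊔ Ks := by
      have : h * a * h⁻¹ = (h * (a * b) * h⁻¹) ^ i := by rw [conj_pow, hi]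
      rw [this]; exact Subgroup.pow_mem _ hz'.1 i
    have haK : h * a * h⁻¹ ∈ K := by
      apply mem_left_of_pow_card_eq_one hcomm hcop haZ
      rw [conj_pow, hpowK a ha]; group
    have hhM : h ∈ M := by
      by_contra hhM
      have : h * b * h⁻¹ ∈ Ks ⊓ M.map (MulAut.conj h).toMonoidHom :=
        ⟨hbKs, b, hKsM hb, by simp [MulAut.conj_apply]⟩
      rw [h31a h hhM, Subgroup.mem_bot] at this
      exact hb1 (hconj1 h b this)
    by_contra hhZ
    have : h * a * h⁻¹ ∈ K ⊓ K.map (MulAut.conj h).toMonoidHom :=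
      ⟨haK, a, ha, by simp [MulAut.conj_apply]⟩
    rw [h31b h hhM hhZ, Subgroup.mem_bot] at this
    exact ha1 (hconj1 h a this)
  have hNinv : ∀ n ∈ K ⊔ Ks, ∀ z ∈ ((↑(K ⊔ Ks) : Set G) \ ((K : Set G) ∪ ↑Ks)),
      n * z * n⁻¹ ∈ ((↑(K ⊔ Ks) : Set G) \ ((K : Set G) ∪ ↑Ks)) := by
    intro n hn z hz
    have : n * z * n⁻¹ = z := by
      rw [hZab n hn z hz.1]; group
    rw [this]; exact hz
  -- the count
  have hS := card_conjSupport ((↑(K ⊔ Ks) : Set G) \ ((K : Set G) ∪ ↑Ks)) (K ⊔ Ks) hNinv hTI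
  have hE := ncard_sup_diff_union hcomm hdisj
  have hZcard : Nat.card ↥(K ⊔ Ks) = Nat.card K * Nat.card Ks := card_sup_kstar hG hM hKH
  have hidx : (K ⊔ Ks).index * (Nat.card K * Nat.card Ks) = Nat.card G := by
    rw [← hZcard]; exact Subgroup.index_mul_card _
  -- arithmetic: `k`, `k*` odd, at least 3, distinct
  have hodd : ∀ H : Subgroup G, Odd (Nat.card H) := fun H =>
    Odd.of_dvd_nat hG.1 (Subgroup.card_subgroup_dvd_card H)
  have hk1 : Nat.card K ≠ 1 := fun h => hK1 (Subgroup.card_eq_one.mp h)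
  have hks1 : Nat.card Ks ≠ 1 := fun h => hKs1 (Subgroup.card_eq_one.mp h)
  have hkne : Nat.card K ≠ Nat.card Ks := by
    intro h
    rw [h, Nat.coprime_self] at hcop
    exact hks1 hcop
  obtain ⟨u, hu⟩ := hodd K
  obtain ⟨v, hv⟩ := hodd Ks
  have hu1 : 1 ≤ u := by omega
  have hv1 : 1 ≤ v := by omega
  have huv : u ≠ v := by omega
  set S := Set.ncard {a : G | ∃ g : G, ∃ z ∈ ((↑(K ⊔ Ks) : Set G) \ ((K : Set G) ∪ ↑Ks)),
    a = g * z * g⁻¹} with hSdef
  have hS' : S = (K ⊔ Ks).index * ((↑(K ⊔ Ks) : Set G) \ ((K : Set G) ∪ ↑Ks)).ncard := hS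
  set E := ((↑(K ⊔ Ks) : Set G) \ ((K : Set G) ∪ ↑Ks)).ncard with hEdef
  set idx := (K ⊔ Ks).index with hidxdef
  have hidxpos : 0 < idx := Nat.pos_of_ne_zero (Subgroup.index_ne_zero_of_finite)
  -- `E = 4uv`
  have hE4 : E = 4 * (u * v) := by
    rw [hu, hv] at hE
    have : (2 * u + 1) * (2 * v + 1) = 4 * (u * v) + 2 * u + 2 * v + 1 := by ring
    omega
  have hP : Nat.card K * Nat.card Ks = 4 * (u * v) + 2 * u + 2 * v + 1 := by
    rw [hu, hv]; ring
  have huv2 : u + v + 1 ≤ 2 * (u * v) := by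
    rcases Nat.lt_or_gt_of_ne huv with h | h
    · nlinarith
    · nlinarith
  -- (C2) `K*` is a Hall `σ(M)`-subgroup of `M*`
  have hC2 : IsPiHallOf (sigma M) Ks Mstar := by
    have hMss : Group.IsSolvable Mstar := hG.2.2.2 Mstar hMstar.1
    have hnum : Cfsg.Agent.Lib.Helper62.IsPiNum (sigma M) (Nat.card Ks) := fun q hq hqd =>
      h1350.2.1 q hq (hqd.trans (Subgroup.card_dvd_of_le inf_le_left))
    obtain ⟨Y, hY, hKsY⟩ := Cfsg.Agent.Lib.Helper62.isPiHallOf_dom hMss hKsMs hnum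
    have hYσ : Y ≤ sigmaCore M := by
      apply h31d Y hY.2.1
      rw [← hKs_def, inf_eq_right.mpr hKsY]
      exact hKs1
    have hYKs : Y ≤ Ks := by
      intro d hd
      refine ⟨hYσ hd, ?_⟩
      show d ∈ Subgroup.centralizer (K : Set G)
      rw [Subgroup.mem_centralizer_iff]
      intro k hk
      have h1 : k * d * k⁻¹ * d⁻¹ ∈ sigmaCore M :=
        mul_mem (Cfsg.Agent.Lib.Helper50.conj_mem_sigmaCore' (hKM hk) (hYσ hd))
          (inv_mem (hYσ hd))
      have h2 : k * d * k⁻¹ * d⁻¹ ∈ sigmaCore Mstar := by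
        have : k * d * k⁻¹ * d⁻¹ = k * (d * k⁻¹ * d⁻¹) := by group
        rw [this]
        exact mul_mem (hKσs hk)
          (Cfsg.Agent.Lib.Helper50.conj_mem_sigmaCore' (hY.1 hd) (inv_mem (hKσs hk)))
      have h3 : k * d * k⁻¹ * d⁻¹ ∈ sigmaCore M ⊓ sigmaCore Mstar := ⟨h1, h2⟩
      rw [hR, Subgroup.mem_bot] at h3
      have : k * d = (k * d * k⁻¹ * d⁻¹) * (d * k) := by group
      rw [this, h3, one_mul]
    have : Y = Ks := le_antisymm hYKs hKsY
    rwa [this] at hY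
  -- (C1) `κ(M) = τ₁(M)`
  have hUM : U ≤ M := hKU.compl.1
  have hσM : sigmaCore M ≤ M := h1350.1
  have hMnorm : M ≤ Subgroup.normalizer (sigmaCore M : Set G) := by
    intro m hm
    rw [Subgroup.mem_normalizer_iff]
    intro h
    constructor
    · exact fun hh => Cfsg.Agent.Lib.Helper50.conj_mem_sigmaCore' hm hh
    · intro hh
      have := Cfsg.Agent.Lib.Helper50.conj_mem_sigmaCore' (M.inv_mem hm) hh
      have e : m⁻¹ * (m * h * m⁻¹) * m⁻¹⁻¹ = h := by group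
      rwa [e] at this
  have hC1 : kappa M = tau1 M := by
    ext p
    constructor
    · intro hp
      have hpp := hp.1
      have : Fact p.Prime := ⟨hpp⟩
      refine ⟨hpp, hp.2.2.1, hp.2.1, ?_, ?_⟩
      · -- `M' ≤ U M_σ`, a `p'`-group
        set N₀ : Subgroup G := U ⊔ sigmaCore M with hN₀
        have hKN₀ : K ≤ Subgroup.normalizer (N₀ : Set G) := by
          intro k hk
          have h1 : k ∈ Subgroup.normalizer (U : Set G) := hKU.normal hk
          have h2 : k ∈ Subgroup.normalizer (sigmaCore M : Set G) := hMnorm (hKM hk)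
          rw [mem_normalizer_iff_conj_smul] at h1 h2 ⊢
          rw [hN₀, Subgroup.smul_sup, h1, h2]
        have hdecomp : ∀ m ∈ M, ∃ n ∈ N₀, ∃ k ∈ K, m = n * k := by
          intro m hm
          obtain ⟨a, ha, b, hb, rfl⟩ := hKU.compl.2.2.2 m hm
          rw [sup_comm] at hb
          have hb' : b ∈ ((sigmaCore M ⊔ K : Subgroup G) : Set G) := hb
          rw [Subgroup.coe_mul_of_right_le_normalizer_left (sigmaCore M) K
            (hKM.trans hMnorm)] at hb'
          obtain ⟨s, hs, k, hk, rfl⟩ := Set.mem_mul.mp hb'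
          exact ⟨a * s, mul_mem ((le_sup_left : U ≤ N₀) ha) ((le_sup_right : sigmaCore M ≤ N₀) hs),
            k, hk, by group⟩
        have hcomm' : ⁅M, M⁆ ≤ N₀ := by
          rw [Subgroup.commutator_le]
          intro g₁ hg₁ g₂ hg₂
          obtain ⟨n₁, hn₁, k₁, hk₁, rfl⟩ := hdecomp g₁ hg₁
          obtain ⟨n₂, hn₂, k₂, hk₂, rfl⟩ := hdecomp g₂ hg₂
          have hk : Commute k₂ k₁⁻¹ := (show Commute k₂ k₁ from hKab k₂ hk₂ k₁ hk₁).inv_right
          have e : ⁅n₁ * k₁, n₂ * k₂⁆ = n₁ * (k₁ * n₂ * k₁⁻¹) * (k₂ * n₁⁻¹ * k₂⁻¹) * n₂⁻¹ := by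
            rw [commutatorElement_def]
            calc n₁ * k₁ * (n₂ * k₂) * (n₁ * k₁)⁻¹ * (n₂ * k₂)⁻¹
                = n₁ * k₁ * n₂ * (k₂ * k₁⁻¹) * n₁⁻¹ * k₂⁻¹ * n₂⁻¹ := by group
              _ = n₁ * k₁ * n₂ * (k₁⁻¹ * k₂) * n₁⁻¹ * k₂⁻¹ * n₂⁻¹ := by rw [hk.eq]
              _ = n₁ * (k₁ * n₂ * k₁⁻¹) * (k₂ * n₁⁻¹ * k₂⁻¹) * n₂⁻¹ := by group
          rw [e]
          have c1 : k₁ * n₂ * k₁⁻¹ ∈ N₀ :=
            (Subgroup.mem_normalizer_iff.mp (hKN₀ hk₁) n₂).mp hn₂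
          have c2 : k₂ * n₁⁻¹ * k₂⁻¹ ∈ N₀ :=
            (Subgroup.mem_normalizer_iff.mp (hKN₀ hk₂) n₁⁻¹).mp (N₀.inv_mem hn₁)
          exact mul_mem (mul_mem (mul_mem hn₁ c1) c2) (N₀.inv_mem hn₂)
        -- `|N₀| = |U| |M_σ|` and `p` does not divide it
        have hdisjU : sigmaCore M ⊓ U = ⊥ := by
          rw [eq_bot_iff, ← hKU.compl.2.2.1, inf_comm]
          exact inf_le_inf_left U le_sup_right
        have hcardN₀ : Nat.card N₀ = Nat.card (sigmaCore M) * Nat.card U := by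
          rw [hN₀, sup_comm]
          exact card_sup_of_le_normalizer (hUM.trans hMnorm) hdisjU
        have hdisjK : sigmaCore M ⊓ K = ⊥ := by
          apply (Subgroup.disjoint_of_coprime_natCard _).eq_bot
          apply Nat.coprime_of_dvd
          intro r hr h1 h2
          exact (hKH.2.1 r hr h2).2.2.1 (h1350.2.1 r hr h1)
        have hcardKσ : Nat.card ↥(K ⊔ sigmaCore M) = Nat.card (sigmaCore M) * Nat.card K := by
          rw [sup_comm]
          exact card_sup_of_le_normalizer (hKM.trans hMnorm) hdisjK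
        have hcardM := Cfsg.Agent.Lib.Helper23.card_of_isComplIn hKU.compl
        have hrel := card_mul_relIndex hKM
        have hrelK : K.relIndex M = Nat.card N₀ := by
          have : Nat.card K * K.relIndex M = Nat.card K * Nat.card N₀ := by
            rw [hrel, hcardM, hcardKσ, hcardN₀]; ring
          exact Nat.eq_of_mul_eq_mul_left Nat.card_pos this
        intro hpd
        apply hKH.2.2 p hpp hp
        rw [hrelK]
        exact hpd.trans (Subgroup.card_dvd_of_le hcomm')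
      · obtain ⟨P⟩ : Nonempty (Sylow p M) := inferInstance
        have hPc := (hp.2.2.2 P).1
        exact pRankLE_of_sylow P
          (Cfsg.Agent.Lib.Helper24.pRankLE_one_of_isCyclic p hpp.pos hPc)
    · intro hp
      by_contra hκ
      obtain ⟨hpp, hpσ, hpM, hpM', -⟩ := hp
      have hpU₀ : p ∣ Nat.card U₀ := by
        have h1 := card_mul_relIndex hU₀H.1
        rw [← h1] at hpM
        rcases (Nat.Prime.dvd_mul hpp).mp hpM with h | h
        · exact h
        · exact absurd h (hU₀H.2.2 p hpp ⟨hpp, hκ, hpσ⟩)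
      obtain ⟨k, hk1⟩ := (Subgroup.ne_bot_iff_exists_ne_one.mp hK1)
      have hk' : (k : G) ≠ 1 := fun h => hk1 (Subtype.ext h)
      have hfix : ∀ u ∈ U₀, (k : G) * u = u * (k : G) → u = 1 := by
        intro u hu hku
        have : u ∈ U₀ ⊓ Subgroup.centralizer ({(k : G)} : Set G) := by
          refine ⟨hu, ?_⟩
          show u ∈ Subgroup.centralizer ({(k : G)} : Set G)
          rw [Subgroup.mem_centralizer_iff]
          intro h hh
          rw [Set.mem_singleton_iff] at hh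
          rw [hh]; exact hku
        rw [hU₀f (k : G) k.2 hk', Subgroup.mem_bot] at this
        exact this
      have hU₀le : U₀ ≤ ⁅M, M⁆ := by
        intro w hw
        obtain ⟨u, hu, rfl⟩ := exists_commutator_eq_of_fixedPointFree (hU₀N k.2) hfix w hw
        rw [← commutatorElement_def]
        exact Subgroup.commutator_mem_commutator (hKM k.2) (hU₀H.1 hu)
      exact hpM' (hpU₀.trans (Subgroup.card_dvd_of_le hU₀le))
  refine ⟨hC1, hC2, ?_, hC4, ?_, ?_⟩
  · intro x hx hx1 y hy hy1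
    exact ⟨hCMx x hx hx1, hCMy y hy hy1, hCxy x hx hx1 y hy hy1⟩
  · rw [hS', hE4, hP, ← hidx, hP]
    have : 4 * (u * v) + 2 * u + 2 * v + 1 - Nat.card K - Nat.card Ks + 1 = 4 * (u * v) := by
      rw [hu, hv]; omega
    rw [this]; ring
  · rw [hS', hE4, ← hidx, hP]
    generalize u * v = t at huv2 ⊢
    nlinarith

/-- `M_σ ⊓ M*_σ = 1` from the σ-partition theorem (B&G 13.9), when `M*_σ` contains a nontrivial
`κ(M)`-subgroup. -/
theorem sigmaCore_inf_eq_bot_of_sigmaDisjoint (hG : IsMinSimpleOddOrder G) (hσ : SigmaDisjoint G)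
    (M Mstar : Subgroup G) (hM : IsCoatom M) (hMstar : IsCoatom Mstar) (K : Subgroup G)
    (hKH : IsPiHallOf (kappa M) K M) (hK1 : K ≠ ⊥) (hKσs : K ≤ sigmaCore Mstar) :
    sigmaCore M ⊓ sigmaCore Mstar = ⊥ := by
  have h1350 := (Cfsg.Agent.S1350.result hG M hM).1
  have h1350s := (Cfsg.Agent.S1350.result hG Mstar hMstar).1
  by_contra h
  have hc1 : Nat.card ↥(sigmaCore M ⊓ sigmaCore Mstar) ≠ 1 := fun hc =>
    h (Subgroup.card_eq_one.mp hc)
  obtain ⟨p, hp, hpd⟩ := Nat.exists_prime_and_dvd hc1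
  have hpM : p ∈ sigma M := h1350.2.1 p hp (hpd.trans (Subgroup.card_dvd_of_le inf_le_left))
  have hpMs : p ∈ sigma Mstar :=
    h1350s.2.1 p hp (hpd.trans (Subgroup.card_dvd_of_le inf_le_right))
  by_cases hconj : ∀ g : G, Mstar.map (MulAut.conj g).toMonoidHom ≠ M
  · exact hσ M Mstar hM hMstar hconj p hpM hpMs
  · push Not at hconj
    obtain ⟨g, hg⟩ := hconj
    have hσeq : sigma M = sigma Mstar := by
      rw [← hg]
      exact Cfsg.Agent.Lib.Helper51.BG12.sigma_cj g Mstar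
    have hk1 : Nat.card K ≠ 1 := fun hc => hK1 (Subgroup.card_eq_one.mp hc)
    obtain ⟨q, hq, hqK⟩ := Nat.exists_prime_and_dvd hk1
    have hqκ : q ∈ kappa M := hKH.2.1 q hq hqK
    have hqσ : q ∈ sigma Mstar := h1350s.2.1 q hq (hqK.trans (Subgroup.card_dvd_of_le hKσs))
    exact hqκ.2.2.1 (hσeq ▸ hqσ)

/-- **S1434**, conditional on Theorem 14.2, cyclicity of Hall `κ`-subgroups and the σ-partition. -/
theorem s1434_of' (hG : IsMinSimpleOddOrder G) (h30 : Stmt1430 G) (h31 : Stmt1431 G)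
    (hcyc : KappaHallCyclic G) (hσ : SigmaDisjoint G)
    (M : Subgroup G) (hM : IsCoatom M) (K U : Subgroup G) (hKU : IsSigmaDecomposition M K U)
    (hK1 : K ≠ ⊥) (Mstar : Subgroup G) (hMstar : IsCoatom Mstar)
    (hKst : K = sigmaCore Mstar ⊓ Subgroup.centralizer
      ((sigmaCore M ⊓ Subgroup.centralizer (K : Set G)) : Set G))
    (hKstH : IsPiHallOf (kappa Mstar) (sigmaCore M ⊓ Subgroup.centralizer (K : Set G)) Mstar) :
    kappa M = tau1 M ∧ IsPiHallOf (sigma M) (sigmaCore M ⊓ Subgroup.centralizer (K : Set G)) Mstar ∧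
      (∀ x ∈ K, x ≠ 1 → ∀ y ∈ (sigmaCore M ⊓ Subgroup.centralizer (K : Set G)), y ≠ 1 →
        M ⊓ Subgroup.centralizer ({x} : Set G) = K ⊔ (sigmaCore M ⊓ Subgroup.centralizer (K : Set G)) ∧ Mstar ⊓ Subgroup.centralizer ({y} : Set G) = K ⊔ (sigmaCore M ⊓ Subgroup.centralizer (K : Set G)) ∧
        Subgroup.centralizer ({x * y} : Set G) = K ⊔ (sigmaCore M ⊓ Subgroup.centralizer (K : Set G))) ∧
      (∀ g : G, g ∉ M → ∀ z ∈ ((↑(K ⊔ (sigmaCore M ⊓ Subgroup.centralizer (K : Set G))) : Set G) \ ((K : Set G) ∪ ↑(sigmaCore M ⊓ Subgroup.centralizer (K : Set G)))), z ∉ M.map (MulAut.conj g).toMonoidHom) ∧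
      Nat.card K * Nat.card ↥(sigmaCore M ⊓ Subgroup.centralizer (K : Set G)) * Set.ncard {a : G | ∃ g : G, ∃ z ∈ ((↑(K ⊔ (sigmaCore M ⊓ Subgroup.centralizer (K : Set G))) : Set G) \ ((K : Set G) ∪ ↑(sigmaCore M ⊓ Subgroup.centralizer (K : Set G)))), a = g * z * g⁻¹} =
        (Nat.card K * Nat.card ↥(sigmaCore M ⊓ Subgroup.centralizer (K : Set G)) - Nat.card K - Nat.card ↥(sigmaCore M ⊓ Subgroup.centralizer (K : Set G)) + 1) * Nat.card G ∧
      Nat.card G < 2 * Set.ncard {a : G | ∃ g : G, ∃ z ∈ ((↑(K ⊔ (sigmaCore M ⊓ Subgroup.centralizer (K : Set G))) : Set G) \ ((K : Set G) ∪ ↑(sigmaCore M ⊓ Subgroup.centralizer (K : Set G)))), a = g * z * g⁻¹} := by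
  have hKσs : K ≤ sigmaCore Mstar := by
    rw [hKst]; exact inf_le_left
  exact s1434_of hG h30 h31 hcyc M hM K U hKU hK1 Mstar hMstar hKst hKstH
    (sigmaCore_inf_eq_bot_of_sigmaDisjoint hG hσ M Mstar hM hMstar K hKU.hall hK1 hKσs)

end Main

end Cfsg.Agent.Lib.Helper54
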