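import Mathlib
import Cfsg.Prelude.Def_OddOrderLocal
import Cfsg.Agent.Lib.Helper24.SigmaConj
import Cfsg.Agent.Lib.Helper24.BetaCoreMain
import Cfsg.Agent.Lib.Helper30.BGNonab2
import Cfsg.Agent.Lib.Helper68.BG108

/-!
# Bender–Glauberman Lemma 12.17(d) (`sigma_subgroup_embedding`, clauses (d1), (d2))  (helper54)

Paper proof: helper30, board #2144.  Setting: `M`, `L` maximal, not conjugate, `q ∈ σ(M)`, `S ≤ M ⊓ L` a
Sylow `q`-subgroup of `L` with `N_G(S) ≤ M` (these are the conclusions of S1424).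

* `(d1)` (`q ∈ σ(L)`): `L = L_β (M ⊓ L)`, `M = M_β (M ⊓ L)`; `τ₁(L) ⊆ τ₁(M) ∪ α(M)` and symmetrically;
  `M_α ≠ 1`, `α(M) = β(M)` and symmetrically.
* `(d2)` (`q ∉ σ(L)`): `q ∈ τ₂(L)`, `M ⊓ L` is a complement of `L_σ` in `L`, `L_σ ⊓ M = 1`, `L_σ` is
  nilpotent, `σ(M) ∩ σ(L) = ∅`.

The S-statements used (S1414, S1416 first clause, S1417, S1418) enter as hypotheses.
-/

set_option autoImplicit false

namespace Cfsg.Agent.Lib.Helper54

open Cfsg
open scoped Pointwise commutatorElement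
open Cfsg.Agent.Lib.Helper34 (UniquenessThm)

universe u

/-- If `N` is a normal Hall `π`-subgroup of `X` and `X'` has a nilpotent Hall `π'`-subgroup `H`,
then `(X/N)'` is nilpotent. -/
theorem isNilpotent_commutator_quotient_of_hall {X : Type u} [Group X] [Finite X] (N : Subgroup X)
    [N.Normal] (π : Set ℕ) (hNi : ∀ p : ℕ, p.Prime → p ∈ π → ¬ p ∣ N.index)
    (H : Subgroup X) (hHn : Group.IsNilpotent H)
    (hHi : ∀ p : ℕ, p.Prime → p ∉ π → ¬ p ∣ H.relIndex (commutator X)) :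
    Group.IsNilpotent ↥(commutator (X ⧸ N)) := by
  set D : Subgroup X := commutator X with hD
  set φ := QuotientGroup.mk' N with hφ
  have hsurj : Function.Surjective φ := QuotientGroup.mk'_surjective N
  -- `D ≤ H ⊔ N`
  have hDJ : D ≤ H ⊔ N := by
    rw [← Subgroup.relIndex_eq_one]
    by_contra hne
    obtain ⟨p, hp, hpd⟩ := Nat.exists_prime_and_dvd hne
    by_cases hpπ : p ∈ π
    · apply hNi p hp hpπ
      exact (hpd.trans (Subgroup.relIndex_dvd_of_le_left D le_sup_right)).trans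
        (Subgroup.relIndex_dvd_index_of_normal N D)
    · exact hHi p hp hpπ (hpd.trans (Subgroup.relIndex_dvd_of_le_left D le_sup_left))
  have hcomm : commutator (X ⧸ N) = D.map φ := by
    rw [hD, commutator_def, commutator_def, Subgroup.map_commutator,
      ← MonoidHom.range_eq_map, MonoidHom.range_eq_top.mpr hsurj]
  have hle : commutator (X ⧸ N) ≤ H.map φ := by
    rw [hcomm]
    refine (Subgroup.map_mono hDJ).trans ?_
    rw [Subgroup.map_sup]
    have : N.map φ = ⊥ := by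
      rw [Subgroup.map_eq_bot_iff, hφ, QuotientGroup.ker_mk']
    rw [this, sup_bot_eq]
  have hHmap : Group.IsNilpotent ↥(H.map φ) :=
    Group.nilpotent_of_surjective (φ.subgroupMap H) (φ.subgroupMap_surjective H)
  have e := Subgroup.subgroupOfEquivOfLe hle
  have h1 : Group.IsNilpotent ↥((commutator (X ⧸ N)).subgroupOf (H.map φ)) := Subgroup.isNilpotent _
  exact Group.nilpotent_of_mulEquiv e


variable {G : Type u} [Group G]

/-- **Frattini factorisation** (BG 12.17(d1), core): `L_π` a normal Hall `π`-subgroup of `L`, `L'` has a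
nilpotent Hall `π'`-subgroup, `S ≤ L'` a Sylow `q`-subgroup of `L` with `N_L(S) ≤ M`.  Then
`L = (M ⊓ L) L_π`. -/
theorem subgroupOf_sup_piCore_eq_top [Finite G] (L M S : Subgroup G) (π : Set ℕ) (q : ℕ)
    [Fact q.Prime] (hπ : IsPiHallOf π (piCoreOf π L) L)
    (H : Subgroup G) (hH : IsPiHallOf {t | t.Prime ∧ t ∉ π} H ⁅L, L⁆) (hHn : Group.IsNilpotent H)
    (hSq : IsPGroup q S) (hSL' : S ≤ ⁅L, L⁆) (hSidx : ¬ q ∣ S.relIndex L)
    (hNS : L ⊓ Subgroup.normalizer (S : Set G) ≤ M) :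
    M.subgroupOf L ⊔ piCore π ↥L = ⊤ := by
  have hLL : ⁅L, L⁆ ≤ L := Subgroup.commutator_le_self L
  have hSL : S ≤ L := hSL'.trans hLL
  have hHL : H ≤ L := hH.1.trans hLL
  have hcomm : (⁅L, L⁆).subgroupOf L = commutator ↥L := by
    rw [← Subgroup.map_subtype_commutator]
    exact Subgroup.comap_map_eq_self_of_injective L.subtype_injective _
  have hNi : ∀ p : ℕ, p.Prime → p ∈ π → ¬ p ∣ (piCore π ↥L).index := by
    intro p hp hpπ
    have h1 := hπ.2.2 p hp hpπ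
    rwa [show piCoreOf π L = (piCore π ↥L).map L.subtype from rfl,
      Cfsg.Agent.Lib.Helper24.relIndex_map_subtype_self] at h1
  have hH₀n : Group.IsNilpotent ↥(H.subgroupOf L) :=
    Group.nilpotent_of_mulEquiv (Subgroup.subgroupOfEquivOfLe hHL).symm
  have hHi : ∀ p : ℕ, p.Prime → p ∉ π → ¬ p ∣ (H.subgroupOf L).relIndex (commutator ↥L) := by
    intro p hp hpπ
    rw [← hcomm, Subgroup.relIndex_subgroupOf hLL]
    exact hH.2.2 p hp ⟨hp, hpπ⟩
  have hnil := isNilpotent_commutator_quotient_of_hall (piCore π ↥L) π hNi (H.subgroupOf L) hH₀n hHi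
  have hSq' : IsPGroup q (S.subgroupOf L) := hSq.comap_subtype
  have hSidx' : ¬ q ∣ (S.subgroupOf L).index := hSidx
  obtain ⟨P, hP⟩ : ∃ P : Sylow q ↥L, (P : Subgroup L) = S.subgroupOf L :=
    ⟨hSq'.toSylow hSidx', IsPGroup.toSylow_coe _ _⟩
  have hPS : (P : Subgroup L).map L.subtype = S := by
    rw [hP, Subgroup.map_subgroupOf_eq_of_le hSL]
  have hPcomm : (P : Subgroup L) ≤ commutator ↥L := by
    rw [hP, ← hcomm]
    intro x hx
    rw [Subgroup.mem_subgroupOf] at hx ⊢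
    exact hSL' hx
  have hfr := Cfsg.Agent.Lib.Helper24.normalizer_sup_eq_top_of_nilpotent_commutator_quotient
    (piCore π ↥L) q P hPcomm hnil
  have hND : Subgroup.normalizer ((P : Subgroup L) : Set L) ≤ M.subgroupOf L := by
    intro x hx
    rw [Subgroup.mem_subgroupOf]
    apply hNS
    refine ⟨x.2, ?_⟩
    have h2 := Subgroup.le_normalizer_map (H := (P : Subgroup L)) L.subtype ⟨x, hx, rfl⟩
    rw [hPS] at h2
    exact h2
  rw [eq_top_iff, ← hfr]
  exact sup_le_sup_right hND _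


/-- If `L = (M ⊓ L) L_π` then `|L : M ⊓ L|` is a `π`-number. -/
theorem relIndex_isPi_of_sup_eq_top [Finite G] (L M : Subgroup G) (π : Set ℕ)
    (h : M.subgroupOf L ⊔ piCore π ↥L = ⊤) :
    ∀ t : ℕ, t.Prime → t ∣ M.relIndex L → t ∈ π := by
  intro t ht htd
  have hdvd := Cfsg.Agent.Lib.Helper24.index_dvd_card_of_sup_eq_top _ _ h
  exact piCore_isPi π t ht (htd.trans hdvd)

/-- If `L = (M ⊓ L) L_π` (inside `↥L`) then `L = L_π (M ⊓ L)` (inside `G`). -/
theorem eq_piCoreOf_sup_inf (L M : Subgroup G) (π : Set ℕ)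
    (h : M.subgroupOf L ⊔ piCore π ↥L = ⊤) : L = piCoreOf π L ⊔ (M ⊓ L) := by
  apply le_antisymm
  · intro x hx
    have h1 : (⟨x, hx⟩ : ↥L) ∈ M.subgroupOf L ⊔ piCore π ↥L := by rw [h]; trivial
    rw [← SetLike.mem_coe, Subgroup.mul_normal] at h1
    obtain ⟨a, ha, b, hb, hab⟩ := Set.mem_mul.mp h1
    have hx' : x = (a : G) * (b : G) := by
      have := congrArg Subtype.val hab
      simpa using this.symm
    rw [hx']
    apply Subgroup.mul_mem
    · exact Subgroup.mem_sup_right ⟨Subgroup.mem_subgroupOf.mp ha, a.2⟩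
    · exact Subgroup.mem_sup_left ⟨b, hb, rfl⟩
  · exact sup_le (Subgroup.map_subtype_le _) inf_le_right

/-- A subgroup of index prime to `t` controls the `t`-rank. -/
theorem pRankLE_of_le_of_not_dvd_relIndex [Finite G] {t k : ℕ} [Fact t.Prime] (M K : Subgroup G)
    (hKM : K ≤ M) (hidx : ¬ t ∣ K.relIndex M) (h : PRankLE t k ↥K) : PRankLE t k ↥M := by
  obtain ⟨T⟩ : Nonempty (Sylow t ↥K) := inferInstance
  set T' : Subgroup G := (T : Subgroup K).map K.subtype with hT'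
  have hT'K : T' ≤ K := Subgroup.map_subtype_le _
  have hT'M : T' ≤ M := hT'K.trans hKM
  have hT't : IsPGroup t T' := T.isPGroup'.map _
  have hidx' : ¬ t ∣ T'.relIndex M := by
    rw [← Subgroup.relIndex_mul_relIndex T' K M hT'K hKM]
    intro hd
    rcases (Nat.Prime.dvd_mul Fact.out).mp hd with h1 | h1
    · apply T.not_dvd_index
      rwa [hT', Cfsg.Agent.Lib.Helper24.relIndex_map_subtype_self] at h1
    · exact hidx h1
  have hq' : IsPGroup t (T'.subgroupOf M) := hT't.comap_subtype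
  obtain ⟨P, hP⟩ : ∃ P : Sylow t ↥M, (P : Subgroup M) = T'.subgroupOf M :=
    ⟨hq'.toSylow hidx', IsPGroup.toSylow_coe _ _⟩
  apply pRankLE_of_sylow_rel M P
  rw [hP, Subgroup.map_subgroupOf_eq_of_le hT'M]
  exact pRankLE_of_le hT'K h

/-- The part of statement S1414 used below: `M_β` is a Hall `β(M)`-subgroup of `M` and `M'` has a
nilpotent Hall `β(M)'`-subgroup. -/
def BetaHall (M : Subgroup G) : Prop :=
  IsPiHallOf (beta M) (piCoreOf (beta M) M) M ∧
    ∃ H : Subgroup G, IsPiHallOf {q | q.Prime ∧ q ∉ beta M} H ⁅M, M⁆ ∧ Group.IsNilpotent H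

/-- `BetaHall M` from the literal conclusion of S1414 (its first and third clauses). -/
theorem betaHall_of_s1414 {M : Subgroup G} {P Q R : Prop}
    (h : IsPiHallOf (beta M) (piCoreOf (beta M) M) M ∧ P ∧
      (∃ H : Subgroup G, IsPiHallOf {q | q.Prime ∧ q ∉ beta M} H ⁅M, M⁆ ∧ Group.IsNilpotent H) ∧
      Q ∧ R) : BetaHall M := ⟨h.1, h.2.2.1⟩

/-- `β(M) ⊆ α(M)`. -/
theorem beta_subset_alpha (M : Subgroup G) : beta M ⊆ alpha M := fun _ h => h.1

/-- One half of **BG 12.17(d1)**; the full statement `sigma_embedding_d1` applies it twice. -/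
theorem sigma_embedding_d1_half [Finite G] (hG : IsMinSimpleOddOrder G) (hU : UniquenessThm G)
    (M L : Subgroup G) (hM : IsCoatom M) (hL : IsCoatom L)
    (hnc : ∀ g : G, MulAut.conj g • L ≠ M) (hβM : BetaHall M) (hβL : BetaHall L)
    (q : ℕ) [Fact q.Prime] (hqM : q ∈ sigma M) (hqL : q ∈ sigma L)
    (S : Subgroup G) (hSq : IsPGroup q S) (hSM : S ≤ M) (hSL : S ≤ L)
    (hSidx : ¬ q ∣ S.relIndex L) :
    ¬ q ∣ S.relIndex M ∧ M.subgroupOf L ⊔ piCore (beta L) ↥L = ⊤ ∧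
      L.subgroupOf M ⊔ piCore (beta M) ↥M = ⊤ ∧
      tau1 L ⊆ tau1 M ∪ alpha M ∧ alphaCore M ≠ ⊥ ∧ alpha M = beta M := by
  have hU3 := uniqThree_of_uniquenessThm hU
  have hnc' : ∀ g : G, MulAut.conj g • M ≠ L := by
    intro g hg
    apply hnc g⁻¹
    rw [← hg, ← mul_smul, ← map_mul, inv_mul_cancel, map_one, one_smul]
  -- `S` as a Sylow subgroup of `L`
  have hSq' : IsPGroup q (S.subgroupOf L) := hSq.comap_subtype
  obtain ⟨PL, hPL⟩ : ∃ P : Sylow q ↥L, (P : Subgroup L) = S.subgroupOf L :=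
    ⟨hSq'.toSylow hSidx, IsPGroup.toSylow_coe _ _⟩
  have hPLS : (PL : Subgroup L).map L.subtype = S := by
    rw [hPL, Subgroup.map_subgroupOf_eq_of_le hSL]
  obtain ⟨hNSL, Q, hQ⟩ := Cfsg.Agent.Lib.Helper68.sylow_of_mem_sigma hqL PL
  rw [hPLS] at hNSL hQ
  -- `S` is a Sylow subgroup of `M`
  have hSidxM : ¬ q ∣ S.relIndex M := by
    intro hd
    apply Q.not_dvd_index
    rw [hQ]
    exact hd.trans (Subgroup.relIndex_dvd_index_of_le hSM)
  have hSqM : IsPGroup q (S.subgroupOf M) := hSq.comap_subtype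
  obtain ⟨PM, hPM⟩ : ∃ P : Sylow q ↥M, (P : Subgroup M) = S.subgroupOf M :=
    ⟨hSqM.toSylow hSidxM, IsPGroup.toSylow_coe _ _⟩
  have hPMS : (PM : Subgroup M).map M.subtype = S := by
    rw [hPM, Subgroup.map_subgroupOf_eq_of_le hSM]
  obtain ⟨hNSM, -⟩ := Cfsg.Agent.Lib.Helper68.sylow_of_mem_sigma hqM PM
  rw [hPMS] at hNSM
  have hSL' : S ≤ ⁅L, L⁆ := by
    have := Cfsg.Agent.Lib.Helper50.sylow_le_commutator_of_mem_sigma hG hU3 L hL q hqL PL
    rwa [hPLS] at this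
  have hSM' : S ≤ ⁅M, M⁆ := by
    have := Cfsg.Agent.Lib.Helper50.sylow_le_commutator_of_mem_sigma hG hU3 M hM q hqM PM
    rwa [hPMS] at this
  obtain ⟨HL, hHL, hHLn⟩ := hβL.2
  obtain ⟨HM, hHM, hHMn⟩ := hβM.2
  have hfL := subgroupOf_sup_piCore_eq_top L M S (beta L) q hβL.1 HL hHL hHLn hSq hSL' hSidx
    (inf_le_right.trans hNSM)
  have hfM := subgroupOf_sup_piCore_eq_top M L S (beta M) q hβM.1 HM hHM hHMn hSq hSM' hSidxM
    (inf_le_right.trans hNSL)
  have hidxL := relIndex_isPi_of_sup_eq_top L M (beta L) hfL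
  have hidxM := relIndex_isPi_of_sup_eq_top M L (beta M) hfM
  have hασM := Cfsg.Agent.Lib.Helper50.alpha_subset_sigma hG hU3 M hM
  have hασL := Cfsg.Agent.Lib.Helper50.alpha_subset_sigma hG hU3 L hL
  have hdisLM := (sigma_disjoint hG hU L M hL hM hnc).1.1
  -- (1.3)
  have hnn : ¬ Group.IsNilpotent ↥(sigmaCore M) := by
    intro hnil
    exact ((sigma_disjoint hG hU M L hM hL hnc').2 hnil).1 q hqM hqL
  have hα1 : alphaCore M ≠ ⊥ := fun h0 =>
    hnn (Cfsg.Agent.Lib.Helper30.BGNonab2.isNilpotent_sigmaCore_of_alphaCore_eq_bot hG hU M hM h0)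
  -- a prime outside `β(M)` with `t`-rank of `M` at least `k + 1` has the same in `L`
  have hrank : ∀ (t k : ℕ), t.Prime → t ∉ beta M → PRankLE t k ↥L → PRankLE t k ↥M := by
    intro t k ht htβ hr
    have : Fact t.Prime := ⟨ht⟩
    have h1 : ¬ t ∣ (M ⊓ L).relIndex M := by
      rw [inf_comm, Subgroup.inf_relIndex_right]
      exact fun hd => htβ (hidxM t ht hd)
    exact pRankLE_of_le_of_not_dvd_relIndex M (M ⊓ L) inf_le_left h1 (pRankLE_of_le inf_le_right hr)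
  have hαβ : alpha M = beta M := by
    apply Set.Subset.antisymm _ (beta_subset_alpha M)
    intro t htα
    by_contra htβ
    have htL : t ∈ alpha L := ⟨htα.1, fun hr => htα.2 (hrank t 2 htα.1 htβ hr)⟩
    exact hdisLM t htL (hασM htα)
  refine ⟨hSidxM, hfL, hfM, ?_, hα1, hαβ⟩
  -- (1.2)
  rintro t ⟨ht, htσL, htL, htL', htr⟩
  by_cases htα : t ∈ alpha M
  · exact Or.inr htα
  left
  have : Fact t.Prime := ⟨ht⟩
  have htβM : t ∉ beta M := fun h => htα (beta_subset_alpha M h)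
  have htβL : t ∉ beta L := fun h => htσL (hασL (beta_subset_alpha L h))
  have hiL : ¬ t ∣ (M ⊓ L).relIndex L := by
    rw [Subgroup.inf_relIndex_right]
    exact fun hd => htβL (hidxL t ht hd)
  have htML : t ∣ Nat.card ↥(M ⊓ L) := by
    have h1 := card_mul_relIndex (inf_le_right : M ⊓ L ≤ L)
    rw [← h1] at htL
    exact ((Nat.Prime.dvd_mul ht).mp htL).resolve_right hiL
  have htM : t ∣ Nat.card M := htML.trans (Subgroup.card_dvd_of_le inf_le_left)
  have hrM : PRankLE t 1 ↥M := hrank t 1 ht htβM htr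
  -- `t ∤ |M'|`
  have hM' : ¬ t ∣ Nat.card ↥⁅M, M⁆ := by
    intro hd
    set N : Subgroup ↥M := piCore (beta M) ↥M with hN
    set D : Subgroup ↥M := L.subgroupOf M with hD
    have hle : commutator ↥M ≤ ⁅D, D⁆ ⊔ N := by
      rw [commutator_def, Subgroup.commutator_le]
      intro x _ y _
      have hx : x ∈ D ⊔ N := by rw [hfM]; trivial
      have hy : y ∈ D ⊔ N := by rw [hfM]; trivial
      rw [← SetLike.mem_coe, Subgroup.mul_normal] at hx hy
      obtain ⟨a, ha, b, hb, rfl⟩ := Set.mem_mul.mp hx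
      obtain ⟨c, hc, d, hd', rfl⟩ := Set.mem_mul.mp hy
      have h1 : ⁅a, c⁆ ∈ ⁅D, D⁆ := Subgroup.commutator_mem_commutator ha hc
      have h2 : (⁅a, c⁆)⁻¹ * ⁅a * b, c * d⁆ ∈ N := by
        rw [← QuotientGroup.eq_one_iff, QuotientGroup.mk_mul, QuotientGroup.mk_inv]
        have e1 : ((a * b : ↥M) : ↥M ⧸ N) = (a : ↥M ⧸ N) := by
          rw [QuotientGroup.mk_mul, (QuotientGroup.eq_one_iff b).mpr hb, mul_one]
        have e2 : ((c * d : ↥M) : ↥M ⧸ N) = (c : ↥M ⧸ N) := by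
          rw [QuotientGroup.mk_mul, (QuotientGroup.eq_one_iff d).mpr hd', mul_one]
        have e3 : ((⁅a * b, c * d⁆ : ↥M) : ↥M ⧸ N) = ((⁅a, c⁆ : ↥M) : ↥M ⧸ N) := by
          simp only [commutatorElement_def, QuotientGroup.mk_mul, QuotientGroup.mk_inv, e1, e2]
        rw [e3, inv_mul_cancel]
      have h3 : ⁅a * b, c * d⁆ = ⁅a, c⁆ * ((⁅a, c⁆)⁻¹ * ⁅a * b, c * d⁆) := by group
      rw [h3]
      exact Subgroup.mul_mem _ (Subgroup.mem_sup_left h1) (Subgroup.mem_sup_right h2)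
    have hc1 : Nat.card ↥⁅M, M⁆ = Nat.card ↥(commutator ↥M) := by
      rw [← Subgroup.map_subtype_commutator]
      exact Subgroup.card_map_of_injective M.subtype_injective
    rw [hc1] at hd
    have h4 := hd.trans ((Subgroup.card_dvd_of_le hle).trans
      (Cfsg.Agent.Lib.Helper76.card_sup_dvd_of_normal ⁅D, D⁆ N))
    rcases (Nat.Prime.dvd_mul ht).mp h4 with h5 | h5
    · apply htL'
      have h6 : (⁅D, D⁆).map M.subtype ≤ ⁅L, L⁆ := by
        rw [Subgroup.map_commutator]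
        apply Subgroup.commutator_mono <;>
        · rw [hD, Subgroup.subgroupOf_map_subtype]
          exact inf_le_left
      have h7 : Nat.card ↥((⁅D, D⁆).map M.subtype) = Nat.card ↥⁅D, D⁆ :=
        Subgroup.card_map_of_injective M.subtype_injective
      rw [← h7] at h5
      exact h5.trans (Subgroup.card_dvd_of_le h6)
    · exact htβM (piCore_isPi (beta M) t ht h5)
  -- `t ∉ σ(M)`
  have hσM : t ∉ sigma M := by
    intro hσ
    obtain ⟨T⟩ : Nonempty (Sylow t ↥M) := inferInstance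
    have h1 := Cfsg.Agent.Lib.Helper50.sylow_le_commutator_of_mem_sigma hG hU3 M hM t hσ T
    apply hM'
    have h2 : t ∣ Nat.card ↥((T : Subgroup M).map M.subtype) := by
      rw [Subgroup.card_map_of_injective M.subtype_injective]
      exact T.dvd_card_of_dvd_card htM
    exact h2.trans (Subgroup.card_dvd_of_le h1)
  exact ⟨ht, hσM, htM, hM', hrM⟩


/-- **BG 12.17(d1)** (`sigma_subgroup_embedding`, case `q ∈ σ(M*)`), both directions.  `M`, `L` maximal
and not conjugate, `q ∈ σ(M) ∩ σ(L)`, `S ≤ M ⊓ L` a Sylow `q`-subgroup of `L`. -/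
theorem sigma_embedding_d1 [Finite G] (hG : IsMinSimpleOddOrder G) (hU : UniquenessThm G)
    (M L : Subgroup G) (hM : IsCoatom M) (hL : IsCoatom L)
    (hnc : ∀ g : G, MulAut.conj g • L ≠ M) (hβM : BetaHall M) (hβL : BetaHall L)
    (q : ℕ) [Fact q.Prime] (hqM : q ∈ sigma M) (hqL : q ∈ sigma L)
    (S : Subgroup G) (hSq : IsPGroup q S) (hSM : S ≤ M) (hSL : S ≤ L)
    (hSidx : ¬ q ∣ S.relIndex L) :
    (L = piCoreOf (beta L) L ⊔ (M ⊓ L) ∧ M = piCoreOf (beta M) M ⊔ (M ⊓ L)) ∧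
      ((∀ t : ℕ, t.Prime → t ∣ (M ⊓ L).relIndex L → t ∈ beta L) ∧
        ∀ t : ℕ, t.Prime → t ∣ (M ⊓ L).relIndex M → t ∈ beta M) ∧
      (tau1 L ⊆ tau1 M ∪ alpha M ∧ tau1 M ⊆ tau1 L ∪ alpha L) ∧
      (alphaCore M ≠ ⊥ ∧ alpha M = beta M ∧ alphaCore L ≠ ⊥ ∧ alpha L = beta L) := by
  have hnc' : ∀ g : G, MulAut.conj g • M ≠ L := by
    intro g hg
    apply hnc g⁻¹
    rw [← hg, ← mul_smul, ← map_mul, inv_mul_cancel, map_one, one_smul]
  obtain ⟨hSidxM, hfL, hfM, hτL, hαM, hαβM⟩ :=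
    sigma_embedding_d1_half hG hU M L hM hL hnc hβM hβL q hqM hqL S hSq hSM hSL hSidx
  obtain ⟨-, -, -, hτM, hαL, hαβL⟩ :=
    sigma_embedding_d1_half hG hU L M hL hM hnc' hβL hβM q hqL hqM S hSq hSL hSM hSidxM
  refine ⟨⟨eq_piCoreOf_sup_inf L M (beta L) hfL, ?_⟩, ⟨?_, ?_⟩, ⟨hτL, hτM⟩, hαM, hαβM, hαL, hαβL⟩
  · have := eq_piCoreOf_sup_inf M L (beta M) hfM
    rwa [inf_comm] at this
  · intro t ht hd
    rw [Subgroup.inf_relIndex_right] at hd
    exact relIndex_isPi_of_sup_eq_top L M (beta L) hfL t ht hd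
  · intro t ht hd
    rw [inf_comm, Subgroup.inf_relIndex_right] at hd
    exact relIndex_isPi_of_sup_eq_top M L (beta M) hfM t ht hd

/-- **BG 12.17(d2)** (`sigma_subgroup_embedding`, case `q ∉ σ(M*)`).  `M`, `L` maximal, `L ≠ M`,
`q ∈ σ(M)`, `q ∈ τ₂(L)` (this is 12.2(a), see `sigma_embedding_d2'`), `S ≤ M ⊓ L` a Sylow `q`-subgroup of
`L`.  Then `M ⊓ L` is a complement of `L_σ` in `L`, `L_σ ⊓ M = 1`, `L_σ` is nilpotent. -/
theorem sigma_embedding_d2 [Finite G] (hG : IsMinSimpleOddOrder G) (hU : UniquenessThm G)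
    (hC : Cfsg.Agent.Lib.Helper50.CentSqLE G)
    (h17a : ∀ M : Subgroup G, IsCoatom M → ∀ (p : ℕ) [Fact p.Prime], p ∈ tau2 M →
      ∀ A : Subgroup G, A ≤ M → IsElementaryAbelian p A → Nat.card A = p ^ 2 →
        Group.IsNilpotent (sigmaCore M))
    (h17e : ∀ M : Subgroup G, IsCoatom M → ∀ (p : ℕ) [Fact p.Prime], p ∈ tau2 M →
      ∀ A : Subgroup G, A ≤ M → IsElementaryAbelian p A → Nat.card A = p ^ 2 →
        ∀ Mstar : Subgroup G, IsCoatom Mstar → Mstar ≠ M → A ≤ Mstar → sigmaCore M ⊓ Mstar = ⊥)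
    (h18 : ∀ M : Subgroup G, IsCoatom M → ∀ E : Subgroup G, IsComplIn E (sigmaCore M) M →
      ∀ (p : ℕ) [Fact p.Prime], p ∈ tau2 M → ∀ A : Subgroup G, A ≤ E →
        IsElementaryAbelian p A → Nat.card A = p ^ 2 → E ≤ Subgroup.normalizer (A : Set G))
    (M L : Subgroup G) (hM : IsCoatom M) (hL : IsCoatom L) (hLM : M ≠ L)
    (q : ℕ) [Fact q.Prime] (hqM : q ∈ sigma M) (hqL : q ∈ tau2 L)
    (S : Subgroup G) (hSq : IsPGroup q S) (hSM : S ≤ M) (hSL : S ≤ L)
    (hSidx : ¬ q ∣ S.relIndex L) :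
    IsComplIn (M ⊓ L) (sigmaCore L) L ∧ sigmaCore L ⊓ M = ⊥ ∧ Group.IsNilpotent (sigmaCore L) := by
  have hSq' : IsPGroup q (S.subgroupOf L) := hSq.comap_subtype
  obtain ⟨P, hP⟩ : ∃ P : Sylow q ↥L, (P : Subgroup L) = S.subgroupOf L :=
    ⟨hSq'.toSylow hSidx, IsPGroup.toSylow_coe _ _⟩
  have hPS : (P : Subgroup L).map L.subtype = S := by
    rw [hP, Subgroup.map_subgroupOf_eq_of_le hSL]
  have hSr : ¬ PRankLE q 1 ↥S := by
    intro h
    apply hqL.2.2.2
    apply pRankLE_of_sylow_rel L P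
    rw [hPS]
    exact h
  obtain ⟨A, hAS, hAe, hAc⟩ :=
    Cfsg.Agent.Lib.Helper97.BGTwelve.exists_elemAb_sq_of_not_pRankLE_one S hSr
  have hAL := hAS.trans hSL
  have hAM := hAS.trans hSM
  have hnil := h17a L hL q hqL A hAL hAe hAc
  have hdisj := h17e L hL q hqL A hAL hAe hAc M hM hLM hAM
  have hHall := (sigmaCore_hall_of hG hU L hL).1
  have hLs : Group.IsSolvable L := hG.2.2.2 L hL.1
  have hAq : IsPGroup q A := hSq.to_le hAS
  obtain ⟨E₁, hE₁, hAE₁⟩ := Cfsg.Agent.Lib.Helper97.BGTwelve.exists_complIn_ge hLs hHall hAL (by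
    intro p hp hpd hpσ
    rw [hAc] at hpd
    have := (Nat.prime_dvd_prime_iff_eq hp Fact.out).mp (hp.dvd_of_dvd_pow hpd)
    rw [this] at hpσ
    exact hqL.2.1 hpσ)
  have hE₁N := h18 L hL E₁ hE₁ q hqL A hAE₁ hAe hAc
  have hNA : Subgroup.normalizer (A : Set G) ≤ M := by
    rw [(sigma_ctrl hG hU M hM q hqM A hAq hAM).2]
    exact sup_le inf_le_left (hC M hM q A hAM hAe hAc)
  have hE₁M : E₁ ≤ M := hE₁N.trans hNA
  have heq : M ⊓ L = E₁ := by
    apply le_antisymm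
    · intro x hx
      obtain ⟨e, he, s, hs, hxes⟩ := hE₁.2.2.2 x hx.2
      have hsM : s ∈ M := by
        have : s = e⁻¹ * x := by rw [hxes]; group
        rw [this]
        exact M.mul_mem (M.inv_mem (hE₁M he)) hx.1
      have hs1 : s ∈ sigmaCore L ⊓ M := ⟨hs, hsM⟩
      rw [hdisj, Subgroup.mem_bot] at hs1
      rw [hxes, hs1, mul_one]
      exact he
    · exact le_inf hE₁M hE₁.1
  rw [heq]
  exact ⟨hE₁, hdisj, hnil⟩

/-- **BG 12.17(d2)** with (2.1) included: `q ∉ σ(L)` and `N_G(X) ≤ L` for a nontrivial `q`-subgroup `X`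
give `q ∈ τ₂(L)` (BG 12.2(a)); if moreover `L` is not conjugate to `M` then `σ(L) ∩ σ(M) = ∅`. -/
theorem sigma_embedding_d2' [Finite G] (hG : IsMinSimpleOddOrder G) (hU : UniquenessThm G)
    (hC : Cfsg.Agent.Lib.Helper50.CentSqLE G)
    (h17a : ∀ M : Subgroup G, IsCoatom M → ∀ (p : ℕ) [Fact p.Prime], p ∈ tau2 M →
      ∀ A : Subgroup G, A ≤ M → IsElementaryAbelian p A → Nat.card A = p ^ 2 →
        Group.IsNilpotent (sigmaCore M))
    (h17e : ∀ M : Subgroup G, IsCoatom M → ∀ (p : ℕ) [Fact p.Prime], p ∈ tau2 M →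
      ∀ A : Subgroup G, A ≤ M → IsElementaryAbelian p A → Nat.card A = p ^ 2 →
        ∀ Mstar : Subgroup G, IsCoatom Mstar → Mstar ≠ M → A ≤ Mstar → sigmaCore M ⊓ Mstar = ⊥)
    (h18 : ∀ M : Subgroup G, IsCoatom M → ∀ E : Subgroup G, IsComplIn E (sigmaCore M) M →
      ∀ (p : ℕ) [Fact p.Prime], p ∈ tau2 M → ∀ A : Subgroup G, A ≤ E →
        IsElementaryAbelian p A → Nat.card A = p ^ 2 → E ≤ Subgroup.normalizer (A : Set G))
    (M L : Subgroup G) (hM : IsCoatom M) (hL : IsCoatom L)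
    (hnc : ∀ g : G, MulAut.conj g • L ≠ M)
    (q : ℕ) [Fact q.Prime] (hqM : q ∈ sigma M) (hqL : q ∉ sigma L)
    (X : Subgroup G) (hXq : IsPGroup q X) (hX1 : X ≠ ⊥)
    (hNX : Subgroup.normalizer (X : Set G) ≤ L)
    (S : Subgroup G) (hSq : IsPGroup q S) (hSM : S ≤ M) (hSL : S ≤ L)
    (hSidx : ¬ q ∣ S.relIndex L) :
    q ∈ tau2 L ∧ IsComplIn (M ⊓ L) (sigmaCore L) L ∧ sigmaCore L ⊓ M = ⊥ ∧
      Group.IsNilpotent (sigmaCore L) ∧ (∀ t ∈ sigma L, t ∉ sigma M) ∧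
      sigmaCore L ⊓ sigmaCore M = ⊥ := by
  have hqτ : q ∈ tau2 L :=
    (mem_sigma_or_tau2_of_normalizer_le hG hU L hL q X hXq hX1 hNX).resolve_left hqL
  have hLM : M ≠ L := by
    intro h
    apply hnc 1
    rw [map_one, one_smul, h]
  obtain ⟨h1, h2, h3⟩ := sigma_embedding_d2 hG hU hC h17a h17e h18 M L hM hL hLM q hqM hqτ S hSq
    hSM hSL hSidx
  obtain ⟨h4, h5⟩ := (sigma_disjoint hG hU L M hL hM hnc).2 h3
  exact ⟨hqτ, h1, h2, h3, h4, h5⟩

end Cfsg.Agent.Lib.Helper54
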