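import Mathlib
import Cfsg.Prelude.Def_OddOrderLocal
import Cfsg.Agent.Lib.Helper54.UqRank
import Cfsg.Agent.Lib.Helper54.Coprime

/-!
# Bender–Glauberman Theorem 14.6: pure group theory for conclusion (a)  (helper54)

* `omegaCenter p T` : `Ω₁(Z(T))` as a subgroup of the ambient group.
* `le_centralizer_of_omegaCenter` (**Lemma R**): `T` a `p`-group, `B ≤ T` elementary abelian of order
  `p ^ 2`, `B₀ ≤ B`; if `C_T(B₀)` is abelian, contains no elementary abelian subgroup of order greater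
  than `p ^ 2`, and `Ω₁(Z(T))` has order at least `p ^ 2`, then `T ≤ C_G(B₀)`.
* `commutator_le_centralizer_of_card_prime` : a group normalizing a subgroup of prime order induces an
  abelian group of automorphisms on it.
-/

set_option autoImplicit false

namespace Cfsg.Agent.Lib.Helper54

open Cfsg
open scoped Pointwise commutatorElement

universe u

variable {G : Type u} [Group G]

/-- `Ω₁(Z(T))`: the elements of `T` of order dividing `p` that commute with all of `T`. -/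
def omegaCenter (p : ℕ) (T : Subgroup G) : Subgroup G where
  carrier := {z | z ∈ T ∧ (∀ t ∈ T, t * z = z * t) ∧ z ^ p = 1}
  one_mem' := ⟨T.one_mem, fun t _ => by rw [mul_one, one_mul], one_pow p⟩
  mul_mem' := by
    rintro a b ⟨ha, hac, hap⟩ ⟨hb, hbc, hbp⟩
    refine ⟨T.mul_mem ha hb, fun t ht => ?_, ?_⟩
    · rw [← mul_assoc, hac t ht, mul_assoc, hbc t ht, mul_assoc]
    · have hab : Commute a b := (hbc a ha)
      rw [hab.mul_pow, hap, hbp, one_mul]
  inv_mem' := by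
    rintro a ⟨ha, hac, hap⟩
    refine ⟨T.inv_mem ha, fun t ht => ?_, by rw [inv_pow, hap, inv_one]⟩
    have h := hac t ht
    calc t * a⁻¹ = a⁻¹ * (a * t) * a⁻¹ := by group
      _ = a⁻¹ * (t * a) * a⁻¹ := by rw [h]
      _ = a⁻¹ * t := by group

theorem mem_omegaCenter {p : ℕ} {T : Subgroup G} {z : G} :
    z ∈ omegaCenter p T ↔ z ∈ T ∧ (∀ t ∈ T, t * z = z * t) ∧ z ^ p = 1 := Iff.rfl

theorem omegaCenter_le (p : ℕ) (T : Subgroup G) : omegaCenter p T ≤ T := fun _ h => h.1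

theorem omegaCenter_le_centralizer (p : ℕ) (T : Subgroup G) :
    omegaCenter p T ≤ Subgroup.centralizer (T : Set G) := by
  intro z hz
  rw [Subgroup.mem_centralizer_iff]
  intro t ht
  exact hz.2.1 t ht

theorem omegaCenter_isElementaryAbelian (p : ℕ) (T : Subgroup G) :
    IsElementaryAbelian p (omegaCenter p T) := by
  refine ⟨⟨⟨?_⟩⟩, fun a ha => ha.2.2⟩
  rintro ⟨a, ha⟩ ⟨b, hb⟩
  apply Subtype.ext
  exact hb.2.1 a ha.1

theorem normalizer_le_normalizer_omegaCenter (p : ℕ) (T : Subgroup G) :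
    Subgroup.normalizer (T : Set G) ≤ Subgroup.normalizer ((omegaCenter p T : Subgroup G) : Set G) := by
  have key : ∀ g ∈ Subgroup.normalizer (T : Set G), ∀ z ∈ omegaCenter p T,
      g * z * g⁻¹ ∈ omegaCenter p T := by
    intro g hg z hz
    have hg' := Subgroup.mem_normalizer_iff.mp hg
    refine ⟨(hg' z).mp hz.1, fun t ht => ?_, ?_⟩
    · have ht' : g⁻¹ * t * g ∈ T := by
        have := (hg' (g⁻¹ * t * g)).mpr (by
          have : g * (g⁻¹ * t * g) * g⁻¹ = t := by group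
          rw [this]; exact ht)
        exact this
      have h := hz.2.1 _ ht'
      calc t * (g * z * g⁻¹) = g * ((g⁻¹ * t * g) * z) * g⁻¹ := by group
        _ = g * (z * (g⁻¹ * t * g)) * g⁻¹ := by rw [h]
        _ = g * z * g⁻¹ * t := by group
    · rw [conj_pow, hz.2.2, mul_one, mul_inv_cancel]
  intro g hg
  rw [Subgroup.mem_normalizer_iff]
  intro z
  constructor
  · exact key g hg z
  · intro h
    have hginv : g⁻¹ ∈ Subgroup.normalizer (T : Set G) := Subgroup.inv_mem _ hg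
    have := key g⁻¹ hginv _ h
    simpa [mul_assoc] using this

/-- A nontrivial finite `p`-group has `Ω₁(Z(T)) ≠ 1`. -/
theorem omegaCenter_ne_bot {p : ℕ} [Fact p.Prime] (T : Subgroup G) [Finite T] (hT : IsPGroup p T)
    (hT1 : T ≠ ⊥) : omegaCenter p T ≠ ⊥ := by
  have hnt : Nontrivial T := (Subgroup.nontrivial_iff_ne_bot T).mpr hT1
  have hc : Nontrivial (Subgroup.center T) := hT.center_nontrivial
  have hZp : IsPGroup p (Subgroup.center T) := hT.to_subgroup _
  have hcard : p ∣ Nat.card (Subgroup.center T) := by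
    obtain ⟨n, hn⟩ := IsPGroup.iff_card.mp hZp
    rw [hn]
    rcases Nat.eq_zero_or_pos n with h0 | hpos
    · subst h0
      rw [pow_zero] at hn
      have : Subsingleton (Subgroup.center T) := (Nat.card_eq_one_iff_unique.mp hn).1
      exact absurd hc (not_nontrivial _)
    · exact dvd_pow_self p hpos.ne'
  obtain ⟨z, hz⟩ := exists_prime_orderOf_dvd_card' p hcard
  intro hbot
  have hz1 : ((z : T) : G) ∈ omegaCenter p T := by
    refine ⟨(z : T).2, fun t ht => ?_, ?_⟩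
    · have := Subgroup.mem_center_iff.mp z.2 ⟨t, ht⟩
      exact congrArg Subtype.val this
    · have : z ^ p = 1 := by rw [← hz]; exact pow_orderOf_eq_one z
      have := congrArg (fun w : Subgroup.center T => ((w : T) : G)) this
      simpa using this
  rw [hbot, Subgroup.mem_bot] at hz1
  have : z = 1 := by
    apply Subtype.ext; apply Subtype.ext; exact hz1
  rw [this, orderOf_one] at hz
  exact (Fact.out : p.Prime).one_lt.ne hz

/-- **Lemma R.** -/
theorem le_centralizer_of_omegaCenter [Finite G] {p : ℕ} [Fact p.Prime] (T B B₀ : Subgroup G)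
    (hBT : B ≤ T) (hB₀B : B₀ ≤ B) (hBe : IsElementaryAbelian p B) (hBcard : Nat.card B = p ^ 2)
    (hCab : ∀ a ∈ T ⊓ Subgroup.centralizer (B₀ : Set G), ∀ b ∈ T ⊓ Subgroup.centralizer (B₀ : Set G),
      a * b = b * a)
    (hCrank : ∀ A : Subgroup G, A ≤ T ⊓ Subgroup.centralizer (B₀ : Set G) → IsElementaryAbelian p A →
      Nat.card A ≤ p ^ 2)
    (hZ : p ^ 2 ≤ Nat.card (omegaCenter p T)) : T ≤ Subgroup.centralizer (B₀ : Set G) := by
  set C := T ⊓ Subgroup.centralizer (B₀ : Set G) with hC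
  set Z₁ := omegaCenter p T with hZ₁
  have hBcomm : ∀ a ∈ B, ∀ b ∈ B, a * b = b * a := by
    intro a ha b hb
    have := hBe.1.is_comm.comm ⟨a, ha⟩ ⟨b, hb⟩
    exact congrArg Subtype.val this
  have hBC : B ≤ C := by
    intro b hb
    refine ⟨hBT hb, ?_⟩
    show b ∈ Subgroup.centralizer (B₀ : Set G)
    rw [Subgroup.mem_centralizer_iff]
    intro x hx
    exact hBcomm x (hB₀B hx) b hb
  have hZC : Z₁ ≤ C := by
    intro z hz
    refine ⟨hz.1, ?_⟩
    show z ∈ Subgroup.centralizer (B₀ : Set G)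
    rw [Subgroup.mem_centralizer_iff]
    intro x hx
    exact hz.2.1 x (hBT (hB₀B hx))
  -- `A := Z₁ ⊔ B` is elementary abelian inside `C`
  have hAC : Z₁ ⊔ B ≤ C := sup_le hZC hBC
  have hAe : IsElementaryAbelian p (Z₁ ⊔ B : Subgroup G) := by
    have hcomm : ∀ a ∈ Z₁ ⊔ B, ∀ b ∈ Z₁ ⊔ B, a * b = b * a :=
      fun a ha b hb => hCab a (hAC ha) b (hAC hb)
    -- the elements of `C` of order dividing `p` form a subgroup
    let P : Subgroup G :=
      { carrier := {a | a ∈ C ∧ a ^ p = 1}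
        one_mem' := ⟨C.one_mem, one_pow p⟩
        mul_mem' := by
          rintro a b ⟨ha, hap⟩ ⟨hb, hbp⟩
          refine ⟨C.mul_mem ha hb, ?_⟩
          have hab : Commute a b := hCab a ha b hb
          rw [hab.mul_pow, hap, hbp, one_mul]
        inv_mem' := by
          rintro a ⟨ha, hap⟩
          exact ⟨C.inv_mem ha, by rw [inv_pow, hap, inv_one]⟩ }
    have hZP : Z₁ ≤ P := fun z hz => ⟨hZC hz, hz.2.2⟩
    have hBP : B ≤ P := fun b hb => ⟨hBC hb, hBe.2 b hb⟩
    have hAP : Z₁ ⊔ B ≤ P := sup_le hZP hBP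
    refine ⟨⟨⟨?_⟩⟩, fun a ha => (hAP ha).2⟩
    rintro ⟨a, ha⟩ ⟨b, hb⟩
    exact Subtype.ext (hcomm a ha b hb)
  have hAcard := hCrank _ hAC hAe
  have hBA : B = Z₁ ⊔ B := by
    apply Subgroup.eq_of_le_of_card_ge le_sup_right
    rw [hBcard]; exact hAcard
  have hZB : Z₁ ≤ B := by rw [hBA]; exact le_sup_left
  have hZeqB : Z₁ = B := by
    apply Subgroup.eq_of_le_of_card_ge hZB
    rw [hBcard]; exact hZ
  intro t ht
  rw [Subgroup.mem_centralizer_iff]
  intro x hx
  have hxZ : x ∈ Z₁ := by rw [hZeqB]; exact hB₀B hx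
  exact (hxZ.2.1 t ht).symm

/-- A subgroup `N` of prime order is centralized by the derived subgroup of every subgroup normalizing
it. -/
theorem commutator_le_centralizer_of_card_prime {p : ℕ} (hp : p.Prime) (N M₀ : Subgroup G)
    (hN : Nat.card N = p) (hM₀ : M₀ ≤ Subgroup.normalizer (N : Set G)) :
    ⁅M₀, M₀⁆ ≤ Subgroup.centralizer (N : Set G) := by
  have : Fact p.Prime := ⟨hp⟩
  have hcyc : IsCyclic N := isCyclic_of_prime_card hN
  obtain ⟨⟨z, hzN⟩, hz⟩ := hcyc.exists_generator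
  -- conjugation by an element of the normalizer acts as a power map
  have hpow : ∀ a ∈ Subgroup.normalizer (N : Set G), ∃ i : ℤ, ∀ n ∈ N, a * n * a⁻¹ = n ^ i := by
    intro a ha
    have haN := Subgroup.mem_normalizer_iff.mp ha
    have h1 : a * z * a⁻¹ ∈ N := (haN z).mp hzN
    obtain ⟨i, hi⟩ := Subgroup.mem_zpowers_iff.mp (hz ⟨a * z * a⁻¹, h1⟩)
    refine ⟨i, fun n hn => ?_⟩
    obtain ⟨j, hj⟩ := Subgroup.mem_zpowers_iff.mp (hz ⟨n, hn⟩)
    have hi' : z ^ i = a * z * a⁻¹ := by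
      have := congrArg Subtype.val hi
      simpa using this
    have hj' : z ^ j = n := by
      have := congrArg Subtype.val hj
      simpa using this
    rw [← hj']
    calc a * z ^ j * a⁻¹ = (a * z * a⁻¹) ^ j := by rw [conj_zpow]
      _ = (z ^ i) ^ j := by rw [hi']
      _ = (z ^ j) ^ i := by rw [← zpow_mul, ← zpow_mul, mul_comm]
  have key : ∀ a ∈ Subgroup.normalizer (N : Set G), ∀ b ∈ Subgroup.normalizer (N : Set G),
      ∀ n ∈ N, (a * b) * n * (a * b)⁻¹ = (b * a) * n * (b * a)⁻¹ := by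
    intro a ha b hb n hn
    obtain ⟨i, hi⟩ := hpow a ha
    obtain ⟨j, hj⟩ := hpow b hb
    have h1 : (a * b) * n * (a * b)⁻¹ = a * (b * n * b⁻¹) * a⁻¹ := by group
    have h2 : (b * a) * n * (b * a)⁻¹ = b * (a * n * a⁻¹) * b⁻¹ := by group
    rw [h1, h2, hj n hn, hi n hn, hi _ (N.zpow_mem hn j), hj _ (N.zpow_mem hn i),
      ← zpow_mul, ← zpow_mul, mul_comm]
  rw [Subgroup.commutator_le]
  intro a ha b hb
  rw [Subgroup.mem_centralizer_iff]
  intro n hn
  have ha' : a⁻¹ ∈ Subgroup.normalizer (N : Set G) := Subgroup.inv_mem _ (hM₀ ha)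
  have hb' : b⁻¹ ∈ Subgroup.normalizer (N : Set G) := Subgroup.inv_mem _ (hM₀ hb)
  have h := key a⁻¹ ha' b⁻¹ hb' n hn
  -- `(b⁻¹ a⁻¹)⁻¹ (a⁻¹ b⁻¹) = a b a⁻¹ b⁻¹` centralizes `n`
  have h3 : ⁅a, b⁆ * n * ⁅a, b⁆⁻¹ = n := by
    have : ⁅a, b⁆ * n * ⁅a, b⁆⁻¹ =
        (b⁻¹ * a⁻¹)⁻¹ * ((a⁻¹ * b⁻¹) * n * (a⁻¹ * b⁻¹)⁻¹) * (b⁻¹ * a⁻¹) := by
      rw [commutatorElement_def]; group
    rw [this, h]; group
  calc n * ⁅a, b⁆ = (⁅a, b⁆ * n * ⁅a, b⁆⁻¹) * ⁅a, b⁆ := by rw [h3]
    _ = ⁅a, b⁆ * n := by group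

end Cfsg.Agent.Lib.Helper54
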