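import Mathlib
import Cfsg.Prelude.Def_OddOrderLocal
import Cfsg.Agent.Lib.Helper54.BGFourteenSixA
import Cfsg.Agent.Lib.Helper54.BGFourteenThree
import Cfsg.Agent.Lib.Helper54.BGFourteenEmbed
import Cfsg.Agent.Lib.Helper21.BGFourteenSevenA
import Cfsg.Agent.Lib.Helper23.BGFourteenD
import Cfsg.Agent.Lib.Helper55.BGElevenD
import Cfsg.Agent.Lib.Helper22.BGFourteenFourA
import Cfsg.Agent.S1404
import Cfsg.Agent.S1429

/-!
# Bender–Glauberman Theorem 14.6, conclusion (a): `κ(H) = ∅`  (helper54)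

Setting of S1435: `M = M_σ U K` of type `𝒫₂` with partner `M*` (`K = C_{M*_σ}(K*)`, `K*` a Hall
`κ(M*)`-subgroup of `M*`), `|K| = p` prime (Lemma P), `H` the maximal subgroup over `N_G(R)`.

* `normalizer_le_centralizer_of_partner` : `N_G(K) = C_G(K) ≤ M*` (Frattini argument in `N_{M*}(K)` with the
  Hall subgroup `K*` of `C_{M*}(K)` and `N_{M*}(K*) = K* K`).
* `kappa_eq_empty_of_signalizer` (**Lemma A**): `κ(H) = ∅`, from the facts proved in the other steps of 14.6
  (`K` f.p.f. on `H_σ`, `H_σ ∩ M* = 1`, `p ∉ σ(H)`, `E ≤ M*` for the complements `E ≥ K` of `H_σ`).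
  It needs neither S1376 nor S1369.
-/

set_option autoImplicit false

namespace Cfsg.Agent.Lib.Helper54

open Cfsg
open scoped Pointwise commutatorElement
open Cfsg.Agent.Lib.Helper34 (UniquenessThm)

universe u

variable {G : Type u} [Group G]

/-- a group of prime order is commutative, elementwise form -/
theorem commute_of_card_prime {K : Subgroup G} (hKp : (Nat.card K).Prime) :
    ∀ a ∈ K, ∀ b ∈ K, a * b = b * a := by
  have : Fact (Nat.card K).Prime := ⟨hKp⟩
  have hcyc : IsCyclic K := isCyclic_of_prime_card rfl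
  intro a ha b hb
  have := hcyc.commGroup.mul_comm ⟨a, ha⟩ ⟨b, hb⟩
  exact congrArg Subtype.val this

/-- `C_G(k) = C_G(K)` for `k ≠ 1` in a group `K` of prime order. -/
theorem centralizer_singleton_eq_of_card_prime [Finite G] {K : Subgroup G} (hKp : (Nat.card K).Prime)
    {k : G} (hk : k ∈ K) (hk1 : k ≠ 1) :
    Subgroup.centralizer ({k} : Set G) = Subgroup.centralizer (K : Set G) := by
  have : Fact (Nat.card K).Prime := ⟨hKp⟩
  apply le_antisymm
  · have hz : Subgroup.zpowers (⟨k, hk⟩ : K) = ⊤ := by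
      apply zpowers_eq_top_of_prime_card rfl
      intro h
      exact hk1 (congrArg Subtype.val h)
    intro g hg
    rw [Subgroup.mem_centralizer_iff]
    intro x hx
    have hx' : (⟨x, hx⟩ : K) ∈ Subgroup.zpowers (⟨k, hk⟩ : K) := by rw [hz]; trivial
    obtain ⟨n, hn⟩ := Subgroup.mem_zpowers_iff.mp hx'
    have hn' : k ^ n = x := by
      have := congrArg Subtype.val hn
      simpa using this
    have hgk : Commute k g := (Subgroup.mem_centralizer_singleton_iff.mp hg).symm
    rw [← hn']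
    exact (hgk.zpow_left n).eq
  · exact Subgroup.centralizer_le (by simpa using hk)

theorem normalizer_le_centralizer_of_partner [Finite G] (hG : IsMinSimpleOddOrder G)
    (h30 : Stmt1430 G) (hku : KstarCentUniq G)
    (M Mstar K : Subgroup G) (hM : IsCoatom M) (hMstar : IsCoatom Mstar)
    (hK : IsPiHallOf (kappa M) K M) (hKp : (Nat.card K).Prime)
    (hKst : K = sigmaCore Mstar ⊓ Subgroup.centralizer
      ((sigmaCore M ⊓ Subgroup.centralizer (K : Set G) : Subgroup G) : Set G))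
    (hKstH : IsPiHallOf (kappa Mstar) (sigmaCore M ⊓ Subgroup.centralizer (K : Set G)) Mstar) :
    Subgroup.normalizer (K : Set G) ≤ Subgroup.centralizer (K : Set G) ∧
      Subgroup.centralizer (K : Set G) ≤ Mstar ∧ Subgroup.normalizer (K : Set G) ≤ Mstar := by
  classical
  have hK1 : K ≠ ⊥ := Cfsg.Agent.Lib.Helper21.ne_bot_of_card_prime hKp
  set Ks : Subgroup G := sigmaCore M ⊓ Subgroup.centralizer (K : Set G) with hKs
  have hKs1 : Ks ≠ ⊥ := Cfsg.Agent.Lib.Helper21.kstar_ne_bot hG h30 hM hK hK1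
  have h67 := (Cfsg.Agent.Lib.Helper21.s1367_of hG h30 hku M hM K hK hK1 Mstar hMstar hKst hKstH).2
    K le_rfl hKp
  have hCK : Subgroup.centralizer (K : Set G) ≤ Mstar := h67.1
  have hKcomm := commute_of_card_prime hKp
  have hKM : K ≤ M := hK.1
  have hKtop : K ≠ ⊤ := fun h => hM.1 (top_le_iff.mp (h ▸ hKM))
  have hNtop := normalizer_ne_top_of_simple hG.2.1 hK1 hKtop
  obtain ⟨L, hL, hNL⟩ := exists_isCoatom_ge hNtop
  have hLM : L = Mstar := h67.2 L hL ((Subgroup.centralizer_le_normalizer _).trans hNL)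
  have hNK : Subgroup.normalizer (K : Set G) ≤ Mstar := hLM ▸ hNL
  refine ⟨?_, hCK, hNK⟩
  -- `N_{M*}(K*) = K* K`
  obtain ⟨X, hXKs, hXp⟩ := Cfsg.Agent.Lib.Helper23.exists_zpowers_prime_le hKs1
  have h30s := (h30 Mstar hMstar Ks hKstH hKs1).2.2 X hXKs hXp
  have hNKs : Mstar ⊓ Subgroup.normalizer (Ks : Set G) = Ks ⊔ K := by
    rw [h30s.2.1, ← hKst]
  have hKsC : Ks ≤ Subgroup.centralizer (K : Set G) := inf_le_right
  have hKC : K ≤ Subgroup.centralizer (K : Set G) := by
    intro a ha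
    rw [Subgroup.mem_centralizer_iff]
    intro b hb
    exact hKcomm b hb a ha
  -- the Frattini argument
  set C : Subgroup G := Mstar ⊓ Subgroup.centralizer (K : Set G) with hC
  have hKsleC : Ks ≤ C := le_inf hKstH.1 hKsC
  have hCsolv : Group.IsSolvable C := by
    have hMs : Group.IsSolvable Mstar := hG.2.2.2 Mstar hMstar.1
    exact solvable_of_solvable_injective (Subgroup.inclusion_injective (inf_le_left : C ≤ Mstar))
  have hHallC : IsPiHallOf (kappa Mstar) Ks C := by
    refine ⟨hKsleC, hKstH.2.1, fun q hq hqκ hd => hKstH.2.2 q hq hqκ ?_⟩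
    have := Subgroup.relIndex_mul_relIndex Ks C Mstar hKsleC inf_le_left
    rw [← this]
    exact Dvd.dvd.mul_right hd _
  intro n hn
  have hnM : n ∈ Mstar := hNK hn
  have hn' := Subgroup.mem_normalizer_iff.mp hn
  have hconjC : MulAut.conj n • Ks ≤ C := by
    intro x hx
    rw [mem_conj_smul_iff] at hx
    -- `x = n (n⁻¹ x n) n⁻¹`
    have hx1 : n⁻¹ * x * n ∈ Ks := hx
    have hxM : x ∈ Mstar := by
      have : x = n * (n⁻¹ * x * n) * n⁻¹ := by group
      rw [this]
      exact Mstar.mul_mem (Mstar.mul_mem hnM (hKstH.1 hx1)) (Mstar.inv_mem hnM)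
    refine ⟨hxM, ?_⟩
    show x ∈ Subgroup.centralizer (K : Set G)
    rw [Subgroup.mem_centralizer_iff]
    intro k hk
    have hk' : n⁻¹ * k * n ∈ K := by
      have := (hn' (n⁻¹ * k * n)).mpr (by
        have : n * (n⁻¹ * k * n) * n⁻¹ = k := by group
        rw [this]; exact hk)
      exact this
    have hc := Subgroup.mem_centralizer_iff.mp (hKsC hx1) _ hk'
    calc k * x = n * ((n⁻¹ * k * n) * (n⁻¹ * x * n)) * n⁻¹ := by group
      _ = n * ((n⁻¹ * x * n) * (n⁻¹ * k * n)) * n⁻¹ := by rw [hc]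
      _ = x * k := by group
  have hHallC' : IsPiHallOf (kappa Mstar) (MulAut.conj n • Ks) C :=
    Cfsg.Agent.Lib.Helper62.isPiHallOf_of_card_eq hHallC hconjC (card_conj_smul n Ks)
  obtain ⟨c, hcC, hc⟩ := Cfsg.Agent.Lib.Helper62.isPiHallOf_conj hCsolv hHallC' hHallC
  have hcn : c * n ∈ Mstar ⊓ Subgroup.normalizer (Ks : Set G) := by
    refine ⟨Mstar.mul_mem hcC.1 hnM, ?_⟩
    show c * n ∈ Subgroup.normalizer (Ks : Set G)
    rw [mem_normalizer_iff_conj_smul, map_mul, mul_smul]
    exact hc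
  rw [hNKs] at hcn
  have hcnC : c * n ∈ Subgroup.centralizer (K : Set G) := (sup_le hKsC hKC) hcn
  have : n = c⁻¹ * (c * n) := by group
  rw [this]
  exact Subgroup.mul_mem _ (Subgroup.inv_mem _ hcC.2) hcnC

end Cfsg.Agent.Lib.Helper54
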