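import Mathlib
import Cfsg.Prelude.Def_OddOrderLocal
import Cfsg.Agent.Lib.Helper54.BGFourteenSixB
import Cfsg.Agent.Lib.Helper23.BGFourteenA

/-!
# Bender–Glauberman Theorem 14.6, conclusion (a): Hall data of a maximal subgroup with `κ(H) ≠ ∅`
(helper54)

* `KappaHallCompl M K U` : the data of `Stmt1430` (2): `U` an abelian Hall `(κ(M) ∪ σ(M))'`-subgroup
  of `M` normalized by `K`, on which the elements of `K#` act without fixed points.
* `kappaHallCompl_conj` : it is stable under conjugation by elements of `M`.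
* `isComplIn_sup_of_hall` : `U K` is a complement of `M_σ` in `M`.
* `not_mem_kappa_of_fpf` : a subgroup `K ≤ H` of prime order `p` with `C_{H_σ}(K) = 1` has `p ∉ κ(H)`.
* `exists_kappaHall_data` : if `κ(H) ≠ ∅`, there are `K_H`, `U_H` as above with `K ≤ U_H`.
* `elemAb_sup_of_card_prime` : two different subgroups of order `p` of an abelian group generate an
  elementary abelian group of order `p ^ 2`.
* `le_normalizer_sylow_of_nilpotent` : a Sylow subgroup of a nilpotent subgroup `N` is normalized by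
  everything normalizing `N`.
-/

set_option autoImplicit false

namespace Cfsg.Agent.Lib.Helper54

open Cfsg
open scoped Pointwise commutatorElement

universe u

variable {G : Type u} [Group G]

/-- The data of `Stmt1430` (2) for a Hall `κ(M)`-subgroup `K` of `M`. -/
def KappaHallCompl (M K U : Subgroup G) : Prop :=
  IsMulCommutative U ∧ IsPiHallOf {q | q.Prime ∧ q ∉ kappa M ∧ q ∉ sigma M} U M ∧
    K ≤ Subgroup.normalizer (U : Set G) ∧
    ∀ k ∈ K, k ≠ 1 → U ⊓ Subgroup.centralizer ({k} : Set G) = ⊥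

theorem kappaHallCompl_conj [Finite G] {M K U : Subgroup G} (h : KappaHallCompl M K U) {c : G}
    (hc : c ∈ M) : KappaHallCompl M (MulAut.conj c • K) (MulAut.conj c • U) := by
  obtain ⟨hUc, hUH, hKU, hreg⟩ := h
  refine ⟨?_, Cfsg.Agent.Lib.Helper62.isPiHallOf_conj_smul hUH (Subgroup.le_normalizer hc),
    conj_smul_le_normalizer hKU, ?_⟩
  · refine ⟨⟨?_⟩⟩
    rintro ⟨a, ha⟩ ⟨b, hb⟩
    apply Subtype.ext
    rw [mem_conj_smul_iff] at ha hb
    have h1 := hUc.is_comm.comm ⟨_, ha⟩ ⟨_, hb⟩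
    have h' : (c⁻¹ * a * c) * (c⁻¹ * b * c) = (c⁻¹ * b * c) * (c⁻¹ * a * c) :=
      congrArg Subtype.val h1
    show a * b = b * a
    calc a * b = c * ((c⁻¹ * a * c) * (c⁻¹ * b * c)) * c⁻¹ := by group
      _ = c * ((c⁻¹ * b * c) * (c⁻¹ * a * c)) * c⁻¹ := by rw [h']
      _ = b * a := by group
  · intro k hk hk1
    rw [mem_conj_smul_iff] at hk
    have hk1' : c⁻¹ * k * c ≠ 1 := by
      intro h
      apply hk1
      have : k = c * (c⁻¹ * k * c) * c⁻¹ := by group
      rw [this, h]; group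
    have h2 := hreg _ hk hk1'
    rw [eq_bot_iff]
    intro x hx
    have hxU : x ∈ MulAut.conj c • U := hx.1
    have hxk : x ∈ Subgroup.centralizer ({k} : Set G) := hx.2
    rw [mem_conj_smul_iff] at hxU
    have hxk' : x * k = k * x := Subgroup.mem_centralizer_singleton_iff.mp hxk
    have hxc : c⁻¹ * x * c ∈ U ⊓ Subgroup.centralizer ({c⁻¹ * k * c} : Set G) := by
      refine ⟨hxU, ?_⟩
      show c⁻¹ * x * c ∈ Subgroup.centralizer ({c⁻¹ * k * c} : Set G)
      rw [Subgroup.mem_centralizer_singleton_iff]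
      calc c⁻¹ * x * c * (c⁻¹ * k * c) = c⁻¹ * (x * k) * c := by group
        _ = c⁻¹ * (k * x) * c := by rw [hxk']
        _ = c⁻¹ * k * c * (c⁻¹ * x * c) := by group
    rw [h2, Subgroup.mem_bot] at hxc
    rw [Subgroup.mem_bot]
    have : x = c * (c⁻¹ * x * c) * c⁻¹ := by group
    rw [this, hxc]; group

/-- Subgroups of coprime orders whose orders multiply to `|X|` are complements in `X`. -/
theorem isComplIn_of_card_mul [Finite G] {N H X : Subgroup G} (hNX : N ≤ X) (hHX : H ≤ X)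
    (hcop : (Nat.card N).Coprime (Nat.card H))
    (hcard : Nat.card N * Nat.card H = Nat.card X) : IsComplIn N H X := by
  refine ⟨hNX, hHX, (Subgroup.disjoint_of_coprime_natCard hcop).eq_bot, ?_⟩
  have cN : Nat.card (N.subgroupOf X) = Nat.card N :=
    Nat.card_congr (Subgroup.subgroupOfEquivOfLe hNX).toEquiv
  have cH : Nat.card (H.subgroupOf X) = Nat.card H :=
    Nat.card_congr (Subgroup.subgroupOfEquivOfLe hHX).toEquiv
  have hc : Subgroup.IsComplement' (N.subgroupOf X) (H.subgroupOf X) := by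
    apply Subgroup.isComplement'_of_coprime
    · rw [cN, cH, hcard]
    · rw [cN, cH]
      exact hcop
  intro m hm
  obtain ⟨⟨n, h⟩, hnh⟩ := hc.2 ⟨m, hm⟩
  refine ⟨(n : ↥X), Subgroup.mem_subgroupOf.1 n.2, (h : ↥X), Subgroup.mem_subgroupOf.1 h.2, ?_⟩
  have := congrArg (Subtype.val : ↥X → G) hnh
  exact this.symm

/-- `U K` is a complement of `M_σ` in `M`. -/
theorem isComplIn_sup_of_hall [Finite G] {M K U : Subgroup G}
    (hHall : IsPiHallOf (sigma M) (sigmaCore M) M)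
    (hK : IsPiHallOf (kappa M) K M)
    (hU : IsPiHallOf {q | q.Prime ∧ q ∉ kappa M ∧ q ∉ sigma M} U M)
    (hKU : K ≤ Subgroup.normalizer (U : Set G)) : IsComplIn (U ⊔ K) (sigmaCore M) M := by
  have hσM : sigmaCore M ≤ M := sigmaCore_le M
  have hcKσ : (Nat.card K).Coprime (Nat.card (sigmaCore M)) :=
    Cfsg.Agent.Lib.Helper23.coprime_card_kappa_sigmaCore hHall hK.2.1
  have hcUK : (Nat.card U).Coprime (Nat.card K) := by
    apply Cfsg.Agent.Lib.Helper23.coprime_card_of_forall_prime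
    intro q hq h1 h2
    exact (hU.2.1 q hq h1).2.1 (hK.2.1 q hq h2)
  have hcUσ : (Nat.card U).Coprime (Nat.card (sigmaCore M)) := by
    apply Cfsg.Agent.Lib.Helper23.coprime_card_of_forall_prime
    intro q hq h1 h2
    exact (hU.2.1 q hq h1).2.2 (hHall.2.1 q hq h2)
  have hprod : Nat.card U * Nat.card K * Nat.card (sigmaCore M) = Nat.card M := by
    apply Cfsg.Agent.Lib.Helper23.mul_eq_of_hall_partition Nat.card_pos (card_mul_relIndex hU.1)
      (card_mul_relIndex hK.1) (card_mul_relIndex hσM) hcUK hcUσ hcKσ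
    intro q hq _
    by_cases h1 : q ∈ sigma M
    · exact Or.inr (Or.inr (hHall.2.2 q hq h1))
    by_cases h2 : q ∈ kappa M
    · exact Or.inr (Or.inl (hK.2.2 q hq h2))
    · exact Or.inl (hU.2.2 q hq ⟨hq, h2, h1⟩)
  have hUK : U ⊓ K = ⊥ := (Subgroup.disjoint_of_coprime_natCard hcUK).eq_bot
  have hcard : Nat.card (U ⊔ K : Subgroup G) = Nat.card U * Nat.card K :=
    card_sup_of_le_normalizer hKU hUK
  apply isComplIn_of_card_mul (sup_le hU.1 hK.1) hσM
  · rw [hcard]; exact Nat.Coprime.mul_left hcUσ hcKσ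
  · rw [hcard]; exact hprod

/-- A subgroup `K ≤ H` of prime order `p` acting without fixed points on `H_σ` has `p ∉ κ(H)`. -/
theorem not_mem_kappa_of_fpf [Finite G] (hG : IsMinSimpleOddOrder G) (h30 : Stmt1430 G)
    {H K : Subgroup G} (hH : IsCoatom H) (hKH : K ≤ H) (hKp : (Nat.card K).Prime)
    (hfpf : sigmaCore H ⊓ Subgroup.centralizer (K : Set G) = ⊥) : Nat.card K ∉ kappa H := by
  intro hpκ
  have hHs : Group.IsSolvable H := hG.2.2.2 H hH.1
  obtain ⟨K₁, hK₁, hKK₁⟩ := Cfsg.Agent.Lib.Helper62.isPiHallOf_dom (π := kappa H) hHs hKH (by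
    intro q hq hqd
    rwa [(Nat.prime_dvd_prime_iff_eq hq hKp).mp hqd])
  have hK1 : K ≠ ⊥ := Cfsg.Agent.Lib.Helper21.ne_bot_of_card_prime hKp
  have hK₁1 : K₁ ≠ ⊥ := fun h => hK1 (le_bot_iff.mp (h ▸ hKK₁))
  obtain ⟨⟨k, hk⟩, hk1⟩ := (Subgroup.ne_bot_iff_exists_ne_one).mp hK1
  have hk1' : k ≠ 1 := fun h => hk1 (Subtype.ext h)
  have h1 := (h30 H hH K₁ hK₁ hK₁1).1 k (hKK₁ hk) hk1'
  rw [centralizer_singleton_eq_of_card_prime hKp hk hk1', hfpf] at h1
  exact Cfsg.Agent.Lib.Helper21.kstar_ne_bot hG h30 hH hK₁ hK₁1 h1.symm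

/-- If `κ(H) ≠ ∅` and `K ≤ H` has prime order `p ∉ σ(H) ∪ κ(H)`, there are a Hall `κ(H)`-subgroup
`K_H ≠ 1` and an abelian Hall subgroup `U_H ≥ K` as in `Stmt1430` (2). -/
theorem exists_kappaHall_data [Finite G] (hG : IsMinSimpleOddOrder G) (h30 : Stmt1430 G)
    {H K : Subgroup G} (hH : IsCoatom H) (hKH : K ≤ H) (hKp : (Nat.card K).Prime)
    (hpσ : Nat.card K ∉ sigma H) (hpκ : Nat.card K ∉ kappa H) (hκ : (kappa H).Nonempty) :
    ∃ K_H U_H : Subgroup G, IsPiHallOf (kappa H) K_H H ∧ K_H ≠ ⊥ ∧ KappaHallCompl H K_H U_H ∧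
      K ≤ U_H := by
  have hHs : Group.IsSolvable H := hG.2.2.2 H hH.1
  obtain ⟨K₀, hK₀⟩ := Cfsg.Agent.Lib.Helper62.exists_isPiHallOf (kappa H) H hHs
  have hK₀1 : K₀ ≠ ⊥ := by
    obtain ⟨q, hq⟩ := hκ
    intro h
    have h1 := card_mul_relIndex hK₀.1
    rw [h, Subgroup.card_bot, one_mul] at h1
    apply hK₀.2.2 q hq.1 hq
    rw [h, h1]
    exact hq.2.1
  obtain ⟨U₀, hU₀c, hU₀H, hKU₀, hreg₀⟩ := (h30 H hH K₀ hK₀ hK₀1).2.1
  obtain ⟨U₁, hU₁, hKU₁⟩ := Cfsg.Agent.Lib.Helper62.isPiHallOf_dom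
    (π := {q | q.Prime ∧ q ∉ kappa H ∧ q ∉ sigma H}) hHs hKH (by
    intro q hq hqd
    rw [(Nat.prime_dvd_prime_iff_eq hq hKp).mp hqd]
    exact ⟨hKp, hpκ, hpσ⟩)
  obtain ⟨c, hcH, hc⟩ := Cfsg.Agent.Lib.Helper62.isPiHallOf_conj hHs hU₀H hU₁
  refine ⟨MulAut.conj c • K₀, MulAut.conj c • U₀,
    Cfsg.Agent.Lib.Helper62.isPiHallOf_conj_smul hK₀ (Subgroup.le_normalizer hcH), ?_,
    kappaHallCompl_conj ⟨hU₀c, hU₀H, hKU₀, hreg₀⟩ hcH, ?_⟩
  · intro h
    apply hK₀1
    rw [← Subgroup.card_eq_one] at h ⊢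
    rwa [card_conj_smul] at h
  · rw [hc]; exact hKU₁

/-- Two different subgroups of prime order `p` of an abelian group generate an elementary abelian group
of order `p ^ 2`. -/
theorem elemAb_sup_of_card_prime [Finite G] {p : ℕ} [Fact p.Prime] {U K₁ K₂ : Subgroup G}
    (hU : ∀ a ∈ U, ∀ b ∈ U, a * b = b * a) (h1 : K₁ ≤ U) (h2 : K₂ ≤ U)
    (hc1 : Nat.card K₁ = p) (hc2 : Nat.card K₂ = p) (hne : K₁ ≠ K₂) :
    IsElementaryAbelian p (K₁ ⊔ K₂ : Subgroup G) ∧ Nat.card (K₁ ⊔ K₂ : Subgroup G) = p ^ 2 := by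
  have hp : p.Prime := Fact.out
  have hle : K₁ ⊔ K₂ ≤ U := sup_le h1 h2
  refine ⟨⟨⟨⟨?_⟩⟩, ?_⟩, ?_⟩
  · rintro ⟨a, ha⟩ ⟨b, hb⟩
    exact Subtype.ext (hU a (hle ha) b (hle hb))
  · -- the elements of `U` of order dividing `p` form a subgroup
    let P : Subgroup G :=
      { carrier := {a | a ∈ U ∧ a ^ p = 1}
        one_mem' := ⟨U.one_mem, one_pow p⟩
        mul_mem' := by
          rintro a b ⟨ha, hap⟩ ⟨hb, hbp⟩
          refine ⟨U.mul_mem ha hb, ?_⟩
          have hab : Commute a b := hU a ha b hb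
          rw [hab.mul_pow, hap, hbp, one_mul]
        inv_mem' := by
          rintro a ⟨ha, hap⟩
          exact ⟨U.inv_mem ha, by rw [inv_pow, hap, inv_one]⟩ }
    have hK : ∀ K' : Subgroup G, K' ≤ U → Nat.card K' = p → K' ≤ P := by
      intro K' hK'U hK'c a ha
      refine ⟨hK'U ha, ?_⟩
      have := pow_card_eq_one' (G := K') (x := ⟨a, ha⟩)
      rw [hK'c] at this
      exact congrArg Subtype.val this
    have hsup : K₁ ⊔ K₂ ≤ P := sup_le (hK K₁ h1 hc1) (hK K₂ h2 hc2)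
    intro a ha
    exact (hsup ha).2
  · have hdisj : K₁ ⊓ K₂ = ⊥ := by
      by_contra hne'
      have hd : Nat.card (K₁ ⊓ K₂ : Subgroup G) ∣ p := by
        rw [← hc1]; exact Subgroup.card_dvd_of_le inf_le_left
      rcases (Nat.dvd_prime hp).mp hd with h | h
      · exact hne' (Subgroup.card_eq_one.mp h)
      · have e1 : K₁ ⊓ K₂ = K₁ := Subgroup.eq_of_le_of_card_ge inf_le_left (by rw [h, hc1])
        have e2 : K₁ ⊓ K₂ = K₂ := Subgroup.eq_of_le_of_card_ge inf_le_right (by rw [h, hc2])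
        exact hne (e1.symm.trans e2)
    have hN : K₂ ≤ Subgroup.normalizer (K₁ : Set G) := by
      intro b hb
      rw [Subgroup.mem_normalizer_iff]
      intro a
      have hba : ∀ a ∈ K₁, b * a * b⁻¹ = a := by
        intro a ha
        have := hU b (h2 hb) a (h1 ha)
        rw [this]; group
      constructor
      · intro ha
        rw [hba a ha]; exact ha
      · intro ha
        have h3 := hba _ ha
        have h4 : b * a * b⁻¹ = a := by
          have h5 : b⁻¹ * (b * (b * a * b⁻¹) * b⁻¹) * b = b⁻¹ * (b * a * b⁻¹) * b := by rw [h3]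
          have h6 : b⁻¹ * (b * (b * a * b⁻¹) * b⁻¹) * b = b * a * b⁻¹ := by group
          have h7 : b⁻¹ * (b * a * b⁻¹) * b = a := by group
          rw [h6, h7] at h5
          exact h5
        rw [← h4]; exact ha
    rw [card_sup_of_le_normalizer hN hdisj, hc1, hc2, sq]

/-- A Sylow subgroup of a nilpotent subgroup `N` is normalized by everything that normalizes `N`. -/
theorem le_normalizer_sylow_of_nilpotent [Finite G] {p : ℕ} [Fact p.Prime] (N M₀ : Subgroup G)
    (hN : Group.IsNilpotent N) (hM₀ : M₀ ≤ Subgroup.normalizer (N : Set G)) (S : Sylow p N) :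
    M₀ ≤ Subgroup.normalizer (((S : Subgroup N).map N.subtype : Subgroup G) : Set G) := by
  have hSn : (S : Subgroup N).Normal := by
    have h03 : Group.IsNilpotent N ↔
        ∀ (p : ℕ) (_hp : Fact p.Prime) (P : Sylow p N), (P : Subgroup N).Normal :=
      (Group.isNilpotent_of_finite_tfae (G := N)).out 0 3
    exact h03.mp hN p inferInstance S
  intro m hm
  have hmN := mem_normalizer_iff_conj_smul.mp (hM₀ hm)
  rw [mem_normalizer_iff_conj_smul]
  set T : Subgroup G := (S : Subgroup N).map N.subtype with hT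
  have hTN : T ≤ N := Subgroup.map_subtype_le _
  have h1 : MulAut.conj m • T ≤ N := by
    have := conj_smul_le_conj_smul (g := m) hTN
    rwa [hmN] at this
  have hQp : IsPGroup p ((MulAut.conj m • T).subgroupOf N) := by
    rintro ⟨⟨x, hxN⟩, hx⟩
    have hx' : x ∈ MulAut.conj m • T := hx
    rw [mem_conj_smul_iff] at hx'
    obtain ⟨s, hs, hsx⟩ := hx'
    obtain ⟨k, hk⟩ := S.isPGroup' ⟨s, hs⟩
    refine ⟨k, ?_⟩
    have hk' : (s : G) ^ p ^ k = 1 := by
      have := congrArg (fun w : (S : Subgroup N) => ((w : N) : G)) hk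
      simpa using this
    have hsx' : (s : G) = m⁻¹ * x * m := hsx
    have h2 : x ^ p ^ k = 1 := by
      have : x = m * (m⁻¹ * x * m) * m⁻¹ := by group
      rw [this, ← hsx', conj_pow, hk']; group
    apply Subtype.ext; apply Subtype.ext
    simpa using h2
  obtain ⟨S', hS'⟩ := hQp.exists_le_sylow
  have hS'S : S' = S := by
    have := Sylow.unique_of_normal S hSn
    exact Subsingleton.elim _ _
  rw [hS'S] at hS'
  have hle : MulAut.conj m • T ≤ T := by
    intro x hx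
    have hxN : x ∈ N := h1 hx
    have : (⟨x, hxN⟩ : N) ∈ (MulAut.conj m • T).subgroupOf N := hx
    exact ⟨⟨x, hxN⟩, hS' this, rfl⟩
  exact Subgroup.eq_of_le_of_card_ge hle (by rw [card_conj_smul])

end Cfsg.Agent.Lib.Helper54
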