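import Mathlib
import Cfsg.Prelude.Def_OddOrderLocal
import Cfsg.Agent.Lib.Helper54.BGFourteenSixC

/-!
# Bender–Glauberman Theorem 14.6, conclusion (a): the prime `q` of `K_H` in the partner `M*`
(helper54)

`H` a maximal subgroup with a Hall `κ(H)`-subgroup `K_H ≠ 1`, `y ∈ K_H` of prime order `q`,
`y ∈ M*`.

* `not_mem_sigma_partner` : `q ∉ σ(M*)` when `H_σ ∩ M* = 1`.
* `not_mem_kappa_partner` : `q ∉ κ(M*)` when `K*` is a Hall `κ(M*)`-subgroup of `M*`, `H` is not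
  conjugate to `M` and `|K| = p ∉ σ(H)`.
-/

set_option autoImplicit false

namespace Cfsg.Agent.Lib.Helper54

open Cfsg
open scoped Pointwise commutatorElement

universe u

variable {G : Type u} [Group G]

theorem centralizer_zpowers_eq (x : G) :
    Subgroup.centralizer ((Subgroup.zpowers x : Subgroup G) : Set G) =
      Subgroup.centralizer ({x} : Set G) := by
  apply le_antisymm
  · exact Subgroup.centralizer_le (by
      intro a ha
      rw [Set.mem_singleton_iff] at ha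
      rw [ha]
      exact Subgroup.mem_zpowers x)
  · intro g hg
    rw [Subgroup.mem_centralizer_iff]
    intro w hw
    obtain ⟨n, rfl⟩ := Subgroup.mem_zpowers_iff.mp hw
    have h1 : g * x = x * g := Subgroup.mem_centralizer_singleton_iff.mp hg
    have h2 : Commute x g := h1.symm
    exact (h2.zpow_left n).eq

theorem orderOf_conj_inv_mul (m y : G) : orderOf (m⁻¹ * y * m) = orderOf y := by
  have h := orderOf_injective (MulAut.conj m⁻¹).toMonoidHom (MulAut.conj m⁻¹).injective y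
  simpa [MulAut.conj_apply] using h

/-- step (i): `q ∉ σ(M*)` -/
theorem not_mem_sigma_partner [Finite G] (hG : IsMinSimpleOddOrder G) (h30 : Stmt1430 G)
    (hSD : SigmaDisjoint G) {H Mstar K_H : Subgroup G} (hH : IsCoatom H) (hMstar : IsCoatom Mstar)
    (hK_H : IsPiHallOf (kappa H) K_H H) (hK_H1 : K_H ≠ ⊥) {y : G} {q : ℕ} (hq : q.Prime)
    (hyK : y ∈ K_H) (hyq : orderOf y = q) (hyM : y ∈ Mstar)
    (hHσMs : sigmaCore H ⊓ Mstar = ⊥) : q ∉ sigma Mstar := by
  intro hqσ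
  have : Fact q.Prime := ⟨hq⟩
  set Y : Subgroup G := Subgroup.zpowers y with hY
  have hYcard : Nat.card Y = q := by rw [Nat.card_zpowers, hyq]
  have hYp' : (Nat.card Y).Prime := by rw [hYcard]; exact hq
  have hYK : Y ≤ K_H := Subgroup.zpowers_le.mpr hyK
  have hY1 : Y ≠ ⊥ := Cfsg.Agent.Lib.Helper21.ne_bot_of_card_prime hYp'
  have hYtop : Y ≠ ⊤ := fun h => hH.1 (top_le_iff.mp (h ▸ hYK.trans hK_H.1))
  have hNtop := normalizer_ne_top_of_simple hG.2.1 hY1 hYtop
  obtain ⟨L, hL, hNL⟩ := exists_isCoatom_ge hNtop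
  have h3 := (h30 H hH K_H hK_H hK_H1).2.2 Y hYK hYp'
  have hYL : Y ≤ sigmaCore L := h3.2.2 L hL hNL
  have hqL : q ∈ sigma L := by
    apply sigmaCore_isPi L q hq
    rw [← hYcard]
    exact Subgroup.card_dvd_of_le hYL
  have hconj : ∃ g : G, L.map (MulAut.conj g).toMonoidHom = Mstar := by
    by_contra hno
    push Not at hno
    exact hSD Mstar L hMstar hL hno q hqσ hqL
  obtain ⟨g, hg⟩ := hconj
  have hYp : IsPGroup q Y := IsPGroup.of_card (n := 1) (by rw [hYcard, pow_one])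
  have hYM : Y ≤ Mstar := Subgroup.zpowers_le.mpr hyM
  obtain ⟨m, hm, c, hc, hgmc⟩ := (Cfsg.Agent.S1404.result hG Mstar hMstar q hqσ Y hYp hY1 hYM).1 g (by
    rw [← hg]; exact Subgroup.map_mono (hYL.trans (sigmaCore_le L)))
  have hNM : Subgroup.normalizer (Y : Set G) ≤ Mstar := by
    intro n hn
    have hcN : c ∈ Subgroup.normalizer (Y : Set G) := Subgroup.centralizer_le_normalizer _ hc
    have h1 : c⁻¹ * n * c ∈ L := hNL (mul_mem (mul_mem (inv_mem hcN) hn) hcN)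
    have h2 : g * (c⁻¹ * n * c) * g⁻¹ ∈ Mstar := by
      rw [← hg]
      exact ⟨_, h1, by simp [MulAut.conj_apply]⟩
    have h3 : g * (c⁻¹ * n * c) * g⁻¹ = m * n * m⁻¹ := by rw [hgmc]; group
    rw [h3] at h2
    have : n = m⁻¹ * (m * n * m⁻¹) * m := by group
    rw [this]
    exact mul_mem (mul_mem (inv_mem hm) h2) hm
  have hKs1 := Cfsg.Agent.Lib.Helper21.kstar_ne_bot hG h30 hH hK_H hK_H1
  apply hKs1
  rw [eq_bot_iff, ← hHσMs]
  intro z hz
  refine ⟨hz.1, hNM (Subgroup.centralizer_le_normalizer _ ?_)⟩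
  exact Subgroup.centralizer_le (SetLike.coe_subset_coe.mpr hYK) hz.2

/-- step (ii): `q ∉ κ(M*)` -/
theorem not_mem_kappa_partner [Finite G] (hG : IsMinSimpleOddOrder G) (h30 : Stmt1430 G)
    (h31 : Stmt1431 G) (hSD : SigmaDisjoint G) (hku : KstarCentUniq G)
    {M Mstar H K K_H : Subgroup G} (hM : IsCoatom M) (hMstar : IsCoatom Mstar) (hH : IsCoatom H)
    (hK : IsPiHallOf (kappa M) K M) (hKp : (Nat.card K).Prime)
    (hKstH : IsPiHallOf (kappa Mstar) (sigmaCore M ⊓ Subgroup.centralizer (K : Set G)) Mstar)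
    (hHM : ∀ g : G, H ≠ M.map (MulAut.conj g).toMonoidHom)
    (hpσ : Nat.card K ∉ sigma H)
    (hK_H : IsPiHallOf (kappa H) K_H H) (hK_H1 : K_H ≠ ⊥) {y : G} {q : ℕ} (hq : q.Prime)
    (hyK : y ∈ K_H) (hyq : orderOf y = q) (hyM : y ∈ Mstar) : q ∉ kappa Mstar := by
  intro hqκ
  classical
  have hK1 : K ≠ ⊥ := Cfsg.Agent.Lib.Helper21.ne_bot_of_card_prime hKp
  set Ks : Subgroup G := sigmaCore M ⊓ Subgroup.centralizer (K : Set G) with hKs
  have hMs : Group.IsSolvable Mstar := hG.2.2.2 Mstar hMstar.1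
  have hy1 : y ≠ 1 := by
    intro h
    rw [h, orderOf_one] at hyq
    exact hq.one_lt.ne hyq
  obtain ⟨K₁, hK₁, hYK₁⟩ := Cfsg.Agent.Lib.Helper62.isPiHallOf_dom (π := kappa Mstar) hMs
    (Subgroup.zpowers_le.mpr hyM) (by
      intro r hr hrd
      rw [Nat.card_zpowers, hyq] at hrd
      rwa [(Nat.prime_dvd_prime_iff_eq hr hq).mp hrd])
  obtain ⟨m, hmM, hm⟩ := Cfsg.Agent.Lib.Helper62.isPiHallOf_conj hMs hKstH hK₁
  have hy₀ : m⁻¹ * y * m ∈ Ks := by
    rw [← mem_conj_smul_iff, hm]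
    exact hYK₁ (Subgroup.mem_zpowers y)
  set y₀ : G := m⁻¹ * y * m with hy₀def
  have hy₀1 : y₀ ≠ 1 := by
    intro h
    apply hy1
    have : y = m * y₀ * m⁻¹ := by rw [hy₀def]; group
    rw [this, h]; group
  -- an element `x'` of prime order `t` of `K_H*`
  have hKHs1 := Cfsg.Agent.Lib.Helper21.kstar_ne_bot hG h30 hH hK_H hK_H1
  obtain ⟨⟨z, hz⟩, hz1⟩ := (Subgroup.ne_bot_iff_exists_ne_one).mp hKHs1
  have hz1' : z ≠ 1 := fun h => hz1 (Subtype.ext h)
  obtain ⟨t, ht, htz⟩ := Nat.exists_prime_and_dvd (orderOf_eq_one_iff.not.mpr hz1')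
  obtain ⟨c, hc⟩ := exists_pow_orderOf_eq_prime ht htz
  set x' : G := z ^ c with hx'def
  have hx'Ks : x' ∈ sigmaCore H ⊓ Subgroup.centralizer (K_H : Set G) := Subgroup.pow_mem _ hz c
  have hx'1 : x' ≠ 1 := by
    intro h
    rw [h, orderOf_one] at hc
    exact ht.one_lt.ne hc
  have htH : t ∈ sigma H := by
    apply sigmaCore_isPi H t ht
    have := orderOf_dvd_natCard (⟨x', hx'Ks.1⟩ : sigmaCore H)
    rwa [Subgroup.orderOf_mk, hc] at this
  have hHM' : ∀ g : G, H.map (MulAut.conj g).toMonoidHom ≠ M := by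
    intro g hg
    apply hHM g⁻¹
    rw [← hg]
    exact (Cfsg.Agent.Lib.Helper34.map_conj_inv_map_conj H g).symm
  have htM : t ∉ sigma M := fun h => hSD M H hM hH hHM' t h htH
  set x₀ : G := m⁻¹ * x' * m with hx₀def
  have hx₀1 : x₀ ≠ 1 := by
    intro h
    apply hx'1
    have : x' = m * x₀ * m⁻¹ := by rw [hx₀def]; group
    rw [this, h]; group
  have hordx₀ : orderOf x₀ = t := by rw [hx₀def, orderOf_conj_inv_mul, hc]
  have hordy₀ : orderOf y₀ = q := by rw [hy₀def, orderOf_conj_inv_mul, hyq]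
  have hcomm : x' * y = y * x' := (Subgroup.mem_centralizer_iff.mp hx'Ks.2 y hyK).symm
  have hcomm₀ : x₀ * y₀ = y₀ * x₀ := by
    calc x₀ * y₀ = m⁻¹ * (x' * y) * m := by rw [hx₀def, hy₀def]; group
      _ = m⁻¹ * (y * x') * m := by rw [hcomm]
      _ = y₀ * x₀ := by rw [hx₀def, hy₀def]; group
  -- `C_G(y₀) ≤ M`
  have hY₀Ks : Subgroup.zpowers y₀ ≤ Ks := Subgroup.zpowers_le.mpr hy₀
  have hY₀p : (Nat.card (Subgroup.zpowers y₀)).Prime := by
    rw [Nat.card_zpowers, hordy₀]; exact hq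
  have hCy₀ : Subgroup.centralizer ({y₀} : Set G) ≤ M := by
    rw [← centralizer_zpowers_eq]
    exact Cfsg.Agent.Lib.Helper21.centralizer_le_of_unique hG
      (Cfsg.Agent.Lib.Helper21.ne_bot_of_card_prime hY₀p)
      (hku M hM K hK hK1 _ hY₀Ks hY₀p)
  have hx₀C : x₀ ∈ Subgroup.centralizer ({y₀} : Set G) :=
    Subgroup.mem_centralizer_singleton_iff.mpr hcomm₀
  -- `C_G(x') ≤ H`
  have hX'Ks : Subgroup.zpowers x' ≤ sigmaCore H ⊓ Subgroup.centralizer (K_H : Set G) :=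
    Subgroup.zpowers_le.mpr hx'Ks
  have hX'p : (Nat.card (Subgroup.zpowers x')).Prime := by
    rw [Nat.card_zpowers, hc]; exact ht
  have hCx' : Subgroup.centralizer ({x'} : Set G) ≤ H := by
    rw [← centralizer_zpowers_eq]
    exact Cfsg.Agent.Lib.Helper21.centralizer_le_of_unique hG
      (Cfsg.Agent.Lib.Helper21.ne_bot_of_card_prime hX'p)
      (hku H hH K_H hK_H hK_H1 _ hX'Ks hX'p)
  rcases s1432_of hG h30 h31 M hM y₀ hy₀.1 hy₀1 x₀ ⟨hCy₀ hx₀C, hx₀C⟩ hx₀1 (by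
    intro r hr hrd
    rw [hordx₀] at hrd
    rwa [(Nat.prime_dvd_prime_iff_eq hr ht).mp hrd]) with ⟨h1, -⟩ | ⟨-, -, -, h2⟩
  · -- `t ∈ κ(M)`, so `t = p`
    have htκ : t ∈ kappa M := h1 t ht (by rw [hordx₀])
    have htK : t ∣ Nat.card K := by
      have h3 := card_mul_relIndex hK.1
      have h4 : t ∣ Nat.card K * K.relIndex M := by rw [h3]; exact htκ.2.1
      rcases (Nat.Prime.dvd_mul ht).mp h4 with h5 | h5
      · exact h5
      · exact absurd h5 (hK.2.2 t ht htκ)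
    have : t = Nat.card K := (Nat.prime_dvd_prime_iff_eq ht hKp).mp htK
    exact hpσ (this ▸ htH)
  · -- `M` is the only maximal subgroup over `C_G(x₀)`, and `H^(m⁻¹)` is one
    have hcoat : IsCoatom (MulAut.conj m⁻¹ • H) := isCoatom_conj_smul hH m⁻¹
    have hle : Subgroup.centralizer ({x₀} : Set G) ≤ MulAut.conj m⁻¹ • H := by
      intro w hw
      rw [mem_conj_smul_iff, inv_inv]
      apply hCx'
      rw [Subgroup.mem_centralizer_singleton_iff]
      have hw' : w * x₀ = x₀ * w := Subgroup.mem_centralizer_singleton_iff.mp hw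
      calc m * w * m⁻¹ * x' = m * (w * x₀) * m⁻¹ := by rw [hx₀def]; group
        _ = m * (x₀ * w) * m⁻¹ := by rw [hw']
        _ = x' * (m * w * m⁻¹) := by rw [hx₀def]; group
    have hHeq := h2 _ hcoat hle
    apply hHM m
    show H = MulAut.conj m • M
    rw [← hHeq, ← mul_smul, ← map_mul, mul_inv_cancel, map_one, one_smul]

end Cfsg.Agent.Lib.Helper54
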