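import Mathlib
import Cfsg.Prelude.Def_OddOrderLocal
import Cfsg.Agent.Lib.Helper54.BGFourteenSixD
import Cfsg.Agent.Lib.Helper54.Hyperplane
import Cfsg.Agent.Lib.Helper55.BGElevenD
import Cfsg.Agent.Lib.Helper21.BGTwelveK
import Cfsg.Agent.S1350
import Cfsg.Agent.S1417
import Cfsg.Agent.S1418
import Cfsg.Agent.S1429

/-!
# Bender–Glauberman Theorem 14.6, conclusion (a): `κ(H) = ∅`  (helper54)

* `card_omegaCenter_ne_prime` (steps (iii), (iv)): for `M*` with a prime `q ∈ π(M*)` outside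
  `σ(M*) ∪ κ(M*)` and a `p`-subgroup `1 ≠ T ≤ M*_σ` normal in `M*`, `|Ω₁(Z(T))| ≠ p`.
* `le_of_card_omegaCenter` (step (v)): `B ≤ E` elementary abelian of order `p ^ 2` in a complement `E` of
  `H_σ`, `p ∉ σ(H)`, `B ≤ T` a `p`-group with `|Ω₁(Z(T))| ≥ p ^ 2`: then `T ≤ H`.
* `kappa_eq_empty_of_signalizer` (**Lemma A**): `κ(H) = ∅` in the situation of Theorem 14.6.
-/

set_option autoImplicit false

namespace Cfsg.Agent.Lib.Helper54

open Cfsg
open scoped Pointwise commutatorElement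

universe u

variable {G : Type u} [Group G]

/-- An abelian-or-not subgroup `U` on which `k` acts without fixed points consists of commutators
`⁅u, k⁆`. -/
theorem le_commutator_of_fpf [Finite G] {U M₀ : Subgroup G} {k : G} (hUM : U ≤ M₀) (hkM : k ∈ M₀)
    (hkU : k ∈ Subgroup.normalizer (U : Set G))
    (hreg : U ⊓ Subgroup.centralizer ({k} : Set G) = ⊥) : U ≤ ⁅M₀, M₀⁆ := by
  have hkU' := Subgroup.mem_normalizer_iff.mp hkU
  let f : U → U := fun u => ⟨(u : G) * (k * (u : G)⁻¹ * k⁻¹),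
    U.mul_mem u.2 ((hkU' _).mp (U.inv_mem u.2))⟩
  have hinj : Function.Injective f := by
    intro u v huv
    have h1 : (u : G) * (k * (u : G)⁻¹ * k⁻¹) = (v : G) * (k * (v : G)⁻¹ * k⁻¹) :=
      congrArg Subtype.val huv
    have h2 : ((v : G)⁻¹ * u) * k = k * ((v : G)⁻¹ * u) := by
      have h3 : (v : G)⁻¹ * ((u : G) * (k * (u : G)⁻¹ * k⁻¹)) * k * u =
          (v : G)⁻¹ * ((v : G) * (k * (v : G)⁻¹ * k⁻¹)) * k * u := by rw [h1]
      have h4 : (v : G)⁻¹ * ((u : G) * (k * (u : G)⁻¹ * k⁻¹)) * k * u = (v : G)⁻¹ * u * k := by group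
      have h5 : (v : G)⁻¹ * ((v : G) * (k * (v : G)⁻¹ * k⁻¹)) * k * u = k * ((v : G)⁻¹ * u) := by
        group
      rw [h4, h5] at h3
      exact h3
    have h6 : (v : G)⁻¹ * u ∈ U ⊓ Subgroup.centralizer ({k} : Set G) :=
      ⟨U.mul_mem (U.inv_mem v.2) u.2, Subgroup.mem_centralizer_singleton_iff.mpr h2⟩
    rw [hreg, Subgroup.mem_bot] at h6
    apply Subtype.ext
    have : (u : G) = v * ((v : G)⁻¹ * u) := by group
    rw [this, h6, mul_one]
  have hsurj : Function.Surjective f := Finite.injective_iff_surjective.mp hinj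
  intro u hu
  obtain ⟨v, hv⟩ := hsurj ⟨u, hu⟩
  have h1 : (v : G) * (k * (v : G)⁻¹ * k⁻¹) = u := congrArg Subtype.val hv
  have h2 : ⁅(v : G), k⁆ = u := by
    rw [commutatorElement_def, ← h1]; group
  rw [← h2]
  exact Subgroup.commutator_mem_commutator (hUM v.2) hkM

/-- steps (iii), (iv) -/
theorem card_omegaCenter_ne_prime [Finite G] (hG : IsMinSimpleOddOrder G) (h30 : Stmt1430 G)
    {Mstar Ks T : Subgroup G} (hMstar : IsCoatom Mstar)
    (hKsH : IsPiHallOf (kappa Mstar) Ks Mstar) (hKs1 : Ks ≠ ⊥)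
    {q : ℕ} (hq : q.Prime) (hqM : q ∣ Nat.card Mstar) (hqσ : q ∉ sigma Mstar)
    (hqκ : q ∉ kappa Mstar)
    {p : ℕ} [Fact p.Prime] (hTσ : T ≤ sigmaCore Mstar)
    (hTN : Mstar ≤ Subgroup.normalizer (T : Set G))
    (hTp : IsPGroup p T) (hT1 : T ≠ ⊥) : Nat.card (omegaCenter p T) ≠ p := by
  intro hcard
  have : Fact q.Prime := ⟨hq⟩
  set Z₁ : Subgroup G := omegaCenter p T with hZ₁
  have hMs : Group.IsSolvable Mstar := hG.2.2.2 Mstar hMstar.1
  have hZN : Mstar ≤ Subgroup.normalizer (Z₁ : Set G) :=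
    hTN.trans (normalizer_le_normalizer_omegaCenter p T)
  have hcomm := commutator_le_centralizer_of_card_prime (Fact.out : p.Prime) Z₁ Mstar hcard hZN
  obtain ⟨U, -, hUH, hKU, hreg⟩ := (h30 Mstar hMstar Ks hKsH hKs1).2.1
  obtain ⟨⟨k, hk⟩, hk1⟩ := (Subgroup.ne_bot_iff_exists_ne_one).mp hKs1
  have hk1' : k ≠ 1 := fun h => hk1 (Subtype.ext h)
  have hkM : k ∈ Mstar := hKsH.1 hk
  have hUC : U ≤ Subgroup.centralizer (Z₁ : Set G) :=
    (le_commutator_of_fpf hUH.1 hkM (hKU hk) (hreg k hk hk1')).trans hcomm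
  -- a Sylow `q`-subgroup of `M*` lies in a conjugate of `U`
  obtain S : Sylow q Mstar := default
  set S' : Subgroup G := (S : Subgroup Mstar).map Mstar.subtype with hS'
  have hS'M : S' ≤ Mstar := Subgroup.map_subtype_le _
  obtain ⟨U₁, hU₁, hSU₁⟩ := Cfsg.Agent.Lib.Helper62.isPiHallOf_dom
    (π := {r | r.Prime ∧ r ∉ kappa Mstar ∧ r ∉ sigma Mstar}) hMs hS'M (by
      intro r hr hrd
      have h1 : Nat.card S' = Nat.card (S : Subgroup Mstar) :=
        Subgroup.card_map_of_injective Mstar.subtype_injective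
      obtain ⟨n, hn⟩ := S.isPGroup'.exists_card_eq
      rw [h1, hn] at hrd
      have := (Nat.prime_dvd_prime_iff_eq hr hq).mp (hr.dvd_of_dvd_pow hrd)
      rw [this]
      exact ⟨hq, hqκ, hqσ⟩)
  obtain ⟨c, hcM, hc⟩ := Cfsg.Agent.Lib.Helper62.isPiHallOf_conj hMs hUH hU₁
  have hU₁C : U₁ ≤ Subgroup.centralizer (Z₁ : Set G) := by
    intro x hx
    rw [← hc, mem_conj_smul_iff] at hx
    have h1 := Subgroup.mem_centralizer_iff.mp (hUC hx)
    rw [Subgroup.mem_centralizer_iff]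
    intro z hz
    have hcN := Subgroup.mem_normalizer_iff.mp (hZN (Mstar.inv_mem hcM))
    have hz' : c⁻¹ * z * c ∈ Z₁ := by
      have := (hcN z).mp hz
      rwa [inv_inv] at this
    have h2 := h1 _ hz'
    calc z * x = c * ((c⁻¹ * z * c) * (c⁻¹ * x * c)) * c⁻¹ := by group
      _ = c * ((c⁻¹ * x * c) * (c⁻¹ * z * c)) * c⁻¹ := by rw [h2]
      _ = x * z := by group
  have h29 := Cfsg.Agent.S1429.result hG Mstar hMstar (fun h => hqκ (h q hq hqM hqσ)) q hqM
    (by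
      intro h
      rcases h with h | h
      · exact hqσ h
      · exact hqκ h) S
  have hΩ := h29.2.1
  have hZbot : Z₁ ≤ ⊥ := by
    rw [← hΩ]
    refine le_inf ((omegaCenter_le p T).trans hTσ) ?_
    rw [Subgroup.le_centralizer_iff]
    refine le_trans ?_ (hSU₁.trans hU₁C)
    rw [Subgroup.closure_le]
    intro x hx
    exact hx.1
  have : Finite T := inferInstance
  exact omegaCenter_ne_bot T hTp hT1 (le_bot_iff.mp hZbot)

/-- step (v) -/
theorem le_of_card_omegaCenter [Finite G] (hG : IsMinSimpleOddOrder G) {H E B T : Subgroup G}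
    (hH : IsCoatom H) {p : ℕ} [Fact p.Prime] (hpσ : p ∉ sigma H)
    (hE : IsComplIn E (sigmaCore H) H) (hBE : B ≤ E) (hBe : IsElementaryAbelian p B)
    (hBc : Nat.card B = p ^ 2) (hBT : B ≤ T) (hTp : IsPGroup p T)
    (hZ : p ^ 2 ≤ Nat.card (omegaCenter p T)) : T ≤ H := by
  have hp : p.Prime := Fact.out
  have hU := Cfsg.Agent.Lib.Helper21.uniquenessThm_of hG
  have hσ1 := Cfsg.Agent.Lib.Helper55.BGEleven.sigmaCore_ne_bot hG hU H hH
  have hBH : B ≤ H := hBE.trans hE.1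
  have hτ := mem_tau2_of_elemAb hG H hH hpσ hBH hBe hBc
  have hBcomm : ∀ x ∈ B, ∀ y ∈ B, x * y = y * x :=
    fun x hx y hy => Cfsg.Agent.Lib.Helper45.IsElementaryAbelian_comm hBe hx hy
  have hpR : ¬ p ∣ Nat.card (sigmaCore H) := fun h => hpσ (sigmaCore_isPi H p hp h)
  obtain ⟨B₀, hB₀B, hB₀card, hB₀C⟩ := exists_hyperplane_centralizer B (sigmaCore H) ⊥ hBcomm hBe.2
    hpR (hBH.trans (le_normalizer_sigmaCore H)) (by rwa [le_bot_iff])
  have hC1 : sigmaCore H ⊓ Subgroup.centralizer (B₀ : Set G) ≠ ⊥ := by rwa [le_bot_iff] at hB₀C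
  have hB₀1 : B₀ ≠ ⊥ := by
    intro h
    rw [h, Subgroup.card_bot, mul_one, hBc] at hB₀card
    have : p < p ^ 2 := by
      calc p = p ^ 1 := (pow_one p).symm
        _ < p ^ 2 := Nat.pow_lt_pow_right hp.one_lt (by norm_num)
    omega
  obtain ⟨⟨b, hb⟩, hb1⟩ := (Subgroup.ne_bot_iff_exists_ne_one).mp hB₀1
  have hb1' : b ≠ 1 := fun h => hb1 (Subtype.ext h)
  set X : Subgroup G := Subgroup.zpowers b with hX
  have hXB₀ : X ≤ B₀ := Subgroup.zpowers_le.mpr hb
  have hXp : Nat.card X = p := by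
    rw [Nat.card_zpowers]
    exact orderOf_eq_prime (hBe.2 b (hB₀B hb)) hb1'
  have hCX1 : sigmaCore H ⊓ Subgroup.centralizer (X : Set G) ≠ ⊥ := by
    intro h
    apply hC1
    rw [eq_bot_iff, ← h]
    exact inf_le_inf_left _ (Subgroup.centralizer_le (SetLike.coe_subset_coe.mpr hXB₀))
  have h18 := (Cfsg.Agent.S1418.result hG H hH E hE p hτ B ⟨hBE, hBe, hBc⟩).2.2 X
    (hXB₀.trans hB₀B) hXp hCX1
  have hCXH : Subgroup.centralizer (X : Set G) ≤ H := h18.1
  have h17 := (Cfsg.Agent.S1417.result hG H hH p hτ B ⟨hBH, hBe, hBc⟩).2.1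
  have hCTH : T ⊓ Subgroup.centralizer (X : Set G) ≤ H := inf_le_right.trans hCXH
  have hCTp : IsPGroup p (T ⊓ Subgroup.centralizer (X : Set G) : Subgroup G) :=
    hTp.to_le inf_le_left
  obtain ⟨P, hP⟩ := exists_sylow_map_ge hCTH hCTp
  have hPc := (h17 P).1
  refine (le_centralizer_of_omegaCenter T B X hBT (hXB₀.trans hB₀B) hBe hBc ?_ ?_ hZ).trans hCXH
  · intro a ha b' hb'
    obtain ⟨a', ha', rfl⟩ := hP ha
    obtain ⟨b'', hb'', rfl⟩ := hP hb'
    have h1 := hPc.is_comm.comm ⟨a', ha'⟩ ⟨b'', hb''⟩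
    have h2 : a' * b'' = b'' * a' := congrArg Subtype.val h1
    have h3 := congrArg (H.subtype) h2
    simpa using h3
  · intro A hA hAe
    by_contra hlt
    push Not at hlt
    exact not_pRankLE_of_elemAb (hA.trans hCTH)
      (fun x hx y hy => Cfsg.Agent.Lib.Helper45.IsElementaryAbelian_comm hAe hx hy) hAe.2 hlt
      hτ.2.2.1

/-- **Lemma A** (Bender–Glauberman Theorem 14.6, conclusion (a)): `κ(H) = ∅`.

`M` of type `𝒫` with Hall `κ(M)`-subgroup `K` of prime order `p` and partner `M*`; `H` a maximal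
subgroup containing `K`, not conjugate to `M`, with `p ∉ σ(H)`, `H_σ ∩ M* = 1`, `N_G(K) = C_G(K) ≤ M*`
and every complement `E ≥ K` of `H_σ` in `H` contained in `M*`. -/
theorem kappa_eq_empty_of_signalizer [Finite G] (hG : IsMinSimpleOddOrder G) (h30 : Stmt1430 G)
    (h31 : Stmt1431 G) (hSD : SigmaDisjoint G) (hku : KstarCentUniq G)
    (M Mstar H K : Subgroup G) (hM : IsCoatom M) (hMstar : IsCoatom Mstar) (hH : IsCoatom H)
    (hK : IsPiHallOf (kappa M) K M) (hKp : (Nat.card K).Prime)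
    (hKst : K = sigmaCore Mstar ⊓ Subgroup.centralizer
      ((sigmaCore M ⊓ Subgroup.centralizer (K : Set G) : Subgroup G) : Set G))
    (hKstH : IsPiHallOf (kappa Mstar) (sigmaCore M ⊓ Subgroup.centralizer (K : Set G)) Mstar)
    (hNK : Subgroup.normalizer (K : Set G) ≤ Subgroup.centralizer (K : Set G))
    (hCK : Subgroup.centralizer (K : Set G) ≤ Mstar)
    (hKH : K ≤ H)
    (hHM : ∀ g : G, H ≠ M.map (MulAut.conj g).toMonoidHom)
    (hpσ : Nat.card K ∉ sigma H)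
    (hHσMs : sigmaCore H ⊓ Mstar = ⊥)
    (hE : ∀ E : Subgroup G, IsComplIn E (sigmaCore H) H → K ≤ E → E ≤ Mstar) :
    kappa H = ∅ := by
  classical
  by_contra hne
  have hκ : (kappa H).Nonempty := Set.nonempty_iff_ne_empty.mpr hne
  have hpF : Fact (Nat.card K).Prime := ⟨hKp⟩
  have hU := Cfsg.Agent.Lib.Helper21.uniquenessThm_of hG
  have hK1 : K ≠ ⊥ := Cfsg.Agent.Lib.Helper21.ne_bot_of_card_prime hKp
  have hfpf : sigmaCore H ⊓ Subgroup.centralizer (K : Set G) = ⊥ := by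
    rw [eq_bot_iff, ← hHσMs]
    exact inf_le_inf_left _ hCK
  have hpκ := not_mem_kappa_of_fpf hG h30 hH hKH hKp hfpf
  obtain ⟨K_H, U_H, hK_H, hK_H1, ⟨hUc, hUH, hKU, hreg⟩, hKU_H⟩ :=
    exists_kappaHall_data hG h30 hH hKH hKp hpσ hpκ hκ
  have h1350 := (Cfsg.Agent.S1350.result hG H hH).1
  have hEc := isComplIn_sup_of_hall h1350 hK_H hUH hKU
  have hEM := hE _ hEc (hKU_H.trans le_sup_left)
  -- an element `y` of prime order `q` of `K_H`
  obtain ⟨⟨z, hz⟩, hz1⟩ := (Subgroup.ne_bot_iff_exists_ne_one).mp hK_H1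
  have hz1' : z ≠ 1 := fun h => hz1 (Subtype.ext h)
  obtain ⟨q, hq, hqz⟩ := Nat.exists_prime_and_dvd (orderOf_eq_one_iff.not.mpr hz1')
  obtain ⟨c, hc⟩ := exists_pow_orderOf_eq_prime hq hqz
  set y : G := z ^ c with hy
  have hyK : y ∈ K_H := Subgroup.pow_mem _ hz c
  have hyM : y ∈ Mstar := hEM (Subgroup.mem_sup_right hyK)
  have hy1 : y ≠ 1 := by
    intro h
    rw [h, orderOf_one] at hc
    exact hq.one_lt.ne hc
  have hqσ := not_mem_sigma_partner hG h30 hSD hH hMstar hK_H hK_H1 hq hyK hc hyM hHσMs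
  have hqκ := not_mem_kappa_partner hG h30 h31 hSD hku hM hMstar hH hK hKp hKstH hHM hpσ hK_H
    hK_H1 hq hyK hc hyM
  have hqM : q ∣ Nat.card Mstar := by
    have := orderOf_dvd_natCard (⟨y, hyM⟩ : Mstar)
    rwa [Subgroup.orderOf_mk, hc] at this
  -- `B = K × K^y`
  have hKyU : MulAut.conj y • K ≤ U_H := by
    have := conj_smul_le_conj_smul (g := y) hKU_H
    rwa [mem_normalizer_iff_conj_smul.mp (hKU hyK)] at this
  have hKyne : K ≠ MulAut.conj y • K := by
    intro h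
    have hyN : y ∈ Subgroup.normalizer (K : Set G) := mem_normalizer_iff_conj_smul.mpr h.symm
    have hyC := Subgroup.mem_centralizer_iff.mp (hNK hyN)
    obtain ⟨⟨k, hk⟩, hk1⟩ := (Subgroup.ne_bot_iff_exists_ne_one).mp hK1
    have hk1' : k ≠ 1 := fun h => hk1 (Subtype.ext h)
    have hmem : k ∈ U_H ⊓ Subgroup.centralizer ({y} : Set G) :=
      ⟨hKU_H hk, Subgroup.mem_centralizer_singleton_iff.mpr (hyC k hk)⟩
    rw [hreg y hyK hy1, Subgroup.mem_bot] at hmem
    exact hk1' hmem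
  have hUcomm : ∀ a ∈ U_H, ∀ b ∈ U_H, a * b = b * a := by
    intro a ha b hb
    exact congrArg Subtype.val (hUc.is_comm.comm ⟨a, ha⟩ ⟨b, hb⟩)
  obtain ⟨hBe, hBc⟩ := elemAb_sup_of_card_prime (p := Nat.card K) hUcomm hKU_H hKyU rfl
    (card_conj_smul y K) hKyne
  set B : Subgroup G := K ⊔ MulAut.conj y • K with hB
  have hBU : B ≤ U_H := sup_le hKU_H hKyU
  have hKσ : K ≤ sigmaCore Mstar := (le_of_eq hKst).trans inf_le_left
  have hKyσ : MulAut.conj y • K ≤ sigmaCore Mstar := by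
    have := conj_smul_le_conj_smul (g := y) hKσ
    rwa [mem_normalizer_iff_conj_smul.mp (le_normalizer_sigmaCore Mstar hyM)] at this
  have hBσ : B ≤ sigmaCore Mstar := sup_le hKσ hKyσ
  have hKs1 := Cfsg.Agent.Lib.Helper21.kstar_ne_bot hG h30 hM hK hK1
  -- `M*_σ` is nilpotent
  have hnil : Group.IsNilpotent (sigmaCore Mstar) := by
    have : Fact q.Prime := ⟨hq⟩
    obtain S₀ : Sylow q Mstar := default
    exact (Cfsg.Agent.S1429.result hG Mstar hMstar (fun h => hqκ (h q hq hqM hqσ)) q hqM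
      (by
        intro h
        rcases h with h | h
        · exact hqσ h
        · exact hqκ h) S₀).2.2
  have hBp : IsPGroup (Nat.card K) B := IsPGroup.of_card hBc
  obtain ⟨S, hS⟩ := exists_sylow_map_ge hBσ hBp
  set T : Subgroup G := (S : Subgroup (sigmaCore Mstar)).map (sigmaCore Mstar).subtype with hT
  have hTN : Mstar ≤ Subgroup.normalizer (T : Set G) :=
    le_normalizer_sylow_of_nilpotent (sigmaCore Mstar) Mstar hnil (le_normalizer_sigmaCore Mstar) S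
  have hTσ : T ≤ sigmaCore Mstar := Subgroup.map_subtype_le _
  have hTp : IsPGroup (Nat.card K) T := S.isPGroup'.map _
  have hB1 : B ≠ ⊥ := fun h => hK1 (le_bot_iff.mp (h ▸ (le_sup_left : K ≤ B)))
  have hT1 : T ≠ ⊥ := fun h => hB1 (le_bot_iff.mp (h ▸ hS))
  have hZne := card_omegaCenter_ne_prime hG h30 hMstar hKstH hKs1 hq hqM hqσ hqκ hTσ hTN hTp hT1
  have hZ2 : Nat.card K ^ 2 ≤ Nat.card (omegaCenter (Nat.card K) T) := by
    have hZp : IsPGroup (Nat.card K) (omegaCenter (Nat.card K) T) :=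
      hTp.to_le (omegaCenter_le _ T)
    obtain ⟨n, hn⟩ := IsPGroup.iff_card.mp hZp
    have hZ1 := omegaCenter_ne_bot T hTp hT1
    rw [hn]
    apply Nat.pow_le_pow_right hKp.pos
    rcases n with _ | _ | n
    · rw [pow_zero] at hn
      exact absurd (Subgroup.card_eq_one.mp hn) hZ1
    · rw [zero_add, pow_one] at hn
      exact absurd hn hZne
    · omega
  have hTH : T ≤ H :=
    le_of_card_omegaCenter hG hH hpσ hEc (hBU.trans le_sup_left) hBe hBc hS hTp hZ2
  -- `T` lies in a unique maximal subgroup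
  have hdvd : Nat.card K ∣ Nat.card ↥(sigmaCore Mstar ⊓ Subgroup.centralizer
      ((sigmaCore M ⊓ Subgroup.centralizer (K : Set G) : Subgroup G) : Set G)) := by
    rw [← hKst]
  have h3 := (h31 Mstar hMstar _ hKstH hKs1).2.2.1 (Nat.card K) hKp hdvd S
  obtain ⟨L, -, hLuniq⟩ := h3.1
  have e1 : Mstar = L := hLuniq Mstar ⟨hMstar, h3.2.1⟩
  have e2 : H = L := hLuniq H ⟨hH, hTH⟩
  have e3 : H = Mstar := e2.trans e1.symm
  apply Cfsg.Agent.Lib.Helper55.BGEleven.sigmaCore_ne_bot hG hU H hH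
  rw [eq_bot_iff, ← hHσMs]
  exact le_inf le_rfl (e3 ▸ sigmaCore_le H)

/-- Lemma A with `N_G(K) = C_G(K) ≤ M*` derived from the partner data. -/
theorem kappa_eq_empty_of_signalizer' [Finite G] (hG : IsMinSimpleOddOrder G) (h30 : Stmt1430 G)
    (h31 : Stmt1431 G) (hSD : SigmaDisjoint G) (hku : KstarCentUniq G)
    (M Mstar H K : Subgroup G) (hM : IsCoatom M) (hMstar : IsCoatom Mstar) (hH : IsCoatom H)
    (hK : IsPiHallOf (kappa M) K M) (hKp : (Nat.card K).Prime)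
    (hKst : K = sigmaCore Mstar ⊓ Subgroup.centralizer
      ((sigmaCore M ⊓ Subgroup.centralizer (K : Set G) : Subgroup G) : Set G))
    (hKstH : IsPiHallOf (kappa Mstar) (sigmaCore M ⊓ Subgroup.centralizer (K : Set G)) Mstar)
    (hKH : K ≤ H)
    (hHM : ∀ g : G, H ≠ M.map (MulAut.conj g).toMonoidHom)
    (hpσ : Nat.card K ∉ sigma H)
    (hHσMs : sigmaCore H ⊓ Mstar = ⊥)
    (hE : ∀ E : Subgroup G, IsComplIn E (sigmaCore H) H → K ≤ E → E ≤ Mstar) :
    kappa H = ∅ := by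
  obtain ⟨hNK, hCK, -⟩ :=
    normalizer_le_centralizer_of_partner hG h30 hku M Mstar K hM hMstar hK hKp hKst hKstH
  exact kappa_eq_empty_of_signalizer hG h30 h31 hSD hku M Mstar H K hM hMstar hH hK hKp hKst hKstH
    hNK hCK hKH hHM hpσ hHσMs hE

end Cfsg.Agent.Lib.Helper54
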