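import Mathlib
import Cfsg.Agent.Lib.Helper22.BGFifteenNineA
import Cfsg.Agent.Lib.Helper48.NilpotentGen
import Cfsg.Agent.Lib.Helper82.NilAbelCyclic
import Cfsg.Agent.Lib.Helper65.NilpBasic
import Cfsg.Agent.Lib.Helper54.BGElevenD
import Cfsg.Agent.S1354
import Cfsg.Agent.S1420

/-!
# B&G Corollary 15.9, module [S2], step (δ) (helper54)

In the configuration `Ctx M N Nstar K U x p t` of helper22: if `B ≤ M` is a nontrivial subgroup
normalized by `K* = N_σ ∩ C_G(K)`, no non-identity element of `B` normalizes `⟨x⟩`, and `N_σ`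
centralizes `x`, we reach a contradiction (via `N_G(D) ≤ M` for the noncyclic `p`-subgroup
`D = ⟨x ^ B⟩` of `M_σ`, landed S1420).
-/

set_option autoImplicit false

namespace Cfsg.Agent.Lib.Helper54

open Cfsg
open Cfsg.Agent.Lib.Helper22.BGFifteenNine

universe u

variable {G : Type u} [Group G] [Finite G]

/-- An element conjugating a generating set into itself normalizes the (finite) subgroup generated. -/
theorem mem_normalizer_closure_of_conj_mem {S : Set G} {k : G}
    (h : ∀ g ∈ S, k * g * k⁻¹ ∈ S) : k ∈ Subgroup.normalizer ((Subgroup.closure S : Subgroup G) : Set G) := by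
  apply mem_normalizer_of_conj_mem
  intro a ha
  induction ha using Subgroup.closure_induction with
  | mem g hg => exact Subgroup.subset_closure (h g hg)
  | one => simp
  | mul a b _ _ iha ihb =>
    have e : k * (a * b) * k⁻¹ = (k * a * k⁻¹) * (k * b * k⁻¹) := by group
    rw [e]
    exact Subgroup.mul_mem _ iha ihb
  | inv a _ iha =>
    have e : k * a⁻¹ * k⁻¹ = (k * a * k⁻¹)⁻¹ := by group
    rw [e]
    exact Subgroup.inv_mem _ iha

theorem false_of_sigmaCore_le_centralizer (hG : IsMinSimpleOddOrder G)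
    {M N Nstar K U : Subgroup G} {x : G} {p t : ℕ} (h : Ctx M N Nstar K U x p t)
    (B : Subgroup G) (hBM : B ≤ M) (hB1 : B ≠ ⊥)
    (hKsB : sigmaCore N ⊓ Subgroup.centralizer (K : Set G) ≤ Subgroup.normalizer (B : Set G))
    (hα : ∀ b ∈ B, b ≠ 1 → b * x * b⁻¹ ∉ Subgroup.zpowers x)
    (hγ : sigmaCore N ≤ Subgroup.centralizer ({x} : Set G)) : False := by
  have hpp : p.Prime := h.pp
  have : Fact p.Prime := ⟨hpp⟩
  have hKc : IsCyclic K := h.hKU.cyclic
  have hKs1 := (Cfsg.Agent.S1354.result hG N h.hN K hKc h.hKU.hall).1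
  obtain ⟨⟨k, hk⟩, hk1⟩ := (Subgroup.ne_bot_iff_exists_ne_one).mp hKs1
  have hk1' : k ≠ 1 := fun h' => hk1 (Subtype.ext h')
  have hkx : k * x = x * k := by
    have := hγ hk.1
    rw [Subgroup.mem_centralizer_singleton_iff] at this
    exact this
  set S : Set G := {g | ∃ b ∈ B, g = b * x * b⁻¹} with hS
  have hSσ : S ⊆ (sigmaCore M : Set G) := by
    rintro _ ⟨b, hb, rfl⟩
    exact Cfsg.Agent.Lib.Helper50.conj_mem_sigmaCore (hBM hb) h.hxσ
  have hD1σ : Subgroup.closure S ≤ sigmaCore M := (Subgroup.closure_le _).mpr hSσ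
  have hxS : x ∈ S := ⟨1, B.one_mem, by simp⟩
  have hxD1 : x ∈ Subgroup.closure S := Subgroup.subset_closure hxS
  have hxp : x ^ p = 1 := by rw [← h.hxo]; exact pow_orderOf_eq_one x
  -- `D₁` is a `p`-group
  have hD1p : IsPGroup p ↥(Subgroup.closure S) := by
    have hn : Group.IsNilpotent ↥(Subgroup.closure S) :=
      Cfsg.Agent.Lib.Helper65.isNilpotent_of_le hD1σ h.sigmaCore_nilpotent
    apply Cfsg.Agent.Lib.Helper48.isPGroup_of_nilpotent_of_closure hn
      (((↑) : ↥(Subgroup.closure S) → G) ⁻¹' S) Subgroup.closure_closure_coe_preimage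
    rintro ⟨u, hu⟩ ⟨b, hb, hub⟩
    refine ⟨1, ?_⟩
    apply Subtype.ext
    have hub' : u = b * x * b⁻¹ := hub
    show u ^ p ^ 1 = 1
    rw [pow_one, hub', conj_pow, hxp, mul_one, mul_inv_cancel]
  -- `D₁` is not cyclic
  have hD1c : ¬ IsCyclic ↥(Subgroup.closure S) := by
    intro hc
    obtain ⟨⟨b, hb⟩, hb1⟩ := (Subgroup.ne_bot_iff_exists_ne_one).mp hB1
    apply hα b hb (fun h' => hb1 (Subtype.ext h'))
    have h1 : Subgroup.zpowers (b * x * b⁻¹) = Subgroup.zpowers x := by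
      apply Cfsg.Agent.Lib.Helper82.NilAbel.eq_of_card_eq_of_le_cyclic hc
      · rw [Subgroup.zpowers_le]
        exact Subgroup.subset_closure ⟨b, hb, rfl⟩
      · rw [Subgroup.zpowers_le]
        exact hxD1
      · rw [Nat.card_zpowers, Nat.card_zpowers]
        have h2 := orderOf_injective (MulAut.conj b).toMonoidHom (MulAut.conj b).injective x
        simpa [MulAut.conj_apply] using h2
    rw [← h1]
    exact Subgroup.mem_zpowers _
  -- `k` normalizes `D₁`
  have hkN : k ∈ Subgroup.normalizer ((Subgroup.closure S : Subgroup G) : Set G) := by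
    apply mem_normalizer_closure_of_conj_mem
    rintro _ ⟨b, hb, rfl⟩
    refine ⟨k * b * k⁻¹, (Subgroup.mem_normalizer_iff.mp (hKsB hk) b).mp hb, ?_⟩
    have e : k * x * k⁻¹ = x := by rw [hkx]; group
    calc k * (b * x * b⁻¹) * k⁻¹ = (k * b * k⁻¹) * (k * x * k⁻¹) * (k * b * k⁻¹)⁻¹ := by group
      _ = (k * b * k⁻¹) * x * (k * b * k⁻¹)⁻¹ := by rw [e]
  have h20 := (Cfsg.Agent.S1420.result hG M h.hM (M ⊓ Nstar) h.hE).2.2.1 p (Subgroup.closure S)
    h.p_mem_sigma hD1p (hD1σ.trans (sigmaCore_le M)) hD1c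
  have hkM : k ∈ M := h20 hkN
  have hk' : k ∈ sigmaCore N ⊓ M := ⟨hk.1, hkM⟩
  rw [h.hNσM] at hk'
  exact hk1' (Subgroup.mem_bot.mp hk')

end Cfsg.Agent.Lib.Helper54
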