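import Mathlib
import Cfsg.Agent.S0041
import Cfsg.Agent.Lib.Helper24.GL2Action
import Cfsg.Agent.Lib.Helper24.ConjOn

/-!
# [SEMI]: an odd-order group acting semiregularly on `C_p` or `C_p × C_p` is cyclic

Module for B&G 15.9 / 14.10 (requested by helper22, board #3146).
-/

set_option autoImplicit false

namespace Cfsg.Agent.Lib.Helper54

open scoped commutatorElement

/-- A `p`-group acting by automorphisms on a finite group of order divisible by `p` has a
nontrivial fixed point. -/
theorem exists_fixed_ne_one_of_isPGroup (p : ℕ) [Fact p.Prime] {P W : Type*} [Group P] [Group W]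
    [Finite W] (hP : IsPGroup p P) (φ : P →* MulAut W) (hW : p ∣ Nat.card W) :
    ∃ w : W, w ≠ 1 ∧ ∀ g : P, φ g w = w := by
  let _ : MulAction P W := MulAction.compHom W φ
  have h1 : (1 : W) ∈ MulAction.fixedPoints P W := by
    intro g
    show φ g 1 = 1
    exact map_one _
  obtain ⟨b, hb, hne⟩ := hP.exists_fixed_point_of_prime_dvd_card_of_fixed_point W hW h1
  exact ⟨b, fun h => hne h.symm, fun g => hb g⟩

variable {G : Type*} [Group G] [Finite G]

theorem isCyclic_of_semiregular_rank_two (p : ℕ) [Fact p.Prime] (E V : Subgroup G)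
    (hEV : E ≤ Subgroup.normalizer (V : Set G)) (hVab : ∀ a ∈ V, ∀ b ∈ V, a * b = b * a)
    (hVexp : ∀ v ∈ V, v ^ p = 1) (hV1 : V ≠ ⊥) (hVcard : Nat.card V ≤ p ^ 2)
    (hEodd : Odd (Nat.card E)) (hEsolv : Group.IsSolvable E)
    (hsemi : ∀ e ∈ E, e ≠ 1 → ∀ v ∈ V, e * v = v * e → v = 1) : IsCyclic E := by
  have hp : p.Prime := Fact.out
  -- `V` is a `p`-group of order `p` or `p ^ 2`
  have hVp : IsPGroup p V := by
    intro v
    refine ⟨1, ?_⟩
    rw [pow_one]
    exact Subtype.ext (hVexp v v.2)
  obtain ⟨k, hk⟩ := IsPGroup.iff_card.mp hVp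
  have hk0 : k ≠ 0 := by
    rintro rfl
    rw [pow_zero] at hk
    exact hV1 ((Subgroup.card_eq_one).mp hk)
  have hk2 : k ≤ 2 := by
    rw [hk] at hVcard
    exact (Nat.pow_le_pow_iff_right hp.one_lt).mp hVcard
  -- the conjugation action is faithful
  let φ : ↥E →* MulAut ↥V := Cfsg.Agent.Lib.Helper24.conjOn E V hEV
  have hφ : ∀ e : ↥E, φ e = 1 → e = 1 := by
    intro e he
    by_contra hne
    apply hV1
    rw [eq_bot_iff]
    intro v hv
    rw [Subgroup.mem_bot]
    refine hsemi e e.2 (fun h => hne (Subtype.ext h)) v hv ?_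
    have h1 : φ e ⟨v, hv⟩ = ⟨v, hv⟩ := by rw [he]; rfl
    have h2 : (e : G) * v * (e : G)⁻¹ = v := congrArg Subtype.val h1
    calc (e : G) * v = (e : G) * v * (e : G)⁻¹ * e := by group
      _ = v * e := by rw [h2]
  have hφinj : Function.Injective φ := by
    rw [injective_iff_map_eq_one]
    exact hφ
  -- `E` is abelian
  have hEab : ∀ a b : ↥E, a * b = b * a := by
    have hk12 : k = 1 ∨ k = 2 := by omega
    rcases hk12 with rfl | rfl
    · -- `V` cyclic: `Aut V` is abelian
      rw [pow_one] at hk
      have hcyc : IsCyclic ↥V := isCyclic_of_prime_card hk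
      intro a b
      apply hφinj
      rw [map_mul, map_mul]
      apply (IsCyclic.mulAutMulEquiv ↥V).injective
      rw [map_mul, map_mul, mul_comm]
    · -- no element of order `p` in `E`
      have hpE : ¬ p ∣ Nat.card ↥E := by
        intro hdvd
        obtain ⟨e, he⟩ := exists_prime_orderOf_dvd_card' p hdvd
        let P : Subgroup ↥E := Subgroup.zpowers e
        have hPp : IsPGroup p ↥P := by
          apply IsPGroup.of_card (n := 1)
          rw [Nat.card_zpowers, he, pow_one]
        have hW : p ∣ Nat.card ↥V := by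
          rw [hk]
          exact dvd_pow_self p (by norm_num)
        obtain ⟨w, hw1, hw⟩ := exists_fixed_ne_one_of_isPGroup p hPp (φ.comp P.subtype) hW
        apply hw1
        have he1 : e ≠ 1 := by
          intro h
          rw [h, orderOf_one] at he
          exact hp.one_lt.ne he
        have h1 := hw ⟨e, Subgroup.mem_zpowers e⟩
        have h2 : (e : G) * w * (e : G)⁻¹ = w := congrArg Subtype.val h1
        have h3 : (w : G) = 1 := by
          refine hsemi e e.2 (fun h => he1 (Subtype.ext h)) w w.2 ?_
          calc (e : G) * w = (e : G) * w * (e : G)⁻¹ * e := by group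
            _ = w * e := by rw [h2]
        exact Subtype.ext h3
      have hcomm1 : ∀ x ∈ commutator ↥E, x = 1 := by
        intro x hx
        apply hφ
        have hcop : (orderOf x).Coprime p := by
          rw [Nat.coprime_comm, hp.coprime_iff_not_dvd]
          intro h
          exact hpE (h.trans (orderOf_dvd_natCard x))
        have : Group.IsSolvable ↥E := hEsolv
        exact Cfsg.Agent.Lib.Helper24.mulAut_eq_one_of_mem_commutator_of_coprime p
          (fun a b => Subtype.ext (hVab a a.2 b b.2))
          (fun a => Subtype.ext (hVexp a a.2)) hk hEodd φ x hx hcop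
      intro a b
      have h1 : ⁅a, b⁆ ∈ commutator ↥E := by
        rw [commutator_def]
        exact Subgroup.commutator_mem_commutator (Subgroup.mem_top a) (Subgroup.mem_top b)
      exact commutatorElement_eq_one_iff_mul_comm.mp (hcomm1 _ h1)
  -- conclude by `S0041`
  have : IsMulCommutative ↥V := ⟨⟨fun a b => Subtype.ext (hVab a a.2 b b.2)⟩⟩
  have : IsMulCommutative ↥E := ⟨⟨hEab⟩⟩
  refine Cfsg.Agent.S0041.result E V hV1 hEV ?_ (Or.inl inferInstance)
  intro a ha hne
  rw [eq_bot_iff]
  intro v hv
  rw [Subgroup.mem_bot]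
  obtain ⟨hvV, hvc⟩ := Subgroup.mem_inf.mp hv
  rw [Subgroup.mem_centralizer_singleton_iff] at hvc
  exact hsemi a ha hne v hvV hvc.symm

end Cfsg.Agent.Lib.Helper54
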