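import Mathlib
import Cfsg.Prelude.Def_OddOrderLocal
import Cfsg.Agent.Lib.Helper54.BGFourteenSixC
import Cfsg.Agent.Lib.Helper21.BGFourteenSevenC
import Cfsg.Agent.Lib.Helper21.BGTwelveK
import Cfsg.Agent.S1375
import Cfsg.Agent.S1378
import Cfsg.Agent.S1429
import Cfsg.Agent.S1430

/-!
# Bender–Glauberman §14/§15: maximal subgroups of type `𝒫₂` have no `x ∈ M_σ#` with `C_G(x) ⊄ M`
(helper54; "Lemma X" of helper22's plan for B&G 14.11 / 15.9)

* `exists_fpf_kernel` : `M` maximal with a Hall `κ(M)`-subgroup `K ≠ 1` and a prime `s` of `M` outside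
  `σ(M) ∪ κ(M)`: there is a nilpotent `N₀ ≤ M` normalized by `K`, on which `K#` acts without fixed
  points, with `C_{M_σ}(N₀) = 1`; and `M_σ` is nilpotent  (from `Stmt1430` (2) and S1429).
* `centralizer_le_of_not_P1` (**Lemma X**): then `C_G(x) ≤ M` for every `x ∈ M_σ#`.
  Proof: otherwise S1375 gives the maximal subgroup `N ≥ C_G(z)` (`z` a power of `x` of prime order `p`)
  with `z ∉ N_σ`, so `p ∉ σ(N)` and `N` has `p`-rank at most 2; `Z₁ = Ω₁(Z(O_p(M_σ))) ≤ C_G(z) ≤ N` has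
  order at most `p ^ 2`, but it is a free `K`-module (`|Z₁| = |C_{Z₁}(K)| ^ |K|`, `|K| ≥ 3`).
-/

set_option autoImplicit false

namespace Cfsg.Agent.Lib.Helper54

open Cfsg
open scoped Pointwise commutatorElement

universe u

variable {G : Type u} [Group G]

/-- The Frobenius kernel `Ω₁(O_s(U))` of a maximal subgroup not of type `𝒫₁`. -/
theorem exists_fpf_kernel [Finite G] (h30 : Stmt1430 G)
    (h29 : Cfsg.Agent.Lib.Helper21.Stmt1429 G) (M : Subgroup G) (hM : IsCoatom M) (K : Subgroup G)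
    (hK : IsPiHallOf (kappa M) K M) (hK1 : K ≠ ⊥)
    (s : ℕ) (hs : s.Prime) (hsM : s ∣ Nat.card M) (hsσ : s ∉ sigma M) (hsκ : s ∉ kappa M) :
    ∃ N₀ : Subgroup G, N₀ ≤ M ∧ K ≤ Subgroup.normalizer (N₀ : Set G) ∧ Group.IsNilpotent N₀ ∧
      (∀ k ∈ K, k ≠ 1 → ∀ n ∈ N₀, k * n * k⁻¹ = n → n = 1) ∧
      sigmaCore M ⊓ Subgroup.centralizer (N₀ : Set G) = ⊥ ∧ Group.IsNilpotent (sigmaCore M) := by
  obtain ⟨-, ⟨U, hUc, hUH, hKU, hUfpf⟩, -⟩ := h30 M hM K hK hK1
  have : Fact s.Prime := ⟨hs⟩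
  have hUcomm : ∀ a ∈ U, ∀ b ∈ U, a * b = b * a := fun a ha b hb =>
    congrArg Subtype.val (hUc.is_comm.comm ⟨a, ha⟩ ⟨b, hb⟩)
  set N : Subgroup G := Cfsg.Agent.Lib.Helper21.omegaSub U s hUcomm with hN
  have hNU : N ≤ U := Cfsg.Agent.Lib.Helper21.omegaSub_le U s hUcomm
  have hUM : U ≤ M := hUH.1
  have hKN : K ≤ Subgroup.normalizer (N : Set G) :=
    Cfsg.Agent.Lib.Helper21.le_normalizer_omegaSub U s hUcomm hKU
  have hNnil : Group.IsNilpotent N := by
    let _ : CommGroup N :=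
      { (inferInstance : Group N) with
        mul_comm := fun a b => Subtype.ext (hUcomm a (hNU a.2) b (hNU b.2)) }
    exact CommGroup.isNilpotent
  have hfpf : ∀ k ∈ K, k ≠ 1 → ∀ n ∈ N, k * n * k⁻¹ = n → n = 1 := by
    intro k hk hk1 n hn hkn
    have hmem : n ∈ U ⊓ Subgroup.centralizer ({k} : Set G) := by
      refine Subgroup.mem_inf.mpr ⟨hNU hn, ?_⟩
      rw [Subgroup.mem_centralizer_iff]
      intro h hh
      rw [Set.mem_singleton_iff] at hh
      subst hh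
      calc h * n = h * n * h⁻¹ * h := by group
        _ = n * h := by rw [hkn]
    rw [hUfpf k hk hk1, Subgroup.mem_bot] at hmem
    exact hmem
  refine ⟨N, hNU.trans hUM, hKN, hNnil, hfpf, ?_⟩
  let P : Sylow s U := default
  set P' : Subgroup G := (P : Subgroup U).map U.subtype with hP'
  have hP'U : P' ≤ U := Subgroup.map_subtype_le _
  have hcardP' : Nat.card P' = s ^ (Nat.card U).factorization s := by
    rw [hP', Subgroup.card_map_of_injective U.subtype_injective]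
    exact P.card_eq_multiplicity
  have hfac : (Nat.card M).factorization s = (Nat.card U).factorization s := by
    have hmul := Cfsg.Agent.Lib.Helper62.isPiHallOf_card_mul hUH
    have hnd : ¬ s ∣ U.relIndex M := hUH.2.2 s hs ⟨hs, hsκ, hsσ⟩
    have hU0 : Nat.card U ≠ 0 := Nat.card_pos.ne'
    have hr0 : U.relIndex M ≠ 0 := by
      intro h0
      rw [h0, mul_zero] at hmul
      exact (Nat.card_pos (α := M)).ne' hmul.symm
    rw [← hmul, Nat.factorization_mul hU0 hr0, Finsupp.add_apply,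
      Nat.factorization_eq_zero_of_not_dvd hnd, add_zero]
  have hP'M : P' ≤ M := hP'U.trans hUM
  have hcardS : Nat.card (P'.subgroupOf M) = s ^ (Nat.card M).factorization s := by
    rw [hfac, ← hcardP']
    exact Nat.card_congr (Subgroup.subgroupOfEquivOfLe hP'M).toEquiv
  let S : Sylow s M := Sylow.ofCard (P'.subgroupOf M) hcardS
  have hSmap : (S : Subgroup M).map M.subtype = P' := by
    rw [Sylow.coe_ofCard]
    exact Subgroup.map_subgroupOf_eq_of_le hP'M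
  have hP1 : ¬ (∀ q : ℕ, q.Prime → q ∣ Nat.card M → q ∉ sigma M → q ∈ kappa M) :=
    fun h => hsκ (h s hs hsM hsσ)
  have hnot : s ∉ sigma M ∪ kappa M := fun h => h.elim hsσ hsκ
  obtain ⟨-, hC, hnil⟩ := h29 M hM hP1 s hsM hnot S
  refine ⟨?_, hnil⟩
  rw [eq_bot_iff, ← hC]
  apply inf_le_inf_left
  apply Subgroup.centralizer_le
  rw [SetLike.coe_subset_coe, Subgroup.closure_le]
  intro x hx
  rw [hSmap] at hx
  exact ⟨hP'U hx.1, hx.2⟩

/-- `SigmaDisjoint G` (B&G 13.9) from the landed S1378. -/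
theorem sigmaDisjoint_of [Finite G] (hG : IsMinSimpleOddOrder G) : SigmaDisjoint G := by
  intro M L hM hL hconj p hpM hpL
  obtain ⟨g, hg⟩ := (Cfsg.Agent.S1378.result hG).2 M L hM hL ⟨p, hpM, hpL⟩
  apply hconj g⁻¹
  rw [hg]
  exact Cfsg.Agent.Lib.Helper34.map_conj_inv_map_conj M g

/-- helper22's structural core of B&G Theorem 14.4 (a)–(f), with all hypotheses discharged from the
landed rows. -/
theorem core_uncond [Finite G] (hG : IsMinSimpleOddOrder G)
    (M : Subgroup G) (hM : IsCoatom M) (x : G) (hx : x ∈ sigmaCore M) (hx1 : x ≠ 1)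
    (hxM : ¬ Subgroup.centralizer ({x} : Set G) ≤ M) :
    ∃ N : Subgroup G, IsCoatom N ∧ Subgroup.centralizer ({x} : Set G) ≤ N ∧
      (∀ g : G, N ≠ M.map (MulAut.conj g).toMonoidHom) ∧
      (∀ q ∈ sigma M, q ∉ sigma N) ∧
      Group.IsNilpotent (sigmaCore N) ∧ sigmaCore N ⊓ M = ⊥ ∧
      (∀ n ∈ N, ∃ e ∈ M ⊓ N, ∃ s ∈ sigmaCore N, n = e * s) ∧
      (∃ r ∈ sigmaCore N ⊓ Subgroup.centralizer ({x} : Set G), r ≠ 1) ∧
      (∀ q : ℕ, q.Prime → q ∣ orderOf x → q ∈ tau2 N) ∧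
      (∀ L : Subgroup G, IsCoatom L → Subgroup.centralizer ({x} : Set G) ≤ L → L = N) :=
  Cfsg.Agent.Lib.Helper22.BGFourteenFour.core hG
    (fun K h1 h2 h3 => Cfsg.Agent.S1403.result hG K h1 h2 h3)
    (fun M hM p _ hp X hX hN => Cfsg.Agent.S1409.result hG M hM p hp X hX hN)
    (fun M hM p _ A hA => (Cfsg.Agent.S1416.result hG M hM p A hA).1)
    (fun M hM p _ hp A hA => Cfsg.Agent.S1417.result hG M hM p hp A hA)
    (fun M hM q _ hq X hX hX1 hXM Ms hMs hne hN S hS =>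
      Cfsg.Agent.S1424.result hG M hM q hq X hX hX1 hXM Ms hMs hne hN S hS)
    (fun M hM x hx hx1 x' hx' hx'1 h =>
      Cfsg.Agent.S1432.result hG M hM x hx hx1 x' hx' hx'1 h)
    (sigmaDisjoint_of hG) M hM x hx hx1 hxM

/-- **Lemma X**: a maximal subgroup `M` with `K ≠ 1` and a prime outside `σ(M) ∪ κ(M)` (type `𝒫₂`) has
`C_G(x) ≤ M` for all `x ∈ M_σ#`. -/
theorem centralizer_le_of_not_P1 [Finite G] (hG : IsMinSimpleOddOrder G)
    (M : Subgroup G) (hM : IsCoatom M) (K : Subgroup G)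
    (hK : IsPiHallOf (kappa M) K M) (hK1 : K ≠ ⊥)
    (s : ℕ) (hs : s.Prime) (hsM : s ∣ Nat.card M) (hsσ : s ∉ sigma M) (hsκ : s ∉ kappa M)
    (x : G) (hx : x ∈ sigmaCore M) (hx1 : x ≠ 1) : Subgroup.centralizer ({x} : Set G) ≤ M := by
  classical
  by_contra hxM
  have h30 : Stmt1430 G := fun M hM K hK hK1 => Cfsg.Agent.S1430.result hG M hM K hK hK1
  have h29 : Cfsg.Agent.Lib.Helper21.Stmt1429 G :=
    fun M hM hP1 p _ hpM hp S => Cfsg.Agent.S1429.result hG M hM hP1 p hpM hp S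
  -- reduce to prime order
  have hxo : orderOf x ≠ 1 := fun h => hx1 (orderOf_eq_one_iff.mp h)
  obtain ⟨p, hp, hpx⟩ := Nat.exists_prime_and_dvd hxo
  obtain ⟨c, hc⟩ := exists_pow_orderOf_eq_prime hp hpx
  have : Fact p.Prime := ⟨hp⟩
  set z : G := x ^ c with hz
  have hzσ : z ∈ sigmaCore M := Subgroup.pow_mem _ hx c
  have hz1 : z ≠ 1 := by
    intro h
    rw [h, orderOf_one] at hc
    exact hp.one_lt.ne hc
  have hCxz : Subgroup.centralizer ({x} : Set G) ≤ Subgroup.centralizer ({z} : Set G) := by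
    intro g hg
    rw [Subgroup.mem_centralizer_singleton_iff] at hg ⊢
    have h1 : Commute g x := hg
    exact (h1.pow_right c).eq
  have hzM : ¬ Subgroup.centralizer ({z} : Set G) ≤ M := fun h => hxM (hCxz.trans h)
  -- the maximal subgroup `N` over `C_G(z)`: `p ∈ τ₂(N)`
  obtain ⟨N, hN, hzN, -, -, -, -, -, -, hτ, -⟩ := core_uncond hG M hM z hzσ hz1 hzM
  have hpτ : p ∈ tau2 N := hτ p hp (by rw [hc])
  have hrank : PRankLE p 2 N := hpτ.2.2.1
  -- the kernel data of `M`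
  obtain ⟨N₀, hN₀M, hKN₀, hN₀nil, hfpf, hCN₀, hMσnil⟩ :=
    exists_fpf_kernel h30 h29 M hM K hK hK1 s hs hsM hsσ hsκ
  -- `T = O_p(M_σ) ∋ z`, `Z₁ = Ω₁(Z(T))`
  have hZp : IsPGroup p (Subgroup.zpowers z) := by
    apply IsPGroup.of_card (n := 1)
    rw [Nat.card_zpowers, hc, pow_one]
  obtain ⟨S, hS⟩ := exists_sylow_map_ge (Subgroup.zpowers_le.mpr hzσ) hZp
  set T : Subgroup G := (S : Subgroup (sigmaCore M)).map (sigmaCore M).subtype with hT
  have hzT : z ∈ T := hS (Subgroup.mem_zpowers z)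
  have hTN : M ≤ Subgroup.normalizer (T : Set G) :=
    le_normalizer_sylow_of_nilpotent (sigmaCore M) M hMσnil (le_normalizer_sigmaCore M) S
  have hTσ : T ≤ sigmaCore M := Subgroup.map_subtype_le _
  have hTp : IsPGroup p T := S.isPGroup'.map _
  have hT1 : T ≠ ⊥ := by
    intro h
    rw [h, Subgroup.mem_bot] at hzT
    exact hz1 hzT
  set Z₁ : Subgroup G := omegaCenter p T with hZ₁
  have hZ1 : Z₁ ≠ ⊥ := omegaCenter_ne_bot T hTp hT1
  have hZe := omegaCenter_isElementaryAbelian p T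
  have hZM : M ≤ Subgroup.normalizer (Z₁ : Set G) :=
    hTN.trans (normalizer_le_normalizer_omegaCenter p T)
  have hZσ : Z₁ ≤ sigmaCore M := (omegaCenter_le p T).trans hTσ
  -- `Z₁ ≤ C_G(z) ≤ N`, so `|Z₁| ≤ p ^ 2`
  have hZN : Z₁ ≤ N := by
    intro w hw
    apply hzN
    rw [Subgroup.mem_centralizer_singleton_iff]
    exact (hw.2.1 z hzT).symm
  have hZcomm : ∀ a ∈ Z₁, ∀ b ∈ Z₁, a * b = b * a :=
    fun a ha b hb => Cfsg.Agent.Lib.Helper45.IsElementaryAbelian_comm hZe ha hb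
  have hZle : Nat.card Z₁ ≤ p ^ 2 := by
    by_contra hlt
    push Not at hlt
    exact not_pRankLE_of_elemAb hZN hZcomm hZe.2 hlt hrank
  -- the free-module count
  have hfix : ∀ w ∈ Z₁, (∀ n ∈ N₀, n * w * n⁻¹ = w) → w = 1 := by
    intro w hw hfixw
    have hmem : w ∈ sigmaCore M ⊓ Subgroup.centralizer (N₀ : Set G) := by
      refine Subgroup.mem_inf.mpr ⟨hZσ hw, ?_⟩
      rw [Subgroup.mem_centralizer_iff]
      intro n hn
      have := hfixw n hn
      calc n * w = n * w * n⁻¹ * n := by group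
        _ = w * n := by rw [this]
    rw [hCN₀, Subgroup.mem_bot] at hmem
    exact hmem
  have cK := Cfsg.Agent.Lib.Helper21.card_pow_of_fpf_subgroup p Z₁ N₀ K hZcomm hZe.2
    (hN₀M.trans hZM) (hK.1.trans hZM) hKN₀ hN₀nil hfpf hfix
  -- `|K| ≥ 3`
  have hK3 : 3 ≤ Nat.card K := by
    have h1 : Nat.card K ≠ 1 := fun h => hK1 (Subgroup.card_eq_one.mp h)
    have hodd : Odd (Nat.card K) := by
      have hdvd : Nat.card K ∣ Nat.card G := Subgroup.card_subgroup_dvd_card K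
      exact Odd.of_dvd_nat hG.1 hdvd
    have hpos : 0 < Nat.card K := Nat.card_pos
    rcases hodd with ⟨m, hm⟩
    omega
  -- `c₀` is a power of `p`, not `1`
  have hc₀p : IsPGroup p ↥(Z₁ ⊓ Subgroup.centralizer (K : Set G) : Subgroup G) :=
    hTp.to_le (inf_le_left.trans (omegaCenter_le p T))
  obtain ⟨n, hn⟩ := IsPGroup.iff_card.mp hc₀p
  have hW2 : 1 < Nat.card Z₁ := (Subgroup.one_lt_card_iff_ne_bot Z₁).mpr hZ1
  have hn0 : n ≠ 0 := by
    rintro rfl
    rw [pow_zero] at hn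
    rw [cK, hn, one_pow] at hW2
    exact lt_irrefl _ hW2
  have hge : p ^ 3 ≤ Nat.card Z₁ := by
    rw [cK, hn, ← pow_mul]
    apply Nat.pow_le_pow_right hp.pos
    have : 1 ≤ n := Nat.one_le_iff_ne_zero.mpr hn0
    nlinarith
  have hlt : p ^ 2 < p ^ 3 := Nat.pow_lt_pow_right hp.one_lt (by norm_num)
  omega

end Cfsg.Agent.Lib.Helper54
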