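import Mathlib
import Cfsg.Prelude.Def_OddOrderLocal
import Cfsg.Agent.Lib.Helper54.BGFifteenX
import Cfsg.Agent.Lib.Helper54.BGFourteenSixD
import Cfsg.Agent.Lib.Helper54.Hyperplane
import Cfsg.Agent.Lib.Helper97.BGTwelveCor
import Cfsg.Agent.S1350
import Cfsg.Agent.S1418
import Cfsg.Agent.S1432
import Cfsg.Agent.S1414
import Cfsg.Agent.S1417
import Cfsg.Agent.S1423
import Cfsg.Agent.Lib.Helper54.PCores

/-!
# Bender–Glauberman §14: the maximal subgroup `N` over `C_G(x)`, `x ∈ M_σ#`, `C_G(x) ⊄ M`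
(helper54; lemmas (L1), (L2) of helper22's plan for B&G 14.11 / 15.9)

* `core_data` : the structural core (B&G 14.4) for an arbitrary maximal `N ≥ C_G(x)`, together with a
  power `z` of `x` of prime order `p`, `C_G(z) ≤ N`, `p ∈ τ₂(N)`, `M ∩ N` a complement of `N_σ`.
* `tau2_subset_sigma` (**L1**): `τ₂(N) ⊆ σ(M)`.
* `mem_beta_of_mem_sigma_of_dvd` (**L2**): `π(M) ∩ σ(N) ⊆ β(N)`.
-/

set_option autoImplicit false

namespace Cfsg.Agent.Lib.Helper54

open Cfsg
open scoped Pointwise commutatorElement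

universe u

variable {G : Type u} [Group G]

/-- The core data for any maximal subgroup `N` over `C_G(x)`. -/
theorem core_data [Finite G] (hG : IsMinSimpleOddOrder G)
    (M : Subgroup G) (hM : IsCoatom M) (x : G) (hx : x ∈ sigmaCore M) (hx1 : x ≠ 1)
    (hxM : ¬ Subgroup.centralizer ({x} : Set G) ≤ M)
    (N : Subgroup G) (hN : IsCoatom N) (hxN : Subgroup.centralizer ({x} : Set G) ≤ N) :
    ∃ (z : G) (p : ℕ), p.Prime ∧ orderOf z = p ∧ z ∈ sigmaCore M ∧
      ¬ Subgroup.centralizer ({z} : Set G) ≤ M ∧ Subgroup.centralizer ({z} : Set G) ≤ N ∧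
      p ∈ tau2 N ∧ (∀ g : G, N ≠ M.map (MulAut.conj g).toMonoidHom) ∧
      (∀ q ∈ sigma M, q ∉ sigma N) ∧ Group.IsNilpotent (sigmaCore N) ∧ sigmaCore N ⊓ M = ⊥ ∧
      IsComplIn (M ⊓ N) (sigmaCore N) N ∧
      (∀ L : Subgroup G, IsCoatom L → Subgroup.centralizer ({z} : Set G) ≤ L → L = N) := by
  have hxo : orderOf x ≠ 1 := fun h => hx1 (orderOf_eq_one_iff.mp h)
  obtain ⟨p, hp, hpx⟩ := Nat.exists_prime_and_dvd hxo
  obtain ⟨c, hc⟩ := exists_pow_orderOf_eq_prime hp hpx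
  set z : G := x ^ c with hz
  have hzσ : z ∈ sigmaCore M := Subgroup.pow_mem _ hx c
  have hz1 : z ≠ 1 := by
    intro h
    rw [h, orderOf_one] at hc
    exact hp.one_lt.ne hc
  have hCxz : Subgroup.centralizer ({x} : Set G) ≤ Subgroup.centralizer ({z} : Set G) := by
    intro g hg
    rw [Subgroup.mem_centralizer_singleton_iff] at hg ⊢
    have h1 : Commute g x := hg
    exact (h1.pow_right c).eq
  have hzM : ¬ Subgroup.centralizer ({z} : Set G) ≤ M := fun h => hxM (hCxz.trans h)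
  obtain ⟨N', hN', hzN', hnc, hσσ, hnil, hNσM, hfact, -, hτ, huniq'⟩ :=
    core_uncond hG M hM z hzσ hz1 hzM
  obtain ⟨N'', hN'', hxN'', -, -, -, -, -, -, -, huniq''⟩ := core_uncond hG M hM x hx hx1 hxM
  have e1 : N' = N'' := huniq'' N' hN' (hCxz.trans hzN')
  have e2 : N = N'' := huniq'' N hN hxN
  have e : N' = N := e1.trans e2.symm
  subst e
  refine ⟨z, p, hp, hc, hzσ, hzM, hzN', hτ p hp (by rw [hc]), hnc, hσσ, hnil, hNσM, ?_, huniq'⟩
  refine ⟨inf_le_right, sigmaCore_le N', ?_, ?_⟩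
  · rw [eq_bot_iff, ← hNσM]
    exact le_inf inf_le_right (inf_le_left.trans inf_le_left)
  · intro n hn
    exact hfact n hn

/-- **(L1)**: `τ₂(N) ⊆ σ(M)`. -/
theorem tau2_subset_sigma [Finite G] (hG : IsMinSimpleOddOrder G)
    (M : Subgroup G) (hM : IsCoatom M) (x : G) (hx : x ∈ sigmaCore M) (hx1 : x ≠ 1)
    (hxM : ¬ Subgroup.centralizer ({x} : Set G) ≤ M)
    (N : Subgroup G) (hN : IsCoatom N) (hxN : Subgroup.centralizer ({x} : Set G) ≤ N) :
    ∀ r ∈ tau2 N, r ∈ sigma M := by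
  classical
  intro r hr
  by_contra hrσ
  obtain ⟨z, p, hp, hzo, hzσ, hzM, hzN, hpτ, -, -, -, hNσM, hE, -⟩ :=
    core_data hG M hM x hx hx1 hxM N hN hxN
  have hrp : r.Prime := hr.1
  have : Fact r.Prime := ⟨hrp⟩
  have : Fact p.Prime := ⟨hp⟩
  have hU := Cfsg.Agent.Lib.Helper21.uniquenessThm_of hG
  have hz1 : z ≠ 1 := by
    intro h
    rw [h, orderOf_one] at hzo
    exact hp.one_lt.ne hzo
  have h1350 := (Cfsg.Agent.S1350.result hG N hN).1
  set E : Subgroup G := M ⊓ N with hEdef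
  have hzE : z ∈ E :=
    ⟨sigmaCore_le M hzσ, hzN (Subgroup.mem_centralizer_singleton_iff.mpr rfl)⟩
  -- elementary abelian subgroups of `E` of orders `r ^ 2`, `p ^ 2`
  have hA : ∀ (q : ℕ) [Fact q.Prime], q ∈ tau2 N →
      ∃ A : Subgroup G, A ≤ E ∧ IsElementaryAbelian q A ∧ Nat.card A = q ^ 2 := by
    intro q _ hq
    have h1 : ¬ PRankLE q 1 ↥E :=
      Cfsg.Agent.Lib.Helper97.BGTwelve.not_pRankLE_complement hE h1350.2.1 hq.2.1 hq.2.2.2
    exact Cfsg.Agent.Lib.Helper97.BGTwelve.exists_elemAb_sq_of_not_pRankLE_one E h1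
  obtain ⟨A, hAE, hAe, hAc⟩ := hA p hpτ
  obtain ⟨B, hBE, hBe, hBc⟩ := hA r hr
  have h18A := (Cfsg.Agent.S1418.result hG N hN E hE p hpτ A ⟨hAE, hAe, hAc⟩).1
  have h18B := (Cfsg.Agent.S1418.result hG N hN E hE r hr B ⟨hBE, hBe, hBc⟩).1
  -- `z ∈ A`
  have hzA : z ∈ A := by
    have hX : Subgroup.zpowers z ≤ A := h18A.2 (Subgroup.zpowers z)
      (Subgroup.zpowers_le.mpr hzE) (by rw [Nat.card_zpowers, hzo])
    exact hX (Subgroup.mem_zpowers z)
  -- `z` centralizes `B`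
  have hzB : ∀ b ∈ B, b * z = z * b := by
    intro b hb
    by_cases hrp' : r = p
    · subst hrp'
      -- `B ≤ A`
      have hbA : b ∈ A := by
        by_cases hb1 : b = 1
        · rw [hb1]; exact A.one_mem
        · have hX : Subgroup.zpowers b ≤ A := h18A.2 (Subgroup.zpowers b)
            (Subgroup.zpowers_le.mpr (hBE hb)) (by
              rw [Nat.card_zpowers]
              exact orderOf_eq_prime (hBe.2 b hb) hb1)
          exact hX (Subgroup.mem_zpowers b)
      exact Cfsg.Agent.Lib.Helper45.IsElementaryAbelian_comm hAe hbA hzA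
    · -- `[A, B] ≤ A ∩ B = 1`
      have hcop : (Nat.card A).Coprime (Nat.card B) := by
        rw [hAc, hBc]
        apply Nat.Coprime.pow
        exact (Nat.coprime_primes hp hrp).mpr (fun h => hrp' h.symm)
      have hdisj : A ⊓ B = ⊥ := (Subgroup.disjoint_of_coprime_natCard hcop).eq_bot
      have hbNA := Subgroup.mem_normalizer_iff.mp (h18A.1 (hBE hb))
      have hzNB := Subgroup.mem_normalizer_iff.mp (h18B.1 hzE)
      have h1 : b * z * b⁻¹ * z⁻¹ ∈ A := A.mul_mem ((hbNA z).mp hzA) (A.inv_mem hzA)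
      have h2 : b * z * b⁻¹ * z⁻¹ ∈ B := by
        have h3 : z * b⁻¹ * z⁻¹ ∈ B := (hzNB b⁻¹).mp (B.inv_mem hb)
        have h4 : b * z * b⁻¹ * z⁻¹ = b * (z * b⁻¹ * z⁻¹) := by group
        rw [h4]
        exact B.mul_mem hb h3
      have h5 : b * z * b⁻¹ * z⁻¹ ∈ A ⊓ B := ⟨h1, h2⟩
      rw [hdisj, Subgroup.mem_bot] at h5
      calc b * z = (b * z * b⁻¹ * z⁻¹) * (z * b) := by group
        _ = z * b := by rw [h5, one_mul]
  -- `C_G(b) ≤ M` for all `b ∈ B#`
  have hCb : ∀ b ∈ B, b ≠ 1 → Subgroup.centralizer ({b} : Set G) ≤ M := by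
    intro b hb hb1
    have hbo : orderOf b = r := orderOf_eq_prime (hBe.2 b hb) hb1
    have hbM : b ∈ M ⊓ Subgroup.centralizer ({z} : Set G) :=
      ⟨(hBE hb).1, Subgroup.mem_centralizer_singleton_iff.mpr (hzB b hb)⟩
    rcases Cfsg.Agent.S1432.result hG M hM z hzσ hz1 b hbM hb1 (by
      intro q hq hqd
      rw [hbo] at hqd
      rwa [(Nat.prime_dvd_prime_iff_eq hq hrp).mp hqd]) with ⟨-, h2⟩ | ⟨-, -, h2, -⟩
    · exact absurd h2 hzM
    · exact h2
  -- some `b ∈ B#` has `C_{N_σ}(b) ≠ 1`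
  have hσ1 := Cfsg.Agent.Lib.Helper55.BGEleven.sigmaCore_ne_bot hG hU N hN
  have hBcomm : ∀ a ∈ B, ∀ b ∈ B, a * b = b * a :=
    fun a ha b hb => Cfsg.Agent.Lib.Helper45.IsElementaryAbelian_comm hBe ha hb
  have hrR : ¬ r ∣ Nat.card (sigmaCore N) := fun h => hr.2.1 (sigmaCore_isPi N r hrp h)
  obtain ⟨B₀, hB₀B, hB₀card, hB₀C⟩ := exists_hyperplane_centralizer B (sigmaCore N) ⊥ hBcomm hBe.2
    hrR ((hBE.trans inf_le_right).trans (le_normalizer_sigmaCore N)) (by rwa [le_bot_iff])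
  have hB₀1 : B₀ ≠ ⊥ := by
    intro h
    rw [h, Subgroup.card_bot, mul_one, hBc] at hB₀card
    have : r < r ^ 2 := by
      calc r = r ^ 1 := (pow_one r).symm
        _ < r ^ 2 := Nat.pow_lt_pow_right hrp.one_lt (by norm_num)
    omega
  obtain ⟨⟨b, hb⟩, hb1⟩ := (Subgroup.ne_bot_iff_exists_ne_one).mp hB₀1
  have hb1' : b ≠ 1 := fun h => hb1 (Subtype.ext h)
  apply hB₀C
  rw [← hNσM]
  refine le_inf inf_le_left ?_
  intro w hw
  apply hCb b (hB₀B hb) hb1'
  rw [Subgroup.mem_centralizer_singleton_iff]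
  exact (Subgroup.mem_centralizer_iff.mp hw.2 b hb).symm

/-! ### (L2) -/

/-- Two elements of subgroups that normalize each other and meet trivially commute. -/
theorem commute_of_inf_eq_bot_of_normalizer {A B : Subgroup G} (hAB : A ⊓ B = ⊥)
    (hA : A ≤ Subgroup.normalizer (B : Set G)) (hB : B ≤ Subgroup.normalizer (A : Set G))
    {a b : G} (ha : a ∈ A) (hb : b ∈ B) : a * b = b * a := by
  have h1 : a * b * a⁻¹ * b⁻¹ ∈ A ⊓ B := by
    refine ⟨?_, ?_⟩
    · have h2 : b * a⁻¹ * b⁻¹ ∈ A := (Subgroup.mem_normalizer_iff.mp (hB hb) a⁻¹).mp (A.inv_mem ha)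
      have h3 : a * b * a⁻¹ * b⁻¹ = a * (b * a⁻¹ * b⁻¹) := by group
      rw [h3]
      exact A.mul_mem ha h2
    · have h2 : a * b * a⁻¹ ∈ B := (Subgroup.mem_normalizer_iff.mp (hA ha) b).mp hb
      exact B.mul_mem h2 (B.inv_mem hb)
  rw [hAB, Subgroup.mem_bot] at h1
  calc a * b = a * b * a⁻¹ * b⁻¹ * (b * a) := by group
    _ = b * a := by rw [h1, one_mul]

/-- `O_{p'}(X)`, as a subgroup of `G`, contains every subgroup of `X` whose order is prime to its index. -/
theorem le_map_pPrimeCore [Finite G] (p : ℕ) {X Y : Subgroup G} (hYX : Y ≤ X)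
    (h : (Nat.card Y).Coprime (pPrimeCore p ↥X).index) :
    Y ≤ (pPrimeCore p ↥X).map X.subtype := by
  have hc : Nat.card (Y.subgroupOf X) = Nat.card Y :=
    Nat.card_congr (Subgroup.subgroupOfEquivOfLe hYX).toEquiv
  have h1 : Y.subgroupOf X ≤ pPrimeCore p ↥X :=
    le_of_normal_of_coprime_index _ (by rw [hc]; exact h)
  intro y hy
  exact ⟨⟨y, hYX hy⟩, h1 (Subgroup.mem_subgroupOf.mpr hy), rfl⟩

theorem card_map_pPrimeCore_coprime [Finite G] (p : ℕ) (X : Subgroup G) :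
    (Nat.card ((pPrimeCore p ↥X).map X.subtype : Subgroup G)).Coprime p := by
  rw [Subgroup.card_map_of_injective X.subtype_injective]
  exact card_pPrimeCore_coprime p

/-- A `p`-subgroup meets `O_{p'}(X)` trivially. -/
theorem inf_map_pPrimeCore_eq_bot [Finite G] {p : ℕ} [Fact p.Prime] (X : Subgroup G) {T : Subgroup G}
    (hT : IsPGroup p T) : T ⊓ (pPrimeCore p ↥X).map X.subtype = ⊥ := by
  apply Disjoint.eq_bot
  apply Subgroup.disjoint_of_coprime_natCard
  obtain ⟨n, hn⟩ := IsPGroup.iff_card.mp hT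
  rw [hn]
  exact Nat.Coprime.pow_left n (card_map_pPrimeCore_coprime p X).symm

/-- **(L2)**: a prime `q ∈ σ(N)` dividing `|M|` lies in `β(N)`. -/
theorem mem_beta_of_mem_sigma_of_dvd [Finite G] (hG : IsMinSimpleOddOrder G)
    (M : Subgroup G) (hM : IsCoatom M) (x : G) (hx : x ∈ sigmaCore M) (hx1 : x ≠ 1)
    (hxM : ¬ Subgroup.centralizer ({x} : Set G) ≤ M)
    (N : Subgroup G) (hN : IsCoatom N) (hxN : Subgroup.centralizer ({x} : Set G) ≤ N) :
    ∀ q ∈ sigma N, q ∣ Nat.card M → q ∈ beta N := by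
  classical
  intro q hqN hqM
  by_contra hqβ
  obtain ⟨z, p, hp, hzo, hzσ, hzM, hzN, hpτ, -, hσσ, hnil, hNσM, hE, -⟩ :=
    core_data hG M hM x hx hx1 hxM N hN hxN
  have hq : q.Prime := hqN.1
  have : Fact q.Prime := ⟨hq⟩
  have : Fact p.Prime := ⟨hp⟩
  have hU := Cfsg.Agent.Lib.Helper21.uniquenessThm_of hG
  have hz1 : z ≠ 1 := by
    intro h
    rw [h, orderOf_one] at hzo
    exact hp.one_lt.ne hzo
  have h1350N := (Cfsg.Agent.S1350.result hG N hN).1
  have h1350M := (Cfsg.Agent.S1350.result hG M hM).1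
  set E : Subgroup G := M ⊓ N with hEdef
  have hzMm : z ∈ M := sigmaCore_le M hzσ
  have hzNn : z ∈ N := hzN (Subgroup.mem_centralizer_singleton_iff.mpr rfl)
  have hpσM : p ∈ sigma M := by
    apply sigmaCore_isPi M p hp
    have := orderOf_dvd_natCard (⟨z, hzσ⟩ : sigmaCore M)
    rwa [Subgroup.orderOf_mk, hzo] at this
  have hpq : p ≠ q := fun h => hpτ.2.1 (h ▸ hqN)
  have hqσM : q ∉ sigma M := fun h => hσσ q h hqN
  -- STEP A: `p < q`
  have hlt : p < q := by
    have h1 : ¬ PRankLE p 1 ↥E :=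
      Cfsg.Agent.Lib.Helper97.BGTwelve.not_pRankLE_complement hE h1350N.2.1 hpτ.2.1 hpτ.2.2.2
    obtain ⟨A, hAE, hAe, hAc⟩ :=
      Cfsg.Agent.Lib.Helper97.BGTwelve.exists_elemAb_sq_of_not_pRankLE_one E h1
    have hAN : A ≤ N := hAE.trans inf_le_right
    have h17 := (Cfsg.Agent.S1417.result hG N hN p hpτ A ⟨hAN, hAe, hAc⟩).2.2.2.1
    have h14 := (Cfsg.Agent.S1414.result hG N hN).2.2.2.2 q hq hqN.2.1 hqβ
    have hdvd : p ∣ (pPrimeCore q ↥N).index := by
      by_contra hnd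
      have hcop : (Nat.card A).Coprime (pPrimeCore q ↥N).index := by
        rw [hAc]
        exact Nat.Coprime.pow_left 2 ((Nat.Prime.coprime_iff_not_dvd hp).mpr hnd)
      have hAO := le_map_pPrimeCore q hAN hcop
      -- the Sylow `q`-subgroup of `N_σ`
      obtain S : Sylow q ↥(sigmaCore N) := default
      set T : Subgroup G := (S : Subgroup (sigmaCore N)).map (sigmaCore N).subtype with hT
      have hTN : N ≤ Subgroup.normalizer (T : Set G) :=
        le_normalizer_sylow_of_nilpotent (sigmaCore N) N hnil (le_normalizer_sigmaCore N) S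
      have hTσ : T ≤ sigmaCore N := Subgroup.map_subtype_le _
      have hTq : IsPGroup q T := S.isPGroup'.map _
      have hT1 : T ≠ ⊥ := by
        intro h
        have hqσ : q ∣ Nat.card (sigmaCore N) := by
          have h3 := card_mul_relIndex h1350N.1
          have h4 : q ∣ Nat.card (sigmaCore N) * (sigmaCore N).relIndex N := by
            rw [h3]; exact hqN.2.1
          rcases (Nat.Prime.dvd_mul hq).mp h4 with h5 | h5
          · exact h5
          · exact absurd h5 (h1350N.2.2 q hq hqN)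
        have hS1 : (S : Subgroup (sigmaCore N)) = ⊥ := by
          have : Nat.card T = Nat.card (S : Subgroup (sigmaCore N)) :=
            Subgroup.card_map_of_injective (sigmaCore N).subtype_injective
          rw [h, Subgroup.card_bot] at this
          exact Subgroup.card_eq_one.mp this.symm
        have hSc := S.card_eq_multiplicity
        rw [hS1, Subgroup.card_bot] at hSc
        have hpos : 0 < (Nat.card (sigmaCore N)).factorization q :=
          (hq.factorization_pos_of_dvd Nat.card_pos.ne' hqσ)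
        have : 1 < q ^ (Nat.card (sigmaCore N)).factorization q :=
          Nat.one_lt_pow hpos.ne' hq.one_lt
        omega
      set O : Subgroup G := (pPrimeCore q ↥N).map N.subtype with hO
      have hON : N ≤ Subgroup.normalizer (O : Set G) := le_normalizer_map_subtype N _
      have hOleN : O ≤ N := Subgroup.map_subtype_le _
      have hdisj : O ⊓ T = ⊥ := by
        rw [inf_comm]; exact inf_map_pPrimeCore_eq_bot N hTq
      have hTC : T ≤ Subgroup.centralizer (A : Set G) := by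
        intro t ht
        rw [Subgroup.mem_centralizer_iff]
        intro a ha
        exact commute_of_inf_eq_bot_of_normalizer hdisj (hOleN.trans hTN)
          ((hTσ.trans (sigmaCore_le N)).trans hON) (hAO ha) ht
      apply hT1
      rw [eq_bot_iff, ← h17]
      exact le_inf hTσ hTC
    have hle : p ≤ q := h14.2.2 p hp hdvd
    omega
  -- STEP B
  have hpβ : p ∉ beta M := by
    intro hpβ
    obtain P : Sylow p ↥(sigmaCore M) := default
    have h23 := (Cfsg.Agent.S1423.result hG M hM p hpσM (Subgroup.zpowers z)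
      (Subgroup.zpowers_le.mpr hzMm) (by rw [Nat.card_zpowers, hzo]) P (Or.inl hpβ)).1.1
    rw [centralizer_zpowers_eq] at h23
    exact hzM h23
  have h14M := (Cfsg.Agent.S1414.result hG M hM).2.2.2.2 p hp hpσM.2.1 hpβ
  have hqnd : ¬ q ∣ (pPrimeCore p ↥M).index := by
    intro h
    have := h14M.2.2 q hq h
    omega
  -- a subgroup `Y ≤ M` of order `q`
  obtain ⟨y, hy⟩ := exists_prime_orderOf_dvd_card' (G := M) q hqM
  set Y : Subgroup G := Subgroup.zpowers (y : G) with hY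
  have hyo : orderOf (y : G) = q := by rw [← hy]; exact Subgroup.orderOf_coe y
  have hYc : Nat.card Y = q := by rw [hY, Nat.card_zpowers, hyo]
  have hYM : Y ≤ M := Subgroup.zpowers_le.mpr y.2
  set O : Subgroup G := (pPrimeCore p ↥M).map M.subtype with hO
  have hYO : Y ≤ O := le_map_pPrimeCore p hYM (by
    rw [hYc]; exact (Nat.Prime.coprime_iff_not_dvd hq).mpr hqnd)
  have hOM : M ≤ Subgroup.normalizer (O : Set G) := le_normalizer_map_subtype M _
  -- a `Y`-invariant Sylow `p`-subgroup of `M_σ`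
  have hcopY : (Nat.card Y).Coprime (Nat.card (sigmaCore M)) := by
    rw [hYc]
    exact (Nat.Prime.coprime_iff_not_dvd hq).mpr (fun h => hqσM (sigmaCore_isPi M q hq h))
  have hMsolv : Group.IsSolvable M := hG.2.2.2 M hM.1
  have hσsolv : Group.IsSolvable (sigmaCore M) :=
    Group.isSolvable_of_isSolvable_injective
      (Subgroup.inclusion_injective (sigmaCore_le M))
  obtain ⟨P₁, hP₁⟩ := exists_invariant_sylow Y (sigmaCore M)
    (hYM.trans (le_normalizer_sigmaCore M)) hcopY (Or.inr hσsolv) p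
  set T₁ : Subgroup G := (P₁ : Subgroup (sigmaCore M)).map (sigmaCore M).subtype with hT₁
  have hT₁σ : T₁ ≤ sigmaCore M := Subgroup.map_subtype_le _
  have hT₁p : IsPGroup p T₁ := P₁.isPGroup'.map _
  have hdisj : Y ⊓ T₁ = ⊥ := by
    rw [eq_bot_iff]
    calc Y ⊓ T₁ ≤ O ⊓ T₁ := inf_le_inf_right _ hYO
      _ = ⊥ := by rw [inf_comm]; exact inf_map_pPrimeCore_eq_bot M hT₁p
  -- `Y` centralizes `T₁`: `[Y, T₁] ≤ T₁ ∩ O`
  have hYT : ∀ y' ∈ Y, ∀ t ∈ T₁, y' * t = t * y' := by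
    intro y' hy' t ht
    have hdisj' : O ⊓ T₁ = ⊥ := by
      rw [inf_comm]; exact inf_map_pPrimeCore_eq_bot M hT₁p
    have h1 : y' * t * y'⁻¹ * t⁻¹ ∈ O ⊓ T₁ := by
      refine ⟨?_, ?_⟩
      · have htM : t ∈ M := sigmaCore_le M (hT₁σ ht)
        have h2 : t * y'⁻¹ * t⁻¹ ∈ O :=
          (Subgroup.mem_normalizer_iff.mp (hOM htM) y'⁻¹).mp (O.inv_mem (hYO hy'))
        have h3 : y' * t * y'⁻¹ * t⁻¹ = y' * (t * y'⁻¹ * t⁻¹) := by group
        rw [h3]
        exact O.mul_mem (hYO hy') h2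
      · have h2 : y' * t * y'⁻¹ ∈ T₁ := (Subgroup.mem_normalizer_iff.mp (hP₁ hy') t).mp ht
        exact T₁.mul_mem h2 (T₁.inv_mem ht)
    rw [hdisj', Subgroup.mem_bot] at h1
    calc y' * t = y' * t * y'⁻¹ * t⁻¹ * (t * y') := by group
      _ = t * y' := by rw [h1, one_mul]
  -- `z` lies in a conjugate of `T₁`
  have hZp : IsPGroup p (Subgroup.zpowers z) := by
    apply IsPGroup.of_card (n := 1)
    rw [Nat.card_zpowers, hzo, pow_one]
  obtain ⟨S, hS⟩ := exists_sylow_map_ge (Subgroup.zpowers_le.mpr hzσ) hZp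
  obtain ⟨m, hm⟩ := MulAction.exists_smul_eq (sigmaCore M) P₁ S
  have hzS : z ∈ (S : Subgroup (sigmaCore M)).map (sigmaCore M).subtype :=
    hS (Subgroup.mem_zpowers z)
  rw [← hm, Sylow.coe_subgroup_smul, map_conj_smul, mem_conj_smul_iff] at hzS
  -- `m y m⁻¹` centralizes `z`
  have hmM : (m : G) ∈ M := sigmaCore_le M m.2
  have hcent : (m : G) * y * (m : G)⁻¹ ∈ Subgroup.centralizer ({z} : Set G) := by
    rw [Subgroup.mem_centralizer_singleton_iff]
    have h1 := hYT (y : G) (Subgroup.mem_zpowers _) _ hzS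
    calc (m : G) * y * (m : G)⁻¹ * z
        = (m : G) * ((y : G) * ((m : G)⁻¹ * z * m)) * (m : G)⁻¹ := by group
      _ = (m : G) * (((m : G)⁻¹ * z * m) * (y : G)) * (m : G)⁻¹ := by rw [h1]
      _ = z * ((m : G) * y * (m : G)⁻¹) := by group
  set y₂ : G := (m : G) * y * (m : G)⁻¹ with hy₂
  have hy₂N : y₂ ∈ N := hzN hcent
  have hy₂M : y₂ ∈ M := M.mul_mem (M.mul_mem hmM y.2) (M.inv_mem hmM)
  have hy₂o : orderOf y₂ = q := by
    have h := orderOf_conj_inv_mul (m : G)⁻¹ (y : G)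
    rw [inv_inv] at h
    rw [hy₂, h, hyo]
  have hY₂σ : Subgroup.zpowers y₂ ≤ sigmaCore N := by
    apply le_sigmaCore_of_isPi hG hU N hN (Subgroup.zpowers_le.mpr hy₂N)
    intro r hr hrd
    rw [Nat.card_zpowers, hy₂o] at hrd
    rw [(Nat.prime_dvd_prime_iff_eq hr hq).mp hrd]
    exact hqN
  have hy₂bot : y₂ ∈ sigmaCore N ⊓ M := ⟨hY₂σ (Subgroup.mem_zpowers y₂), hy₂M⟩
  rw [hNσM, Subgroup.mem_bot] at hy₂bot
  rw [hy₂bot, orderOf_one] at hy₂o
  exact hq.one_lt.ne hy₂o

end Cfsg.Agent.Lib.Helper54
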