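import Mathlib
import Cfsg.Prelude.Def_OddOrderLocal
import Cfsg.Agent.Lib.Helper54.BGFifteenL
import Cfsg.Agent.Lib.Helper54.BGFourteenSixC
import Cfsg.Agent.Lib.Helper22.BGFifteenNineDefs
import Cfsg.Agent.Lib.Helper34.TildeEquiv
import Cfsg.Agent.Lib.Helper62.PiHall
import Cfsg.Agent.Lib.Helper23.BGFifteenB
import Cfsg.Agent.Lib.Helper50.SigmaDecomp
import Cfsg.Agent.Lib.Helper96.SigmaHall
import Cfsg.Agent.S1408
import Cfsg.Agent.S1351
import Cfsg.Agent.S1352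
import Cfsg.Agent.S1354
import Cfsg.Agent.S1417
import Cfsg.Agent.S1418
import Cfsg.Agent.S1423
import Cfsg.Agent.S1432

/-!
# Bender–Glauberman 14.10/14.11, module [A0] (helper54, for helper22's S1436(a))

Setting of B&G 14.4: `M`, `N` maximal, `x ∈ M_σ#`, `C_G(x) ⊄ M`, `C_G(x) ≤ N`.  If `κ(N) = ∅` and some
prime of `σ(N)` divides `|M|`, then `κ(M) = ∅` and `τ₂(M) = ∅`.

* `exists_conj_over_centralizer`: for a subgroup `Y ≤ G` of order `q ∈ σ(N) ∩ π(M)` there is a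
  conjugate `L` of `N` with `Y ≤ L_σ`, and `L` is the only maximal subgroup containing `C_G(Y)`.
* `kappa_tau2_empty_of_kappa_empty`: the module [A0].
-/

set_option autoImplicit false

namespace Cfsg.Agent.Lib.Helper54

open Cfsg
open Cfsg.Agent.Lib.Helper22.BGFifteenNine (Stmt1366 Stmt1367)
open scoped Pointwise

universe u

variable {G : Type u} [Group G] [Finite G]

omit [Finite G] in
theorem pRankLE_map_equiv_iff {p k : ℕ} (φ : G ≃* G) (M : Subgroup G) :
    PRankLE p k ↥(M.map φ.toMonoidHom) ↔ PRankLE p k ↥M :=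
  ⟨fun h => pRankLE_of_mulEquiv (Cfsg.Agent.Lib.Helper34.TildeEquiv.mapEquiv φ M) h,
    fun h => pRankLE_of_mulEquiv (Cfsg.Agent.Lib.Helper34.TildeEquiv.mapEquiv φ M).symm h⟩

/-- A Hall `σ(M)'`-subgroup of `M` is a complement of `M_σ`. -/
theorem isComplIn_of_hall_sigma_compl {M E : Subgroup G}
    (hHall : IsPiHallOf (sigma M) (sigmaCore M) M)
    (hE : IsPiHallOf {r | r.Prime ∧ r ∉ sigma M} E M) : IsComplIn E (sigmaCore M) M := by
  have hcop : (Nat.card E).Coprime (Nat.card (sigmaCore M)) := by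
    apply Cfsg.Agent.Lib.Helper23.coprime_card_of_forall_prime
    intro r hr h1 h2
    exact (hE.2.1 r hr h1).2 (hHall.2.1 r hr h2)
  apply isComplIn_of_card_mul hE.1 hHall.1 hcop
  have h1 := card_mul_relIndex hE.1
  have h2 := card_mul_relIndex hHall.1
  have h3 : Nat.card (sigmaCore M) = E.relIndex M := by
    apply Cfsg.Agent.Lib.Helper62.pi_part_unique (π := sigma M)
      (n := (sigmaCore M).relIndex M) (n' := Nat.card E)
    · rw [h2, mul_comm, h1]
    · exact hHall.2.1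
    · exact hHall.2.2
    · intro r hr hrd
      by_contra hrσ
      exact hE.2.2 r hr ⟨hr, hrσ⟩ hrd
    · intro r hr hrσ hrd
      exact (hE.2.1 r hr hrd).2 hrσ
  rw [h3, h1]

/-- For `Y` of order `q ∈ σ(N)`, `q ∣ |M|`: a conjugate `L` of `N` with `Y ≤ L_σ`, which is the only
maximal subgroup containing `C_G(Y)`. -/
theorem exists_conj_over_centralizer (hG : IsMinSimpleOddOrder G) (M N : Subgroup G)
    (hM : IsCoatom M) (hN : IsCoatom N) (x : G) (hx : x ∈ sigmaCore M) (hx1 : x ≠ 1)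
    (hxM : ¬ Subgroup.centralizer ({x} : Set G) ≤ M)
    (hxN : Subgroup.centralizer ({x} : Set G) ≤ N) {q : ℕ}
    (hq : q ∈ sigma N) (hqM : q ∣ Nat.card M) (Y : Subgroup G) (hYq : Nat.card Y = q) :
    ∃ L : Subgroup G, IsCoatom L ∧ kappa L = kappa N ∧ sigma L = sigma N ∧ L ≠ M ∧
      Y ≤ sigmaCore L ∧ Subgroup.centralizer (Y : Set G) ≤ L ∧
      ∀ L' : Subgroup G, IsCoatom L' → Subgroup.centralizer (Y : Set G) ≤ L' → L' = L := by
  classical
  have hqp : q.Prime := hq.1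
  have : Fact q.Prime := ⟨hqp⟩
  have hU := Cfsg.Agent.Lib.Helper21.uniquenessThm_of hG
  have hqβ := mem_beta_of_mem_sigma_of_dvd hG M hM x hx hx1 hxM N hN hxN q hq hqM
  obtain ⟨z, p, hp, hzo, hzσ, hzM, hzN, hpτ, hconj, hσσ, hnil, hNσM, hE, -⟩ :=
    core_data hG M hM x hx hx1 hxM N hN hxN
  obtain ⟨S, hS⟩ := Cfsg.Agent.Lib.Helper96.SigmaHall.exists_sylow_le_of_mem_sigma N hq
  have hYp : IsPGroup q Y := IsPGroup.of_card (n := 1) (by rw [hYq, pow_one])
  obtain ⟨Q, hQ⟩ := hYp.exists_le_sylow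
  obtain ⟨g, hg⟩ := MulAction.exists_smul_eq G S Q
  set L : Subgroup G := N.map (MulAut.conj g).toMonoidHom with hLdef
  have hLsmul : L = MulAut.conj g • N := rfl
  have hYL : Y ≤ L := by
    refine hQ.trans ?_
    rw [← hg, Sylow.coe_subgroup_smul, hLsmul]
    exact conj_smul_le_conj_smul hS
  have hL : IsCoatom L := Cfsg.Agent.Lib.Helper34.TildeEquiv.isCoatom_map_conj hN g
  have hκL : kappa L = kappa N := Cfsg.Agent.Lib.Helper34.TildeEquiv.kappa_map (MulAut.conj g) N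
  have hσL : sigma L = sigma N := Cfsg.Agent.Lib.Helper34.TildeEquiv.sigma_map (MulAut.conj g) N
  have hML : L ≠ M := by
    intro h
    apply hconj g⁻¹
    rw [← h]
    exact (Cfsg.Agent.Lib.Helper34.map_conj_inv_map_conj N g).symm
  have hqσL : q ∈ sigma L := by rw [hσL]; exact hq
  have hYLσ : Y ≤ sigmaCore L := by
    apply le_sigmaCore_of_isPi hG hU L hL hYL
    intro r hr hrd
    rw [hYq] at hrd
    rwa [(Nat.prime_dvd_prime_iff_eq hr hqp).mp hrd]
  have hqβL : q ∈ beta L := by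
    refine ⟨⟨hqp, fun h => hqβ.1.2 ?_⟩, hqβ.2⟩
    exact (pRankLE_map_equiv_iff (MulAut.conj g) N).mp h
  obtain ⟨P⟩ : Nonempty (Sylow q ↥(sigmaCore L)) := inferInstance
  have h23 := (Cfsg.Agent.S1423.result hG L hL q hqσL Y hYL hYq P (Or.inl hqβL)).1
  exact ⟨L, hL, hκL, hσL, hML, hYLσ, h23.1, h23.2⟩

/-- **[A0]** (B&G 14.10(a)/14.11 when `κ(N) = ∅`). -/
theorem kappa_tau2_empty_of_kappa_empty (hG : IsMinSimpleOddOrder G) (h66 : Stmt1366 G)
    (h67 : Stmt1367 G) (M N : Subgroup G)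
    (hM : IsCoatom M) (hN : IsCoatom N) (x : G) (hx : x ∈ sigmaCore M) (hx1 : x ≠ 1)
    (hxM : ¬ Subgroup.centralizer ({x} : Set G) ≤ M)
    (hxN : Subgroup.centralizer ({x} : Set G) ≤ N) (hκN : kappa N = ∅) {q : ℕ}
    (hq : q ∈ sigma N) (hqM : q ∣ Nat.card M) : kappa M = ∅ ∧ tau2 M = ∅ := by
  classical
  have hqp : q.Prime := hq.1
  have : Fact q.Prime := ⟨hqp⟩
  have hU := Cfsg.Agent.Lib.Helper21.uniquenessThm_of hG
  have hU3 := uniqThree_of_uniquenessThm hU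
  have hMs : Group.IsSolvable M := hG.2.2.2 M hM.1
  have hHall := (sigmaCore_hall_of hG hU M hM).1
  have hqβ := mem_beta_of_mem_sigma_of_dvd hG M hM x hx hx1 hxM N hN hxN q hq hqM
  obtain ⟨z, p, hp, hzo, hzσ, hzM, hzN, hpτ, hconj, hσσ, hnil, hNσM, hE, -⟩ :=
    core_data hG M hM x hx hx1 hxM N hN hxN
  have hqσM : q ∉ sigma M := fun h => hσσ q h hq
  have hq2r : PRankLE q 2 M := by
    by_contra h
    exact hqσM (Cfsg.Agent.Lib.Helper50.alpha_subset_sigma hG hU3 M hM ⟨hqp, h⟩)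
  have hq1r : PRankLE q 1 M := by
    by_contra h
    exact (Cfsg.Agent.S1408.result hG M hM q hqσM hq2r h).1 hqβ.2
  have hq2 : q ≠ 2 := by
    rintro rfl
    have h1 : 2 ∣ Nat.card G := hqM.trans (Subgroup.card_subgroup_dvd_card M)
    exact (Nat.not_even_iff_odd.mpr hG.1) (even_iff_two_dvd.mpr h1)
  have hσ1 : sigmaCore M ≠ ⊥ := fun h => hx1 (by rw [h] at hx; exact Subgroup.mem_bot.mp hx)
  -- (i) κ(M) = ∅
  have hκM : kappa M = ∅ := by
    by_contra hκ
    obtain ⟨r, hr⟩ := Set.nonempty_iff_ne_empty.mpr hκ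
    by_cases hP1 : ∃ s : ℕ, s.Prime ∧ s ∣ Nat.card M ∧ s ∉ sigma M ∧ s ∉ kappa M
    · obtain ⟨s, hs, hsM, hsσ, hsκ⟩ := hP1
      obtain ⟨K, hK⟩ := Cfsg.Agent.Lib.Helper62.exists_isPiHallOf (kappa M) M hMs
      have hK1 : K ≠ ⊥ := by
        intro h
        have h1 := card_mul_relIndex hK.1
        rw [h, Subgroup.card_bot, one_mul] at h1
        apply hK.2.2 r hr.1 hr
        rw [h, h1]
        exact hr.2.1
      exact hxM (centralizer_le_of_not_P1 hG M hM K hK hK1 s hs hsM hsσ hsκ x hx hx1)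
    · push Not at hP1
      have hqκ : q ∈ kappa M := hP1 q hqp hqM hqσM
      obtain ⟨y, hy⟩ := exists_prime_orderOf_dvd_card' q hqM
      set Y : Subgroup G := Subgroup.zpowers (y : G) with hYdef
      have hYq : Nat.card Y = q := by
        rw [hYdef, Nat.card_zpowers, Subgroup.orderOf_coe, hy]
      have hYM : Y ≤ M := by
        rw [hYdef, Subgroup.zpowers_le]
        exact y.2
      have hY1 : Y ≠ ⊥ := by
        intro h
        rw [h, Subgroup.card_bot] at hYq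
        exact hqp.one_lt.ne hYq
      obtain ⟨L, hL, hκL, hσL, hML, hYLσ, hCYL, -⟩ :=
        exists_conj_over_centralizer hG M N hM hN x hx hx1 hxM hxN hq hqM Y hYq
      obtain ⟨K, hK, hYK⟩ := Cfsg.Agent.Lib.Helper62.isPiHallOf_dom (π := kappa M) hMs hYM (by
        intro r' hr' hrd
        rw [hYq] at hrd
        rwa [(Nat.prime_dvd_prime_iff_eq hr' hqp).mp hrd])
      have hK1 : K ≠ ⊥ := fun h => hY1 (le_bot_iff.mp (h ▸ hYK))
      have hKc : IsCyclic K := (Cfsg.Agent.S1351.result hG M hM).2 K hK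
      obtain ⟨U, hKU⟩ := (Cfsg.Agent.S1352.result hG M hM K hKc hK).1
      obtain ⟨Ms, ⟨hMs', hKst, hKstH⟩, -⟩ := h66 M hM K U hKU hK1
      have h2 := (h67 M hM K U hKU hK1 Ms hMs' hKst hKstH).2 Y hYK (by rw [hYq]; exact hqp)
      have hLMs : L = Ms := h2.2 L hL hCYL
      have hne := (Cfsg.Agent.S1354.result hG M hM K hKc hK).1
      have hcard : Nat.card ↥(sigmaCore M ⊓ Subgroup.centralizer (K : Set G)) ≠ 1 :=
        fun h => hne (Subgroup.card_eq_one.mp h)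
      obtain ⟨r', hr', hrd⟩ := Nat.exists_prime_and_dvd hcard
      have h3 := hKstH.2.1 r' hr' hrd
      rw [← hLMs, hκL, hκN] at h3
      exact h3
  refine ⟨hκM, ?_⟩
  -- (ii) τ₂(M) = ∅
  by_contra hτ
  obtain ⟨s, hsτ⟩ := Set.nonempty_iff_ne_empty.mpr hτ
  obtain ⟨hsp, hsσ, hs2, hs1⟩ := hsτ
  have hsτ : s ∈ tau2 M := ⟨hsp, hsσ, hs2, hs1⟩
  have : Fact s.Prime := ⟨hsp⟩
  obtain ⟨B, hBM, hBel, hBcard⟩ :=
    Cfsg.Agent.Lib.Helper97.BGTwelve.exists_elemAb_sq_of_not_pRankLE_one M hs1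
  have hsM : s ∣ Nat.card M := by
    have h1 : Nat.card B ∣ Nat.card M := Subgroup.card_dvd_of_le hBM
    rw [hBcard] at h1
    exact (dvd_pow_self s (by norm_num)).trans h1
  have hB1 : B ≠ ⊥ := by
    intro h
    rw [h, Subgroup.card_bot] at hBcard
    have := Nat.one_lt_pow (n := 2) (by norm_num) hsp.one_lt
    omega
  -- a complement `E ⊇ B` of `M_σ`
  obtain ⟨E, hEH, hBE⟩ := Cfsg.Agent.Lib.Helper62.isPiHallOf_dom
    (π := {r | r.Prime ∧ r ∉ sigma M}) hMs hBM (by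
      intro r hr hrd
      rw [hBcard] at hrd
      have h1 : r = s := (Nat.prime_dvd_prime_iff_eq hr hsp).mp (hr.dvd_of_dvd_pow hrd)
      exact ⟨hr, h1 ▸ hsσ⟩)
  have hE' : IsComplIn E (sigmaCore M) M := isComplIn_of_hall_sigma_compl hHall hEH
  have hqσcard : ¬ q ∣ Nat.card (sigmaCore M) := fun h => hqσM (hHall.2.1 q hqp h)
  have hqE : q ∣ Nat.card E := by
    by_contra h
    exact hEH.2.2 q hqp ⟨hqp, hqσM⟩ (by
      have h1 := card_mul_relIndex hEH.1
      rw [← h1] at hqM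
      exact (hqp.dvd_mul.mp hqM).resolve_left h)
  obtain ⟨y, hy⟩ := exists_prime_orderOf_dvd_card' q hqE
  set Y : Subgroup G := Subgroup.zpowers (y : G) with hYdef
  have hyo : orderOf (y : G) = q := by rw [Subgroup.orderOf_coe, hy]
  have hYq : Nat.card Y = q := by
    rw [hYdef, Nat.card_zpowers, hyo]
  have hYE : Y ≤ E := by
    rw [hYdef, Subgroup.zpowers_le]
    exact y.2
  have hYM : Y ≤ M := hYE.trans hEH.1
  have hyY : (y : G) ∈ Y := Subgroup.mem_zpowers _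
  have hy1 : (y : G) ≠ 1 := by
    intro h
    rw [h, orderOf_one] at hyo
    exact hqp.one_lt.ne hyo
  have hY1 : Y ≠ ⊥ := fun h => hy1 (by rw [h] at hyY; exact Subgroup.mem_bot.mp hyY)
  obtain ⟨L, hL, hκL, hσL, hML, hYLσ, hCYL, -⟩ :=
    exists_conj_over_centralizer hG M N hM hN x hx hx1 hxM hxN hq hqM Y hYq
  have h18 := Cfsg.Agent.S1418.result hG M hM E hE' s hsτ B ⟨hBE, hBel, hBcard⟩
  have h17 := Cfsg.Agent.S1417.result hG M hM s hsτ B ⟨hBM, hBel, hBcard⟩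
  have hYB : Y ≤ Subgroup.normalizer (B : Set G) := hYE.trans h18.1.1
  have hCB : sigmaCore M ⊓ Subgroup.centralizer (B : Set G) = ⊥ := h17.2.2.2.1
  -- `C_{M_σ}(Y) = 1`
  have hCY : sigmaCore M ⊓ Subgroup.centralizer (Y : Set G) = ⊥ := by
    rw [eq_bot_iff]
    intro w hw
    rw [Subgroup.mem_bot]
    obtain ⟨hwσ, hwc⟩ := Subgroup.mem_inf.mp hw
    have hcomm : (y : G) * w = w * (y : G) := Subgroup.mem_centralizer_iff.mp hwc (y : G) hyY
    have hyp : IsPGroup q (Subgroup.zpowers (y : G)) :=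
      IsPGroup.of_card (n := 1) (by rw [pow_one]; exact hYq)
    exact Cfsg.Agent.Lib.Helper50.eq_one_of_commute_of_not_mem_kappa (p := q) hq2 hqM hqσM
      (by rw [hκM]; exact Set.notMem_empty q) hq1r (hYM hyY) hy1 hyp hwσ hcomm
  -- `C_B(Y) ≠ 1` by the Frobenius–Wielandt formula
  have hBY : B ⊓ Subgroup.centralizer (Y : Set G) ≠ ⊥ := by
    intro hBY
    have hreg : ∀ k ∈ Y, k ≠ 1 → B ⊓ Subgroup.centralizer ({k} : Set G) = ⊥ := by
      intro k hk hk1
      rw [centralizer_singleton_eq_of_card_prime (by rw [hYq]; exact hqp) hk hk1]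
      exact hBY
    have hσsolv : Group.IsSolvable ↥(sigmaCore M) :=
      Group.isSolvable_of_isSolvable_injective (Subgroup.inclusion_injective (sigmaCore_le M))
    have hcB : (Nat.card (sigmaCore M)).Coprime (Nat.card B) := by
      apply Cfsg.Agent.Lib.Helper23.coprime_card_of_forall_prime
      intro r hr h1 h2
      rw [hBcard] at h2
      have h3 : r = s := (Nat.prime_dvd_prime_iff_eq hr hsp).mp (hr.dvd_of_dvd_pow h2)
      exact hsσ (h3 ▸ hHall.2.1 r hr h1)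
    have hcY : (Nat.card (sigmaCore M)).Coprime (Nat.card Y) := by
      rw [hYq]
      exact (Nat.Coprime.symm ((Nat.Prime.coprime_iff_not_dvd hqp).mpr hqσcard))
    have h := Cfsg.Agent.Lib.Helper23.card_eq_pow_of_frobenius_action (sigmaCore M) B Y hB1 hY1
      hYB hreg (hBM.trans (le_normalizer_sigmaCore M)) (hYM.trans (le_normalizer_sigmaCore M))
      hσsolv hcB hcY hCB
    rw [hCY, Subgroup.card_bot, one_pow] at h
    exact hσ1 (Subgroup.card_eq_one.mp h)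
  obtain ⟨⟨b1, hb1⟩, hb11⟩ := (Subgroup.ne_bot_iff_exists_ne_one).mp hBY
  have hb11' : b1 ≠ 1 := fun h => hb11 (Subtype.ext h)
  obtain ⟨hb1B, hb1C⟩ := Subgroup.mem_inf.mp hb1
  have hb1o : orderOf b1 = s := orderOf_eq_prime (hBel.2 b1 hb1B) hb11'
  -- `s ∉ σ(L)`
  have hsσL : s ∉ sigma L := by
    rw [hσL]
    intro hsN
    have h1 := mem_beta_of_mem_sigma_of_dvd hG M hM x hx hx1 hxM N hN hxN s hsN hsM
    exact (Cfsg.Agent.S1408.result hG M hM s hsσ hs2 hs1).1 h1.2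
  have hb1y : b1 ∈ Subgroup.centralizer ({(y : G)} : Set G) := by
    rw [Subgroup.mem_centralizer_singleton_iff]
    exact (Subgroup.mem_centralizer_iff.mp hb1C (y : G) hyY).symm
  have h32 := Cfsg.Agent.S1432.result hG L hL (y : G) (hYLσ hyY) hy1 b1
    ⟨hCYL hb1C, hb1y⟩ hb11' (by
      intro r hr hrd
      rw [hb1o] at hrd
      rw [(Nat.prime_dvd_prime_iff_eq hr hsp).mp hrd]
      exact hsσL)
  rcases h32 with ⟨hk, -⟩ | ⟨hτL, -, hCb1, -⟩
  · have h1 := hk s hsp (by rw [hb1o])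
    rw [hκL, hκN] at h1
    exact h1
  · have hsτL : s ∈ tau2 L := hτL s hsp (by rw [hb1o])
    have hBL : B ≤ L := by
      intro b hb
      apply hCb1
      rw [Subgroup.mem_centralizer_singleton_iff]
      exact congrArg Subtype.val (hBel.1.is_comm.comm ⟨b, hb⟩ ⟨b1, hb1B⟩)
    have h17L := Cfsg.Agent.S1417.result hG L hL s hsτL B ⟨hBL, hBel, hBcard⟩
    have h5 := h17L.2.2.2.2.1 M hM hML.symm hBM
    have h6 : (y : G) ∈ sigmaCore L ⊓ M := ⟨hYLσ hyY, hYM hyY⟩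
    rw [h5] at h6
    exact hy1 (Subgroup.mem_bot.mp h6)

end Cfsg.Agent.Lib.Helper54
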