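import Mathlib
import Cfsg.Prelude
import Cfsg.Agent.Lib.Helper34.TildeEquiv
import Cfsg.Agent.Lib.Helper29.Iso

/-!
# Transport of type-P data along an automorphism

`IsTypePWith.map`: for `φ : G ≃* G`, type-P data `(W₁, U, W₂)` of `M` are carried to type-P data
`(φ W₁, φ U, φ W₂)` of `φ M`.  In particular (`φ = MulAut.conj m`, `m ∈ M`) type-P data of `M` may
be conjugated inside `M`.  Also `IsComplIn.map`, `IsSelfNormalizingCyclic.map`, `fittingOf_map`.
-/

set_option autoImplicit false

namespace Cfsg.Agent.Lib.Helper54.TypePTransport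

open Cfsg
open Cfsg.Agent.Lib.Helper34.TildeEquiv

variable {G : Type*} [Group G]

theorem fittingOf_map (φ : G ≃* G) (M : Subgroup G) :
    fittingOf (M.map φ.toMonoidHom) = (fittingOf M).map φ.toMonoidHom := by
  unfold fittingOf
  rw [← Cfsg.Agent.Lib.Helper29.fittingSubgroup_map_mulEquiv (mapEquiv φ M),
    map_mapEquiv_map_subtype]

theorem centralizer_map (φ : G ≃* G) (H : Subgroup G) :
    Subgroup.centralizer ((H.map φ.toMonoidHom : Subgroup G) : Set G) =
      (Subgroup.centralizer (H : Set G)).map φ.toMonoidHom := by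
  ext y
  rw [Subgroup.mem_map_equiv, Subgroup.mem_centralizer_iff, Subgroup.mem_centralizer_iff]
  constructor
  · intro hy h hh
    apply φ.injective
    have := hy (φ h) (Subgroup.mem_map_of_mem _ hh)
    simpa using this
  · rintro hy _ ⟨h, hh, rfl⟩
    have := congrArg φ (hy h hh)
    simpa using this

theorem normalizer_image (φ : G ≃* G) (X : Set G) :
    Subgroup.normalizer (φ '' X) = (Subgroup.normalizer X).map φ.toMonoidHom := by
  ext y
  rw [Subgroup.mem_map_equiv, Subgroup.mem_set_normalizer_iff, Subgroup.mem_set_normalizer_iff]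
  have key : ∀ w : G, (y * φ w * y⁻¹ ∈ φ '' X ↔ φ.symm y * w * (φ.symm y)⁻¹ ∈ X) := by
    intro w
    have e : y * φ w * y⁻¹ = φ (φ.symm y * w * (φ.symm y)⁻¹) := by simp
    rw [e]
    constructor
    · rintro ⟨z, hz, hzz⟩
      rwa [φ.injective hzz] at hz
    · intro h
      exact ⟨_, h, rfl⟩
  constructor
  · intro hy w
    have := hy (φ w)
    rw [key] at this
    rw [← this]
    constructor
    · intro h; exact ⟨w, h, rfl⟩
    · rintro ⟨z, hz, hzz⟩
      rwa [φ.injective hzz] at hz
  · intro hy z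
    obtain ⟨w, rfl⟩ := φ.surjective z
    rw [key, ← hy w]
    constructor
    · rintro ⟨z, hz, hzz⟩
      rwa [φ.injective hzz] at hz
    · intro h; exact ⟨w, h, rfl⟩

theorem normalizer_map (φ : G ≃* G) (H : Subgroup G) :
    Subgroup.normalizer ((H.map φ.toMonoidHom : Subgroup G) : Set G) =
      (Subgroup.normalizer (H : Set G)).map φ.toMonoidHom := by
  have : ((H.map φ.toMonoidHom : Subgroup G) : Set G) = φ '' (H : Set G) := by
    ext x; simp [Subgroup.mem_map]
  rw [this, normalizer_image]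

theorem map_ne_bot (φ : G ≃* G) {H : Subgroup G} (h : H ≠ ⊥) : H.map φ.toMonoidHom ≠ ⊥ := by
  intro h0
  exact h ((Subgroup.map_eq_bot_iff_of_injective _ φ.injective).1 h0)

theorem isCyclic_map (φ : G ≃* G) {H : Subgroup G} (h : IsCyclic H) :
    IsCyclic (H.map φ.toMonoidHom : Subgroup G) := by
  have e := mapEquiv φ H
  exact isCyclic_of_surjective e.toMonoidHom e.surjective

theorem isCyclic_of_map (φ : G ≃* G) {H : Subgroup G}
    (h : IsCyclic (H.map φ.toMonoidHom : Subgroup G)) : IsCyclic H := by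
  have e := (mapEquiv φ H).symm
  exact isCyclic_of_surjective e.toMonoidHom e.surjective

theorem isNilpotent_map (φ : G ≃* G) {H : Subgroup G} (h : Group.IsNilpotent H) :
    Group.IsNilpotent (H.map φ.toMonoidHom : Subgroup G) := by
  have e := mapEquiv φ H
  exact Group.nilpotent_of_surjective e.toMonoidHom e.surjective

theorem relIndex_map (φ : G ≃* G) (H K : Subgroup G) :
    (H.map φ.toMonoidHom).relIndex (K.map φ.toMonoidHom) = H.relIndex K := by
  have h := Subgroup.relIndex_map_map_of_injective H K (f := φ.toMonoidHom) φ.injective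
  exact h

theorem IsComplIn.map (φ : G ≃* G) {A B M : Subgroup G} (h : IsComplIn A B M) :
    IsComplIn (A.map φ.toMonoidHom) (B.map φ.toMonoidHom) (M.map φ.toMonoidHom) := by
  obtain ⟨hA, hB, hAB, hM⟩ := h
  refine ⟨Subgroup.map_mono hA, Subgroup.map_mono hB, ?_, ?_⟩
  · rw [← Subgroup.map_inf _ _ _ φ.injective, hAB, Subgroup.map_bot]
  · rintro _ ⟨m, hm, rfl⟩
    obtain ⟨a, ha, b, hb, rfl⟩ := hM m hm
    exact ⟨φ a, Subgroup.mem_map_of_mem _ ha, φ b, Subgroup.mem_map_of_mem _ hb, by simp⟩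

theorem IsSelfNormalizingCyclic.map (φ : G ≃* G) {W₁ W₂ : Subgroup G}
    (h : IsSelfNormalizingCyclic W₁ W₂) :
    IsSelfNormalizingCyclic (W₁.map φ.toMonoidHom) (W₂.map φ.toMonoidHom) := by
  obtain ⟨h1, h2, h12, hcomm, hcyc, hN⟩ := h
  refine ⟨map_ne_bot φ h1, map_ne_bot φ h2, ?_, ?_, ?_, ?_⟩
  · rw [← Subgroup.map_inf _ _ _ φ.injective, h12, Subgroup.map_bot]
  · rintro _ ⟨a, ha, rfl⟩ _ ⟨b, hb, rfl⟩
    have := congrArg φ (hcomm a ha b hb)
    simpa using this
  · rw [← Subgroup.map_sup]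
    exact isCyclic_map φ hcyc
  · intro X hX hXne
    -- pull `X` back along `φ`
    have hXeq : X = φ '' (φ ⁻¹' X) := by
      rw [Set.image_preimage_eq _ φ.surjective]
    have hY : φ ⁻¹' X ⊆ (↑(W₁ ⊔ W₂) : Set G) \ (↑W₁ ∪ ↑W₂) := by
      intro w hw
      have hw' := hX hw
      rw [← Subgroup.map_sup] at hw'
      obtain ⟨⟨z, hz, hzz⟩, hnot⟩ := hw'
      have hzw : z = w := φ.injective hzz
      refine ⟨hzw ▸ hz, ?_⟩
      rintro (hw1 | hw2)
      · exact hnot (Or.inl (Subgroup.mem_map_of_mem _ hw1))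
      · exact hnot (Or.inr (Subgroup.mem_map_of_mem _ hw2))
    have hYne : (φ ⁻¹' X).Nonempty := by
      obtain ⟨x, hx⟩ := hXne
      exact ⟨φ.symm x, by simpa using hx⟩
    rw [hXeq, normalizer_image, hN _ hY hYne, Subgroup.map_sup]

/-- Transport of type-P data along an automorphism of `G`. -/
theorem IsTypePWith.map (φ : G ≃* G) {M W₁ U W₂ : Subgroup G} (h : IsTypePWith M W₁ U W₂) :
    IsTypePWith (M.map φ.toMonoidHom) (W₁.map φ.toMonoidHom) (U.map φ.toMonoidHom)
      (W₂.map φ.toMonoidHom) := by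
  have hder : ⁅M.map φ.toMonoidHom, M.map φ.toMonoidHom⁆ = (⁅M, M⁆).map φ.toMonoidHom :=
    (Subgroup.map_commutator M M φ.toMonoidHom).symm
  have hder2 : ⁅⁅M.map φ.toMonoidHom, M.map φ.toMonoidHom⁆,
      ⁅M.map φ.toMonoidHom, M.map φ.toMonoidHom⁆⁆ = (⁅⁅M, M⁆, ⁅M, M⁆⁆).map φ.toMonoidHom := by
    rw [hder]
    exact (Subgroup.map_commutator _ _ φ.toMonoidHom).symm
  have hHC : fittingHallOf (M.map φ.toMonoidHom) ⊔
      (M.map φ.toMonoidHom ⊓
        Subgroup.centralizer ((fittingHallOf (M.map φ.toMonoidHom) : Subgroup G) : Set G)) =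
      (fittingHallOf M ⊔ (M ⊓ Subgroup.centralizer ((fittingHallOf M : Subgroup G) : Set G))).map
        φ.toMonoidHom := by
    rw [fittingHallOf_map, centralizer_map, Subgroup.map_sup, Subgroup.map_inf _ _ _ φ.injective]
  refine
    { W₁_ne := map_ne_bot φ h.W₁_ne
      W₁_cyclic := isCyclic_map φ h.W₁_cyclic
      W₁_hall := ?_
      W₁_compl := ?_
      U_nilpotent := isNilpotent_map φ h.U_nilpotent
      U_normal := ?_
      U_compl := ?_
      H_not_cyclic := ?_
      derived_two_le := ?_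
      fitting_eq := ?_
      fitting_le := ?_
      W₂_le := ?_
      W₂_centralizer := ?_
      selfNormalizing := IsSelfNormalizingCyclic.map φ h.selfNormalizing }
  · rw [card_map_equiv, relIndex_map]
    exact h.W₁_hall
  · rw [hder]
    exact IsComplIn.map φ h.W₁_compl
  · rw [normalizer_map]
    exact Subgroup.map_mono h.U_normal
  · rw [hder, fittingHallOf_map]
    exact IsComplIn.map φ h.U_compl
  · rw [fittingHallOf_map]
    intro hc
    exact h.H_not_cyclic (isCyclic_of_map φ hc)
  · rw [hder2, hHC]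
    exact Subgroup.map_mono h.derived_two_le
  · rw [hHC, fittingOf_map, h.fitting_eq]
  · rw [fittingOf_map, hder]
    exact Subgroup.map_mono h.fitting_le
  · rw [hder2, fittingHallOf_map, ← Subgroup.map_inf _ _ _ φ.injective]
    exact Subgroup.map_mono h.W₂_le
  · rintro _ ⟨x, hx, rfl⟩ hx1
    have hx1' : x ≠ 1 := by
      rintro rfl
      exact hx1 (map_one φ)
    have := h.W₂_centralizer x hx hx1'
    rw [hder]
    have e : Subgroup.centralizer ({φ.toMonoidHom x} : Set G) =
        (Subgroup.centralizer ({x} : Set G)).map φ.toMonoidHom := centralizer_singleton_map φ x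
    rw [e, ← Subgroup.map_inf _ _ _ φ.injective, this]

end Cfsg.Agent.Lib.Helper54.TypePTransport
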