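import Mathlib
import Cfsg.Agent.Lib.Helper54.TypePTransport
import Cfsg.Agent.Lib.Helper54.Coprime
import Cfsg.Agent.Lib.Helper4.PFTypes
import Cfsg.Agent.Lib.Helper23.TypeP
import Cfsg.Agent.Lib.Helper26.PFEightC
import Cfsg.Agent.S1386

/-!
# The pair `S`, `T` of B&G Theorem I with full type-P data

`BookBGData.pair` gives `W₁ W₂ S T` with `W₁` a complement to `S'` in `S`, `W₂` a complement to
`T'` in `T`, and `S`, `T` of Types II-V, but no complements `U`, `V`.  Here we supply them: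
`exists_pairHyp` produces `U`, `V` with `PairHyp S T W₁ W₂ U V` (the common hypothesis of the
frozen rows S1543-S1549).  The step is: type-P data `(W₁', U', W₂')` of `S` exist by the type;
`W₁'` is conjugate to `W₁` in `S'` (Schur-Zassenhaus); conjugate the data; `W₂'^l = W₂` by S1386.
-/

set_option autoImplicit false

namespace Cfsg.Agent.Lib.Helper54.PairExists

open Cfsg
open Cfsg.Agent.Lib.Helper4.PF
open Cfsg.Agent.Lib.Helper54.TypePTransport

variable {G : Type*} [Group G]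

theorem IsSelfNormalizingCyclic.symm' {W₁ W₂ : Subgroup G} (h : IsSelfNormalizingCyclic W₁ W₂) :
    IsSelfNormalizingCyclic W₂ W₁ := by
  obtain ⟨h1, h2, h12, hcomm, hcyc, hN⟩ := h
  refine ⟨h2, h1, by rwa [inf_comm], fun a ha b hb => (hcomm b hb a ha).symm,
    by rwa [sup_comm], ?_⟩
  intro X hX hne
  have hX' : X ⊆ (↑(W₁ ⊔ W₂) : Set G) \ (↑W₁ ∪ ↑W₂) := by
    rwa [sup_comm, Set.union_comm] at hX
  rw [sup_comm]
  exact hN X hX' hne

/-- Type-P data of `S` can be moved onto a prescribed complement `W₁` of `S'` and the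
corresponding `W₂`. -/
theorem exists_typeP_adjust [Finite G] {S W₁ W₂ W₁' U' W₂' : Subgroup G}
    (hP : IsTypePWith S W₁' U' W₂') (hc : IsComplIn ⁅S, S⁆ W₁ S)
    (hW : IsSelfNormalizingCyclic W₁ W₂) (hW₂S : W₂ ≤ S) :
    ∃ U : Subgroup G, IsTypePWith S W₁ U W₂ := by
  have hS1 := Cfsg.Agent.Lib.Helper23.card_of_isComplIn hP.W₁_compl
  have hS2 := Cfsg.Agent.Lib.Helper23.card_of_isComplIn hc
  have hcardW : Nat.card W₁ = Nat.card W₁' := by
    rw [hS1] at hS2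
    exact (Nat.eq_of_mul_eq_mul_left Nat.card_pos hS2).symm
  have hrel := Cfsg.Agent.Lib.Helper26.PFEight.relIndex_of_isComplIn hP.W₁_compl
  have hcop : (Nat.card ↥⁅S, S⁆).Coprime (Nat.card W₁') := by
    have := hP.W₁_hall
    rw [hrel] at this
    exact this.symm
  have hder : ⁅S, S⁆ ≤ S := Subgroup.commutator_le_self S
  have hnorm : S ≤ Subgroup.normalizer ((⁅S, S⁆ : Subgroup G) : Set G) := by
    rw [Subgroup.le_normalizer_iff]
    intro s hs k hk
    have h1 : s * k * s⁻¹ ∈ (⁅S, S⁆).map (MulAut.conj s).toMonoidHom := ⟨k, hk, rfl⟩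
    have hSs : S.map (MulAut.conj s).toMonoidHom = S := Subgroup.conj_smul_eq_self_of_mem hs
    rwa [Subgroup.map_commutator, hSs] at h1
  have hsolv : Group.IsSolvable W₁' := by
    have := hP.W₁_cyclic
    have hc' : ∀ a b : W₁', a * b = b * a := by
      intro a b
      obtain ⟨g, hg⟩ := IsCyclic.exists_generator (α := W₁')
      obtain ⟨m, rfl⟩ := Subgroup.mem_zpowers_iff.mp (hg a)
      obtain ⟨n, rfl⟩ := Subgroup.mem_zpowers_iff.mp (hg b)
      rw [← zpow_add, ← zpow_add, add_comm]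
    exact Group.isSolvable_of_comm hc'
  obtain ⟨l, hl, hlW⟩ := Cfsg.Agent.Lib.Helper54.sz_conj_rel S ⁅S, S⁆ W₁' W₁ hder hnorm
    hP.W₁_compl.2.1 hc.2.1 hS1.symm hcardW hcop (Or.inl hsolv)
  have hmap := IsTypePWith.map (MulAut.conj l) hP
  have hSφ : S.map (MulAut.conj l).toMonoidHom = S :=
    Subgroup.conj_smul_eq_self_of_mem (hder hl)
  have hWφ : W₁'.map (MulAut.conj l).toMonoidHom = W₁ := hlW
  rw [hSφ, hWφ] at hmap
  have h86 := Cfsg.Agent.S1386.result W₁ W₂ S _ _ hW hc hW₂S hmap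
  rw [h86] at hmap
  exact ⟨_, hmap⟩

theorem isOfTypeP_of_typeIItoV' {M : Subgroup G} (h : IsTypeIItoV M) :
    ∃ W₁ U W₂ : Subgroup G, IsTypePWith M W₁ U W₂ := by
  rcases h with ⟨W₁, U, W₂, hP, -⟩ | ⟨W₁, U, W₂, hP, -⟩ | ⟨W₁, U, W₂, hP, -⟩ | ⟨W₁, U, W₂, hP, -⟩
  all_goals exact ⟨W₁, U, W₂, hP⟩

/-- From the pair of `BookBGData.pair` to the full hypothesis `PairHyp` of the rows S1543-S1549. -/
theorem exists_pairHyp [Finite G] {W₁ W₂ S T : Subgroup G}
    (hW : IsSelfNormalizingCyclic W₁ W₂) (hS : IsCoatom S) (hT : IsCoatom T)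
    (hSc : IsComplIn ⁅S, S⁆ W₁ S) (hTc : IsComplIn ⁅T, T⁆ W₂ T) (hST : S ⊓ T = W₁ ⊔ W₂)
    (hII : IsOfTypeII S ∨ IsOfTypeII T) (hS25 : IsTypeIItoV S) (hT25 : IsTypeIItoV T) :
    ∃ U V : Subgroup G, PairHyp S T W₁ W₂ U V := by
  have hW₂S : W₂ ≤ S := le_trans le_sup_right (hST ▸ inf_le_left)
  have hW₁T : W₁ ≤ T := le_trans le_sup_left (hST ▸ inf_le_right)
  obtain ⟨A, B, C, hPS⟩ := isOfTypeP_of_typeIItoV' hS25
  obtain ⟨A', B', C', hPT⟩ := isOfTypeP_of_typeIItoV' hT25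
  obtain ⟨U, hU⟩ := exists_typeP_adjust hPS hSc hW hW₂S
  obtain ⟨V, hV⟩ := exists_typeP_adjust hPT hTc (IsSelfNormalizingCyclic.symm' hW) hW₁T
  exact ⟨U, V, ⟨hS, hT, hU, hV, hST, hII, hS25, hT25⟩⟩

/-- The alternative of B&G Theorem I, with full data: all maximal subgroups are of (book) Type I,
or there is a pair with `PairHyp`. -/
theorem all_typeI_or_pairHyp [Finite G] (bg : BookBGData G) :
    (∀ M : Subgroup G, IsCoatom M → LitTypeI M) ∨
      ∃ S T W₁ W₂ U V : Subgroup G, PairHyp S T W₁ W₂ U V := by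
  rcases bg.pair with hall | ⟨W₁, W₂, S, T, hW, hS, hT, hSc, hTc, hST, hII, hS25, hT25, -⟩
  · exact Or.inl hall
  · obtain ⟨U, V, h⟩ := exists_pairHyp hW hS hT hSc hTc hST hII hS25 hT25
    exact Or.inr ⟨S, T, W₁, W₂, U, V, h⟩

end Cfsg.Agent.Lib.Helper54.PairExists
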