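import Mathlib
import Cfsg.Agent.Lib.Helper19.ReeOutDefs

/-!
# S2127 (helper19's cut), abstract level 1: the modules [L1-NORM], [L1-RIGID], [L1-SUPP] on a group
with split rank-one Bruhat data `R1`.
-/

set_option autoImplicit false

namespace Cfsg.Agent.Lib.Helper54.ReeOut

open Cfsg.Agent.Lib.Helper19.ReeOut

variable {Γ : Type*} [Group Γ]

/-- `n⁻¹ h n ∈ H` -/
theorem ninv_conj_mem_H (D : R1 Γ) {h : Γ} (hh : h ∈ D.H) : D.n⁻¹ * h * D.n ∈ D.H := by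
  have h1 := D.normH h hh
  have h2 : D.n⁻¹ * h * D.n = (D.n * D.n)⁻¹ * (D.n * h * D.n⁻¹) * (D.n * D.n) := by group
  rw [h2]
  exact D.H.mul_mem (D.H.mul_mem (D.H.inv_mem D.n_sq) h1) D.n_sq

/-- `H` normalises `V` -/
theorem H_conj_mem_V (D : R1 Γ) {h x : Γ} (hh : h ∈ D.H) (hx : x ∈ D.V) : h * x * h⁻¹ ∈ D.V := by
  rw [D.mem_V_iff] at hx ⊢
  have h1 := D.normU _ (ninv_conj_mem_H D hh) _ hx
  have h2 : D.n⁻¹ * (h * x * h⁻¹) * D.n =
      (D.n⁻¹ * h * D.n) * (D.n⁻¹ * x * D.n) * (D.n⁻¹ * h * D.n)⁻¹ := by group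
  rw [h2]
  exact h1

/-- `y ∈ U ⇒ n y n⁻¹ ∈ V` -/
theorem n_conj_mem_V (D : R1 Γ) {y : Γ} (hy : y ∈ D.U) : D.n * y * D.n⁻¹ ∈ D.V := by
  rw [D.mem_V_iff]
  have : D.n⁻¹ * (D.n * y * D.n⁻¹) * D.n = y := by group
  rw [this]
  exact hy

/-- `y ∈ U ⇒ n⁻¹ y n ∈ V` -/
theorem ninv_conj_mem_V (D : R1 Γ) {y : Γ} (hy : y ∈ D.U) : D.n⁻¹ * y * D.n ∈ D.V := by
  rw [D.mem_V_iff]
  have h1 := D.normU _ (D.H.inv_mem D.n_sq) _ hy
  have : D.n⁻¹ * (D.n⁻¹ * y * D.n) * D.n = (D.n * D.n)⁻¹ * y * ((D.n * D.n)⁻¹)⁻¹ := by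
    simp only [mul_inv_rev, inv_inv, mul_assoc]
  rw [this]
  exact h1

/-- `x ∈ V ⇒ n x n⁻¹ ∈ U` -/
theorem n_conj_mem_U (D : R1 Γ) {x : Γ} (hx : x ∈ D.V) : D.n * x * D.n⁻¹ ∈ D.U := by
  rw [D.mem_V_iff] at hx
  have h1 := D.normU _ D.n_sq _ hx
  have : D.n * x * D.n⁻¹ = (D.n * D.n) * (D.n⁻¹ * x * D.n) * (D.n * D.n)⁻¹ := by group
  rw [this]
  exact h1

/-- `n` does not normalise `U` -/
theorem not_n_norm_U (D : R1 Γ) : ¬ ∀ x ∈ D.U, D.n * x * D.n⁻¹ ∈ D.U := by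
  intro h
  obtain ⟨u0, hu0, hne⟩ := D.U_ne
  apply hne
  exact D.opp u0 hu0 (D.n * u0 * D.n⁻¹) (h u0 hu0) 1 D.H.one_mem (by rw [mul_one])

/-- conjugation by an element of `U` preserves `U` -/
theorem U_conj_mem_U (D : R1 Γ) {u x : Γ} (hu : u ∈ D.U) (hx : x ∈ D.U) : u * x * u⁻¹ ∈ D.U :=
  D.U.mul_mem (D.U.mul_mem hu hx) (D.U.inv_mem hu)

/-- an element normalising `U` lies in `B = U H` -/
theorem mem_B_of_norm_U (D : R1 Γ) {g : Γ} (hg : ∀ x ∈ D.U, g * x * g⁻¹ ∈ D.U) :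
    ∃ u ∈ D.U, ∃ h ∈ D.H, g = u * h := by
  rcases D.bruhat g with hB | ⟨u, hu, h, hh, u', hu', rfl⟩
  · exact hB
  · exfalso
    apply not_n_norm_U D
    intro x hx
    have h1 : u'⁻¹ * x * u'⁻¹⁻¹ ∈ D.U := U_conj_mem_U D (D.U.inv_mem hu') hx
    have h2 := hg _ h1
    have h3 : u⁻¹ * (u * h * D.n * u' * (u'⁻¹ * x * u'⁻¹⁻¹) * (u * h * D.n * u')⁻¹) * u⁻¹⁻¹ ∈ D.U :=
      U_conj_mem_U D (D.U.inv_mem hu) h2
    have h4 := D.normU h⁻¹ (D.H.inv_mem hh) _ h3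
    convert h4 using 1
    group

/-- an element normalising `U` and `V` lies in `H` -/
theorem mem_H_of_norm (D : R1 Γ) {g : Γ} (hU : ∀ x ∈ D.U, g * x * g⁻¹ ∈ D.U)
    (hV : ∀ x ∈ D.V, g * x * g⁻¹ ∈ D.V) : g ∈ D.H := by
  obtain ⟨u, hu, h, hh, rfl⟩ := mem_B_of_norm_U D hU
  have huV : ∀ x ∈ D.V, u * x * u⁻¹ ∈ D.V := by
    intro x hx
    have h1 := H_conj_mem_V D (D.H.inv_mem hh) hx
    have h2 := hV _ h1
    convert h2 using 1
    group
  have hw : ∀ y ∈ D.U, (D.n⁻¹ * u * D.n) * y * (D.n⁻¹ * u * D.n)⁻¹ ∈ D.U := by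
    intro y hy
    have h1 := huV _ (n_conj_mem_V D hy)
    rw [D.mem_V_iff] at h1
    convert h1 using 1
    group
  obtain ⟨u1, hu1, h1, hh1, hw1⟩ := mem_B_of_norm_U D hw
  have hk := D.n_sq
  have e : D.n * u * D.n⁻¹ = ((D.n * D.n) * u1 * (D.n * D.n)⁻¹) *
      ((D.n * D.n) * h1 * (D.n * D.n)⁻¹) := by
    have : D.n * u * D.n⁻¹ = (D.n * D.n) * (D.n⁻¹ * u * D.n) * (D.n * D.n)⁻¹ := by group
    rw [this, hw1]
    group
  have hu1' := D.opp u hu _ (D.normU _ hk _ hu1) _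
    (D.H.mul_mem (D.H.mul_mem hk hh1) (D.H.inv_mem hk)) e
  rw [hu1', one_mul]
  exact hh

/-! ### [L1-NORM] -/

theorem mem_H_of_conj_mem_A0 (D : R1 Γ) {g : Γ} (hg : MulAut.conj g ∈ D.A0) : g ∈ D.H := by
  rw [D.mem_A0_iff] at hg
  refine mem_H_of_norm D (fun x hx => ?_) (fun x hx => ?_)
  · have := (hg.1 x).2 hx
    rwa [MulAut.conj_apply] at this
  · have := (hg.2 x).2 hx
    rwa [MulAut.conj_apply] at this

theorem conj_mem_A0 (D : R1 Γ) {g : Γ} (hg : g ∈ D.H) : MulAut.conj g ∈ D.A0 := by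
  rw [D.mem_A0_iff]
  refine ⟨fun x => ?_, fun x => ?_⟩
  · rw [MulAut.conj_apply]
    constructor
    · intro h
      have h1 := D.normU g⁻¹ (D.H.inv_mem hg) _ h
      convert h1 using 1
      group
    · exact fun h => D.normU g hg x h
  · rw [MulAut.conj_apply]
    constructor
    · intro h
      have h1 := H_conj_mem_V D (D.H.inv_mem hg) h
      convert h1 using 1
      group
    · exact fun h => H_conj_mem_V D hg h

theorem A0_map_H (D : R1 Γ) {α : MulAut Γ} (hα : α ∈ D.A0) {x : Γ} (hx : x ∈ D.H) :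
    α x ∈ D.H := by
  apply mem_H_of_conj_mem_A0
  have e : MulAut.conj (α x) = α * MulAut.conj x * α⁻¹ := by
    ext y
    simp only [MulAut.mul_apply, MulAut.conj_apply, map_mul, map_inv, MulAut.apply_inv_self]
  rw [e]
  exact D.A0.mul_mem (D.A0.mul_mem hα (conj_mem_A0 D hx)) (D.A0.inv_mem hα)

/-! ### [L1-RIGID] -/

theorem rigid (D : R1 Γ) {α : MulAut Γ} (hα : α ∈ D.A0) (hU : ∀ u ∈ D.U, α u = u)
    (hH : ∀ x ∈ D.H, α x = x) : α = 1 := by
  have hA := (D.mem_A0_iff α).1 hα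
  -- `h0 = n⁻¹ α(n) ∈ H`
  have h0H : D.n⁻¹ * α D.n ∈ D.H := by
    refine mem_H_of_norm D (fun x hx => ?_) (fun x hx => ?_)
    · -- `α(n) x α(n)⁻¹ = α (n x n⁻¹) ∈ V`
      have h1 : α (D.n * x * D.n⁻¹) ∈ D.V := (hA.2 _).2 (n_conj_mem_V D hx)
      rw [map_mul, map_mul, map_inv, hU x hx, D.mem_V_iff] at h1
      convert h1 using 1
      group
    · -- `x = α x'`, `x' ∈ V`, `α(n) x α(n)⁻¹ = α (n x' n⁻¹) = n x' n⁻¹ ∈ U`
      have hx' : α⁻¹ x ∈ D.V := by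
        have := (hA.2 (α⁻¹ x))
        rw [MulAut.apply_inv_self] at this
        exact this.1 hx
      have h1 : D.n * (α⁻¹ x) * D.n⁻¹ ∈ D.U := n_conj_mem_U D hx'
      have h2 := hU _ h1
      rw [map_mul, map_mul, map_inv, MulAut.apply_inv_self] at h2
      rw [← h2] at h1
      have h3 := ninv_conj_mem_V D h1
      convert h3 using 1
      group
  -- `h0 = 1`
  have h0one : D.n⁻¹ * α D.n = 1 := by
    obtain ⟨u, hu, hne⟩ := D.U_ne
    have hnotB : ¬ ∃ f ∈ D.U, ∃ h ∈ D.H, D.n * u * D.n⁻¹ = f * h := by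
      rintro ⟨f, hf, h, hh, e⟩
      exact hne (D.opp u hu f hf h hh e)
    rcases D.bruhat (D.n * u * D.n⁻¹) with hB | ⟨f, hf, h, hh, g, hg, e⟩
    · exact absurd hB hnotB
    · set h0 := D.n⁻¹ * α D.n with hh0
      have hαn : α D.n = D.n * h0 := by rw [hh0]; group
      have e2 := congrArg α e
      rw [map_mul, map_mul, map_inv, hU u hu, map_mul, map_mul, map_mul, hU f hf, hH h hh,
        hU g hg, hαn] at e2
      -- e2 : n h0 u (n h0)⁻¹ = f h (n h0) g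
      have hfhn : f * h * D.n = D.n * u * D.n⁻¹ * g⁻¹ := by rw [e]; group
      have key : D.n * (u⁻¹ * (h0 * u * h0⁻¹)) * D.n⁻¹ = (g⁻¹ * (h0 * g * h0⁻¹)) * h0 := by
        have e3 : f * h * (D.n * h0) * g = D.n * u * D.n⁻¹ * (g⁻¹ * h0 * g) := by
          calc f * h * (D.n * h0) * g = (f * h * D.n) * h0 * g := by group
            _ = D.n * u * D.n⁻¹ * g⁻¹ * h0 * g := by rw [hfhn]
            _ = D.n * u * D.n⁻¹ * (g⁻¹ * h0 * g) := by group
        rw [e3] at e2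
        calc D.n * (u⁻¹ * (h0 * u * h0⁻¹)) * D.n⁻¹
            = (D.n * u * D.n⁻¹)⁻¹ * (D.n * h0 * u * (D.n * h0)⁻¹) := by group
          _ = (D.n * u * D.n⁻¹)⁻¹ * (D.n * u * D.n⁻¹ * (g⁻¹ * h0 * g)) := by rw [e2]
          _ = (g⁻¹ * (h0 * g * h0⁻¹)) * h0 := by group
      have hu2 : u⁻¹ * (h0 * u * h0⁻¹) ∈ D.U :=
        D.U.mul_mem (D.U.inv_mem hu) (D.normU h0 h0H u hu)
      have hg2 : g⁻¹ * (h0 * g * h0⁻¹) ∈ D.U :=
        D.U.mul_mem (D.U.inv_mem hg) (D.normU h0 h0H g hg)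
      have h1 := D.opp _ hu2 _ hg2 _ h0H key
      rw [h1, mul_one, mul_inv_cancel] at key
      -- key : 1 = g⁻¹ * (h0 * g * h0⁻¹) * h0
      have : g⁻¹ * (h0 * g * h0⁻¹) * h0 = g⁻¹ * h0 * g := by group
      rw [this] at key
      calc h0 = g * (g⁻¹ * h0 * g) * g⁻¹ := by group
        _ = 1 := by rw [← key]; group
  have hn : α D.n = D.n := by
    calc α D.n = D.n * (D.n⁻¹ * α D.n) := by group
      _ = D.n := by rw [h0one, mul_one]
  ext g
  rw [MulAut.one_apply]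
  rcases D.bruhat g with ⟨u, hu, h, hh, rfl⟩ | ⟨u, hu, h, hh, u', hu', rfl⟩
  · rw [map_mul, hU u hu, hH h hh]
  · rw [map_mul, map_mul, map_mul, hU u hu, hH h hh, hn, hU u' hu']

/-! ### [L1-SUPP] -/

theorem supplement (D : R1 Γ)
    (hSyl : ∀ α : MulAut Γ, ∃ g : Γ, ∀ x, g * α x * g⁻¹ ∈ D.U ↔ x ∈ D.U) (β : MulAut Γ) :
    ∃ g : Γ, ∃ α ∈ D.A0, β = MulAut.conj g * α := by
  obtain ⟨g1, hg1⟩ := hSyl β
  -- `β1 = conj g1 * β` stabilises `U`
  set β1 : MulAut Γ := MulAut.conj g1 * β with hβ1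
  have hβ1U : ∀ x, β1 x ∈ D.U ↔ x ∈ D.U := by
    intro x
    rw [hβ1, MulAut.mul_apply, MulAut.conj_apply]
    exact hg1 x
  -- `β1 n ∉ B`
  have hnotB : ¬ ∃ u ∈ D.U, ∃ h ∈ D.H, β1 D.n = u * h := by
    rintro ⟨u, hu, h, hh, e⟩
    apply not_n_norm_U D
    intro x hx
    rw [← hβ1U, map_mul, map_mul, map_inv, e]
    have h1 := D.normU h hh _ ((hβ1U x).2 hx)
    have h2 := U_conj_mem_U D hu h1
    convert h2 using 1
    group
  rcases D.bruhat (β1 D.n) with hB | ⟨u, hu, h, hh, u', hu', e⟩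
  · exact absurd hB hnotB
  · refine ⟨g1⁻¹ * u, MulAut.conj u⁻¹ * β1, ?_, ?_⟩
    · rw [D.mem_A0_iff]
      refine ⟨fun x => ?_, fun x => ?_⟩
      · rw [MulAut.mul_apply, MulAut.conj_apply, ← hβ1U x]
        constructor
        · intro hx
          have := U_conj_mem_U D hu hx
          convert this using 1
          group
        · intro hx
          exact U_conj_mem_U D (D.U.inv_mem hu) hx
      · -- `x = n y n⁻¹` with `y = n⁻¹ x n`
        have hx : x = D.n * (D.n⁻¹ * x * D.n) * D.n⁻¹ := by group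
        set y := D.n⁻¹ * x * D.n with hy
        have hα : (MulAut.conj u⁻¹ * β1) x =
            h * (D.n * (u' * β1 y * u'⁻¹) * D.n⁻¹) * h⁻¹ := by
          rw [MulAut.mul_apply, MulAut.conj_apply, hx, map_mul, map_mul, map_inv, e]
          group
        rw [hα, D.mem_V_iff x, ← hy]
        have hy' : u' * β1 y * u'⁻¹ ∈ D.U ↔ y ∈ D.U := by
          rw [← hβ1U y]
          constructor
          · intro h1
            have := U_conj_mem_U D (D.U.inv_mem hu') h1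
            convert this using 1
            group
          · intro h1
            exact U_conj_mem_U D hu' h1
        rw [← hy']
        constructor
        · intro h1
          have h2 := H_conj_mem_V D (D.H.inv_mem hh) h1
          have h3 : h⁻¹ * (h * (D.n * (u' * β1 y * u'⁻¹) * D.n⁻¹) * h⁻¹) * h⁻¹⁻¹ =
              D.n * (u' * β1 y * u'⁻¹) * D.n⁻¹ := by group
          rw [h3, D.mem_V_iff] at h2
          convert h2 using 1
          group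
        · intro h1
          exact H_conj_mem_V D hh (n_conj_mem_V D h1)
    · ext x
      simp only [hβ1, MulAut.mul_apply, MulAut.conj_apply]
      group

end Cfsg.Agent.Lib.Helper54.ReeOut
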