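/-
helper54 library (module REEM-[ST1] of helper20's project REEM = S2113): the last layer `⊤ ⊇ W₂` of the
abstract splitting theorem for the prime `3`.
-/
import Mathlib
import Cfsg.Agent.Lib.Helper20.ReeM.Defs

set_option autoImplicit false
set_option linter.unusedSectionVars false
set_option linter.unusedVariables false

namespace Cfsg.Agent.Lib.Helper54.ReeMSt1

open Cfsg.Agent.Lib.Helper20.ReeM

variable {F : Type*} [Field F] {n : ℕ} {P : Type*} [Group P] (S : Coord F n P)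
  {A : Type*} [CommGroup A] (ρ₀ : P → A)

theorem chi_one {χ₂ : P → A} (h : Layer S ρ₀ S.W₂ χ₂) : χ₂ 1 = 1 := by
  have h1 := h.mul 1 S.W₂.one_mem 1 S.W₂.one_mem
  rw [one_mul] at h1
  exact left_eq_mul.mp h1

theorem chi_inv {χ₂ : P → A} (h : Layer S ρ₀ S.W₂ χ₂) {x : P} (hx : x ∈ S.W₂) :
    χ₂ x⁻¹ = (χ₂ x)⁻¹ := by
  have h1 := h.mul x hx x⁻¹ (S.W₂.inv_mem hx)
  rw [mul_inv_cancel, chi_one S ρ₀ h] at h1
  exact eq_inv_of_mul_eq_one_right h1.symm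

/-- the commutator pairing is trivial -/
theorem chi_comm (hcp : CPStmt P A F) (p11 : PairStmt F A S.a 1 1)
    {χ₂ : P → A} (h : Layer S ρ₀ S.W₂ χ₂) (x y : P) :
    χ₂ (x * y * x⁻¹ * y⁻¹) = 1 := by
  have key := hcp ⊤ ⊤ S.W₂ S.W₂ (fun x y => χ₂ (x * y * x⁻¹ * y⁻¹)) S.τ S.τ
    (fun x _ x' _ => S.τ_mul x x') (fun x _ x' _ => S.τ_mul x x')
    (fun b => by obtain ⟨x, hx, -, -⟩ := S.surj b 0 0; exact ⟨x, Subgroup.mem_top x, hx⟩)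
    (fun b => by obtain ⟨x, hx, -, -⟩ := S.surj b 0 0; exact ⟨x, Subgroup.mem_top x, hx⟩)
    (fun x _ => Iff.rfl) (fun x _ => Iff.rfl)
    ?_ ?_ ?_ ?_ S.φ (fun x _ => Subgroup.mem_top _) (fun x _ => Subgroup.mem_top _) S.a S.a
    (fun x _ => S.τ_φ x) (fun x _ => S.τ_φ x) ?_ ?_
  · exact key x (Subgroup.mem_top x) y (Subgroup.mem_top y)
  · -- additivity in the first variable
    intro x _ x' _ y _
    show χ₂ (x * x' * y * (x * x')⁻¹ * y⁻¹) = χ₂ (x * y * x⁻¹ * y⁻¹) * χ₂ (x' * y * x'⁻¹ * y⁻¹)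
    have e : x * x' * y * (x * x')⁻¹ * y⁻¹
        = (x * (x' * y * x'⁻¹ * y⁻¹) * x⁻¹) * (x * y * x⁻¹ * y⁻¹) := by group
    rw [e, h.mul _ (S.conj_mem_W₂ x (S.comm_mem_W₂ x' y)) _ (S.comm_mem_W₂ x y),
      h.inv_conj x _ (S.comm_mem_W₂ x' y), mul_comm]
  · -- additivity in the second variable
    intro x _ y _ y' _
    show χ₂ (x * (y * y') * x⁻¹ * (y * y')⁻¹) = χ₂ (x * y * x⁻¹ * y⁻¹) * χ₂ (x * y' * x⁻¹ * y'⁻¹)
    have e : x * (y * y') * x⁻¹ * (y * y')⁻¹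
        = (x * y * x⁻¹ * y⁻¹) * (y * (x * y' * x⁻¹ * y'⁻¹) * y⁻¹) := by group
    rw [e, h.mul _ (S.comm_mem_W₂ x y) _ (S.conj_mem_W₂ y (S.comm_mem_W₂ x y')),
      h.inv_conj y _ (S.comm_mem_W₂ x y')]
  · -- trivial for x ∈ W₂
    intro x hx y _
    show χ₂ (x * y * x⁻¹ * y⁻¹) = 1
    have e : x * y * x⁻¹ * y⁻¹ = x * (y * x⁻¹ * y⁻¹) := by group
    have hx' : x⁻¹ ∈ S.W₂ := S.W₂.inv_mem hx
    rw [e, h.mul _ hx _ (S.conj_mem_W₂ y hx'), h.inv_conj y _ hx', chi_inv S ρ₀ h hx,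
      mul_inv_cancel]
  · -- trivial for y ∈ W₂
    intro x _ y hy
    show χ₂ (x * y * x⁻¹ * y⁻¹) = 1
    have e : x * y * x⁻¹ * y⁻¹ = (x * y * x⁻¹) * y⁻¹ := by group
    have hy' : y⁻¹ ∈ S.W₂ := S.W₂.inv_mem hy
    rw [e, h.mul _ (S.conj_mem_W₂ x hy) _ hy', h.inv_conj x _ hy, chi_inv S ρ₀ h hy,
      mul_inv_cancel]
  · -- φ-invariance
    intro x _ y _
    show χ₂ (S.φ x * S.φ y * (S.φ x)⁻¹ * (S.φ y)⁻¹) = χ₂ (x * y * x⁻¹ * y⁻¹)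
    have e : S.φ x * S.φ y * (S.φ x)⁻¹ * (S.φ y)⁻¹ = S.φ (x * y * x⁻¹ * y⁻¹) := by
      rw [map_mul, map_mul, map_mul, map_inv, map_inv]
    rw [e, h.inv_φ _ (S.comm_mem_W₂ x y)]
  · -- the pairing statement
    intro f hf hinv
    exact p11 f hf (fun t u => by rw [pow_one]; exact hinv t u)

/-- [ST1] -/
theorem stage1 (hext : ExtStmt P A F) (hcp : CPStmt P A F) (h1 : S.a ≠ 1)
    (p11 : PairStmt F A S.a 1 1)
    (χ₂ : P → A) (h : Layer S ρ₀ S.W₂ χ₂) :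
    ∃ χ : P →* A, ∀ z ∈ S.K₀, χ z = ρ₀ z := by
  obtain ⟨χ, hmul, hext', -⟩ := hext ⊤ S.W₂ le_top χ₂ h.mul S.τ
    (fun x _ y _ => S.τ_mul x y)
    (fun b => by obtain ⟨x, hx, -, -⟩ := S.surj b 0 0; exact ⟨x, Subgroup.mem_top x, hx⟩)
    (fun x _ => Iff.rfl) S.φ (fun x _ => Subgroup.mem_top _) S.a h1 (fun x _ => S.τ_φ x)
    h.inv_φ (fun e _ c hc => h.inv_conj e c hc)
    (fun x _ y _ => chi_comm S ρ₀ hcp p11 h x y)
  refine ⟨MonoidHom.mk' χ (fun x y => hmul x (Subgroup.mem_top x) y (Subgroup.mem_top y)), ?_⟩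
  intro z hz
  show χ z = ρ₀ z
  rw [hext' z (S.W₃_le_W₂ (S.K₀_le_W₃ hz)), h.ext z hz]

end Cfsg.Agent.Lib.Helper54.ReeMSt1
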