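/-
helper54 library (module REEM-[ST2] of helper20's project REEM = S2113): the middle layer `W₂ ⊇ W₃` of the
abstract splitting theorem for the prime `3`.
-/
import Mathlib
import Cfsg.Agent.Lib.Helper20.ReeM.Defs

set_option autoImplicit false
set_option linter.unusedSectionVars false
set_option linter.unusedVariables false

namespace Cfsg.Agent.Lib.Helper54.ReeMSt2

open Cfsg.Agent.Lib.Helper20.ReeM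

variable {F : Type*} [Field F] {n : ℕ} {P : Type*} [Group P] (S : Coord F n P)
  {A : Type*} [CommGroup A] (ρ₀ : P → A)

theorem chi_one {χ₃ : P → A} (h : Layer S ρ₀ S.W₃ χ₃) : χ₃ 1 = 1 := by
  have h1 := h.mul 1 S.W₃.one_mem 1 S.W₃.one_mem
  rw [one_mul] at h1
  exact left_eq_mul.mp h1

theorem chi_inv {χ₃ : P → A} (h : Layer S ρ₀ S.W₃ χ₃) {x : P} (hx : x ∈ S.W₃) :
    χ₃ x⁻¹ = (χ₃ x)⁻¹ := by
  have h1 := h.mul x hx x⁻¹ (S.W₃.inv_mem hx)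
  rw [mul_inv_cancel, chi_one S ρ₀ h] at h1
  exact eq_inv_of_mul_eq_one_right h1.symm

/-- `[g g', x] = g [g', x] g⁻¹ * [g, x]` -/
theorem chi_comm_mul_left (hn : n ≠ 0) {χ₃ : P → A} (h : Layer S ρ₀ S.W₃ χ₃) (g g' : P) {x : P}
    (hx : x ∈ S.W₂) :
    χ₃ (g * g' * x * (g * g')⁻¹ * x⁻¹) = χ₃ (g * x * g⁻¹ * x⁻¹) * χ₃ (g' * x * g'⁻¹ * x⁻¹) := by
  have e : g * g' * x * (g * g')⁻¹ * x⁻¹
      = (g * (g' * x * g'⁻¹ * x⁻¹) * g⁻¹) * (g * x * g⁻¹ * x⁻¹) := by group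
  rw [e, h.mul _ (S.conj_mem_W₃ hn g (S.comm_mem_W₃ hn g' hx)) _ (S.comm_mem_W₃ hn g hx),
    h.inv_conj g _ (S.comm_mem_W₃ hn g' hx), mul_comm]

/-- `[g, x x'] = [g, x] * x [g, x'] x⁻¹` -/
theorem chi_comm_mul_right (hn : n ≠ 0) {χ₃ : P → A} (h : Layer S ρ₀ S.W₃ χ₃) (g : P) {x x' : P}
    (hx : x ∈ S.W₂) (hx' : x' ∈ S.W₂) :
    χ₃ (g * (x * x') * g⁻¹ * (x * x')⁻¹) = χ₃ (g * x * g⁻¹ * x⁻¹) * χ₃ (g * x' * g⁻¹ * x'⁻¹) := by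
  have e : g * (x * x') * g⁻¹ * (x * x')⁻¹
      = (g * x * g⁻¹ * x⁻¹) * (x * (g * x' * g⁻¹ * x'⁻¹) * x⁻¹) := by group
  rw [e, h.mul _ (S.comm_mem_W₃ hn g hx) _ (S.conj_mem_W₃ hn x (S.comm_mem_W₃ hn g hx')),
    h.inv_conj x _ (S.comm_mem_W₃ hn g hx')]

/-- a commutator with an element of `W₃` on the right is killed -/
theorem chi_comm_of_W₃_right (hn : n ≠ 0) {χ₃ : P → A} (h : Layer S ρ₀ S.W₃ χ₃) (g : P) {x : P}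
    (hx : x ∈ S.W₃) : χ₃ (g * x * g⁻¹ * x⁻¹) = 1 := by
  have e : g * x * g⁻¹ * x⁻¹ = (g * x * g⁻¹) * x⁻¹ := by group
  rw [e, h.mul _ (S.conj_mem_W₃ hn g hx) _ (S.W₃.inv_mem hx), h.inv_conj g _ hx,
    chi_inv S ρ₀ h hx, mul_inv_cancel]

/-- a commutator with an element of `W₃` on the left is killed -/
theorem chi_comm_of_W₃_left (hn : n ≠ 0) {χ₃ : P → A} (h : Layer S ρ₀ S.W₃ χ₃) {g : P}
    (hg : g ∈ S.W₃) (x : P) : χ₃ (g * x * g⁻¹ * x⁻¹) = 1 := by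
  have e : g * x * g⁻¹ * x⁻¹ = g * (x * g⁻¹ * x⁻¹) := by group
  have hg' : g⁻¹ ∈ S.W₃ := S.W₃.inv_mem hg
  rw [e, h.mul _ hg _ (S.conj_mem_W₃ hn x hg'), h.inv_conj x _ hg', chi_inv S ρ₀ h hg,
    mul_inv_cancel]

/-- `φ`-invariance of the commutator pairing -/
theorem chi_comm_φ (hn : n ≠ 0) {χ₃ : P → A} (h : Layer S ρ₀ S.W₃ χ₃) (g : P) {x : P}
    (hx : x ∈ S.W₂) :
    χ₃ (S.φ g * S.φ x * (S.φ g)⁻¹ * (S.φ x)⁻¹) = χ₃ (g * x * g⁻¹ * x⁻¹) := by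
  have e : S.φ g * S.φ x * (S.φ g)⁻¹ * (S.φ x)⁻¹ = S.φ (g * x * g⁻¹ * x⁻¹) := by
    rw [map_mul, map_mul, map_mul, map_inv, map_inv]
  rw [e, h.inv_φ _ (S.comm_mem_W₃ hn g hx)]

theorem μ_add_W₂ : ∀ x ∈ S.W₂, ∀ y ∈ S.W₂, S.μ (x * y) = S.μ x + S.μ y :=
  fun _ hx y _ => S.μ_mul_of_left hx y

theorem μ_surj_W₂ : ∀ b : F, ∃ x ∈ S.W₂, S.μ x = b := by
  intro b
  obtain ⟨x, h1, h2, _⟩ := S.surj 0 b 0
  exact ⟨x, h1, h2⟩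

theorem μ_zero_iff_W₂ : ∀ x ∈ S.W₂, S.μ x = 0 ↔ x ∈ S.W₃ :=
  fun _ hx => ⟨fun h => ⟨hx, h⟩, fun h => h.2⟩

theorem τ_surj_top : ∀ b : F, ∃ x ∈ (⊤ : Subgroup P), S.τ x = b := by
  intro b
  obtain ⟨x, h1, _, _⟩ := S.surj b 0 0
  exact ⟨x, Subgroup.mem_top x, h1⟩

/-- (i) `χ₃` kills the commutators of `W₂` -/
theorem chi_comm_W₂ (hn : n ≠ 0) (hcp : CPStmt P A F)
    (p22 : PairStmt F A S.a (1 + n) (1 + n)) {χ₃ : P → A} (h : Layer S ρ₀ S.W₃ χ₃) :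
    ∀ x ∈ S.W₂, ∀ y ∈ S.W₂, χ₃ (x * y * x⁻¹ * y⁻¹) = 1 := by
  refine hcp S.W₂ S.W₂ S.W₃ S.W₃ (fun x y => χ₃ (x * y * x⁻¹ * y⁻¹)) S.μ S.μ
    (μ_add_W₂ S) (μ_add_W₂ S) (μ_surj_W₂ S) (μ_surj_W₂ S) (μ_zero_iff_W₂ S) (μ_zero_iff_W₂ S)
    ?_ ?_ ?_ ?_ S.φ (fun _ h => S.φ_mem_W₂ h) (fun _ h => S.φ_mem_W₂ h) (S.a ^ (1 + n))
    (S.a ^ (1 + n)) (fun x _ => S.μ_φ x) (fun x _ => S.μ_φ x) ?_ p22
  · intro x _ x' _ y hy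
    exact chi_comm_mul_left S ρ₀ hn h x x' hy
  · intro x _ y hy y' hy'
    exact chi_comm_mul_right S ρ₀ hn h x hy hy'
  · intro x hx y _
    exact chi_comm_of_W₃_left S ρ₀ hn h hx y
  · intro x _ y hy
    exact chi_comm_of_W₃_right S ρ₀ hn h x hy
  · intro x _ y hy
    exact chi_comm_φ S ρ₀ hn h x hy

/-- (iii) `χ₃` kills `[P, W₂]` -/
theorem chi_comm_top_W₂ (hn : n ≠ 0) (hcp : CPStmt P A F)
    (p22 : PairStmt F A S.a (1 + n) (1 + n)) (p12 : PairStmt F A S.a 1 (1 + n))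
    {χ₃ : P → A} (h : Layer S ρ₀ S.W₃ χ₃) :
    ∀ g : P, ∀ x ∈ S.W₂, χ₃ (g * x * g⁻¹ * x⁻¹) = 1 := by
  intro g
  refine hcp ⊤ S.W₂ S.W₂ S.W₃ (fun x y => χ₃ (x * y * x⁻¹ * y⁻¹)) S.τ S.μ
    (fun x _ y _ => S.τ_mul x y) (μ_add_W₂ S) (τ_surj_top S) (μ_surj_W₂ S) (fun _ _ => Iff.rfl)
    (μ_zero_iff_W₂ S)
    ?_ ?_ ?_ ?_ S.φ (fun _ _ => Subgroup.mem_top _) (fun _ h => S.φ_mem_W₂ h) (S.a ^ 1)
    (S.a ^ (1 + n))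
    (fun x _ => by rw [pow_one]; exact S.τ_φ x) (fun x _ => S.μ_φ x) ?_ p12 g (Subgroup.mem_top g)
  · intro x _ x' _ y hy
    exact chi_comm_mul_left S ρ₀ hn h x x' hy
  · intro x _ y hy y' hy'
    exact chi_comm_mul_right S ρ₀ hn h x hy hy'
  · intro x hx y hy
    exact chi_comm_W₂ S ρ₀ hn hcp p22 h x hx y hy
  · intro x _ y hy
    exact chi_comm_of_W₃_right S ρ₀ hn h x hy
  · intro x _ y hy
    exact chi_comm_φ S ρ₀ hn h x hy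

/-- module REEM-[ST2] -/
theorem stage2 (hn : n ≠ 0) (hext : ExtStmt P A F) (hcp : CPStmt P A F) (h2 : S.a ^ (1 + n) ≠ 1)
    (p22 : PairStmt F A S.a (1 + n) (1 + n)) (p12 : PairStmt F A S.a 1 (1 + n))
    (χ₃ : P → A) (h : Layer S ρ₀ S.W₃ χ₃) :
    ∃ χ : P → A, Layer S ρ₀ S.W₂ χ := by
  obtain ⟨χ, hmul, hext', hφ⟩ := hext S.W₂ S.W₃ S.W₃_le_W₂ χ₃ h.mul S.μ (μ_add_W₂ S) (μ_surj_W₂ S)
    (μ_zero_iff_W₂ S) S.φ (fun _ h => S.φ_mem_W₂ h) (S.a ^ (1 + n)) h2 (fun x _ => S.μ_φ x)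
    h.inv_φ (fun e _ c hc => h.inv_conj e c hc) (chi_comm_W₂ S ρ₀ hn hcp p22 h)
  refine ⟨χ, ⟨hmul, ?_, hφ, ?_⟩⟩
  · intro z hz
    rw [hext' z (S.K₀_le_W₃ hz), h.ext z hz]
  · intro g x hx
    have e : g * x * g⁻¹ = (g * x * g⁻¹ * x⁻¹) * x := by group
    have hk := S.comm_mem_W₃ hn g hx
    rw [e, hmul _ (S.W₃_le_W₂ hk) _ hx, hext' _ hk, chi_comm_top_W₂ S ρ₀ hn hcp p22 p12 h g x hx,
      one_mul]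

end Cfsg.Agent.Lib.Helper54.ReeMSt2
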