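import Mathlib
import Cfsg.Prelude

/-!
# Reduction of the Odd Order Theorem to minimal simple groups of odd order

`isSolvable_of_no_minSimpleOdd`: if no group of a universe is a minimal simple group of odd
order (`Cfsg.IsMinSimpleOddOrder`), then every finite group of odd order of that universe is
solvable.  This is the (only) top-level step of the Odd Order Theorem that is not local analysis
or character theory: the minimal counterexample is a non-abelian simple group all of whose proper
subgroups are solvable.
-/

namespace Cfsg.Agent.Lib.Helper54.FTReduce

universe u

/-- Strong induction on the order: a finite group of odd order is solvable as soon as no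
minimal simple group of odd order exists in its universe. -/
theorem isSolvable_of_no_minSimpleOdd
    (h : ∀ (H : Type u) [Group H] [Finite H], ¬ Cfsg.IsMinSimpleOddOrder H)
    (G : Type u) [Group G] [Finite G] (hG : Odd (Nat.card G)) : Group.IsSolvable G := by
  -- strong induction on the order, generalising the group
  suffices key : ∀ n : ℕ, ∀ (G : Type u) [Group G] [Finite G], Nat.card G = n →
      Odd (Nat.card G) → Group.IsSolvable G from key _ G rfl hG
  intro n
  induction n using Nat.strong_induction_on with
  | _ n ih =>
    intro G _ _ hn hodd
    -- every proper subgroup is solvable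
    have hsub : ∀ K : Subgroup G, K ≠ ⊤ → Group.IsSolvable K := by
      intro K hK
      have hlt : Nat.card K < n := by
        rw [← hn]
        have hle : Nat.card K ≤ Nat.card G := Subgroup.card_le_card_group K
        rcases lt_or_eq_of_le hle with h1 | h1
        · exact h1
        · exact absurd (Subgroup.card_eq_iff_eq_top K |>.mp h1) hK
      have hKodd : Odd (Nat.card K) := by
        have hdvd : Nat.card K ∣ Nat.card G := Subgroup.card_subgroup_dvd_card K
        exact Odd.of_dvd_nat hodd hdvd
      exact ih _ hlt K rfl hKodd
    by_cases hsimple : IsSimpleGroup G
    · by_cases hcomm : IsMulCommutative G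
      · exact Group.isSolvable_of_comm (fun a b => hcomm.is_comm.comm a b)
      · exact absurd ⟨hodd, hsimple, hcomm, hsub⟩ (h G)
    · -- not simple: trivial, or a proper nontrivial normal subgroup
      by_cases htriv : Subsingleton G
      · infer_instance
      · have hnt : Nontrivial G := not_subsingleton_iff_nontrivial.mp htriv
        have hex : ∃ N : Subgroup G, N.Normal ∧ N ≠ ⊥ ∧ N ≠ ⊤ := by
          by_contra hcon
          push Not at hcon
          exact hsimple
            { exists_pair_ne := hnt.exists_pair_ne
              eq_bot_or_eq_top_of_normal := fun N hN => by
                by_cases hb : N = ⊥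
                · exact Or.inl hb
                · exact Or.inr (hcon N hN hb) }
        obtain ⟨N, hNn, hNbot, hNtop⟩ := hex
        have hNs : Group.IsSolvable N := hsub N hNtop
        have hQs : Group.IsSolvable (G ⧸ N) := by
          have hidx : Nat.card (G ⧸ N) = N.index := rfl
          have hmul : Nat.card N * N.index = Nat.card G := Subgroup.card_mul_index N
          have hN1 : 1 < Nat.card N := by
            rw [Finite.one_lt_card_iff_nontrivial]
            exact (Subgroup.nontrivial_iff_ne_bot N).mpr hNbot
          have hpos : 0 < N.index := Nat.pos_of_ne_zero Subgroup.index_ne_zero_of_finite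
          have hlt : Nat.card (G ⧸ N) < n := by
            rw [hidx, ← hn, ← hmul]
            nlinarith
          have hQodd : Odd (Nat.card (G ⧸ N)) := by
            rw [hidx]
            exact Odd.of_dvd_nat hodd ⟨Nat.card N, by rw [← hmul, mul_comm]⟩
          exact ih _ hlt (G ⧸ N) rfl hQodd
        exact (Group.isSolvable_iff_subgroup_quotient N).mpr ⟨hNs, hQs⟩

end Cfsg.Agent.Lib.Helper54.FTReduce
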