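import Mathlib
import Cfsg.Agent.Lib.Helper54.PairExists
import Cfsg.Agent.Lib.Helper54.FTReduce
import Cfsg.Agent.S1472
import Cfsg.Agent.Lib.Helper24.BGBookFinalC

/-!
# The endgame of the Odd Order Theorem

Everything after Peterfalvi section 13: from

* the (unconditional) B&G input `BookBGData G` (helper24),
* "not every maximal subgroup is of (book) Type I" (Peterfalvi (12.7) + Feit-Hall-Thompson,
  `Helper64.PF12.not_all_litTypeI`),
* the frozen row S1544 (`Stmt1544 G`: the final configuration),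
* the landed row S1472 (B&G Appendix C / Peterfalvi section 14: `p ≤ q`),

we derive `False` for a minimal simple group of odd order, and hence the Odd Order Theorem
(`odd_order_of`), via `FTReduce.isSolvable_of_no_minSimpleOdd`.
-/

set_option autoImplicit false

namespace Cfsg.Agent.Lib.Helper54.FTEndgame

open Cfsg
open Cfsg.Agent.Lib.Helper4.PF
open Cfsg.Agent.Lib.Helper54.PairExists

universe u

variable {G : Type u} [Group G]

/-- S1544 + S1472: the pair `S`, `T` with `q = |W₁| < p = |W₂|` is contradictory. -/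
theorem false_of_pairHyp_lt [Finite G] (h1544 : Stmt1544 G) {S T W₁ W₂ U V : Subgroup G}
    (hPair : PairHyp S T W₁ W₂ U V) (hqp : Nat.card W₁ < Nat.card W₂) : False := by
  obtain ⟨hq, hp, -, -, -, hUcard, -, hcop, hUN, hQp, hQEA, hW₂N, y, hy, hyU,
      F, instF, instFt, f, ψ, hF, hf, hfadd, hψ, hψmul, hψinj, hW₂f⟩ :=
    h1544 S T W₁ W₂ U V hPair.hS hPair.hT hPair.hSP hPair.hTP hPair.hST hPair.hII hPair.hS25
      hPair.hT25 hqp
  have : Fact (Nat.card W₂).Prime := ⟨hp⟩
  have : Fact (Nat.card W₁).Prime := ⟨hq⟩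
  have hle : Nat.card W₂ ≤ Nat.card W₁ :=
    Cfsg.Agent.S1472.result (Nat.card W₂) (Nat.card W₁) hcop F hF (fittingHallOf S) U
      (fittingHallOf T) f ψ hf hfadd hUN hψ hψmul hψinj hUcard hQEA.1 hQp
      (fun x hx hfx => hW₂N ((hW₂f x hx).2 hfx)) y hy
      (fun x hx hfx => hyU ⟨x, (hW₂f x hx).2 hfx, rfl⟩)
  omega

/-- In a pair, `|W₁| ≠ |W₂|`: two subgroups of the same order of the cyclic group `W₁W₂`
coincide, but `W₁ ∩ W₂ = 1 ≠ W₁`. -/
theorem card_ne_of_pairHyp [Finite G] {S T W₁ W₂ U V : Subgroup G}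
    (hPair : PairHyp S T W₁ W₂ U V) : Nat.card W₁ ≠ Nat.card W₂ := by
  intro hcard
  obtain ⟨h1, -, h12, -, hcyc, -⟩ := hPair.hSP.selfNormalizing
  have hA : Nat.card (W₁.subgroupOf (W₁ ⊔ W₂)) = Nat.card W₁ :=
    Nat.card_congr (Subgroup.subgroupOfEquivOfLe le_sup_left).toEquiv
  have hB : Nat.card (W₂.subgroupOf (W₁ ⊔ W₂)) = Nat.card W₂ :=
    Nat.card_congr (Subgroup.subgroupOfEquivOfLe le_sup_right).toEquiv
  have heq := Cfsg.Agent.S1386.subgroup_eq_of_card_eq_of_isCyclic
    (W₁.subgroupOf (W₁ ⊔ W₂)) (W₂.subgroupOf (W₁ ⊔ W₂)) (by rw [hA, hB, hcard])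
  rw [Subgroup.subgroupOf_inj, inf_eq_left.mpr le_sup_left, inf_eq_left.mpr le_sup_right] at heq
  apply h1
  rw [← h12, ← heq, inf_idem]

/-- S1544 (for both orderings of the pair) + S1472: no pair exists. -/
theorem false_of_pairHyp [Finite G] (h1544 : Stmt1544 G) {S T W₁ W₂ U V : Subgroup G}
    (hPair : PairHyp S T W₁ W₂ U V) : False := by
  rcases lt_trichotomy (Nat.card W₁) (Nat.card W₂) with h | h | h
  · exact false_of_pairHyp_lt h1544 hPair h
  · exact card_ne_of_pairHyp hPair h
  · exact false_of_pairHyp_lt h1544 hPair.symm h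

/-- A minimal simple group of odd order does not exist, given Peterfalvi (12.7) in the form
"not all maximal subgroups are of Type I" and the final configuration S1544. -/
theorem false_of_minSimpleOdd [Finite G] (hG : IsMinSimpleOddOrder G)
    (hnotI : ¬ ∀ M : Subgroup G, IsCoatom M → LitTypeI M) (h1544 : Stmt1544 G) : False := by
  have bg := Cfsg.Agent.Lib.Helper24.BGBook.bookBGData hG
  rcases all_typeI_or_pairHyp bg with hall | ⟨S, T, W₁, W₂, U, V, hPair⟩
  · exact hnotI hall
  · exact false_of_pairHyp h1544 hPair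

/-- **The Odd Order Theorem** from its last two open inputs. -/
theorem odd_order_of
    (h : ∀ (H : Type u) [Group H] [Finite H], IsMinSimpleOddOrder H →
      (¬ ∀ M : Subgroup H, IsCoatom M → LitTypeI M) ∧ Stmt1544 H)
    (G : Type u) [Group G] [Finite G] (hG : Odd (Nat.card G)) : Group.IsSolvable G :=
  Cfsg.Agent.Lib.Helper54.FTReduce.isSolvable_of_no_minSimpleOdd
    (fun H _ _ hH => false_of_minSimpleOdd hH (h H hH).1 (h H hH).2) G hG

end Cfsg.Agent.Lib.Helper54.FTEndgame
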