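import Mathlib
import Cfsg.Prelude.Def_Transfer

/-!
# A field model for an irreducible commutative group action (final configuration of the odd order
theorem, frozen S1544)

`exists_field_model_add`: a finite additive group `V` of order `p ^ n` with an irreducible action
of a commutative group `U` is, `U`-equivariantly, the additive group of `GaloisField p n`, with
`U` acting through multiplication by a character `ψ : U →* GaloisField p n`; a prescribed non-zero
vector is sent to `1`.
-/

set_option autoImplicit false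
set_option linter.style.haveILetI false

namespace Cfsg.Agent.Lib.Helper54.FieldModel

theorem exists_field_model_add {V U : Type*} [AddCommGroup V] [Finite V] [Group U]
    [DistribMulAction U V] (hcomm : ∀ a b : U, a * b = b * a)
    (hirr : ∀ W : AddSubgroup V, (∀ (u : U) (v : V), v ∈ W → u • v ∈ W) → W = ⊥ ∨ W = ⊤)
    (p n : ℕ) [Fact p.Prime] (hn : n ≠ 0) (hcard : Nat.card V = p ^ n) (x0 : V) (hx0 : x0 ≠ 0) :
    ∃ (f : V ≃+ GaloisField p n) (ψ : U →* GaloisField p n), f x0 = 1 ∧
      ∀ (u : U) (v : V), f (u • v) = ψ u * f v := by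
  classical
  let ρ : U →* AddMonoid.End V := DistribMulAction.toAddMonoidEnd U V
  have hρ : ∀ u v, ρ u v = u • v := fun u v => rfl
  let S : Set (AddMonoid.End V) := Set.range ρ
  have hS : ∀ a ∈ S, ∀ b ∈ S, a * b = b * a := by
    rintro _ ⟨a, rfl⟩ _ ⟨b, rfl⟩
    rw [← map_mul, ← map_mul, hcomm]
  let E : Subring (AddMonoid.End V) := Subring.closure S
  have hρE : ∀ u, ρ u ∈ E := fun u => Subring.subset_closure ⟨u, rfl⟩
  have hcentral : ∀ e ∈ E, ∀ u, e * ρ u = ρ u * e := by
    intro e he u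
    have hle : E ≤ Subring.centralizer S := by
      apply Subring.closure_le.mpr
      intro a ha
      rw [SetLike.mem_coe, Subring.mem_centralizer_iff]
      intro b hb
      exact hS b hb a ha
    have h1 := hle he
    rw [Subring.mem_centralizer_iff] at h1
    exact (h1 (ρ u) ⟨u, rfl⟩).symm
  -- non-zero elements of `E` are injective
  have hinj : ∀ e ∈ E, e ≠ 0 → Function.Injective e := by
    intro e he hne
    let K : AddSubgroup V :=
      { carrier := {v | e v = 0}
        zero_mem' := map_zero e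
        add_mem' := fun {a b} ha hb => by
          show e (a + b) = 0
          rw [map_add, ha, hb, add_zero]
        neg_mem' := fun {a} ha => by
          show e (-a) = 0
          rw [map_neg, ha, neg_zero] }
    have hK : ∀ v, v ∈ K ↔ e v = 0 := fun v => Iff.rfl
    have hker : ∀ (u : U) (v : V), v ∈ K → u • v ∈ K := by
      intro u v hv
      rw [hK] at hv ⊢
      have h1 : e (u • v) = (e * ρ u) v := rfl
      rw [h1, hcentral e he u]
      show u • (e v) = 0
      rw [hv, smul_zero]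
    rcases hirr _ hker with h | h
    · intro a b hab
      have : a - b ∈ K := by
        rw [hK, map_sub, hab, sub_self]
      rw [h, AddSubgroup.mem_bot] at this
      exact sub_eq_zero.mp this
    · exfalso
      apply hne
      ext v
      have : v ∈ K := by rw [h]; trivial
      exact (hK v).mp this
  have hsurj : ∀ e ∈ E, e ≠ 0 → Function.Surjective e := fun e he hne =>
    Finite.injective_iff_surjective.mp (hinj e he hne)
  letI : CommRing E :=
    { (inferInstance : Ring E) with
      mul_comm := fun a b => (Subring.isMulCommutative_closure hS).is_comm.comm a b }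
  haveI : Nontrivial E := by
    refine ⟨⟨0, 1, ?_⟩⟩
    intro h
    have h1 : ((0 : E) : AddMonoid.End V) x0 = ((1 : E) : AddMonoid.End V) x0 := by rw [h]
    exact hx0 h1.symm
  haveI : NoZeroDivisors E := by
    refine ⟨?_⟩
    intro a b hab
    by_contra hcon
    push Not at hcon
    obtain ⟨ha, hb⟩ := hcon
    have hb' : (b : AddMonoid.End V) ≠ 0 := fun h => hb (Subtype.ext h)
    apply ha
    apply Subtype.ext
    ext v
    obtain ⟨w, rfl⟩ := hsurj b b.2 hb' v
    have h1 : ((a * b : E) : AddMonoid.End V) w = 0 := by rw [hab]; rfl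
    exact h1
  haveI : IsDomain E := NoZeroDivisors.to_isDomain E
  haveI : Finite (AddMonoid.End V) :=
    Finite.of_injective (fun e : AddMonoid.End V => (e : V → V)) DFunLike.coe_injective
  haveI : Fintype E := Fintype.ofFinite E
  letI : Field E := Fintype.fieldOfDomain E
  -- the evaluation map at `x0`
  let φ : E →+ V :=
    { toFun := fun e => (e : AddMonoid.End V) x0
      map_zero' := rfl
      map_add' := fun a b => rfl }
  have hφinj : Function.Injective φ := by
    rw [injective_iff_map_eq_zero]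
    intro e he
    by_contra hne
    have hne' : (e : AddMonoid.End V) ≠ 0 := fun h => hne (Subtype.ext h)
    have h1 : (e : AddMonoid.End V) x0 = (e : AddMonoid.End V) 0 := by
      rw [map_zero]; exact he
    exact hx0 (hinj e e.2 hne' h1)
  have hφsurj : Function.Surjective φ := by
    have hinv : ∀ (u : U) (v : V), v ∈ φ.range → u • v ∈ φ.range := by
      rintro u _ ⟨e, rfl⟩
      exact ⟨⟨ρ u * e, E.mul_mem (hρE u) e.2⟩, rfl⟩
    rcases hirr _ hinv with h | h
    · exfalso
      have : x0 ∈ φ.range := ⟨1, rfl⟩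
      rw [h, AddSubgroup.mem_bot] at this
      exact hx0 this
    · intro v
      have : v ∈ φ.range := by rw [h]; trivial
      exact this
  let Φ : E ≃+ V := AddEquiv.ofBijective φ ⟨hφinj, hφsurj⟩
  haveI : Fintype (GaloisField p n) := Fintype.ofFinite _
  have hc : Fintype.card E = Fintype.card (GaloisField p n) := by
    rw [Fintype.card_eq_nat_card, Fintype.card_eq_nat_card, GaloisField.card p n hn, ← hcard]
    exact Nat.card_congr Φ.toEquiv
  let σ : E ≃+* GaloisField p n := FiniteField.ringEquivOfCardEq hc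
  let ρ' : U →* E :=
    { toFun := fun u => ⟨ρ u, hρE u⟩
      map_one' := Subtype.ext (map_one ρ)
      map_mul' := fun a b => Subtype.ext (map_mul ρ a b) }
  refine ⟨Φ.symm.trans σ.toAddEquiv, σ.toMonoidHom.comp ρ', ?_, ?_⟩
  · have h1 : Φ.symm x0 = 1 := by
      rw [AddEquiv.symm_apply_eq]
      rfl
    show σ (Φ.symm x0) = 1
    rw [h1, map_one]
  · intro u v
    show σ (Φ.symm (u • v)) = σ (ρ' u) * σ (Φ.symm v)
    rw [← map_mul]
    congr 1
    rw [AddEquiv.symm_apply_eq]
    have h2 : Φ (Φ.symm v) = v := Φ.apply_symm_apply v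
    show u • v = ρ u (((Φ.symm v : E) : AddMonoid.End V) x0)
    have h3 : ((Φ.symm v : E) : AddMonoid.End V) x0 = v := h2
    rw [h3]
    rfl


/-- A finite group fixing a point and acting freely elsewhere has order dividing the number of
remaining points. -/
theorem card_dvd_card_sub_one_of_free' {A : Type*} [Group A] [Finite A] {Ω : Type*} [Finite Ω]
    [MulAction A Ω] (α : Ω) (hα : ∀ a : A, a • α = α)
    (hfree : ∀ (a : A) (ω : Ω), ω ≠ α → a • ω = ω → a = 1) :
    Nat.card A ∣ Nat.card Ω - 1 := by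
  classical
  have : Fintype A := Fintype.ofFinite A
  have : Fintype Ω := Fintype.ofFinite Ω
  have hB := MulAction.sum_card_fixedBy_eq_card_orbits_mul_card_group A Ω
  have h1 : ∀ a : A, a ≠ 1 → Fintype.card (MulAction.fixedBy Ω a) = 1 := by
    intro a ha
    rw [Fintype.card_eq_one_iff]
    refine ⟨⟨α, hα a⟩, ?_⟩
    rintro ⟨ω, hω⟩
    apply Subtype.ext
    by_contra hne
    exact ha (hfree a ω hne hω)
  have h2 : Fintype.card (MulAction.fixedBy Ω (1 : A)) = Fintype.card Ω :=
    Fintype.card_congr (Equiv.subtypeUnivEquiv (fun ω => one_smul A ω))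
  rw [← Finset.add_sum_erase Finset.univ _ (Finset.mem_univ (1 : A)), h2,
    Finset.sum_congr rfl (fun a ha => h1 a (Finset.ne_of_mem_erase ha)),
    Finset.sum_const, smul_eq_mul, mul_one, Finset.card_erase_of_mem (Finset.mem_univ _),
    Finset.card_univ] at hB
  rw [Nat.card_eq_fintype_card, Nat.card_eq_fintype_card]
  have hA : 0 < Fintype.card A := Fintype.card_pos
  have hΩ : 0 < Fintype.card Ω := Fintype.card_pos_iff.mpr ⟨α⟩
  have h3 : Fintype.card A ∣ (Fintype.card Ω - 1) + Fintype.card A :=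
    ⟨_, by rw [mul_comm, ← hB]; omega⟩
  exact (Nat.dvd_add_left (dvd_refl _)).mp h3

/-- arithmetic: `m (p - 1) = p ^ n - 1` and `m ∣ p ^ k - 1` with `0 < k < n` is impossible. -/
theorem arith_aux {p n k m : ℕ} (hp : 2 ≤ p) (hk : 0 < k) (hkn : k < n)
    (hm : m * (p - 1) = p ^ n - 1) (hdvd : m ∣ p ^ k - 1) : False := by
  have hpk : 2 ≤ p ^ k := by
    calc 2 ≤ p := hp
      _ = p ^ 1 := (pow_one p).symm
      _ ≤ p ^ k := Nat.pow_le_pow_right (by omega) hk
  have hle : m ≤ p ^ k - 1 := Nat.le_of_dvd (by omega) hdvd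
  have hpn : p * p ^ k ≤ p ^ n := by
    rw [← pow_succ']
    exact Nat.pow_le_pow_right (by omega) hkn
  obtain ⟨p', rfl⟩ : ∃ p', p = p' + 2 := ⟨p - 2, by omega⟩
  obtain ⟨a, ha⟩ : ∃ a, (p' + 2) ^ k = a + 2 := ⟨(p' + 2) ^ k - 2, by omega⟩
  rw [ha] at hle hpn
  have h1 : m * (p' + 2 - 1) ≤ (a + 1) * (p' + 1) := by
    have : p' + 2 - 1 = p' + 1 := by omega
    rw [this]
    exact Nat.mul_le_mul_right _ (by omega)
  have h2 : (a + 1) * (p' + 1) + 1 < (p' + 2) * (a + 2) := by nlinarith
  omega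

/-- Irreducibility of a fixed-point-free action of a group of order `(p ^ n - 1) / (p - 1)` on a
group of order `p ^ n`. -/
theorem irreducible_of_fpf {V U : Type*} [AddCommGroup V] [Finite V] [Group U] [Finite U]
    [DistribMulAction U V] (hfpf : ∀ u : U, u ≠ 1 → ∀ v : V, u • v = v → v = 0)
    (p n : ℕ) (hp : p.Prime) (hcard : Nat.card V = p ^ n)
    (hU : Nat.card U * (p - 1) = p ^ n - 1) :
    ∀ W : AddSubgroup V, (∀ (u : U) (v : V), v ∈ W → u • v ∈ W) → W = ⊥ ∨ W = ⊤ := by
  intro W hW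
  let _ : MulAction U W :=
    { smul := fun u w => ⟨u • (w : V), hW u w w.2⟩
      one_smul := fun w => Subtype.ext (one_smul U (w : V))
      mul_smul := fun a b w => Subtype.ext (mul_smul a b (w : V)) }
  have hsm : ∀ (u : U) (w : W), ((u • w : W) : V) = u • (w : V) := fun u w => rfl
  have hdvd : Nat.card U ∣ Nat.card W - 1 := by
    apply card_dvd_card_sub_one_of_free' (0 : W)
    · intro u
      apply Subtype.ext
      rw [hsm]
      exact smul_zero u
    · intro u w hw huw
      by_contra hu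
      apply hw
      apply Subtype.ext
      have := congrArg Subtype.val huw
      rw [hsm] at this
      exact hfpf u hu w this
  have hWV : Nat.card W ∣ p ^ n := by
    rw [← hcard]
    exact AddSubgroup.card_addSubgroup_dvd_card W
  obtain ⟨k, hk, hWk⟩ := (Nat.dvd_prime_pow hp).mp hWV
  rcases Nat.eq_zero_or_pos k with h0 | h0
  · left
    rw [h0, pow_zero] at hWk
    exact AddSubgroup.card_eq_one.mp hWk
  · rcases Nat.lt_or_ge k n with hlt | hge
    · exfalso
      rw [hWk] at hdvd
      exact arith_aux hp.two_le h0 hlt hU hdvd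
    · right
      have hkn : k = n := le_antisymm hk hge
      apply AddSubgroup.card_eq_iff_eq_top W |>.mp
      rw [hWk, hkn, hcard]

open Cfsg in
/-- The field model of the final configuration: `P` elementary abelian of order `p ^ q`, `U`
commutative of order `(p ^ q - 1) / (p - 1)` acting on `P` without fixed points, `W₂ ≤ P` of order
`p`. -/
theorem exists_field_model {G : Type*} [Group G] [Finite G] (P U W₂ : Subgroup G) (p q : ℕ)
    (hp : p.Prime) (hq : q ≠ 0)
    (hPel : IsElementaryAbelian p P) (hPcard : Nat.card P = p ^ q)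
    (hUcomm : ∀ a ∈ U, ∀ b ∈ U, a * b = b * a)
    (hUcard : Nat.card U * (p - 1) = p ^ q - 1)
    (hUN : U ≤ Subgroup.normalizer (P : Set G))
    (hfpf : ∀ u ∈ U, u ≠ 1 → ∀ x ∈ P, u * x = x * u → x = 1)
    (hW₂ : W₂ ≤ P) (hW₂card : Nat.card W₂ = p) :
    ∃ (F : Type) (_ : Field F) (_ : Fintype F) (f : G → F) (ψ : G → F),
      Fintype.card F = p ^ q ∧
      Set.BijOn f (P : Set G) Set.univ ∧ (∀ x ∈ P, ∀ x' ∈ P, f (x * x') = f x + f x') ∧
      (∀ u ∈ U, ψ u ≠ 0 ∧ ∀ x ∈ P, f (u * x * u⁻¹) = ψ u * f x) ∧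
      (∀ u ∈ U, ∀ u' ∈ U, ψ (u * u') = ψ u * ψ u') ∧ Set.InjOn ψ (U : Set G) ∧
      (∀ x ∈ P, x ∈ W₂ ↔ f x ^ p = f x) := by
  classical
  haveI : Fact p.Prime := ⟨hp⟩
  letI : CommGroup ↥P :=
    { (inferInstance : Group ↥P) with mul_comm := fun a b => hPel.1.is_comm.comm a b }
  have hconj : ∀ (u : ↥U) (x : ↥P), (u : G) * (x : G) * (u : G)⁻¹ ∈ P := fun u x =>
    (Subgroup.mem_normalizer_iff.mp (hUN u.2) x).mp x.2
  let act : ↥U → ↥P → ↥P := fun u x => ⟨(u : G) * (x : G) * (u : G)⁻¹, hconj u x⟩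
  have hact : ∀ (u : ↥U) (x : ↥P), ((act u x : ↥P) : G) = (u : G) * (x : G) * (u : G)⁻¹ :=
    fun u x => rfl
  have hact1 : ∀ x : ↥P, act 1 x = x := fun x => by
    apply Subtype.ext
    rw [hact]
    simp
  have hactmul : ∀ (a b : ↥U) (x : ↥P), act (a * b) x = act a (act b x) := fun a b x => by
    apply Subtype.ext
    rw [hact, hact, hact]
    simp [mul_assoc]
  have hactone : ∀ u : ↥U, act u 1 = 1 := fun u => by
    apply Subtype.ext
    rw [hact]
    simp
  have hactmul' : ∀ (u : ↥U) (x y : ↥P), act u (x * y) = act u x * act u y := fun u x y => by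
    apply Subtype.ext
    rw [Subgroup.coe_mul, hact, hact, hact, Subgroup.coe_mul]
    group
  letI : DistribMulAction ↥U (Additive ↥P) :=
    { smul := fun u v => Additive.ofMul (act u (Additive.toMul v))
      one_smul := fun v => congrArg Additive.ofMul (hact1 (Additive.toMul v))
      mul_smul := fun a b v => congrArg Additive.ofMul (hactmul a b (Additive.toMul v))
      smul_zero := fun u => congrArg Additive.ofMul (hactone u)
      smul_add := fun u v w =>
        congrArg Additive.ofMul (hactmul' u (Additive.toMul v) (Additive.toMul w)) }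
  have hsm : ∀ (u : ↥U) (v : Additive ↥P), u • v = Additive.ofMul (act u (Additive.toMul v)) :=
    fun u v => rfl
  -- fixed-point-freeness
  have hfpf' : ∀ u : ↥U, u ≠ 1 → ∀ v : Additive ↥P, u • v = v → v = 0 := by
    intro u hu v huv
    have hu' : (u : G) ≠ 1 := fun h => hu (Subtype.ext h)
    rw [hsm] at huv
    have h1 : act u (Additive.toMul v) = Additive.toMul v := congrArg Additive.toMul huv
    have h2 := congrArg Subtype.val h1
    rw [hact] at h2
    have h3 : (u : G) * ((Additive.toMul v : ↥P) : G) = ((Additive.toMul v : ↥P) : G) * (u : G) := by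
      calc (u : G) * ((Additive.toMul v : ↥P) : G)
          = ((u : G) * ((Additive.toMul v : ↥P) : G) * (u : G)⁻¹) * (u : G) := by group
        _ = ((Additive.toMul v : ↥P) : G) * (u : G) := by rw [h2]
    have h4 := hfpf u u.2 hu' _ (Additive.toMul v).2 h3
    have h5 : (Additive.toMul v : ↥P) = 1 := Subtype.ext h4
    exact congrArg Additive.ofMul h5
  have hcardV : Nat.card (Additive ↥P) = p ^ q := by
    rw [← hPcard]
    exact Nat.card_congr Additive.toMul
  have hirr := irreducible_of_fpf (V := Additive ↥P) (U := ↥U) hfpf' p q hp hcardV hUcard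
  have hcomm : ∀ a b : ↥U, a * b = b * a := fun a b => Subtype.ext (hUcomm a a.2 b b.2)
  -- the vector `x0`
  obtain ⟨x0, hx0W, hx01⟩ : ∃ x0 ∈ W₂, x0 ≠ 1 := by
    have : W₂ ≠ ⊥ := by
      intro h
      rw [h, Subgroup.card_bot] at hW₂card
      exact hp.one_lt.ne hW₂card
    exact (Subgroup.ne_bot_iff_exists_ne_one.mp this).elim fun x hx => ⟨x, x.2, fun h => hx (Subtype.ext h)⟩
  have hx0P : x0 ∈ P := hW₂ hx0W
  have hx0' : Additive.ofMul (⟨x0, hx0P⟩ : ↥P) ≠ 0 := by
    intro h
    have h1 : (⟨x0, hx0P⟩ : ↥P) = 1 := congrArg Additive.toMul h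
    exact hx01 (congrArg Subtype.val h1)
  obtain ⟨g, χ, hg1, hgχ⟩ := exists_field_model_add (V := Additive ↥P) (U := ↥U) hcomm hirr p q hq
    hcardV _ hx0'
  haveI : Fintype (GaloisField p q) := Fintype.ofFinite _
  -- `W₂` is generated by `x0`
  have hW₂eq : W₂ = Subgroup.zpowers x0 := by
    symm
    apply Subgroup.eq_of_le_of_card_ge (Subgroup.zpowers_le.mpr hx0W)
    rw [Nat.card_zpowers, hW₂card]
    have h1 : orderOf x0 ∣ p := by
      rw [← hW₂card]
      exact Subgroup.orderOf_dvd_natCard W₂ hx0W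
    rcases (Nat.dvd_prime hp).mp h1 with h | h
    · exact absurd (orderOf_eq_one_iff.mp h) hx01
    · exact h.ge
  have hχ_ne : ∀ u : ↥U, χ u ≠ 0 := by
    intro u h
    have h1 : χ u * χ u⁻¹ = 1 := by rw [← map_mul, mul_inv_cancel, map_one]
    rw [h, zero_mul] at h1
    exact zero_ne_one h1
  refine ⟨GaloisField p q, inferInstance, inferInstance,
    fun x => if hx : x ∈ P then g (Additive.ofMul ⟨x, hx⟩) else 0,
    fun u => if hu : u ∈ U then χ ⟨u, hu⟩ else 0, ?_, ?_, ?_, ?_, ?_, ?_, ?_⟩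
  · rw [Fintype.card_eq_nat_card, GaloisField.card p q hq]
  · refine ⟨fun x _ => Set.mem_univ _, ?_, ?_⟩
    · intro x hx y hy hxy
      simp only [SetLike.mem_coe] at hx hy
      simp only [dif_pos hx, dif_pos hy] at hxy
      have h1 := g.injective hxy
      have h2 : (⟨x, hx⟩ : ↥P) = ⟨y, hy⟩ := congrArg Additive.toMul h1
      exact congrArg Subtype.val h2
    · intro a _
      refine ⟨((Additive.toMul (g.symm a) : ↥P) : G), (Additive.toMul (g.symm a)).2, ?_⟩
      have hmem : ((Additive.toMul (g.symm a) : ↥P) : G) ∈ P := (Additive.toMul (g.symm a)).2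
      simp only [dif_pos hmem]
      exact g.apply_symm_apply a
  · intro x hx x' hx'
    simp only [dif_pos hx, dif_pos hx', dif_pos (P.mul_mem hx hx')]
    rw [← map_add]
    rfl
  · intro u hu
    refine ⟨?_, ?_⟩
    · simp only [dif_pos hu]
      exact hχ_ne _
    · intro x hx
      have hmem : u * x * u⁻¹ ∈ P := hconj ⟨u, hu⟩ ⟨x, hx⟩
      simp only [dif_pos hu, dif_pos hx, dif_pos hmem]
      rw [← hgχ]
      rfl
  · intro u hu u' hu'
    simp only [dif_pos hu, dif_pos hu', dif_pos (U.mul_mem hu hu')]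
    rw [← map_mul]
    rfl
  · intro u hu u' hu' huu'
    simp only [SetLike.mem_coe] at hu hu'
    simp only [dif_pos hu, dif_pos hu'] at huu'
    have h1 : g ((⟨u, hu⟩ : ↥U) • Additive.ofMul (⟨x0, hx0P⟩ : ↥P)) =
        g ((⟨u', hu'⟩ : ↥U) • Additive.ofMul (⟨x0, hx0P⟩ : ↥P)) := by
      rw [hgχ, hgχ, huu']
    have h2 := g.injective h1
    rw [hsm, hsm] at h2
    have h3 : act ⟨u, hu⟩ ⟨x0, hx0P⟩ = act ⟨u', hu'⟩ ⟨x0, hx0P⟩ := congrArg Additive.toMul h2
    have h4 : u * x0 * u⁻¹ = u' * x0 * u'⁻¹ := congrArg Subtype.val h3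
    by_contra hne
    have h5 : u'⁻¹ * u ≠ 1 := by
      intro h
      apply hne
      have : u = u' * (u'⁻¹ * u) := by group
      rw [this, h, mul_one]
    have h6 : (u'⁻¹ * u) * x0 = x0 * (u'⁻¹ * u) := by
      have : (u'⁻¹ * u) * x0 = u'⁻¹ * (u * x0 * u⁻¹) * u := by group
      rw [this, h4]
      group
    exact hx01 (hfpf _ (U.mul_mem (U.inv_mem hu') hu) h5 x0 hx0P h6)
  · intro x hx
    simp only [dif_pos hx]
    rw [← Subfield.mem_bot_iff_pow_eq_self (GaloisField p q) p, mem_bot_iff_intCast p (GaloisField p q),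
      hW₂eq, Subgroup.mem_zpowers_iff]
    constructor
    · rintro ⟨n, rfl⟩
      refine ⟨n, ?_⟩
      have h1 : Additive.ofMul (⟨x0 ^ n, hx⟩ : ↥P) = n • Additive.ofMul (⟨x0, hx0P⟩ : ↥P) := by
        rw [← ofMul_zpow]
        rfl
      rw [h1, map_zsmul, hg1]
      simp
    · rintro ⟨n, hn⟩
      refine ⟨n, ?_⟩
      have h1 : g (n • Additive.ofMul (⟨x0, hx0P⟩ : ↥P)) = g (Additive.ofMul ⟨x, hx⟩) := by
        rw [map_zsmul, hg1, ← hn]
        simp
      have h2 := g.injective h1
      rw [← ofMul_zpow] at h2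
      have h3 : (⟨x0, hx0P⟩ : ↥P) ^ n = ⟨x, hx⟩ := congrArg Additive.toMul h2
      have h4 := congrArg Subtype.val h3
      rw [Subgroup.coe_zpow] at h4
      exact h4


open Cfsg in
/-- The field-model clause of the frozen S1544, from its other clauses (`P = S_F`, `p = |W₂|`,
`q = |W₁|`). -/
theorem exists_field_model_of_cyclic {G : Type*} [Group G] [Finite G] (P U W₁ W₂ : Subgroup G)
    (hq : (Nat.card W₁).Prime) (hp : (Nat.card W₂).Prime)
    (hPel : IsElementaryAbelian (Nat.card W₂) P)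
    (hPcard : Nat.card P = Nat.card W₂ ^ Nat.card W₁)
    (hUcyc : IsCyclic U)
    (hUcard : Nat.card U * (Nat.card W₂ - 1) = Nat.card W₂ ^ Nat.card W₁ - 1)
    (hfpf : ∀ u ∈ U, u ≠ 1 → ∀ x ∈ P, u * x = x * u → x = 1)
    (hUN : U ≤ Subgroup.normalizer (P : Set G))
    (hW₂ : W₂ ≤ P) :
    ∃ (F : Type) (_ : Field F) (_ : Fintype F) (f : G → F) (ψ : G → F),
      Fintype.card F = Nat.card W₂ ^ Nat.card W₁ ∧
      Set.BijOn f (P : Set G) Set.univ ∧ (∀ x ∈ P, ∀ x' ∈ P, f (x * x') = f x + f x') ∧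
      (∀ u ∈ U, ψ u ≠ 0 ∧ ∀ x ∈ P, f (u * x * u⁻¹) = ψ u * f x) ∧
      (∀ u ∈ U, ∀ u' ∈ U, ψ (u * u') = ψ u * ψ u') ∧ Set.InjOn ψ (U : Set G) ∧
      (∀ x ∈ P, x ∈ W₂ ↔ f x ^ Nat.card W₂ = f x) := by
  have hUcomm : ∀ a ∈ U, ∀ b ∈ U, a * b = b * a := by
    intro a ha b hb
    obtain ⟨g, hg⟩ := hUcyc.exists_generator
    obtain ⟨m, hm⟩ := Subgroup.mem_zpowers_iff.mp (hg ⟨a, ha⟩)
    obtain ⟨n, hn⟩ := Subgroup.mem_zpowers_iff.mp (hg ⟨b, hb⟩)
    have h1 : (⟨a, ha⟩ : ↥U) * ⟨b, hb⟩ = ⟨b, hb⟩ * ⟨a, ha⟩ := by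
      rw [← hm, ← hn, ← zpow_add, ← zpow_add, add_comm]
    exact congrArg Subtype.val h1
  exact exists_field_model P U W₂ (Nat.card W₂) (Nat.card W₁) hp hq.ne_zero hPel hPcard hUcomm
    hUcard hUN hfpf hW₂ rfl

end Cfsg.Agent.Lib.Helper54.FieldModel
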