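import Mathlib
import Cfsg.Agent.Lib.Helper4.PFInterface
import Cfsg.Agent.Lib.Helper54.FieldModel
import Cfsg.Agent.Lib.Helper54.FTEndgame

/-!
# Frozen S1544 from its group-theoretic core

`Stmt1544Core G` is the body of the frozen S1544 without the final field-model clause;
`stmt1544_of_core` adds the field model (`Lib/Helper54/FieldModel`), so that the sec. 13-14
assembly only has to produce `Stmt1544Core G`.
-/

set_option autoImplicit false
set_option linter.unusedVariables false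

namespace Cfsg.Agent.Lib.Helper54.PF14Field

open Cfsg
open Cfsg.Agent.Lib.Helper4.PF

/-- the body of the frozen S1544 without the field-model clause -/
def Stmt1544Core (G : Type*) [Group G] [Finite G] : Prop :=
  ∀ (S T W₁ W₂ U V : Subgroup G) (hS : IsCoatom S) (hT : IsCoatom T) (hSP : Cfsg.IsTypePWith S W₁ U W₂) (hTP : Cfsg.IsTypePWith T W₂ V W₁) (hST : S ⊓ T = W₁ ⊔ W₂) (hII : Cfsg.IsOfTypeII S ∨ Cfsg.IsOfTypeII T) (hS25 : Cfsg.IsOfTypeII S ∨ Cfsg.IsOfTypeIII S ∨ Cfsg.IsOfTypeIV S ∨ Cfsg.IsOfTypeV S) (hT25 : Cfsg.IsOfTypeII T ∨ Cfsg.IsOfTypeIII T ∨ Cfsg.IsOfTypeIV T ∨ Cfsg.IsOfTypeV T) (hqp : Nat.card W₁ < Nat.card W₂), (Nat.card W₁).Prime ∧ (Nat.card W₂).Prime ∧ Cfsg.IsElementaryAbelian (Nat.card W₂) (Cfsg.fittingHallOf S) ∧ Nat.card (Cfsg.fittingHallOf S) = Nat.card W₂ ^ Nat.card W₁ ∧ IsCyclic U ∧ Nat.card U * (Nat.card W₂ - 1) = Nat.card W₂ ^ Nat.card W₁ - 1 ∧ (∀ u ∈ U, u ≠ 1 → ∀ x ∈ Cfsg.fittingHallOf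 S, u * x = x * u → x = 1) ∧ Nat.Coprime ((Nat.card W₂ ^ Nat.card W₁ - 1) / (Nat.card W₂ - 1)) (Nat.card W₂ - 1) ∧ U ≤ Subgroup.normalizer (Cfsg.fittingHallOf S : Set G) ∧ (Nat.card (Cfsg.fittingHallOf T)).Coprime (Nat.card W₂) ∧ Cfsg.IsElementaryAbelian (Nat.card W₁) (Cfsg.fittingHallOf T) ∧ W₂ ≤ Subgroup.normalizer (Cfsg.fittingHallOf T : Set G) ∧ ∃ y ∈ Cfsg.fittingHallOf T, W₂.map (MulAut.conj y).toMonoidHom ≤ Subgroup.normalizer (U : Set G)

theorem stmt1544_of_core {G : Type*} [Group G] [Finite G] (h : Stmt1544Core G) : Stmt1544 G := by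
  intro S T W₁ W₂ U V hS hT hSP hTP hST hII hS25 hT25 hqp
  obtain ⟨h1, h2, h3, h4, h5, h6, h7, h8, h9, h10, h11, h12, y, hy, hyU⟩ :=
    h S T W₁ W₂ U V hS hT hSP hTP hST hII hS25 hT25 hqp
  refine ⟨h1, h2, h3, h4, h5, h6, h7, h8, h9, h10, h11, h12, y, hy, hyU, ?_⟩
  exact Cfsg.Agent.Lib.Helper54.FieldModel.exists_field_model_of_cyclic (Cfsg.fittingHallOf S) U W₁ W₂
    h1 h2 h3 h4 h5 h6 h7 h9 (hSP.W₂_le.trans inf_le_left)


/-- The odd order theorem from: for every minimal simple group `H` of odd order, not all maximal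
subgroups of `H` are of Type I, and the group-theoretic core of S1544 holds. -/
theorem odd_order_of_core.{u}
    (h : ∀ (H : Type u) [Group H] [Finite H], IsMinSimpleOddOrder H →
      (¬ ∀ M : Subgroup H, IsCoatom M → LitTypeI M) ∧ Stmt1544Core H)
    (G : Type u) [Group G] [Finite G] (hG : Odd (Nat.card G)) : Group.IsSolvable G :=
  Cfsg.Agent.Lib.Helper54.FTEndgame.odd_order_of
    (fun H _ _ hH => ⟨(h H hH).1, stmt1544_of_core (h H hH).2⟩) G hG

end Cfsg.Agent.Lib.Helper54.PF14Field
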