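import Mathlib
import Cfsg.Agent.Lib.Helper29.ThreeInvDefs

/-!
# S3117-[TI-SEVEN] (helper29's cut): if an anisotropic quadratic map takes only two nonzero
values on `T ∖ B` then `|T| ≤ 4 |B|`; and a group of exponent two with at most four elements
has at most two elements outside `{0, c}`.
-/

set_option autoImplicit false

namespace Cfsg.Agent.Lib.Helper54.ThreeInv

open Cfsg.Agent.Lib.Helper29.ThreeInv

variable {V U : Type*} [AddCommGroup V] [AddCommGroup U]

/-- a translate of a finite subgroup has at most as many elements -/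
theorem ncard_translate_le [Finite V] (B : AddSubgroup V) (y : V) :
    ((fun b => y + b) '' (B : Set V)).ncard ≤ Nat.card B := by
  have : Nat.card B = (B : Set V).ncard := Nat.card_coe_set_eq (B : Set V)
  rw [this]
  exact Set.ncard_image_le (Set.toFinite _)

/-- two elements of `{a, b}` add up to an element of `{0, a + b}` -/
theorem pair_sum {a b s t : U} (h2 : ∀ u : U, u + u = 0) (hs : s = a ∨ s = b) (ht : t = a ∨ t = b) :
    s + t = 0 ∨ s + t = a + b := by
  rcases hs with hs | hs <;> rcases ht with ht | ht <;> rw [hs, ht]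
  · left; exact h2 _
  · right; rfl
  · right; exact add_comm _ _
  · left; exact h2 _

theorem even_sum {a b s t : U} (h2 : ∀ u : U, u + u = 0) (hs : s = 0 ∨ s = a + b)
    (ht : t = 0 ∨ t = a + b) : s + t = 0 ∨ s + t = a + b := by
  rcases hs with hs | hs <;> rcases ht with ht | ht <;> rw [hs, ht]
  · left; exact add_zero _
  · right; exact zero_add _
  · right; exact add_zero _
  · left; exact h2 _

theorem odd_sum {a b s t : U} (h2 : ∀ u : U, u + u = 0) (hs : s = 0 ∨ s = a + b)
    (ht : t = a ∨ t = b) : s + t = a ∨ s + t = b := by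
  rcases hs with hs | hs <;> rcases ht with ht | ht <;> rw [hs, ht]
  · left; exact zero_add _
  · right; exact zero_add _
  · right
    rw [add_comm a b, add_assoc, h2, add_zero]
  · left
    rw [add_assoc, h2, add_zero]

set_option linter.unusedVariables false in
theorem AQ.card_le_four_mul [Finite V] {q : V → U} (h : AQ q) (T B : AddSubgroup V) (hBT : B ≤ T)
    {a b : U} (ha : a ≠ 0) (hb : b ≠ 0)
    (hT : ∀ y ∈ T, y ∉ B → q y = a ∨ q y = b) : Nat.card T ≤ 4 * Nat.card B := by
  by_contra hlt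
  push Not at hlt
  have h2V := h.twoV
  have h2U := h.twoU
  -- choose y₁
  have hB0 : Nat.card B = (B : Set V).ncard := (Nat.card_coe_set_eq _)
  have hT0 : Nat.card T = (T : Set V).ncard := (Nat.card_coe_set_eq _)
  have hc1 : (B : Set V).ncard < (T : Set V).ncard := by
    rw [← hB0, ← hT0]; omega
  obtain ⟨y₁, hy₁T, hy₁B⟩ := Set.exists_mem_notMem_of_ncard_lt_ncard hc1 (Set.toFinite _)
  -- choose y₂
  have hc2 : ((B : Set V) ∪ (fun b => y₁ + b) '' (B : Set V)).ncard < (T : Set V).ncard := by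
    refine lt_of_le_of_lt (Set.ncard_union_le _ _) ?_
    have := ncard_translate_le B y₁
    rw [← hB0, ← hT0]; omega
  obtain ⟨y₂, hy₂T, hy₂B⟩ := Set.exists_mem_notMem_of_ncard_lt_ncard hc2 (Set.toFinite _)
  -- choose y₃
  have hc3 : ((B : Set V) ∪ (fun b => y₁ + b) '' (B : Set V) ∪ (fun b => y₂ + b) '' (B : Set V) ∪
      (fun b => (y₁ + y₂) + b) '' (B : Set V)).ncard < (T : Set V).ncard := by
    refine lt_of_le_of_lt (Set.ncard_union_le _ _) ?_
    have h3 := ncard_translate_le B (y₁ + y₂)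
    have h2' : ((B : Set V) ∪ (fun b => y₁ + b) '' (B : Set V) ∪
        (fun b => y₂ + b) '' (B : Set V)).ncard ≤ 3 * Nat.card B := by
      refine le_trans (Set.ncard_union_le _ _) ?_
      have h2 := ncard_translate_le B y₂
      have h1' : ((B : Set V) ∪ (fun b => y₁ + b) '' (B : Set V)).ncard ≤ 2 * Nat.card B := by
        refine le_trans (Set.ncard_union_le _ _) ?_
        have h1 := ncard_translate_le B y₁
        rw [← hB0]; omega
      omega
    rw [← hT0]; omega
  obtain ⟨y₃, hy₃T, hy₃B⟩ := Set.exists_mem_notMem_of_ncard_lt_ncard hc3 (Set.toFinite _)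
  simp only [Set.mem_union, Set.mem_image, SetLike.mem_coe, not_or, not_exists, not_and] at hy₂B hy₃B
  simp only [SetLike.mem_coe] at hy₁T hy₁B hy₂T hy₃T
  obtain ⟨hy₂B0, hy₂B1⟩ := hy₂B
  obtain ⟨⟨⟨hy₃B0, hy₃B1⟩, hy₃B2⟩, hy₃B12⟩ := hy₃B
  -- the seven sums avoid `B`
  have key : ∀ s y : V, (∀ x ∈ B, ¬ s + x = y) → s + y ∉ B := by
    intro s y hs hsy
    apply hs (s + y) hsy
    rw [← add_assoc, h2V, zero_add]
  have n12 : y₁ + y₂ ∉ B := key y₁ y₂ hy₂B1
  have n13 : y₁ + y₃ ∉ B := key y₁ y₃ hy₃B1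
  have n23 : y₂ + y₃ ∉ B := key y₂ y₃ hy₃B2
  have n123 : y₁ + y₂ + y₃ ∉ B := key (y₁ + y₂) y₃ hy₃B12
  have v1 := hT y₁ hy₁T hy₁B
  have v2 := hT y₂ hy₂T hy₂B0
  have v3 := hT y₃ hy₃T hy₃B0
  have v12 := hT (y₁ + y₂) (T.add_mem hy₁T hy₂T) n12
  have v13 := hT (y₁ + y₃) (T.add_mem hy₁T hy₃T) n13
  have v23 := hT (y₂ + y₃) (T.add_mem hy₂T hy₃T) n23
  have v123 := hT (y₁ + y₂ + y₃) (T.add_mem (T.add_mem hy₁T hy₂T) hy₃T) n123
  have h7 := h.seven y₁ y₂ y₃
  have e : q (y₁ + y₂ + y₃) + q (y₁ + y₂) + q (y₁ + y₃) + q (y₂ + y₃) + q y₁ + q y₂ + q y₃ =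
      ((q (y₁ + y₂ + y₃) + q (y₁ + y₂)) + (q (y₁ + y₃) + q (y₂ + y₃)) + (q y₁ + q y₂)) + q y₃ := by
    abel
  rw [e] at h7
  have p1 := pair_sum h2U v123 v12
  have p2 := pair_sum h2U v13 v23
  have p3 := pair_sum h2U v1 v2
  have p4 := even_sum h2U (even_sum h2U p1 p2) p3
  rcases odd_sum h2U p4 v3 with h' | h'
  · exact ha (h'.symm.trans h7)
  · exact hb (h'.symm.trans h7)

theorem exists_two_values [Finite U] (h2 : ∀ u : U, u + u = 0) (hU : Nat.card U ≤ 4) (c : U)
    (hc : c ≠ 0) :
    ∃ a b : U, a ≠ 0 ∧ b ≠ 0 ∧ ∀ u : U, u ≠ 0 → u ≠ c → u = a ∨ u = b := by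
  classical
  by_cases hex : ∃ a : U, a ≠ 0 ∧ a ≠ c
  · obtain ⟨a, ha0, hac⟩ := hex
    have hne : ∀ x y : U, x + y = 0 → x = y := by
      intro x y hxy
      have : x = -y := eq_neg_of_add_eq_zero_left hxy
      rw [this]
      exact neg_eq_of_add_eq_zero_left (h2 y)
    have hb0 : a + c ≠ 0 := fun h => hac (hne a c h)
    refine ⟨a, a + c, ha0, hb0, ?_⟩
    intro u hu0 huc
    by_contra hcon
    push Not at hcon
    obtain ⟨hua, huac⟩ := hcon
    have : Fintype U := Fintype.ofFinite U
    -- five distinct elements 0, c, a, a + c, u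
    have hcard : ({0, c, a, a + c, u} : Finset U).card = 5 := by
      have h1 : u ∉ (∅ : Finset U) := Finset.notMem_empty _
      have hacu : a + c ≠ u := fun h => huac h.symm
      have hau : a ≠ u := fun h => hua h.symm
      have hcu : c ≠ u := fun h => huc h.symm
      have h0u : (0 : U) ≠ u := fun h => hu0 h.symm
      have haac : a ≠ a + c := by
        intro h
        apply hc
        have := h.symm
        rwa [add_eq_left] at this
      have hcac : c ≠ a + c := by
        intro h
        apply ha0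
        have := h.symm
        rwa [add_eq_right] at this
      have h0ac : (0 : U) ≠ a + c := fun h => hb0 h.symm
      have hca : c ≠ a := fun h => hac h.symm
      have h0a : (0 : U) ≠ a := fun h => ha0 h.symm
      have h0c : (0 : U) ≠ c := fun h => hc h.symm
      rw [Finset.card_insert_of_notMem, Finset.card_insert_of_notMem,
        Finset.card_insert_of_notMem, Finset.card_insert_of_notMem, Finset.card_singleton]
      · simp only [Finset.mem_singleton]; exact hacu
      · simp only [Finset.mem_insert, Finset.mem_singleton, not_or]; exact ⟨haac, hau⟩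
      · simp only [Finset.mem_insert, Finset.mem_singleton, not_or]; exact ⟨hca, hcac, hcu⟩
      · simp only [Finset.mem_insert, Finset.mem_singleton, not_or]; exact ⟨h0c, h0a, h0ac, h0u⟩
    have hle := Finset.card_le_univ ({0, c, a, a + c, u} : Finset U)
    rw [hcard, ← Nat.card_eq_fintype_card] at hle
    omega
  · push Not at hex
    refine ⟨c, c, hc, hc, ?_⟩
    intro u hu0 huc
    exact absurd (hex u hu0) huc

end Cfsg.Agent.Lib.Helper54.ThreeInv
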