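import Mathlib
import Cfsg.Agent.Lib.Helper29.ThreeInvDefs

/-!
# S3117-[TI-FPF] (helper29's cut): an additive permutation `g` of odd prime order on an elementary
abelian `2`-group `V`: `|V| = |ker (g-1)| |im (g-1)|`, `g` has no nonzero fixed point on
`im (g-1)`, `|im (g-1)| ≡ 1 mod r`, and `q (c + w) = q c + q w` for `c ∈ ker`, `w ∈ im`.
-/

set_option autoImplicit false

namespace Cfsg.Agent.Lib.Helper54.ThreeInv

open Cfsg.Agent.Lib.Helper29.ThreeInv

variable {V U : Type*} [AddCommGroup V] [AddCommGroup U]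

theorem card_eq_ker_mul_range [Finite V] (g : Equiv.Perm V) (hg : IsAdd g) :
    Nat.card V = Nat.card (dmap g hg).ker * Nat.card (dmap g hg).range := by
  rw [AddSubgroup.card_eq_card_quotient_mul_card_addSubgroup (dmap g hg).ker,
    Nat.card_congr (QuotientAddGroup.quotientKerEquivRange (dmap g hg)).toEquiv, mul_comm]

theorem map_mem_range (g : Equiv.Perm V) (hg : IsAdd g) {w : V} (hw : w ∈ (dmap g hg).range) :
    g w ∈ (dmap g hg).range := by
  rw [mem_range_dmap] at hw ⊢
  obtain ⟨v, rfl⟩ := hw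
  exact ⟨g v, (hg.map_sub (g v) v).symm⟩

/-- iterating `g` on `v` when `g v - v` is fixed -/
theorem pow_apply_of_fixed (g : Equiv.Perm V) (hg : IsAdd g) (v : V) (hfix : g (g v - v) = g v - v)
    (k : ℕ) : (g ^ k) v = v + k • (g v - v) := by
  induction k with
  | zero => simp
  | succ k ih =>
    have hk : g (k • (g v - v)) = k • (g v - v) := by
      clear ih
      induction k with
      | zero => rw [zero_smul]; exact hg.map_zero
      | succ k ih => rw [succ_nsmul, hg, ih, hfix]
    rw [pow_succ', Equiv.Perm.mul_apply, ih, hg, hk, succ_nsmul]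
    abel

theorem range_fixed_eq_zero (h2 : ∀ v : V, v + v = 0) (g : Equiv.Perm V) (hg : IsAdd g) {r : ℕ}
    (hodd : Odd r) (hgr : g ^ r = 1) {w : V} (hw : w ∈ (dmap g hg).range) (hfix : g w = w) :
    w = 0 := by
  rw [mem_range_dmap] at hw
  obtain ⟨v, rfl⟩ := hw
  have h := pow_apply_of_fixed g hg v hfix r
  rw [hgr, Equiv.Perm.one_apply] at h
  have hr : r • (g v - v) = 0 := by
    have := h.symm
    rwa [add_eq_left] at this
  obtain ⟨m, rfl⟩ := hodd
  have h2m : (2 * m) • (g v - v) = 0 := by
    rw [mul_comm, mul_nsmul, two_nsmul, h2]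
  rwa [add_nsmul, h2m, zero_add, one_nsmul] at hr

theorem card_finset_modEq {α : Type*} [DecidableEq α] (g : Equiv.Perm α) {r : ℕ} [Fact r.Prime]
    (hgr : g ^ r = 1) (S : Finset α) (hS : ∀ v ∈ S, g v ∈ S) :
    S.card ≡ (S.filter (fun v => g v = v)).card [MOD r] := by
  have hpow : ∀ k : ℕ, ∀ v ∈ S, (g ^ k) v ∈ S := by
    intro k
    induction k with
    | zero => intro v hv; simpa using hv
    | succ k ih =>
      intro v hv
      rw [pow_succ', Equiv.Perm.mul_apply]
      exact hS _ (ih v hv)
  have hr1 : 1 ≤ r := (Fact.out : r.Prime).one_lt.le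
  have hiff : ∀ x : α, g x ∈ S ↔ x ∈ S := by
    intro x
    refine ⟨fun hx => ?_, hS x⟩
    have h1 := hpow (r - 1) (g x) hx
    have h2 : (g ^ (r - 1)) (g x) = x := by
      rw [← Equiv.Perm.mul_apply, ← pow_succ, Nat.sub_add_cancel hr1, hgr, Equiv.Perm.one_apply]
    rwa [h2] at h1
  set σ : Equiv.Perm {x // x ∈ S} := g.subtypePerm hiff with hσdef
  have hσ : σ ^ r ^ 1 = 1 := by
    rw [pow_one]
    ext x
    have : ∀ k : ℕ, ((σ ^ k) x : α) = (g ^ k) (x : α) := by
      intro k
      induction k with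
      | zero => simp
      | succ k ih =>
        rw [pow_succ', pow_succ', Equiv.Perm.mul_apply, Equiv.Perm.mul_apply, ← ih, hσdef,
          Equiv.Perm.subtypePerm_apply]
    rw [this r, hgr]
    simp
  have hmain := Equiv.Perm.card_compl_support_modEq hσ
  rw [Fintype.card_coe] at hmain
  have hset : (S.filter (fun v => g v = v)) =
      (σ.supportᶜ).map ⟨Subtype.val, Subtype.val_injective⟩ := by
    ext v
    simp only [Finset.mem_filter, Finset.mem_map, Finset.mem_compl, Equiv.Perm.mem_support,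
      not_not, Function.Embedding.coeFn_mk]
    constructor
    · rintro ⟨hvS, hgv⟩
      refine ⟨⟨v, hvS⟩, ?_, rfl⟩
      apply Subtype.ext
      rw [hσdef, Equiv.Perm.subtypePerm_apply]
      exact hgv
    · rintro ⟨⟨x, hx⟩, hfix, rfl⟩
      refine ⟨hx, ?_⟩
      have := congrArg Subtype.val hfix
      rw [hσdef, Equiv.Perm.subtypePerm_apply] at this
      exact this
  rw [hset, Finset.card_map]
  exact hmain.symm

theorem card_range_modEq_one [Finite V] (h2 : ∀ v : V, v + v = 0) (g : Equiv.Perm V)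
    (hg : IsAdd g) {r : ℕ} [Fact r.Prime] (hr2 : r ≠ 2) (hgr : g ^ r = 1) :
    Nat.card (dmap g hg).range ≡ 1 [MOD r] := by
  classical
  have : Fintype V := Fintype.ofFinite V
  have hodd : Odd r := (Fact.out : r.Prime).odd_of_ne_two hr2
  set S : Finset V := Finset.univ.filter (fun v => v ∈ (dmap g hg).range) with hSdef
  have hS : ∀ v ∈ S, g v ∈ S := by
    intro v hv
    rw [hSdef, Finset.mem_filter] at hv ⊢
    exact ⟨Finset.mem_univ _, map_mem_range g hg hv.2⟩
  have hcard : Nat.card (dmap g hg).range = S.card := by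
    rw [Nat.card_eq_fintype_card, hSdef, ← Fintype.card_subtype]
  have hfix : S.filter (fun v => g v = v) = {0} := by
    ext v
    simp only [Finset.mem_filter, Finset.mem_singleton, hSdef, Finset.mem_univ, true_and]
    constructor
    · rintro ⟨hv, hgv⟩
      exact range_fixed_eq_zero h2 g hg hodd hgr hv hgv
    · rintro rfl
      exact ⟨zero_mem _, hg.map_zero⟩
  have := card_finset_modEq g hgr S hS
  rw [hfix, Finset.card_singleton] at this
  rw [hcard]
  exact this

theorem AQ.add_ker_range {q : V → U} (h : AQ q) {g : Equiv.Perm V} (hg : g ∈ orth q) {c w : V}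
    (hc : c ∈ (dmap g hg.1).ker) (hw : w ∈ (dmap g hg.1).range) : q (c + w) = q c + q w := by
  rw [mem_ker_dmap] at hc
  rw [mem_range_dmap] at hw
  obtain ⟨v, rfl⟩ := hw
  have hadd := hg.1
  have hq := hg.2
  have hnegV : ∀ x : V, -x = x := fun x => neg_eq_of_add_eq_zero_left (h.twoV x)
  have hsub : g v - v = g v + v := by rw [sub_eq_add_neg, hnegV]
  rw [hsub]
  -- B(c, g v) = B(c, v)
  have h1 : q (c + g v) = q (c + v) := by
    have := hq (c + v)
    rw [hadd, hc] at this
    exact this
  have h7 := h.seven c (g v) v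
  rw [h1, hq v] at h7
  -- h7 : q (c + g v + v) + q (c + v) + q (c + v) + q (g v + v) + q c + q v + q v = 0
  have e : q (c + g v + v) + q (c + v) + q (c + v) + q (g v + v) + q c + q v + q v =
      (q (c + (g v + v)) + (q c + q (g v + v))) + (q (c + v) + q (c + v)) + (q v + q v) := by
    rw [add_assoc c (g v) v]
    abel
  rw [e, h.twoU, h.twoU, add_zero, add_zero] at h7
  -- h7 : q (c + (g v + v)) + (q c + q (g v + v)) = 0
  have hnegU : ∀ x : U, -x = x := fun x => neg_eq_of_add_eq_zero_left (h.twoU x)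
  have := eq_neg_of_add_eq_zero_left h7
  rw [hnegU] at this
  exact this

end Cfsg.Agent.Lib.Helper54.ThreeInv
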