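import Mathlib
import Cfsg.Agent.Lib.Helper29.ThreeInvDefs
import Cfsg.Agent.Lib.Helper54.ThreeInvFPF

/-!
# S3117-[TI-NO3], first half (helper29's cut): if `|V| = 16` and every nonzero fibre of the
anisotropic quadratic map `q` has `0` or `5` elements, then `orth q` has no element of order `3`.
-/

set_option autoImplicit false

namespace Cfsg.Agent.Lib.Helper54.ThreeInv

open Cfsg.Agent.Lib.Helper29.ThreeInv

variable {V U : Type*} [AddCommGroup V] [AddCommGroup U]

theorem no_three_aux [Fintype V] [DecidableEq V] [Fintype U] [DecidableEq U] {q : V → U}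
    (h : AQ q) (hV : Nat.card V = 16)
    (hfib : ∀ u : U, u ≠ 0 → (Finset.univ.filter (fun v : V => q v = u)).card = 0 ∨
      (Finset.univ.filter (fun v : V => q v = u)).card = 5)
    {t : Equiv.Perm V} (ht : t ∈ orth q) : orderOf t ≠ 3 := by
  intro hord
  have ht3 : t ^ 3 = 1 := by rw [← hord]; exact pow_orderOf_eq_one t
  have : Fact (Nat.Prime 3) := ⟨Nat.prime_three⟩
  have hadd := ht.1
  have hq := ht.2
  -- per fibre
  have hper : ∀ u : U, u ≠ 0 → 2 * (Finset.univ.filter (fun v : V => q v = u)).card ≤
      5 * ((Finset.univ.filter (fun v : V => q v = u)).filter (fun v => t v = v)).card := by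
    intro u hu
    have hinv : ∀ v ∈ Finset.univ.filter (fun v : V => q v = u),
        t v ∈ Finset.univ.filter (fun v : V => q v = u) := by
      intro v hv
      rw [Finset.mem_filter] at hv ⊢
      exact ⟨Finset.mem_univ _, (hq v).trans hv.2⟩
    have hmod := card_finset_modEq t ht3 _ hinv
    rcases hfib u hu with h0 | h5
    · rw [h0]; omega
    · rw [h5] at hmod ⊢
      unfold Nat.ModEq at hmod
      omega
  -- the nonzero vectors and the nonzero values
  set S : Finset V := Finset.univ.filter (fun v : V => v ≠ 0) with hSdef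
  set T : Finset U := Finset.univ.filter (fun u : U => u ≠ 0) with hTdef
  have hmaps : Set.MapsTo q (S : Set V) (T : Set U) := by
    intro v hv
    rw [Finset.mem_coe, hSdef, Finset.mem_filter] at hv
    rw [Finset.mem_coe, hTdef, Finset.mem_filter]
    exact ⟨Finset.mem_univ _, fun h0 => hv.2 (h.aniso v h0)⟩
  have hS15 : S.card = 15 := by
    rw [hSdef, Finset.filter_ne', Finset.card_erase_of_mem (Finset.mem_univ _), Finset.card_univ,
      ← Nat.card_eq_fintype_card, hV]
  have hsum1 := Finset.card_eq_sum_card_fiberwise hmaps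
  set FS : Finset V := S.filter (fun v => t v = v) with hFSdef
  have hmaps2 : Set.MapsTo q (FS : Set V) (T : Set U) := by
    intro v hv
    apply hmaps
    rw [Finset.mem_coe, hFSdef, Finset.mem_filter] at hv
    exact hv.1
  have hsum2 := Finset.card_eq_sum_card_fiberwise hmaps2
  have hfib1 : ∀ u ∈ T, (S.filter (fun a => q a = u)) = Finset.univ.filter (fun v : V => q v = u) := by
    intro u hu
    rw [hTdef, Finset.mem_filter] at hu
    ext v
    simp only [hSdef, Finset.mem_filter, Finset.mem_univ, true_and]
    constructor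
    · exact fun hv => hv.2
    · intro hv
      refine ⟨fun h0 => hu.2 ?_, hv⟩
      rw [← hv, h0, h.zero]
  have hfib2 : ∀ u ∈ T, (FS.filter (fun a => q a = u)) =
      (Finset.univ.filter (fun v : V => q v = u)).filter (fun v => t v = v) := by
    intro u hu
    rw [hTdef, Finset.mem_filter] at hu
    ext v
    simp only [hFSdef, hSdef, Finset.mem_filter, Finset.mem_univ, true_and]
    constructor
    · rintro ⟨⟨-, h1⟩, h2⟩
      exact ⟨h2, h1⟩
    · rintro ⟨h2, h1⟩
      refine ⟨⟨fun h0 => hu.2 ?_, h1⟩, h2⟩
      rw [← h2, h0, h.zero]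
  have hFS6 : 6 ≤ FS.card := by
    have h1 : 2 * S.card ≤ 5 * FS.card := by
      rw [hsum1, hsum2, Finset.mul_sum, Finset.mul_sum]
      apply Finset.sum_le_sum
      intro u hu
      rw [hfib1 u hu, hfib2 u hu]
      apply hper
      rw [hTdef, Finset.mem_filter] at hu
      exact hu.2
    rw [hS15] at h1
    omega
  -- the kernel of `t - 1` has at least seven elements
  have hker7 : 7 ≤ Nat.card (dmap t hadd).ker := by
    rw [Nat.card_eq_fintype_card, Fintype.card_subtype]
    have hsub : insert 0 FS ⊆ Finset.univ.filter (fun v : V => v ∈ (dmap t hadd).ker) := by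
      intro v hv
      rw [Finset.mem_insert] at hv
      rw [Finset.mem_filter, mem_ker_dmap]
      refine ⟨Finset.mem_univ _, ?_⟩
      rcases hv with rfl | hv
      · exact hadd.map_zero
      · rw [hFSdef, Finset.mem_filter] at hv
        exact hv.2
    have h0 : (0 : V) ∉ FS := by
      rw [hFSdef, hSdef, Finset.mem_filter, Finset.mem_filter]
      exact fun hh => hh.1.2 rfl
    have := Finset.card_le_card hsub
    rw [Finset.card_insert_of_notMem h0] at this
    omega
  have hdvd := AddSubgroup.card_addSubgroup_dvd_card (dmap t hadd).ker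
  have hprod := card_eq_ker_mul_range t hadd
  have hmod := card_range_modEq_one h.twoV t hadd (by norm_num) ht3
  rw [hV] at hprod
  set k := Nat.card (dmap t hadd).ker with hk
  set R := Nat.card (dmap t hadd).range with hR
  have hR2 : R ≤ 2 := by
    by_contra hcon
    push Not at hcon
    have : 7 * 3 ≤ k * R := Nat.mul_le_mul hker7 hcon
    omega
  have hR1 : R = 1 := by
    unfold Nat.ModEq at hmod
    have hRpos : R ≠ 0 := by
      intro h0
      rw [h0, mul_zero] at hprod
      omega
    interval_cases R <;> omega
  have hbot : (dmap t hadd).range = ⊥ := AddSubgroup.card_eq_one.mp hR1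
  have ht1 : t = 1 := by
    ext v
    have hv : dmap t hadd v ∈ (dmap t hadd).range := ⟨v, rfl⟩
    rw [hbot, AddSubgroup.mem_bot, dmap_apply, sub_eq_zero] at hv
    rw [hv, Equiv.Perm.one_apply]
  rw [ht1, orderOf_one] at hord
  omega

end Cfsg.Agent.Lib.Helper54.ThreeInv
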