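import Mathlib
import Cfsg.Agent.Lib.Helper29.ThreeInvDefs
import Cfsg.Agent.Lib.Helper29.ThreeInvBig
import Cfsg.Agent.Lib.Helper29.ThreeInvFib
import Cfsg.Agent.Lib.Helper54.ThreeInvNo3Aux

/-!
# S3117-[TI-NO3] (helper29's cut): if `orth q` contains an element of order `5` (and `|U| ≤ 4`)
then it contains no element of order `3`.
-/

set_option autoImplicit false

namespace Cfsg.Agent.Lib.Helper54.ThreeInv

open Cfsg.Agent.Lib.Helper29.ThreeInv

variable {V U : Type*} [AddCommGroup V] [AddCommGroup U]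

theorem AQ.no_three [Finite V] [Finite U] {q : V → U} (h : AQ q) (hU : Nat.card U ≤ 4)
    {g : Equiv.Perm V} (hg : g ∈ orth q) (hord : orderOf g = 5)
    {t : Equiv.Perm V} (ht : t ∈ orth q) : orderOf t ≠ 3 := by
  classical
  have : Fintype V := Fintype.ofFinite V
  have : Fintype U := Fintype.ofFinite U
  obtain ⟨-, hV, hfix⟩ := AQ.prime_ge_five h hU hg Nat.prime_five le_rfl hord
  exact no_three_aux h hV (fun u hu => AQ.fiber_card h hg hord hV hfix u hu) ht

end Cfsg.Agent.Lib.Helper54.ThreeInv
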