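/-
helper54: project SLMD (helper32, S2332), module [N-PW] `schur_GG`: the Schur relation in `GG F k = SL_{k+2}(F)`,
assembly of [G-SCHUR2T] (helper42), [N-PW-NORM] (helper86), [N-PW-DC] and [N-PW-IDX] (helper6).
-/
import Mathlib
import Cfsg.Agent.Lib.Helper32.SLMD.Defs2
import Cfsg.Agent.Lib.Helper42.SlmdGSchur2T
import Cfsg.Agent.Lib.Helper86.SlmdNPwNorm
import Cfsg.Agent.Lib.Helper6.SlmdNPwDc
import Cfsg.Agent.Lib.Helper6.SlmdNPwIdx

set_option autoImplicit false
set_option linter.unusedSectionVars false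
set_option linter.unusedVariables false

namespace Cfsg.Agent.Lib.Helper32.SLMD

open Matrix Cfsg.Agent.Lib.Helper41 Cfsg.Agent.Lib.Helper39 Module
open scoped LinearAlgebra.Projectivization

variable {F : Type*} [Field F] [Fintype F] [DecidableEq F] {k : ℕ}

section gg

variable {V : Type*} [AddCommGroup V] [Module ℂ V] [FiniteDimensional ℂ V]

/-- [N-PW] -/
theorem schur_GG (ρ : Representation ℂ (GG F k) V) (hρ : ρ.IsIrreducible) :
    (finrank ℂ V : ℂ) * (((Fintype.card F : ℂ) - 1) * (cQ ρ : ℂ) +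
        ((Fintype.card F : ℂ) ^ (k + 2) - (Fintype.card F : ℂ)) * tPair ρ) =
      ((Fintype.card F : ℂ) ^ (k + 2) - 1) * (cQ ρ : ℂ) ^ 2 := by
  have hq0 : (Fintype.card F : ℂ) ≠ 0 := by
    exact_mod_cast Fintype.card_ne_zero
  have hcardN : (Fintype.card (Multiplicative (F × (Fin k → F))) : ℂ) =
      (Fintype.card F : ℂ) ^ (k + 1) := by
    rw [Fintype.card_multiplicative, Fintype.card_prod, Fintype.card_fun, Fintype.card_fin]
    push_cast
    ring
  have hn0 : (Fintype.card F : ℂ) ^ (k + 1) ≠ 0 := pow_ne_zero _ hq0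
  have h1 := schur_two_term ρ hρ (qHom : Multiplicative (F × (Fin k → F)) →* GG F k)
    qHom_injective (pSub : Subgroup (GG F k)) wE
    (fun p hp n => pSub_normalizes_qHom p hp n) pSub_double_coset
  rw [hcardN] at h1
  -- the double sum in terms of `tPair`
  have hT : (∑ x : Multiplicative (F × (Fin k → F)), ∑ y : Multiplicative (F × (Fin k → F)),
      ρ.character (wE * qHom x * wE⁻¹ * qHom y)) =
        ((Fintype.card F : ℂ) ^ (k + 1)) ^ 2 * tPair ρ := by
    unfold tPair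
    rw [mul_div_cancel₀]
    exact pow_ne_zero _ hn0
  rw [hT] at h1
  -- the index of `pSub`
  have h2 : ((Fintype.card F : ℂ) - 1) * (Fintype.card (GG F k) : ℂ) =
      ((Fintype.card F : ℂ) ^ (k + 2) - 1) * (Nat.card (pSub : Subgroup (GG F k)) : ℂ) := by
    have h := card_pSub (F := F) (k := k)
    rw [Nat.card_eq_fintype_card] at h
    have hq1 : 1 ≤ Fintype.card F := Fintype.card_pos
    have hq2 : 1 ≤ Fintype.card F ^ (k + 2) := Nat.one_le_pow _ _ hq1
    have := congrArg (fun m : ℕ => (m : ℂ)) h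
    push_cast [Nat.cast_sub hq1, Nat.cast_sub hq2] at this
    exact this
  have hp0 : (Nat.card (pSub : Subgroup (GG F k)) : ℂ) ≠ 0 := by
    have : 0 < Nat.card (pSub : Subgroup (GG F k)) := Nat.card_pos
    exact_mod_cast this.ne'
  have hcQ : (finrank ℂ ↥(eigenSub ρ (qHom : _ →* GG F k) 1) : ℂ) = (cQ ρ : ℂ) := rfl
  rw [hcQ] at h1
  have hmul : (Nat.card (pSub : Subgroup (GG F k)) : ℂ) * ((Fintype.card F : ℂ) ^ (k + 1)) ^ 2 ≠ 0 :=
    mul_ne_zero hp0 (pow_ne_zero _ hn0)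
  apply mul_left_cancel₀ hmul
  linear_combination ((Fintype.card F : ℂ) - 1) * h1 -
    ((finrank ℂ V : ℂ) * ((Fintype.card F : ℂ) ^ (k + 1)) ^ 2 * tPair ρ -
      ((Fintype.card F : ℂ) ^ (k + 1)) ^ 2 * (cQ ρ : ℂ) ^ 2) * h2

end gg

end Cfsg.Agent.Lib.Helper32.SLMD
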