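import Mathlib

/-!
# PF sec. 14, case (b) endgame: the arithmetic (module PF14-[ARITH], board #4220)

Pure statements about natural numbers.  Throughout `p > q` are odd primes,
`n = (p^q-1)/(p-1)` and `v = (q^p-1)/(q-1)`; both are given division-free
(`n * (p-1) = p^q - 1`, `v * (q-1) = q^p - 1`) and with `Nat` division.
-/

namespace Cfsg.Agent.Lib.Helper54.PF14Arith

/-- `3^(m) ≥ (m+3)^2` for `m ≥ 4`, i.e. `3^(p-3) ≥ p^2` for `p ≥ 7`. -/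
theorem sq_le_three_pow (m : ℕ) (hm : 4 ≤ m) : (m + 3) ^ 2 ≤ 3 ^ m := by
  induction m, hm using Nat.le_induction with
  | base => norm_num
  | succ k hk ih =>
    have : 3 ^ (k + 1) = 3 * 3 ^ k := by ring
    nlinarith

/-- `p^2 ≤ 3^(p-3)` for `p ≥ 7`. -/
theorem sq_le_three_pow_sub (p : ℕ) (hp : 7 ≤ p) : p ^ 2 ≤ 3 ^ (p - 3) := by
  have h := sq_le_three_pow (p - 3) (by omega)
  have : p - 3 + 3 = p := by omega
  rwa [this] at h

/-- `p^2 q^2 ≤ q^(p-1)` for `q ≥ 3`, `p ≥ 7`. -/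
theorem sq_mul_sq_le_pow (p q : ℕ) (hq : 3 ≤ q) (hp : 7 ≤ p) :
    p ^ 2 * q ^ 2 ≤ q ^ (p - 1) := by
  have h1 : p ^ 2 ≤ 3 ^ (p - 3) := sq_le_three_pow_sub p hp
  have h2 : 3 ^ (p - 3) ≤ q ^ (p - 3) := Nat.pow_le_pow_left hq _
  have h3 : q ^ (p - 1) = q ^ (p - 3) * q ^ 2 := by
    rw [← pow_add]; congr 1; omega
  rw [h3]
  exact Nat.mul_le_mul_right _ (h1.trans h2)

/-- If `v (q-1) = q^p - 1` with `q ≥ 2`, `p ≥ 2`, then `q^(p-1) < v`. -/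
theorem pow_pred_lt_of_mul_eq (p q v : ℕ) (hq : 2 ≤ q) (hp : 2 ≤ p)
    (hv : v * (q - 1) = q ^ p - 1) : q ^ (p - 1) < v := by
  by_contra hcon
  push Not at hcon
  have h1 : q ^ p = q ^ (p - 1) * q := by
    rw [← pow_succ]; congr 1; omega
  have h2 : 2 ≤ q ^ (p - 1) := by
    calc 2 ≤ q := hq
      _ = q ^ 1 := (pow_one q).symm
      _ ≤ q ^ (p - 1) := Nat.pow_le_pow_right (by omega) (by omega)
  have h3 : v * (q - 1) ≤ q ^ (p - 1) * (q - 1) := Nat.mul_le_mul_right _ hcon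
  obtain ⟨r, rfl⟩ : ∃ r, q = r + 1 := ⟨q - 1, by omega⟩
  simp only [Nat.add_sub_cancel] at h3 hv
  have h4 : (r + 1) ^ (p - 1) * (r + 1) = (r + 1) ^ (p - 1) * r + (r + 1) ^ (p - 1) := by ring
  have h5 : 1 ≤ (r + 1) ^ p := Nat.one_le_pow _ _ (by omega)
  omega

/-- `v = (q^p-1)/(q-1)` satisfies `v (q-1) = q^p - 1`. -/
theorem div_mul_pred (p q : ℕ) : (q ^ p - 1) / (q - 1) * (q - 1) = q ^ p - 1 := by
  have h : q - 1 ∣ q ^ p - 1 := Nat.sub_one_dvd_pow_sub_one q p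
  exact Nat.div_mul_cancel h

/-- Odd primes `q < p` with `(p,q) ≠ (5,3)` have `p ≥ 7`. -/
theorem seven_le_of_primes (p q : ℕ) (hp : p.Prime) (hq : q.Prime) (hq3 : 3 ≤ q) (hqp : q < p)
    (hne : ¬(p = 5 ∧ q = 3)) : 7 ≤ p := by
  by_contra hcon
  push Not at hcon
  have hp4 : 4 ≤ p := by omega
  interval_cases p
  · exact absurd hp (by norm_num)
  · have : q = 3 ∨ q = 4 := by omega
    rcases this with rfl | rfl
    · exact hne ⟨rfl, rfl⟩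
    · exact absurd hq (by norm_num)
  · exact absurd hp (by norm_num)

/-- **(A1)**, division-free: `(p,q) ≠ (5,3)` gives `p^2 q^2 < v`. -/
theorem A1 (p q v : ℕ) (hp : p.Prime) (hq : q.Prime) (hq3 : 3 ≤ q) (hqp : q < p)
    (hne : ¬(p = 5 ∧ q = 3)) (hv : v * (q - 1) = q ^ p - 1) :
    p ^ 2 * q ^ 2 < v := by
  have h7 := seven_le_of_primes p q hp hq hq3 hqp hne
  exact (sq_mul_sq_le_pow p q hq3 h7).trans_lt
    (pow_pred_lt_of_mul_eq p q v (by omega) (by omega) hv)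

/-- **(A1)** with `Nat` division. -/
theorem A1_div (p q : ℕ) (hp : p.Prime) (hq : q.Prime) (hq3 : 3 ≤ q) (hqp : q < p)
    (hne : ¬(p = 5 ∧ q = 3)) :
    p ^ 2 * q ^ 2 < (q ^ p - 1) / (q - 1) :=
  A1 p q _ hp hq hq3 hqp hne (div_mul_pred p q)

/-- **(A1')**: `v > pq(pq-1)+1`, so `v ≤ h_T ≤ pq(pq-1)+1` is impossible. -/
theorem A1_not_le (p q v hT : ℕ) (hp : p.Prime) (hq : q.Prime) (hq3 : 3 ≤ q) (hqp : q < p)
    (hne : ¬(p = 5 ∧ q = 3)) (hv : v * (q - 1) = q ^ p - 1)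
    (hvh : v ≤ hT) (hh : hT ≤ p * q * (p * q - 1) + 1) : False := by
  have h1 := A1 p q v hp hq hq3 hqp hne hv
  have h2 : p * q * (p * q - 1) + 1 ≤ p ^ 2 * q ^ 2 := by
    have hpq : 1 ≤ p * q := Nat.mul_pos (by omega) (by omega)
    obtain ⟨r, hr⟩ : ∃ r, p * q = r + 1 := ⟨p * q - 1, by omega⟩
    have : p ^ 2 * q ^ 2 = (p * q) * (p * q) := by ring
    rw [this, hr]
    simp only [Nat.add_sub_cancel]
    nlinarith
  omega

/-- `n (p-1) = p^3 - 1` forces `n = p^2 + p + 1`. -/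
theorem n_eq_of_q_three (p n : ℕ) (hp : 2 ≤ p) (hn : n * (p - 1) = p ^ 3 - 1) :
    n = p ^ 2 + p + 1 := by
  obtain ⟨r, rfl⟩ : ∃ r, p = r + 1 := ⟨p - 1, by omega⟩
  simp only [Nat.add_sub_cancel] at hn
  have hr : 0 < r := by omega
  have h1 : (r + 1) ^ 3 - 1 = ((r + 1) ^ 2 + (r + 1) + 1) * r := by
    have : (r + 1) ^ 3 = ((r + 1) ^ 2 + (r + 1) + 1) * r + 1 := by ring
    omega
  rw [h1] at hn
  exact Nat.eq_of_mul_eq_mul_right hr hn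

/-- **(A2)**, core: `k ≡ 1 (mod 6p)` and `k (p^2+p+1) ≤ 9 p^2` force `k = 1`. -/
theorem A2_core (p k : ℕ) (hp : 1 ≤ p) (hk : k % (6 * p) = 1)
    (hle : k * (p ^ 2 + p + 1) ≤ 9 * p ^ 2) : k = 1 := by
  by_contra hne
  have hk' : 6 * p + 1 ≤ k := by
    have h1 : k = 6 * p * (k / (6 * p)) + 1 := by
      have := Nat.div_add_mod k (6 * p)
      omega
    have h2 : 1 ≤ k / (6 * p) := by
      by_contra h0
      push Not at h0
      have : k / (6 * p) = 0 := Nat.lt_one_iff.mp h0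
      rw [this] at h1
      omega
    have h3 : 6 * p * 1 ≤ 6 * p * (k / (6 * p)) := Nat.mul_le_mul_left _ h2
    omega
  have h4 : (6 * p + 1) * (p ^ 2 + p + 1) ≤ k * (p ^ 2 + p + 1) := Nat.mul_le_mul_right _ hk'
  nlinarith

/-- **(A2)**, division-free: `q = 3`, `n (p-1) = p^3 - 1`, `k ≡ 1 (mod 2 p q)`,
`k n ≤ p^2 q^2` force `k = 1`. -/
theorem A2 (p n k : ℕ) (hp : 2 ≤ p) (hn : n * (p - 1) = p ^ 3 - 1)
    (hk : k ≡ 1 [MOD 2 * p * 3]) (hle : k * n ≤ p ^ 2 * 3 ^ 2) : k = 1 := by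
  have hn' := n_eq_of_q_three p n hp hn
  subst hn'
  apply A2_core p k (by omega)
  · have h6 : 2 * p * 3 = 6 * p := by ring
    rw [h6] at hk
    have : 1 % (6 * p) = 1 := Nat.mod_eq_of_lt (by omega)
    rw [← this]
    exact hk
  · have : p ^ 2 * 3 ^ 2 = 9 * p ^ 2 := by ring
    rw [this] at hle
    exact hle

/-- **(A2)** with `Nat` division. -/
theorem A2_div (p k : ℕ) (hp : 2 ≤ p)
    (hk : k ≡ 1 [MOD 2 * p * 3]) (hle : k * ((p ^ 3 - 1) / (p - 1)) ≤ p ^ 2 * 3 ^ 2) : k = 1 :=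
  A2 p _ k hp (div_mul_pred 3 p) hk hle

/-- Cofactor congruence: `h = k n`, `h ≡ 1`, `n ≡ 1 (mod m)` give `k ≡ 1 (mod m)`. -/
theorem cofactor_modEq_one (m h k n : ℕ) (hh : h = k * n) (h1 : h ≡ 1 [MOD m])
    (hn : n ≡ 1 [MOD m]) : k ≡ 1 [MOD m] := by
  have h2 : k * n ≡ k * 1 [MOD m] := Nat.ModEq.mul_left k hn
  rw [mul_one, ← hh] at h2
  exact h2.symm.trans h1

/-- **(A3)**, division-free: `q ≥ 5` gives `p^4 < n` and `p^2 q^2 < n`. -/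
theorem A3_pow_four (p q n : ℕ) (hp : 2 ≤ p) (hq5 : 5 ≤ q)
    (hn : n * (p - 1) = p ^ q - 1) : p ^ 4 < n := by
  have h1 := pow_pred_lt_of_mul_eq q p n hp (by omega) hn
  have h2 : p ^ 4 ≤ p ^ (q - 1) := Nat.pow_le_pow_right (by omega) (by omega)
  omega

theorem A3 (p q n : ℕ) (hq5 : 5 ≤ q) (hqp : q < p)
    (hn : n * (p - 1) = p ^ q - 1) : p ^ 2 * q ^ 2 < n := by
  have h1 := A3_pow_four p q n (by omega) hq5 hn
  have h2 : q ^ 2 ≤ p ^ 2 := Nat.pow_le_pow_left hqp.le 2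
  have h3 : p ^ 2 * q ^ 2 ≤ p ^ 2 * p ^ 2 := Nat.mul_le_mul_left _ h2
  have h4 : p ^ 2 * p ^ 2 = p ^ 4 := by ring
  omega

/-- **(A3)** with `Nat` division. -/
theorem A3_div (p q : ℕ) (hq5 : 5 ≤ q) (hqp : q < p) :
    p ^ 2 * q ^ 2 < (p ^ q - 1) / (p - 1) :=
  A3 p q _ hq5 hqp (div_mul_pred q p)

/-- **(A3')**: for `q ≥ 5`, `n ∣ h`, `0 < h`, the bound `h ≤ p^2 q^2 - p q + 1` is impossible. -/
theorem A3_not_le (p q n h : ℕ) (hq5 : 5 ≤ q) (hqp : q < p)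
    (hn : n * (p - 1) = p ^ q - 1) (hnh : n ∣ h) (h0 : 0 < h)
    (hle : h ≤ p ^ 2 * q ^ 2 - p * q + 1) : False := by
  have h1 := A3 p q n hq5 hqp hn
  have h2 : n ≤ h := Nat.le_of_dvd h0 hnh
  have h3 : 1 ≤ p * q := Nat.mul_pos (by omega) (by omega)
  have h4 : p * q ≤ p ^ 2 * q ^ 2 := by
    have : p ^ 2 * q ^ 2 = (p * q) * (p * q) := by ring
    rw [this]
    exact Nat.le_mul_of_pos_left _ h3
  omega

/-- **(A4)**: `j ≡ 1 (mod p)`, `0 < j < q < p` force `j = 1`. -/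
theorem A4 (p q j : ℕ) (hj : j ≡ 1 [MOD p]) (hjq : j < q) (hqp : q < p) : j = 1 := by
  have h1 : j % p = j := Nat.mod_eq_of_lt (by omega)
  have h2 : 1 % p = 1 := Nat.mod_eq_of_lt (by omega)
  have h3 : j % p = 1 % p := hj
  omega

/-- **(A4')**, Case B: `v ∣ h`, `h ≡ v ≡ 1 (mod p)`, `h < q v`, `q < p`, `0 < h` give `h = v`. -/
theorem A4_eq (p q v h : ℕ) (hvh : v ∣ h) (h1 : h ≡ 1 [MOD p]) (hv1 : v ≡ 1 [MOD p])
    (hlt : h < q * v) (hqp : q < p) : h = v := by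
  obtain ⟨j, rfl⟩ := hvh
  have hj : j ≡ 1 [MOD p] := cofactor_modEq_one p (v * j) j v (mul_comm v j) h1 hv1
  have hv0 : 0 < v := by
    rcases Nat.eq_zero_or_pos v with h0 | h0
    · subst h0; simp at hlt
    · exact h0
  have hjq : j < q := by
    by_contra hcon
    push Not at hcon
    have : q * v ≤ v * j := by
      calc q * v ≤ j * v := Nat.mul_le_mul_right _ hcon
        _ = v * j := mul_comm _ _
    omega
  have := A4 p q j hj hjq hqp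
  subst this
  simp

/-- **(A5)**: `h = 1 + e s`, `s ≤ e' - 1`, `e ≤ pq`, `1 ≤ e' ≤ pq` give `h ≤ p^2q^2 - pq + 1`. -/
theorem A5 (p q e e' s h : ℕ) (hh : h = 1 + e * s) (hs : s ≤ e' - 1) (he : e ≤ p * q)
    (he' : e' ≤ p * q) : h ≤ p ^ 2 * q ^ 2 - p * q + 1 := by
  have h1 : e * s ≤ (p * q) * (p * q - 1) :=
    Nat.mul_le_mul he (hs.trans (Nat.sub_le_sub_right he' 1))
  have h2 : (p * q) * (p * q - 1) = p ^ 2 * q ^ 2 - p * q := by
    rw [Nat.mul_sub, mul_one]; congr 1; ring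
  omega

/-- **(A5')**, the same from the quotient form `(h-1)/e ≤ e'-1` with `e ∣ h - 1`. -/
theorem A5_div (p q e e' h : ℕ) (h0 : 0 < h) (hdvd : e ∣ h - 1) (hs : (h - 1) / e ≤ e' - 1)
    (he : e ≤ p * q) (he' : e' ≤ p * q) : h ≤ p ^ 2 * q ^ 2 - p * q + 1 := by
  apply A5 p q e e' ((h - 1) / e) h _ hs he he'
  have := Nat.mul_div_cancel' hdvd
  omega

/-- **(A6)**, `(p,q) = (5,3)`: `n = 31`, `v = 121`; `h = 31 k`, `k ≡ 1 (mod 30)`,
`h ≤ q (v-1) + 1 = 361` force `k = 1`. -/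
theorem A6 (k h : ℕ) (hh : h = k * 31) (hk : k ≡ 1 [MOD 30]) (hle : h ≤ 3 * (121 - 1) + 1) :
    k = 1 := by
  have h1 : k % 30 = 1 := hk
  omega

/-- The values of `n`, `v` for `(p,q) = (5,3)`. -/
theorem n_v_five_three : (5 ^ 3 - 1) / (5 - 1) = 31 ∧ (3 ^ 5 - 1) / (3 - 1) = 121 := by
  constructor <;> norm_num

/-- **(A6')**, general division-free form for `(p,q) = (5,3)`. -/
theorem A6' (n v k h : ℕ) (hn : n * (5 - 1) = 5 ^ 3 - 1) (hv : v * (3 - 1) = 3 ^ 5 - 1)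
    (hh : h = k * n) (hk : k ≡ 1 [MOD 2 * 5 * 3]) (hle : h ≤ 3 * (v - 1) + 1) : k = 1 := by
  have hn' : n = 31 := by omega
  have hv' : v = 121 := by omega
  subst hn' hv'
  exact A6 k h hh hk hle

end Cfsg.Agent.Lib.Helper54.PF14Arith
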