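import Cfsg.Agent.Lib.Helper54.CNGroup
import Cfsg.Agent.S0058
import Cfsg.Agent.S0065

/-!
# A normal four-subgroup of a Sylow 2-subgroup in a group of characteristic 2 type

If every 2-local subgroup of `G` has characteristic 2, `P` is a Sylow 2-subgroup, `U ⊴ P` is a
four-group which is central in `P` unless `Z(P)` is cyclic, then `U ≤ O_2(C_G(u))` for every
involution `u ∈ U`; hence `U` centralizes every subgroup of odd order that it normalizes.
-/

set_option autoImplicit false

namespace Cfsg.Agent.Lib.Helper54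

open Cfsg

section FourGroup

open scoped Pointwise

variable {G : Type*} [Group G]

/-- Elements of `C` commute with powers of an element centralized by `C`. -/
theorem commute_of_mem_zpowers {C : Subgroup G} {u k c : G} (huC : ∀ c ∈ C, u * c = c * u)
    (hk : k ∈ Subgroup.zpowers u) (hc : c ∈ C) : k * c = c * k := by
  obtain ⟨n, rfl⟩ := Subgroup.mem_zpowers_iff.mp hk
  have h : Commute u c := huC c hc
  exact (h.zpow_left n).eq

/-- Stability group lemma: if `C_C(O_p(C)) ≤ O_p(C)`, `u` of order dividing `p` is centralized by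
`C`, and `w ∈ C` satisfies `[w, O_p(C)] ⊆ ⟨u⟩`, then `w ∈ O_p(C)`. -/
theorem mem_pcOf_of_commutator_mem_zpowers [Finite G] (p : ℕ) [Fact p.Prime] (C : Subgroup G)
    (hchar : C ⊓ Subgroup.centralizer (pcOf p C : Set G) ≤ pcOf p C)
    {u : G} (huC : ∀ c ∈ C, u * c = c * u) (hup : u ^ p = 1)
    {w : G} (hwC : w ∈ C)
    (hw : ∀ q ∈ pcOf p C, w * q * w⁻¹ * q⁻¹ ∈ Subgroup.zpowers u) :
    w ∈ pcOf p C := by
  have hQC : pcOf p C ≤ C := pcOf_le p C
  have hnorm : ∀ g ∈ C, ∀ q ∈ pcOf p C, g * q * g⁻¹ ∈ pcOf p C := by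
    intro g hg q hq
    exact (Subgroup.mem_normalizer_iff.mp (le_normalizer_pcOf p C hg) q).mp hq
  let E : Subgroup G :=
    { carrier := {c | c ∈ C ∧ ∀ q ∈ pcOf p C, c * q * c⁻¹ * q⁻¹ ∈ Subgroup.zpowers u}
      one_mem' := by
        refine ⟨C.one_mem, ?_⟩
        intro q _
        have e : (1 : G) * q * 1⁻¹ * q⁻¹ = 1 := by group
        rw [e]
        exact Subgroup.one_mem _
      mul_mem' := by
        rintro c c' ⟨hc, hcq⟩ ⟨hc', hcq'⟩
        refine ⟨C.mul_mem hc hc', ?_⟩
        intro q hq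
        have e : (c * c') * q * (c * c')⁻¹ * q⁻¹ =
            c * (c' * q * c'⁻¹ * q⁻¹) * c⁻¹ * (c * q * c⁻¹ * q⁻¹) := by group
        have h1 := commute_of_mem_zpowers huC (hcq' q hq) hc
        have e2 : c * (c' * q * c'⁻¹ * q⁻¹) * c⁻¹ = c' * q * c'⁻¹ * q⁻¹ := by
          rw [← h1, mul_assoc, mul_inv_cancel, mul_one]
        rw [e, e2]
        exact Subgroup.mul_mem _ (hcq' q hq) (hcq q hq)
      inv_mem' := by
        rintro c ⟨hc, hcq⟩
        refine ⟨C.inv_mem hc, ?_⟩
        intro q hq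
        have hq' : c⁻¹ * q * c ∈ pcOf p C := by
          have := hnorm c⁻¹ (C.inv_mem hc) q hq
          rwa [inv_inv] at this
        have e : c⁻¹ * q * c⁻¹⁻¹ * q⁻¹ =
            (c * (c⁻¹ * q * c) * c⁻¹ * (c⁻¹ * q * c)⁻¹)⁻¹ := by group
        rw [e]
        exact Subgroup.inv_mem _ (hcq _ hq') }
  have hEC : E ≤ C := fun c hc => hc.1
  have hCE : C ≤ Subgroup.normalizer (E : Set G) := by
    apply le_normalizer_of_conj_mem
    rintro g hg c ⟨hc, hcq⟩
    refine ⟨C.mul_mem (C.mul_mem hg hc) (C.inv_mem hg), ?_⟩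
    intro q hq
    have hq' : g⁻¹ * q * g ∈ pcOf p C := by
      have := hnorm g⁻¹ (C.inv_mem hg) q hq
      rwa [inv_inv] at this
    have e : (g * c * g⁻¹) * q * (g * c * g⁻¹)⁻¹ * q⁻¹ =
        g * (c * (g⁻¹ * q * g) * c⁻¹ * (g⁻¹ * q * g)⁻¹) * g⁻¹ := by group
    have h1 := commute_of_mem_zpowers huC (hcq _ hq') hg
    rw [e, ← h1, mul_assoc, mul_inv_cancel, mul_one]
    exact hcq _ hq'
  have hEp : IsPGroup p E := by
    rintro ⟨c, hc, hcq⟩
    -- `c ^ p` centralizes `O_p(C)`
    have hcp : c ^ p ∈ C ⊓ Subgroup.centralizer (pcOf p C : Set G) := by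
      refine ⟨C.pow_mem hc p, ?_⟩
      show c ^ p ∈ Subgroup.centralizer (pcOf p C : Set G)
      rw [Subgroup.mem_centralizer_iff]
      intro q hq
      have hk := hcq q hq
      have hkc : (c * q * c⁻¹ * q⁻¹) * c = c * (c * q * c⁻¹ * q⁻¹) :=
        commute_of_mem_zpowers huC hk hc
      have hpow : ∀ n : ℕ, c ^ n * q * (c ^ n)⁻¹ = (c * q * c⁻¹ * q⁻¹) ^ n * q := by
        intro n
        induction n with
        | zero => simp
        | succ n ih =>
          have hkn : c * (c * q * c⁻¹ * q⁻¹) ^ n = (c * q * c⁻¹ * q⁻¹) ^ n * c :=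
            ((Commute.pow_left (show Commute (c * q * c⁻¹ * q⁻¹) c from hkc) n).eq).symm
          have e : c ^ (n + 1) * q * (c ^ (n + 1))⁻¹ = c * (c ^ n * q * (c ^ n)⁻¹) * c⁻¹ := by
            rw [pow_succ']; group
          rw [e, ih]
          have e2 : c * ((c * q * c⁻¹ * q⁻¹) ^ n * q) * c⁻¹ =
              (c * (c * q * c⁻¹ * q⁻¹) ^ n) * (q * c⁻¹) := by group
          rw [e2, hkn, pow_succ]
          group
      have hkp : (c * q * c⁻¹ * q⁻¹) ^ p = 1 := by
        obtain ⟨n, hn⟩ := Subgroup.mem_zpowers_iff.mp hk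
        rw [← hn, ← zpow_natCast, ← zpow_mul, mul_comm, zpow_mul, zpow_natCast, hup, one_zpow]
      have h1 := hpow p
      rw [hkp, one_mul] at h1
      have e3 : q * c ^ p = (c ^ p * q * (c ^ p)⁻¹) * c ^ p := by
        rw [h1]
      rw [e3]; group
    have hcQ := hchar hcp
    obtain ⟨j, hj⟩ := (pcOf_isPGroup p C) ⟨c ^ p, hcQ⟩
    have hj' : (c ^ p) ^ p ^ j = 1 := by
      have := congrArg Subtype.val hj
      rwa [Subgroup.coe_pow, Subgroup.coe_one] at this
    refine ⟨j + 1, ?_⟩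
    apply Subtype.ext
    rw [Subgroup.coe_pow, Subgroup.coe_one]
    show c ^ p ^ (j + 1) = 1
    rw [pow_succ', pow_mul]
    exact hj'
  have hE := le_pcOf_of_normal p hEp hEC hCE
  exact hE ⟨hwC, hw⟩

/-- In a four-group `U`, an element `t` normalizing `U` and centralizing `1 ≠ u ∈ U` satisfies
`[t, w] ∈ ⟨u⟩` for all `w ∈ U`. -/
theorem commutator_mem_zpowers_of_isKleinFour {U : Subgroup G} (hU4 : IsKleinFour U) {u : G}
    (hu : u ∈ U) (hu1 : u ≠ 1) {t : G} (htU : t ∈ Subgroup.normalizer (U : Set G))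
    (htu : t * u = u * t) {w : G} (hw : w ∈ U) :
    t * w * t⁻¹ * w⁻¹ ∈ Subgroup.zpowers u := by
  have hw' : t * w * t⁻¹ ∈ U := (Subgroup.mem_normalizer_iff.mp htU w).mp hw
  by_cases h1 : w = 1
  · rw [h1]
    have e : t * 1 * t⁻¹ * (1 : G)⁻¹ = 1 := by group
    rw [e]; exact Subgroup.one_mem _
  by_cases h2 : w = u
  · rw [h2, htu]
    have e : u * t * t⁻¹ * u⁻¹ = 1 := by group
    rw [e]; exact Subgroup.one_mem _
  by_cases h3 : t * w * t⁻¹ = w
  · rw [h3, mul_inv_cancel]; exact Subgroup.one_mem _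
  -- now `t w t⁻¹ = u w`
  have hc1 : t * w * t⁻¹ ≠ 1 := by
    intro h
    apply h1
    have e : w = t⁻¹ * (t * w * t⁻¹) * t := by group
    rw [e, h]; group
  have hcu : t * w * t⁻¹ ≠ u := by
    intro h
    apply h2
    have e : w = t⁻¹ * (t * w * t⁻¹) * t := by group
    rw [e, h]
    have e2 : t⁻¹ * u * t = t⁻¹ * (u * t) := by group
    rw [e2, ← htu]; group
  have key := IsKleinFour.eq_mul_of_ne_all (G := ↥U) (x := ⟨u, hu⟩) (y := ⟨w, hw⟩)
    (z := ⟨t * w * t⁻¹, hw'⟩)
    (fun h => hu1 (congrArg Subtype.val h)) (fun h => h1 (congrArg Subtype.val h))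
    (fun h => h2 (congrArg Subtype.val h).symm) (fun h => hc1 (congrArg Subtype.val h))
    (fun h => hcu (congrArg Subtype.val h)) (fun h => h3 (congrArg Subtype.val h))
  have key' : t * w * t⁻¹ = u * w := congrArg Subtype.val key
  rw [key', mul_assoc, mul_inv_cancel, mul_one]
  exact Subgroup.mem_zpowers u

/-- Elements of a four-group square to `1`. -/
theorem sq_eq_one_of_isKleinFour {U : Subgroup G} (hU4 : IsKleinFour U) {w : G} (hw : w ∈ U) :
    w ^ 2 = 1 := by
  have h := IsKleinFour.mul_self (G := ↥U) ⟨w, hw⟩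
  have h' : w * w = 1 := congrArg Subtype.val h
  rw [pow_two, h']

/-- Elements of a four-group commute. -/
theorem commute_of_isKleinFour {U : Subgroup G} (hU4 : IsKleinFour U) {v w : G} (hv : v ∈ U)
    (hw : w ∈ U) : v * w = w * v := by
  have hc : IsMulCommutative ↥U := IsKleinFour.isMulCommutative
  have h : (⟨v, hv⟩ : ↥U) * ⟨w, hw⟩ = ⟨w, hw⟩ * ⟨v, hv⟩ := mul_comm' _ _
  exact congrArg Subtype.val h

/-- The characteristic `2` condition on a subgroup `N`, written inside `G`. -/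
theorem inf_centralizer_pcOf_le_of_isOfCharacteristicTwo (N : Subgroup G)
    (h : IsOfCharacteristicTwo ↥N) : N ⊓ Subgroup.centralizer (pcOf 2 N : Set G) ≤ pcOf 2 N := by
  rintro x ⟨hxN, hxc⟩
  have h1 : (⟨x, hxN⟩ : ↥N) ∈ Subgroup.centralizer (pCore 2 ↥N : Set ↥N) := by
    rw [Subgroup.mem_centralizer_iff]
    intro q hq
    apply Subtype.ext
    exact Subgroup.mem_centralizer_iff.mp hxc (q : G) ⟨q, hq, rfl⟩
  exact ⟨⟨x, hxN⟩, h h1, rfl⟩

/-- For an involution `u`, `N_G(⟨u⟩) = C_G(u)`. -/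
theorem normalizer_zpowers_eq_centralizer_of_sq {u : G} (hu2 : u ^ 2 = 1) (hu1 : u ≠ 1) :
    Subgroup.normalizer (Subgroup.zpowers u : Set G) = Subgroup.centralizer ({u} : Set G) := by
  apply le_antisymm
  · intro g hg
    rw [mem_centralizer_singleton]
    have h1 : g * u * g⁻¹ ∈ Subgroup.zpowers u :=
      (Subgroup.mem_normalizer_iff.mp hg u).mp (Subgroup.mem_zpowers u)
    have ho : orderOf u = 2 := orderOf_eq_prime hu2 hu1
    obtain ⟨k, hk'⟩ := Subgroup.mem_zpowers_iff.mp h1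
    have hmod : u ^ (k % 2) = u ^ k := by
      have := zpow_mod_orderOf u k
      rw [ho] at this
      exact_mod_cast this
    rw [← hmod] at hk'
    rcases Int.emod_two_eq_zero_or_one k with h0 | h0
    · exfalso
      rw [h0, zpow_zero] at hk'
      apply hu1
      have e : u = g⁻¹ * (g * u * g⁻¹) * g := by group
      rw [e, ← hk']; group
    · rw [h0, zpow_one] at hk'
      have e : u * g = (g * u * g⁻¹)⁻¹⁻¹ * g := by rw [inv_inv, ← hk']
      rw [e]; group
  · apply le_normalizer_of_conj_mem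
    intro g hg x hx
    have h1 : x * g = g * x :=
      commute_of_mem_zpowers (C := Subgroup.centralizer ({u} : Set G))
        (fun c hc => mem_centralizer_singleton.mp hc) hx hg
    have e : g * x * g⁻¹ = x := by
      rw [← h1]; group
    rw [e]; exact hx

/-- `O_p(C)` lies in every maximal `p`-subgroup of `C`. -/
theorem pcOf_le_of_maximal [Finite G] (p : ℕ) [Fact p.Prime] {C T : Subgroup G} (hT : IsPGroup p T)
    (hTC : T ≤ C)
    (hmax : ∀ T' : Subgroup G, IsPGroup p T' → T ≤ T' → T' ≤ C → T' = T) : pcOf p C ≤ T := by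
  have h1 : IsPGroup p (T ⊔ pcOf p C : Subgroup G) :=
    hT.to_sup_of_normal_right' (pcOf_isPGroup p C) (hTC.trans (le_normalizer_pcOf p C))
  have h2 := hmax _ h1 le_sup_left (sup_le hTC (pcOf_le p C))
  calc pcOf p C ≤ T ⊔ pcOf p C := le_sup_right
    _ = T := h2

/-- A `p`-subgroup of `C` lies in a maximal `p`-subgroup of `C`. -/
theorem exists_maximal_pSubgroup_ge [Finite G] (p : ℕ) [Fact p.Prime] {C R : Subgroup G}
    (hR : IsPGroup p R) (hRC : R ≤ C) :
    ∃ T : Subgroup G, IsPGroup p T ∧ R ≤ T ∧ T ≤ C ∧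
      ∀ T' : Subgroup G, IsPGroup p T' → T ≤ T' → T' ≤ C → T' = T := by
  obtain ⟨T₀, hT₀⟩ := (hR.comap_subtype (K := C)).exists_le_sylow
  refine ⟨(T₀ : Subgroup ↥C).map C.subtype, T₀.isPGroup'.map _, ?_, Subgroup.map_subtype_le _, ?_⟩
  · intro r hr
    exact ⟨⟨r, hRC hr⟩, hT₀ (Subgroup.mem_subgroupOf.mpr hr), rfl⟩
  · intro T' hT' hTT' hT'C
    have h1 : (T₀ : Subgroup ↥C) ≤ T'.subgroupOf C := by
      intro y hy
      rw [Subgroup.mem_subgroupOf]
      exact hTT' ⟨y, hy, rfl⟩
    have h2 := T₀.is_maximal' (hT'.comap_subtype (K := C)) h1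
    apply le_antisymm
    · intro y hy
      have hy' : (⟨y, hT'C hy⟩ : ↥C) ∈ Subgroup.comap C.subtype T' := Subgroup.mem_subgroupOf.mpr hy
      rw [h2] at hy'
      exact ⟨⟨y, hT'C hy⟩, hy', rfl⟩
    · exact hTT'

/-- Powers of an element squaring to `1`. -/
theorem eq_one_or_eq_of_mem_zpowers_of_sq {z k : G} (hz2 : z ^ 2 = 1)
    (hk : k ∈ Subgroup.zpowers z) : k = 1 ∨ k = z := by
  obtain ⟨n, rfl⟩ := Subgroup.mem_zpowers_iff.mp hk
  rcases Int.even_or_odd' n with ⟨m, hm | hm⟩
  · left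
    rw [hm, zpow_mul, zpow_two, ← pow_two, hz2, one_zpow]
  · right
    rw [hm, zpow_add, zpow_mul, zpow_two, ← pow_two, hz2, one_zpow, one_mul, zpow_one]

/-- In a finite cyclic group there is at most one involution. -/
theorem eq_of_sq_eq_one_of_isCyclic {Z : Type*} [Group Z] [Finite Z] [IsCyclic Z] {z v : Z}
    (hz2 : z ^ 2 = 1) (hz1 : z ≠ 1) (hv2 : v ^ 2 = 1) : v = 1 ∨ v = z := by
  classical
  have : Fintype Z := Fintype.ofFinite Z
  by_contra hcon
  push Not at hcon
  have hle := IsCyclic.card_pow_eq_one_le (α := Z) (n := 2) (by norm_num)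
  have hsub : ({1, z, v} : Finset Z) ⊆ Finset.univ.filter (fun a : Z => a ^ 2 = 1) := by
    intro a ha
    simp only [Finset.mem_insert, Finset.mem_singleton] at ha
    simp only [Finset.mem_filter, Finset.mem_univ, true_and]
    rcases ha with rfl | rfl | rfl
    · exact one_pow 2
    · exact hz2
    · exact hv2
  have h3 : ({1, z, v} : Finset Z).card = 3 := by
    rw [Finset.card_eq_three]
    exact ⟨1, z, v, Ne.symm hz1, Ne.symm hcon.1, Ne.symm hcon.2, rfl⟩
  have := Finset.card_le_card hsub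
  omega

/-- Case B: `u ∈ U` is not central in `P`, `z ∈ U` is a central involution of `P`, and `Z(P)` is
cyclic. Then some maximal `2`-subgroup of `C_G(u)` normalizes `U`. -/
theorem exists_two_subgroup_caseB [Finite G] (P : Sylow 2 G) (U : Subgroup G)
    (hUP : U ≤ (P : Subgroup G))
    (hUn : (P : Subgroup G) ≤ Subgroup.normalizer (U : Set G)) (hU4 : IsKleinFour ↥U)
    (hcyc : IsCyclic ↥((P : Subgroup G) ⊓ Subgroup.centralizer ((P : Subgroup G) : Set G)))
    {z : G} (hzU : z ∈ U) (hz1 : z ≠ 1) (hzP : ∀ t ∈ (P : Subgroup G), z * t = t * z)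
    {u : G} (hu : u ∈ U) {x : G} (hxP : x ∈ (P : Subgroup G)) (hxu : x * u ≠ u * x) :
    ∃ T : Subgroup G, IsPGroup 2 T ∧ T ≤ Subgroup.centralizer ({u} : Set G) ∧
      T ≤ Subgroup.normalizer (U : Set G) ∧
      pcOf 2 (Subgroup.centralizer ({u} : Set G)) ≤ T := by
  have hz2 : z ^ 2 = 1 := sq_eq_one_of_isKleinFour hU4 hzU
  have hu2 : u ^ 2 = 1 := sq_eq_one_of_isKleinFour hU4 hu
  have huu : u * u = 1 := by rw [← pow_two]; exact hu2
  have hzz : z * z = 1 := by rw [← pow_two]; exact hz2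
  have hu1 : u ≠ 1 := by
    rintro rfl
    exact hxu (by rw [mul_one, one_mul])
  have huz : u ≠ z := by
    rintro rfl
    exact hxu (hzP x hxP).symm
  have hzu : z * u = u * z := commute_of_isKleinFour hU4 hzU hu
  -- the elements of `U`
  have hUel : ∀ w ∈ U, w = 1 ∨ w = z ∨ w = u ∨ w = z * u := by
    intro w hw
    by_cases h1 : w = 1
    · exact Or.inl h1
    by_cases h2 : w = z
    · exact Or.inr (Or.inl h2)
    by_cases h3 : w = u
    · exact Or.inr (Or.inr (Or.inl h3))
    right; right; right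
    have key := IsKleinFour.eq_mul_of_ne_all (G := ↥U) (x := ⟨z, hzU⟩) (y := ⟨u, hu⟩)
      (z := ⟨w, hw⟩)
      (fun h => hz1 (congrArg Subtype.val h)) (fun h => hu1 (congrArg Subtype.val h))
      (fun h => huz (congrArg Subtype.val h).symm) (fun h => h1 (congrArg Subtype.val h))
      (fun h => h2 (congrArg Subtype.val h)) (fun h => h3 (congrArg Subtype.val h))
    exact congrArg Subtype.val key
  -- conjugation by elements of `P`
  have hconj : ∀ t ∈ (P : Subgroup G), t * u ≠ u * t → t * u * t⁻¹ = z * u := by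
    intro t ht hne
    have h1 := commutator_mem_zpowers_of_isKleinFour hU4 hzU hz1 (hUn ht) (hzP t ht).symm hu
    rcases eq_one_or_eq_of_mem_zpowers_of_sq hz2 h1 with h | h
    · exfalso
      apply hne
      have e : t * u = (t * u * t⁻¹ * u⁻¹) * (u * t) := by group
      rw [e, h, one_mul]
    · have e : t * u * t⁻¹ = (t * u * t⁻¹ * u⁻¹) * u := by group
      rw [e, h]
  -- `P₀ = C_P(u)` centralizes `U`
  have hP₀U : ∀ c : G, u * c = c * u → c ∈ (P : Subgroup G) → ∀ w ∈ U, c * w = w * c := by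
    intro c hcu hcP w hw
    rcases hUel w hw with rfl | rfl | rfl | rfl
    · rw [mul_one, one_mul]
    · exact (hzP c hcP).symm
    · exact hcu.symm
    · rw [← mul_assoc, ← hzP c hcP, mul_assoc, ← hcu, mul_assoc]
  -- `P` normalizes `P₀`
  have hnormP₀ : ∀ t ∈ (P : Subgroup G), ∀ c : G, u * c = c * u → c ∈ (P : Subgroup G) →
      u * (t * c * t⁻¹) = (t * c * t⁻¹) * u := by
    intro t ht c hcu hcP
    have htu' : t⁻¹ * u * t ∈ U := by
      have := (Subgroup.mem_normalizer_iff.mp (hUn ((P : Subgroup G).inv_mem ht)) u).mp hu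
      rwa [inv_inv] at this
    have h1 := hP₀U c hcu hcP _ htu'
    have e1 : u * (t * c * t⁻¹) = t * ((t⁻¹ * u * t) * c) * t⁻¹ := by group
    have e2 : (t * c * t⁻¹) * u = t * (c * (t⁻¹ * u * t)) * t⁻¹ := by group
    rw [e1, e2, h1]
  have hxux : x * u * x⁻¹ = z * u := hconj x hxP hxu
  -- the coset decomposition `P = P₀ ∪ x P₀`
  have hcoset : ∀ t ∈ (P : Subgroup G), t * u ≠ u * t → u * (x⁻¹ * t) = (x⁻¹ * t) * u := by
    intro t ht hne
    have h1 := hconj t ht hne
    have h2 : x⁻¹ * (z * u) * x = u := by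
      rw [← hxux]; group
    have e1 : (x⁻¹ * t) * u = x⁻¹ * (t * u * t⁻¹) * t := by group
    rw [e1, h1]
    have e2 : x⁻¹ * (z * u) * t = (x⁻¹ * (z * u) * x) * (x⁻¹ * t) := by group
    rw [e2, h2]
  have hx2 : u * (x * x) = (x * x) * u := by
    have e1 : (x * x) * u = x * (x * u * x⁻¹) * x := by group
    rw [e1, hxux]
    have e2 : x * (z * u) * x = (x * z * x⁻¹) * (x * u * x⁻¹) * (x * x) := by group
    have hxz : x * z * x⁻¹ = z := by
      rw [← hzP x hxP]; group
    rw [e2, hxz, hxux, ← mul_assoc z z u, hzz, one_mul]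
  -- `Ω₁(Z(P₀)) ≤ U`
  have hcenter : ∀ v : G, v ∈ (P : Subgroup G) → (∀ t ∈ (P : Subgroup G), t * v = v * t) →
      v ^ 2 = 1 → v = 1 ∨ v = z := by
    intro v hvP hvc hv2
    have hzZ : z ∈ (P : Subgroup G) ⊓ Subgroup.centralizer ((P : Subgroup G) : Set G) :=
      ⟨hUP hzU, Subgroup.mem_centralizer_iff.mpr (fun t ht => (hzP t ht).symm)⟩
    have hvZ : v ∈ (P : Subgroup G) ⊓ Subgroup.centralizer ((P : Subgroup G) : Set G) :=
      ⟨hvP, Subgroup.mem_centralizer_iff.mpr (fun t ht => hvc t ht)⟩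
    have h := eq_of_sq_eq_one_of_isCyclic
      (Z := ↥((P : Subgroup G) ⊓ Subgroup.centralizer ((P : Subgroup G) : Set G)))
      (z := ⟨z, hzZ⟩) (v := ⟨v, hvZ⟩)
      (by apply Subtype.ext; simpa using hz2)
      (fun h => hz1 (congrArg Subtype.val h))
      (by apply Subtype.ext; simpa using hv2)
    rcases h with h | h
    · exact Or.inl (congrArg Subtype.val h)
    · exact Or.inr (congrArg Subtype.val h)
  -- membership in `V = Ω₁(Z(P₀))`
  have hVfix : ∀ v : G, v ∈ (P : Subgroup G) →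
      (∀ c ∈ (P : Subgroup G), u * c = c * u → c * v = v * c) → v ^ 2 = 1 →
      x * v * x⁻¹ = v → v = 1 ∨ v = z := by
    intro v hvP hvc hv2 hxv
    apply hcenter v hvP _ hv2
    intro t ht
    by_cases htu : t * u = u * t
    · exact hvc t ht htu.symm
    · have h1 := hcoset t ht htu
      have h2 := hvc (x⁻¹ * t) ((P : Subgroup G).mul_mem ((P : Subgroup G).inv_mem hxP) ht) h1
      have hxv' : x * v = v * x := by
        have e : x * v = (x * v * x⁻¹) * x := by group
        rw [e, hxv]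
      have e1 : t * v = x * ((x⁻¹ * t) * v) := by group
      rw [e1, h2, ← mul_assoc, hxv']
      group
  have hV : ∀ v : G, v ∈ (P : Subgroup G) → u * v = v * u →
      (∀ c ∈ (P : Subgroup G), u * c = c * u → c * v = v * c) → v ^ 2 = 1 → v ∈ U := by
    intro v hvP hvu hvc hv2
    have hvv : v * v = 1 := by rw [← pow_two]; exact hv2
    -- `x v x⁻¹` is again in `V`
    have hxvP : x * v * x⁻¹ ∈ (P : Subgroup G) :=
      (P : Subgroup G).mul_mem ((P : Subgroup G).mul_mem hxP hvP) ((P : Subgroup G).inv_mem hxP)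
    have hxvu : u * (x * v * x⁻¹) = (x * v * x⁻¹) * u := hnormP₀ x hxP v hvu hvP
    have hxvc : ∀ c ∈ (P : Subgroup G), u * c = c * u → c * (x * v * x⁻¹) = (x * v * x⁻¹) * c := by
      intro c hcP hcu
      have hc' : u * (x⁻¹ * c * x⁻¹⁻¹) = (x⁻¹ * c * x⁻¹⁻¹) * u :=
        hnormP₀ x⁻¹ ((P : Subgroup G).inv_mem hxP) c hcu hcP
      have h1 := hvc _ ((P : Subgroup G).mul_mem ((P : Subgroup G).mul_mem
        ((P : Subgroup G).inv_mem hxP) hcP) ((P : Subgroup G).inv_mem ((P : Subgroup G).inv_mem hxP))) hc'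
      have e1 : c * (x * v * x⁻¹) = x * ((x⁻¹ * c * x⁻¹⁻¹) * v) * x⁻¹ := by group
      have e2 : (x * v * x⁻¹) * c = x * (v * (x⁻¹ * c * x⁻¹⁻¹)) * x⁻¹ := by group
      rw [e1, e2, h1]
    have hvxv : v * (x * v * x⁻¹) = (x * v * x⁻¹) * v := (hvc _ hxvP hxvu).symm
    -- the general step: an element `a` of `V` with `a * x a x⁻¹ = 1` lies in `{1, z}`
    have hstep : ∀ a : G, a ∈ (P : Subgroup G) →
        (∀ c ∈ (P : Subgroup G), u * c = c * u → c * a = a * c) → a ^ 2 = 1 →
        a * (x * a * x⁻¹) = 1 → a = 1 ∨ a = z := by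
      intro a haP hac ha2 ha
      apply hVfix a haP hac ha2
      have haa : a * a = 1 := by rw [← pow_two]; exact ha2
      have e : x * a * x⁻¹ = a⁻¹ * (a * (x * a * x⁻¹)) := by group
      rw [e, ha, mul_one]
      exact inv_eq_of_mul_eq_one_left haa
    -- `y = v * x v x⁻¹` is fixed by `x`
    have hyP : v * (x * v * x⁻¹) ∈ (P : Subgroup G) := (P : Subgroup G).mul_mem hvP hxvP
    have hyc : ∀ c ∈ (P : Subgroup G), u * c = c * u →
        c * (v * (x * v * x⁻¹)) = (v * (x * v * x⁻¹)) * c := by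
      intro c hcP hcu
      calc c * (v * (x * v * x⁻¹)) = (c * v) * (x * v * x⁻¹) := (mul_assoc c v _).symm
        _ = (v * c) * (x * v * x⁻¹) := by rw [hvc c hcP hcu]
        _ = v * (c * (x * v * x⁻¹)) := mul_assoc v c _
        _ = v * ((x * v * x⁻¹) * c) := by rw [hxvc c hcP hcu]
        _ = (v * (x * v * x⁻¹)) * c := (mul_assoc v _ c).symm
    have hy2 : (v * (x * v * x⁻¹)) ^ 2 = 1 := by
      have hc : Commute v (x * v * x⁻¹) := hvxv
      rw [hc.mul_pow, hv2, conj_pow, hv2, one_mul, mul_one, mul_inv_cancel]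
    have hxx : (x * x) * v = v * (x * x) :=
      hvc _ ((P : Subgroup G).mul_mem hxP hxP) hx2
    have hyx : x * (v * (x * v * x⁻¹)) * x⁻¹ = v * (x * v * x⁻¹) := by
      have e : x * (v * (x * v * x⁻¹)) * x⁻¹ = (x * v * x⁻¹) * (((x * x) * v) * (x * x)⁻¹) := by
        group
      rw [e, hxx, mul_assoc v, mul_inv_cancel, mul_one, hvxv]
    rcases hVfix _ hyP hyc hy2 hyx with hy | hy
    · -- `v` itself is fixed up to inversion
      rcases hstep v hvP hvc hv2 hy with h | h
      · rw [h]; exact U.one_mem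
      · rw [h]; exact hzU
    · -- replace `v` by `v * u`
      have hvuP : v * u ∈ (P : Subgroup G) := (P : Subgroup G).mul_mem hvP (hUP hu)
      have huc : ∀ c ∈ (P : Subgroup G), u * c = c * u → c * u = u * c :=
        fun c _ hcu => hcu.symm
      have hvuc : ∀ c ∈ (P : Subgroup G), u * c = c * u → c * (v * u) = (v * u) * c := by
        intro c hcP hcu
        rw [← mul_assoc, hvc c hcP hcu, mul_assoc, ← hcu, mul_assoc]
      have hvu2 : (v * u) ^ 2 = 1 := by
        have hc : Commute v u := hvu.symm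
        rw [hc.mul_pow, hv2, hu2, one_mul]
      have hprod : (v * u) * (x * (v * u) * x⁻¹) = 1 := by
        have e : x * (v * u) * x⁻¹ = (x * v * x⁻¹) * (x * u * x⁻¹) := by group
        rw [e, hxux]
        -- `v u (x v x⁻¹) z u = (v (x v x⁻¹)) z (u u)`
        have h1 : u * (x * v * x⁻¹) = (x * v * x⁻¹) * u := hxvu
        have h2 : z * u = u * z := hzu
        have h3 : (x * v * x⁻¹) * z = z * (x * v * x⁻¹) := (hzP _ hxvP).symm
        calc v * u * (x * v * x⁻¹ * (z * u))
            = v * (u * (x * v * x⁻¹)) * (z * u) := by group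
          _ = v * ((x * v * x⁻¹) * u) * (z * u) := by rw [h1]
          _ = (v * (x * v * x⁻¹)) * (u * z) * u := by group
          _ = z * (z * u) * u := by rw [hy, ← h2]
          _ = (z * z) * (u * u) := by group
          _ = 1 := by rw [hzz, huu, one_mul]
      rcases hstep (v * u) hvuP hvuc hvu2 hprod with h | h
      · have : v = u := by
          have e : v = (v * u) * u⁻¹ := by group
          rw [e, h, one_mul]
          exact inv_eq_of_mul_eq_one_left huu
        rw [this]; exact hu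
      · have : v = z * u := by
          have e : v = (v * u) * u⁻¹ := by group
          rw [e, h, inv_eq_of_mul_eq_one_left huu]
        rw [this]; exact U.mul_mem hzU hu
  -- choose `T`
  have hP₀2 : IsPGroup 2 ((P : Subgroup G) ⊓ Subgroup.centralizer ({u} : Set G) : Subgroup G) :=
    P.isPGroup'.to_le inf_le_left
  obtain ⟨T, hT2, hP₀T, hTC, hTmax⟩ :=
    exists_maximal_pSubgroup_ge 2 hP₀2 (inf_le_right)
  refine ⟨T, hT2, hTC, ?_, pcOf_le_of_maximal 2 hT2 hTC hTmax⟩
  by_cases hTP₀ : T = (P : Subgroup G) ⊓ Subgroup.centralizer ({u} : Set G)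
  · rw [hTP₀]
    exact inf_le_left.trans hUn
  -- `[P : P₀] = 2`
  have hidxP : ((P : Subgroup G) ⊓ Subgroup.centralizer ({u} : Set G)).relIndex (P : Subgroup G)
      = 2 := by
    unfold Subgroup.relIndex
    rw [Subgroup.index_eq_two_iff]
    refine ⟨⟨x, hxP⟩, ?_⟩
    intro b
    have hmem : ∀ y : ↥(P : Subgroup G),
        y ∈ ((P : Subgroup G) ⊓ Subgroup.centralizer ({u} : Set G)).subgroupOf (P : Subgroup G) ↔
          u * (y : G) = (y : G) * u := by
      intro y
      rw [Subgroup.mem_subgroupOf, Subgroup.mem_inf, mem_centralizer_singleton]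
      exact ⟨fun h => h.2, fun h => ⟨y.2, h⟩⟩
    rw [hmem, hmem]
    by_cases hb : u * (b : G) = (b : G) * u
    · refine Or.inr ⟨hb, ?_⟩
      intro h
      apply hxu
      have e : x * u = (b : G)⁻¹ * (((b : G) * x) * u) := by group
      have h' : u * ((b : G) * x) = ((b : G) * x) * u := h
      rw [e, ← h', ← mul_assoc u, hb]
      group
    · refine Or.inl ⟨?_, hb⟩
      have h1 := hconj (b : G) b.2 (fun h => hb h.symm)
      show u * ((b : G) * x) = ((b : G) * x) * u
      have e1 : ((b : G) * x) * u = (b : G) * (x * u * x⁻¹) * x := by group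
      rw [e1, hxux]
      have e2 : (b : G) * (z * u) * x = ((b : G) * z * (b : G)⁻¹) * ((b : G) * u * (b : G)⁻¹) *
          ((b : G) * x) := by group
      have hbz : (b : G) * z * (b : G)⁻¹ = z := by
        rw [← hzP (b : G) b.2]; group
      rw [e2, hbz, h1, ← mul_assoc z z u, hzz, one_mul]
  -- `|T| = |P|`, so `[T : P₀] = 2`
  have hcardP := card_mul_relIndex (inf_le_left :
    (P : Subgroup G) ⊓ Subgroup.centralizer ({u} : Set G) ≤ (P : Subgroup G))
  rw [hidxP] at hcardP
  have hcardT := card_mul_relIndex hP₀T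
  have hTle : Nat.card T ≤ Nat.card (P : Subgroup G) := by
    obtain ⟨P', hTP'⟩ := hT2.exists_le_sylow
    have h1 : Nat.card T ≤ Nat.card (P' : Subgroup G) :=
      Nat.le_of_dvd Nat.card_pos (Subgroup.card_dvd_of_le hTP')
    have h2 : Nat.card (P' : Subgroup G) = Nat.card (P : Subgroup G) := by
      rw [Sylow.card_eq_multiplicity P', Sylow.card_eq_multiplicity P]
    omega
  have hidxT : ((P : Subgroup G) ⊓ Subgroup.centralizer ({u} : Set G)).relIndex T = 2 := by
    have hne1 : ((P : Subgroup G) ⊓ Subgroup.centralizer ({u} : Set G)).relIndex T ≠ 1 := by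
      intro h
      apply hTP₀
      exact le_antisymm (Subgroup.relIndex_eq_one.mp h) hP₀T
    have hpos : 0 < Nat.card ((P : Subgroup G) ⊓ Subgroup.centralizer ({u} : Set G) : Subgroup G) :=
      Nat.card_pos
    have hne0 : ((P : Subgroup G) ⊓ Subgroup.centralizer ({u} : Set G)).relIndex T ≠ 0 := by
      intro h
      rw [h, mul_zero] at hcardT
      have : 0 < Nat.card T := Nat.card_pos
      omega
    have hle2 : ((P : Subgroup G) ⊓ Subgroup.centralizer ({u} : Set G)).relIndex T ≤ 2 := by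
      by_contra hgt
      push Not at hgt
      have : Nat.card ((P : Subgroup G) ⊓ Subgroup.centralizer ({u} : Set G) : Subgroup G) * 3 ≤
          Nat.card ((P : Subgroup G) ⊓ Subgroup.centralizer ({u} : Set G) : Subgroup G) *
            ((P : Subgroup G) ⊓ Subgroup.centralizer ({u} : Set G)).relIndex T :=
        Nat.mul_le_mul_left _ hgt
      omega
    omega
  have hTnorm : T ≤ Subgroup.normalizer
      (((P : Subgroup G) ⊓ Subgroup.centralizer ({u} : Set G) : Subgroup G) : Set G) := by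
    have hn : (((P : Subgroup G) ⊓ Subgroup.centralizer ({u} : Set G)).subgroupOf T).Normal :=
      Subgroup.normal_of_index_eq_two hidxT
    exact (Subgroup.normal_subgroupOf_iff_le_normalizer hP₀T).mp hn
  -- `T` normalizes `U = Ω₁(Z(P₀))`
  apply le_normalizer_of_conj_mem
  intro t ht w hw
  have hwP₀ : w ∈ (P : Subgroup G) ⊓ Subgroup.centralizer ({u} : Set G) :=
    ⟨hUP hw, mem_centralizer_singleton.mpr (commute_of_isKleinFour hU4 hu hw)⟩
  have htw : t * w * t⁻¹ ∈ (P : Subgroup G) ⊓ Subgroup.centralizer ({u} : Set G) :=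
    (Subgroup.mem_normalizer_iff.mp (hTnorm ht) w).mp hwP₀
  apply hV _ htw.1 (mem_centralizer_singleton.mp htw.2)
  · intro c hcP hcu
    have hc₀ : c ∈ (P : Subgroup G) ⊓ Subgroup.centralizer ({u} : Set G) :=
      ⟨hcP, mem_centralizer_singleton.mpr hcu⟩
    have hc' : t⁻¹ * c * t⁻¹⁻¹ ∈ (P : Subgroup G) ⊓ Subgroup.centralizer ({u} : Set G) :=
      (Subgroup.mem_normalizer_iff.mp (T.inv_mem ht |> fun h => hTnorm h) c).mp hc₀
    have h1 := hP₀U _ (mem_centralizer_singleton.mp hc'.2) hc'.1 w hw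
    have e1 : c * (t * w * t⁻¹) = t * ((t⁻¹ * c * t⁻¹⁻¹) * w) * t⁻¹ := by group
    have e2 : (t * w * t⁻¹) * c = t * (w * (t⁻¹ * c * t⁻¹⁻¹)) * t⁻¹ := by group
    rw [e1, e2, h1]
  · rw [conj_pow, sq_eq_one_of_isKleinFour hU4 hw, mul_one, mul_inv_cancel]

/-- `U ≤ O_2(C_G(u))` for every involution `u` of the normal four-subgroup `U` of `P`. -/
theorem fourGroup_le_pcOf_centralizer [Finite G]
    (h2 : ∀ T : Subgroup G, IsPGroup 2 T → T ≠ ⊥ →
      IsOfCharacteristicTwo ↥(Subgroup.normalizer (T : Set G)))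
    (P : Sylow 2 G) (U : Subgroup G) (hUP : U ≤ (P : Subgroup G))
    (hUn : (P : Subgroup G) ≤ Subgroup.normalizer (U : Set G)) (hU4 : IsKleinFour ↥U)
    (hUZ : ¬ IsCyclic ↥((P : Subgroup G) ⊓ Subgroup.centralizer ((P : Subgroup G) : Set G)) →
      U ≤ Subgroup.centralizer ((P : Subgroup G) : Set G))
    {u : G} (hu : u ∈ U) (hu1 : u ≠ 1) :
    U ≤ pcOf 2 (Subgroup.centralizer ({u} : Set G)) := by
  have hu2 : u ^ 2 = 1 := sq_eq_one_of_isKleinFour hU4 hu
  -- characteristic 2 for `C_G(u)`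
  have hchar : Subgroup.centralizer ({u} : Set G) ⊓
      Subgroup.centralizer (pcOf 2 (Subgroup.centralizer ({u} : Set G)) : Set G) ≤
      pcOf 2 (Subgroup.centralizer ({u} : Set G)) := by
    have hzp : IsPGroup 2 (Subgroup.zpowers u) := by
      apply IsPGroup.of_card (n := 1)
      rw [Nat.card_zpowers, orderOf_eq_prime hu2 hu1, pow_one]
    have hzne : Subgroup.zpowers u ≠ ⊥ := by
      intro h
      apply hu1
      have := Subgroup.mem_zpowers u
      rwa [h, Subgroup.mem_bot] at this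
    have h := inf_centralizer_pcOf_le_of_isOfCharacteristicTwo _ (h2 _ hzp hzne)
    rwa [normalizer_zpowers_eq_centralizer_of_sq hu2 hu1] at h
  -- the `2`-subgroup `T`
  have hT : ∃ T : Subgroup G, IsPGroup 2 T ∧ T ≤ Subgroup.centralizer ({u} : Set G) ∧
      T ≤ Subgroup.normalizer (U : Set G) ∧
      pcOf 2 (Subgroup.centralizer ({u} : Set G)) ≤ T := by
    by_cases hcase : ∀ t ∈ (P : Subgroup G), t * u = u * t
    · -- Case A: `u` is central in `P`
      have hPC : (P : Subgroup G) ≤ Subgroup.centralizer ({u} : Set G) := by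
        intro t ht
        exact mem_centralizer_singleton.mpr (hcase t ht).symm
      refine ⟨P, P.isPGroup', hPC, hUn, ?_⟩
      apply pcOf_le_of_maximal 2 P.isPGroup' hPC
      intro T' hT' hPT' _
      exact P.is_maximal' hT' hPT'
    · -- Case B
      push Not at hcase
      obtain ⟨x, hxP, hxu⟩ := hcase
      have hnc : ¬ U ≤ Subgroup.centralizer ((P : Subgroup G) : Set G) := by
        intro h
        apply hxu
        exact Subgroup.mem_centralizer_iff.mp (h hu) x hxP
      have hcyc : IsCyclic ↥((P : Subgroup G) ⊓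
          Subgroup.centralizer ((P : Subgroup G) : Set G)) := by
        by_contra h
        exact hnc (hUZ h)
      -- a central involution of `P` in `U`
      have hPn : Group.IsNilpotent ↥(P : Subgroup G) := P.isPGroup'.isNilpotent
      have hNn : (U.subgroupOf (P : Subgroup G)).Normal :=
        (Subgroup.normal_subgroupOf_iff_le_normalizer hUP).mpr hUn
      have hNne : U.subgroupOf (P : Subgroup G) ≠ ⊥ := by
        intro h
        apply hu1
        have : (⟨u, hUP hu⟩ : ↥(P : Subgroup G)) ∈ U.subgroupOf (P : Subgroup G) :=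
          Subgroup.mem_subgroupOf.mpr hu
        rw [h, Subgroup.mem_bot] at this
        exact congrArg Subtype.val this
      have hne := Cfsg.Agent.S0065.result (G := ↥(P : Subgroup G))
        (U.subgroupOf (P : Subgroup G)) hNne
      obtain ⟨⟨zP, hzmem⟩, hz1⟩ := (Subgroup.ne_bot_iff_exists_ne_one).mp hne
      have hzU : (zP : G) ∈ U := Subgroup.mem_subgroupOf.mp hzmem.1
      have hz1' : (zP : G) ≠ 1 := by
        intro h
        apply hz1
        apply Subtype.ext
        apply Subtype.ext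
        exact h
      have hzP : ∀ t ∈ (P : Subgroup G), (zP : G) * t = t * (zP : G) := by
        intro t ht
        have := Subgroup.mem_center_iff.mp hzmem.2 ⟨t, ht⟩
        exact (congrArg Subtype.val this).symm
      exact exists_two_subgroup_caseB P U hUP hUn hU4 hcyc hzU hz1' hzP hu hxP hxu
  obtain ⟨T, -, hTC, hTU, hQT⟩ := hT
  -- apply the stability group lemma
  intro w hw
  have hwC : w ∈ Subgroup.centralizer ({u} : Set G) :=
    mem_centralizer_singleton.mpr (commute_of_isKleinFour hU4 hu hw)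
  apply mem_pcOf_of_commutator_mem_zpowers 2 _ hchar (u := u)
    (fun c hc => mem_centralizer_singleton.mp hc) hu2 hwC
  intro q hq
  have hqT := hQT hq
  have h1 := commutator_mem_zpowers_of_isKleinFour hU4 hu hu1 (hTU hqT)
    (mem_centralizer_singleton.mp (hTC hqT)).symm hw
  have e : w * q * w⁻¹ * q⁻¹ = (q * w * q⁻¹ * w⁻¹)⁻¹ := by group
  rw [e]
  exact Subgroup.inv_mem _ h1

/-- A normal four-subgroup `U` of a Sylow `2`-subgroup `P` of a group all of whose `2`-locals have
characteristic `2` (with `U ≤ Z(P)` unless `Z(P)` is cyclic) centralizes every subgroup of odd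
order that it normalizes. -/
theorem fourGroup_centralizes_odd [Finite G]
    (h2 : ∀ T : Subgroup G, IsPGroup 2 T → T ≠ ⊥ →
      IsOfCharacteristicTwo ↥(Subgroup.normalizer (T : Set G)))
    (P : Sylow 2 G) (U : Subgroup G) (hUP : U ≤ (P : Subgroup G))
    (hUn : (P : Subgroup G) ≤ Subgroup.normalizer (U : Set G)) (hU4 : IsKleinFour ↥U)
    (hUZ : ¬ IsCyclic ↥((P : Subgroup G) ⊓ Subgroup.centralizer ((P : Subgroup G) : Set G)) →
      U ≤ Subgroup.centralizer ((P : Subgroup G) : Set G))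
    (K : Subgroup G) (hK : Odd (Nat.card K)) (hUK : U ≤ Subgroup.normalizer (K : Set G)) :
    U ≤ Subgroup.centralizer (K : Set G) := by
  have hcomm : IsMulCommutative ↥U := IsKleinFour.isMulCommutative
  have hnc : ¬ IsCyclic ↥U := IsKleinFour.not_isCyclic
  have hcop : (Nat.card U).Coprime (Nat.card K) := by
    rw [hU4.card_four]
    have h22 : (4 : ℕ) = 2 ^ 2 := by norm_num
    rw [h22]
    apply Nat.Coprime.pow_left
    rw [Nat.Prime.coprime_iff_not_dvd Nat.prime_two]
    intro h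
    rw [Nat.odd_iff] at hK
    omega
  have hgen := Cfsg.Agent.S0058.result U K hnc hUK hcop
  rw [Subgroup.le_centralizer_iff, ← hgen]
  apply iSup₂_le
  rintro a ⟨haU, ha1⟩
  rintro d ⟨hdK, hdC⟩
  rw [Subgroup.mem_centralizer_iff]
  intro w hw
  have hwQ := fourGroup_le_pcOf_centralizer h2 P U hUP hUn hU4 hUZ haU ha1 hw
  -- `[d, w] ∈ K ∩ O_2(C_G(a)) = 1`
  have h1 : d * w * d⁻¹ * w⁻¹ ∈ pcOf 2 (Subgroup.centralizer ({a} : Set G)) := by
    have hn := (Subgroup.mem_normalizer_iff.mp (le_normalizer_pcOf 2 _ hdC) w).mp hwQ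
    exact Subgroup.mul_mem _ hn (Subgroup.inv_mem _ hwQ)
  have h3 : d * w * d⁻¹ * w⁻¹ ∈ K := by
    have hn : w * d⁻¹ * w⁻¹ ∈ K :=
      (Subgroup.mem_normalizer_iff.mp (hUK hw) d⁻¹).mp (K.inv_mem hdK)
    have e : d * w * d⁻¹ * w⁻¹ = d * (w * d⁻¹ * w⁻¹) := by group
    rw [e]
    exact K.mul_mem hdK hn
  have h4 : d * w * d⁻¹ * w⁻¹ = 1 := by
    obtain ⟨j, hj⟩ := (pcOf_isPGroup 2 (Subgroup.centralizer ({a} : Set G))) ⟨_, h1⟩
    have hj' : (d * w * d⁻¹ * w⁻¹) ^ 2 ^ j = 1 := by
      have := congrArg Subtype.val hj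
      rwa [Subgroup.coe_pow, Subgroup.coe_one] at this
    have hk : (d * w * d⁻¹ * w⁻¹) ^ Nat.card K = 1 := by
      have h := congrArg Subtype.val (pow_card_eq_one' (G := ↥K) (x := ⟨_, h3⟩))
      rwa [Subgroup.coe_pow, Subgroup.coe_one] at h
    have h5 := pow_gcd_eq_one.mpr ⟨hj', hk⟩
    have h6 : (2 ^ j).gcd (Nat.card K) = 1 := by
      apply Nat.Coprime.pow_left
      rw [Nat.Prime.coprime_iff_not_dvd Nat.prime_two]
      intro h
      rw [Nat.odd_iff] at hK
      omega
    rwa [h6, pow_one] at h5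
  have e : w * d = (d * w * d⁻¹ * w⁻¹)⁻¹ * (d * w) := by group
  rw [e, h4, inv_one, one_mul]

end FourGroup

end Cfsg.Agent.Lib.Helper54
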