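/-
helper54: PROJECT ASCH (helper99, S5630), module [KFOLD]: exact sheet statement `kfold_tensor`,
from `AschKFold.kfold_of` and the landed module [BIN] (helper76, `tensor_of_commuting`).
-/
import Mathlib
import Cfsg.Prelude.Def_GeometricClasses
import Cfsg.Agent.Lib.Helper99.AschDefs
import Cfsg.Agent.Lib.Helper54.AschKFold
import Cfsg.Agent.Lib.Helper76.AschBinFinal

set_option autoImplicit false

namespace Cfsg.Agent.Lib.Helper99.Asch

open Cfsg Cfsg.Geo
open scoped MatrixGroups Matrix Kronecker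

variable {n : ℕ} {F : Type*} [Field F] [Fintype F]

/-- ASCH-[KFOLD] (sheet statement) -/
theorem kfold_tensor {k : ℕ} (hk : 0 < k) (Q : Fin k → Subgroup (GL (Fin n) F))
    (hcomm : ∀ i j, i ≠ j → ∀ x ∈ Q i, ∀ y ∈ Q j, x * y = y * x)
    (habs : ActsAbsolutelyIrreducibly (matrixSet (iSup Q)))
    (hdim : ∀ i j, Module.finrank F (Submodule.span F (matrixSet (Q i))) =
      Module.finrank F (Submodule.span F (matrixSet (Q j)))) :
    ∃ (d : ℕ) (idx : Fin n ≃ (Fin k → Fin d)) (B : GL (Fin n) F),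
      (∀ i, ∀ x ∈ Q i, ∃ a : GL (Fin d) F,
        ((B * x * B⁻¹ : GL (Fin n) F) : Matrix (Fin n) (Fin n) F) =
          Matrix.reindex idx.symm idx.symm (slotMatrix i (a : Matrix (Fin d) (Fin d) F))) ∧
      (∀ i (a : Matrix (Fin d) (Fin d) F),
        ((B⁻¹ : GL (Fin n) F) : Matrix (Fin n) (Fin n) F) *
          Matrix.reindex idx.symm idx.symm (slotMatrix i a) * (B : Matrix (Fin n) (Fin n) F) ∈
          Submodule.span F (matrixSet (Q i))) :=
  Cfsg.Agent.Lib.Helper54.AschKFold.kfold_of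
    (fun _ _ Q Q' h1 h2 => tensor_of_commuting Q Q' h1 h2) hk Q hcomm habs hdim

end Cfsg.Agent.Lib.Helper99.Asch
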