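import Mathlib
import Cfsg.Prelude.Def_GeometricClasses
import Cfsg.Agent.Lib.Helper99.AschDefs
import Cfsg.Agent.Lib.Helper99.U92.Defs

/-!
# Project ASCHU, sub-sheet U92 (helper99), module U92-[TWS-NF] (helper54)

Normal form `g = PT C * PM τ` in the standard tensor wreath group, for all `d k` and any field.
Own auxiliary lemmas (`pm_mul_pt`, …) are in the namespace `Cfsg.Agent.Lib.Helper54.U92TwsNF`.
-/

set_option autoImplicit false

namespace Cfsg.Agent.Lib.Helper54.U92TwsNF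

open Cfsg Cfsg.Geo Cfsg.Agent.Lib.Helper99.Asch
open Cfsg.Agent.Lib.Helper15.AschSlotNorm
open scoped MatrixGroups Matrix

variable {F : Type*} [Field F] {d k : ℕ}

/-- A factor permutation moves the factors of a pure tensor. -/
theorem pm_mul_pt (τ : Equiv.Perm (Fin k)) (as : Fin k → Matrix (Fin d) (Fin d) F) :
    (PM τ : Matrix (Fin k → Fin d) (Fin k → Fin d) F) * PT as = PT (fun i => as (τ.symm i)) * PM τ := by
  ext x z
  simp only [Matrix.mul_apply, PM, PT]
  rw [Finset.sum_eq_single (x ∘ τ), Finset.sum_eq_single (z ∘ τ.symm)]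
  · have hz : z = (z ∘ τ.symm) ∘ τ := by funext j; simp
    rw [if_pos rfl, if_pos hz, one_mul, mul_one]
    rw [← Equiv.prod_comp τ (fun i => as (τ.symm i) (x i) ((z ∘ τ.symm) i))]
    refine Finset.prod_congr rfl (fun i _ => ?_)
    simp
  · intro w _ hw
    have : ¬ z = w ∘ τ := by
      intro hc; apply hw; rw [hc]; funext j; simp
    simp [this]
  · simp
  · intro y _ hy; simp [hy]
  · simp

/-- The normal-form predicate. -/
def IsNF (g : GL (Fin k → Fin d) F) : Prop :=
  ∃ (C : Fin k → GL (Fin d) F) (τ : Equiv.Perm (Fin k)),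
    (g : Matrix (Fin k → Fin d) (Fin k → Fin d) F) =
      PT (fun i => (C i : Matrix (Fin d) (Fin d) F)) * PM τ

theorem isNF_one : IsNF (1 : GL (Fin k → Fin d) F) := by
  refine ⟨fun _ => 1, 1, ?_⟩
  simp only [Units.val_one]
  rw [PT_one, PM_one, one_mul]

theorem isNF_mul {g g' : GL (Fin k → Fin d) F} (hg : IsNF g) (hg' : IsNF g') : IsNF (g * g') := by
  obtain ⟨C, τ, h⟩ := hg
  obtain ⟨C', τ', h'⟩ := hg'
  refine ⟨fun i => C i * C' (τ.symm i), τ * τ', ?_⟩
  rw [Units.val_mul, h, h']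
  calc PT (fun i => (C i : Matrix (Fin d) (Fin d) F)) * PM τ *
        (PT (fun i => (C' i : Matrix (Fin d) (Fin d) F)) * PM τ')
      = PT (fun i => (C i : Matrix (Fin d) (Fin d) F)) *
          (PM τ * PT (fun i => (C' i : Matrix (Fin d) (Fin d) F))) * PM τ' := by
        simp only [Matrix.mul_assoc]
    _ = PT (fun i => (C i : Matrix (Fin d) (Fin d) F)) *
          (PT (fun i => (C' (τ.symm i) : Matrix (Fin d) (Fin d) F)) * PM τ) * PM τ' := by
        rw [pm_mul_pt]
    _ = (PT (fun i => (C i : Matrix (Fin d) (Fin d) F)) *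
          PT (fun i => (C' (τ.symm i) : Matrix (Fin d) (Fin d) F))) * (PM τ * PM τ') := by
        simp only [Matrix.mul_assoc]
    _ = PT (fun i => ((C i * C' (τ.symm i) : GL (Fin d) F) : Matrix (Fin d) (Fin d) F)) * PM (τ * τ') := by
        rw [PT_mul, PM_mul]
        simp only [Units.val_mul]

theorem isNF_inv {g : GL (Fin k → Fin d) F} (hg : IsNF g) : IsNF g⁻¹ := by
  obtain ⟨C, τ, h⟩ := hg
  refine ⟨fun i => (C (τ i))⁻¹, τ⁻¹, ?_⟩
  rw [Matrix.coe_units_inv]
  apply Matrix.inv_eq_right_inv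
  rw [h]
  have hpm : (PM τ⁻¹ : Matrix (Fin k → Fin d) (Fin k → Fin d) F) *
      PT (fun i => ((C i)⁻¹ : GL (Fin d) F).1) =
      PT (fun i => ((C (τ i))⁻¹ : GL (Fin d) F).1) * PM τ⁻¹ := by
    rw [pm_mul_pt]
    rfl
  calc PT (fun i => (C i : Matrix (Fin d) (Fin d) F)) * PM τ *
        (PT (fun i => ((C (τ i))⁻¹ : GL (Fin d) F).1) * PM τ⁻¹)
      = PT (fun i => (C i : Matrix (Fin d) (Fin d) F)) * PM τ *
        (PM τ⁻¹ * PT (fun i => ((C i)⁻¹ : GL (Fin d) F).1)) := by rw [hpm]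
    _ = PT (fun i => (C i : Matrix (Fin d) (Fin d) F)) * (PM τ * PM τ⁻¹) *
        PT (fun i => ((C i)⁻¹ : GL (Fin d) F).1) := by simp only [Matrix.mul_assoc]
    _ = 1 := by
        rw [PM_mul, mul_inv_cancel, PM_one, Matrix.mul_one, PT_mul]
        have : (fun i => (C i : Matrix (Fin d) (Fin d) F) * ((C i)⁻¹ : GL (Fin d) F).1) =
            fun _ => (1 : Matrix (Fin d) (Fin d) F) := by
          funext i
          rw [← Units.val_mul, mul_inv_cancel, Units.val_one]
        rw [this, PT_one]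

theorem isNF_of_isPureTensor {g : GL (Fin k → Fin d) F} (hg : IsPureTensor d k g) : IsNF g := by
  obtain ⟨gs, hgs⟩ := hg
  refine ⟨gs, 1, ?_⟩
  rw [PM_one, mul_one]
  ext x y
  rw [hgs x y]
  rfl

theorem isNF_of_isFactorPermutation {g : GL (Fin k → Fin d) F} (hg : IsFactorPermutation d k g) :
    IsNF g := by
  obtain ⟨τ, hτ⟩ := hg
  refine ⟨fun _ => 1, τ, ?_⟩
  simp only [Units.val_one]
  rw [PT_one, one_mul]
  ext x y
  rw [hτ x y]
  rfl

theorem isNF_of_mem {g : GL (Fin k → Fin d) F} (hg : g ∈ tensorWreathStandard d k F) : IsNF g := by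
  unfold tensorWreathStandard at hg
  induction hg using Subgroup.closure_induction with
  | mem x hx =>
    rcases hx with hx | hx
    · exact isNF_of_isPureTensor hx
    · exact isNF_of_isFactorPermutation hx
  | one => exact isNF_one
  | mul x y _ _ hx hy => exact isNF_mul hx hy
  | inv x _ hx => exact isNF_inv hx

end Cfsg.Agent.Lib.Helper54.U92TwsNF

namespace Cfsg.Agent.Lib.Helper99.U92

open Cfsg Cfsg.Geo Cfsg.Agent.Lib.Helper99.Asch
open Cfsg.Agent.Lib.Helper15.AschSlotNorm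
open scoped MatrixGroups Matrix

variable {F : Type*} [Field F]

/-- U92-[TWS-NF] (no `Fintype F` needed). -/
theorem exists_PT_mul_PM {d k : ℕ} (g : GL (Fin k → Fin d) F) (hg : g ∈ tensorWreathStandard d k F) :
    ∃ (C : Fin k → GL (Fin d) F) (τ : Equiv.Perm (Fin k)),
      (g : Matrix (Fin k → Fin d) (Fin k → Fin d) F) =
        PT (fun i => (C i : Matrix (Fin d) (Fin d) F)) * PM τ :=
  Cfsg.Agent.Lib.Helper54.U92TwsNF.isNF_of_mem hg

end Cfsg.Agent.Lib.Helper99.U92
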