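import Mathlib
import Cfsg.Prelude.Def_GeometricClasses
import Cfsg.Agent.Lib.Helper99.AschDefs
import Cfsg.Agent.Lib.Helper99.U92.Defs
import Cfsg.Agent.Lib.Helper54.U92TwsNF

/-!
# Project ASCHU, sub-sheet U92 (helper99), module U92-[R9-NORM] (helper54): hypothesis form

`conj_mem_R9set_of`: the sheet statement `conj_mem_R9set` with [UNIT-FACTORS] (`isU_factors`) as a hypothesis.
Own versions of `isU_mul`, `isU_PM` under fresh names (the sheet versions are other seats' modules).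
-/

set_option autoImplicit false

namespace Cfsg.Agent.Lib.Helper54.U92R9Norm

open Cfsg Cfsg.Geo Cfsg.Agent.Lib.Helper99.Asch Cfsg.Agent.Lib.Helper70.AschU
open Cfsg.Agent.Lib.Helper15.AschSlotNorm Cfsg.Agent.Lib.Helper15.AschUPure
open Cfsg.Agent.Lib.Helper99.U92 Cfsg.Agent.Lib.Helper54.U92TwsNF
open scoped MatrixGroups Matrix

variable {F : Type*} [Field F] {σ : F ≃+* F} {ω : F}

theorem isU_mul' {κ : Type*} [Fintype κ] [DecidableEq κ] {A B : Matrix κ κ F} (hA : IsU σ A)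
    (hB : IsU σ B) : IsU σ (A * B) := by
  unfold IsU at *
  have hmap : (A * B).map σ = A.map σ * B.map σ := by
    ext i j
    simp [Matrix.mul_apply, Matrix.map_apply, map_sum, map_mul]
  rw [Matrix.transpose_mul, hmap, Matrix.mul_assoc, ← Matrix.mul_assoc Aᵀ, hA, Matrix.one_mul, hB]

theorem PM_map' {d k : ℕ} (τ : Equiv.Perm (Fin k)) :
    (PM τ : Matrix (Fin k → Fin d) (Fin k → Fin d) F).map σ = PM τ := by
  ext x y
  simp only [Matrix.map_apply, PM]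
  split_ifs <;> simp

theorem PM_transpose' {d k : ℕ} (τ : Equiv.Perm (Fin k)) :
    (PM τ : Matrix (Fin k → Fin d) (Fin k → Fin d) F)ᵀ = PM τ⁻¹ := by
  ext x y
  simp only [Matrix.transpose_apply, PM]
  have : (x = y ∘ τ) ↔ (y = x ∘ ⇑τ⁻¹) := by
    constructor
    · intro h; rw [h]; funext j; simp
    · intro h; rw [h]; funext j; simp
  by_cases h : x = y ∘ τ
  · rw [if_pos h, if_pos (this.mp h)]
  · rw [if_neg h, if_neg (fun h' => h (this.mpr h'))]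

theorem isU_PM' {d k : ℕ} (τ : Equiv.Perm (Fin k)) :
    IsU σ (PM τ : Matrix (Fin k → Fin d) (Fin k → Fin d) F) := by
  unfold IsU
  rw [PM_map', PM_transpose', PM_mul, inv_mul_cancel, PM_one]

/-- U92-[R9-NORM] with [UNIT-FACTORS] as hypothesis `hfac` (no `Fintype F`, no `UCtx`, no condition on `ω`). -/
theorem conj_mem_R9set_of
    (hfac : ∀ a b : Matrix (Fin 3) (Fin 3) F, IsU σ (PT ![a, b]) → IsU σ a ∧ IsU σ b)
    (hnorm : ∀ a : GL (Fin 3) F, IsU σ (a : Matrix (Fin 3) (Fin 3) F) → ∀ m ∈ R3set ω,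
      (a : Matrix (Fin 3) (Fin 3) F) * m * ((a⁻¹ : GL (Fin 3) F) : Matrix (Fin 3) (Fin 3) F) ∈ R3set ω)
    (g : GL I9 F) (hg : g ∈ tensorWreathStandard 3 2 F) (hgU : IsU σ (g : Matrix I9 I9 F))
    {M : Matrix I9 I9 F} (hM : M ∈ R9set ω) :
    (g : Matrix I9 I9 F) * M * ((g⁻¹ : GL I9 F) : Matrix I9 I9 F) ∈ R9set ω := by
  obtain ⟨C, τ, hgC⟩ := exists_PT_mul_PM g hg
  have hC2 : (fun i => (C i : Matrix (Fin 3) (Fin 3) F)) =
      ![(C 0 : Matrix (Fin 3) (Fin 3) F), (C 1 : Matrix (Fin 3) (Fin 3) F)] := by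
    funext i; fin_cases i <;> rfl
  have hPTU : IsU σ (PT ![(C 0 : Matrix (Fin 3) (Fin 3) F), (C 1 : Matrix (Fin 3) (Fin 3) F)]) := by
    have h1 : PT (fun i => (C i : Matrix (Fin 3) (Fin 3) F)) = (g : Matrix I9 I9 F) * PM τ⁻¹ := by
      rw [hgC, Matrix.mul_assoc, PM_mul, mul_inv_cancel, PM_one, Matrix.mul_one]
    rw [← hC2, h1]
    exact isU_mul' hgU (isU_PM' τ⁻¹)
  obtain ⟨hU0, hU1⟩ := hfac _ _ hPTU
  have hCinv : PT (fun i => (C i : Matrix (Fin 3) (Fin 3) F)) *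
      PT (fun i => ((C i)⁻¹ : GL (Fin 3) F).1) = 1 := by
    rw [PT_mul]
    have : (fun i => (C i : Matrix (Fin 3) (Fin 3) F) * ((C i)⁻¹ : GL (Fin 3) F).1) =
        fun _ => (1 : Matrix (Fin 3) (Fin 3) F) := by
      funext i
      rw [← Units.val_mul, mul_inv_cancel, Units.val_one]
    rw [this, PT_one]
  have hginv : ((g⁻¹ : GL I9 F) : Matrix I9 I9 F) =
      PM τ⁻¹ * PT (fun i => ((C i)⁻¹ : GL (Fin 3) F).1) := by
    rw [Matrix.coe_units_inv]
    apply Matrix.inv_eq_right_inv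
    rw [hgC]
    calc PT (fun i => (C i : Matrix (Fin 3) (Fin 3) F)) * PM τ *
          (PM τ⁻¹ * PT (fun i => ((C i)⁻¹ : GL (Fin 3) F).1))
        = PT (fun i => (C i : Matrix (Fin 3) (Fin 3) F)) * (PM τ * PM τ⁻¹) *
          PT (fun i => ((C i)⁻¹ : GL (Fin 3) F).1) := by simp only [Matrix.mul_assoc]
      _ = 1 := by rw [PM_mul, mul_inv_cancel, PM_one, Matrix.mul_one, hCinv]
  obtain ⟨A, hA, B, hB, rfl⟩ := hM
  have hAB : ∀ j, ![A, B] j ∈ R3set ω := by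
    intro j
    fin_cases j
    · exact hA
    · exact hB
  have key : (g : Matrix I9 I9 F) * PT ![A, B] * ((g⁻¹ : GL I9 F) : Matrix I9 I9 F) =
      PT (fun i => (C i : Matrix (Fin 3) (Fin 3) F) * ![A, B] (τ.symm i) *
        ((C i)⁻¹ : GL (Fin 3) F).1) := by
    rw [hgC, hginv]
    calc PT (fun i => (C i : Matrix (Fin 3) (Fin 3) F)) * PM τ * PT ![A, B] *
          (PM τ⁻¹ * PT (fun i => ((C i)⁻¹ : GL (Fin 3) F).1))
        = PT (fun i => (C i : Matrix (Fin 3) (Fin 3) F)) * (PM τ * PT ![A, B]) *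
          (PM τ⁻¹ * PT (fun i => ((C i)⁻¹ : GL (Fin 3) F).1)) := by simp only [Matrix.mul_assoc]
      _ = PT (fun i => (C i : Matrix (Fin 3) (Fin 3) F)) * (PT (fun i => ![A, B] (τ.symm i)) * PM τ) *
          (PM τ⁻¹ * PT (fun i => ((C i)⁻¹ : GL (Fin 3) F).1)) := by rw [pm_mul_pt]
      _ = PT (fun i => (C i : Matrix (Fin 3) (Fin 3) F)) * PT (fun i => ![A, B] (τ.symm i)) *
          (PM τ * PM τ⁻¹) * PT (fun i => ((C i)⁻¹ : GL (Fin 3) F).1) := by
            simp only [Matrix.mul_assoc]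
      _ = PT (fun i => (C i : Matrix (Fin 3) (Fin 3) F) * ![A, B] (τ.symm i) *
          ((C i)⁻¹ : GL (Fin 3) F).1) := by
            rw [PM_mul, mul_inv_cancel, PM_one, Matrix.mul_one, PT_mul, PT_mul]
  rw [key]
  refine ⟨(C 0 : Matrix (Fin 3) (Fin 3) F) * ![A, B] (τ.symm 0) * ((C 0)⁻¹ : GL (Fin 3) F).1,
    hnorm (C 0) hU0 _ (hAB _),
    (C 1 : Matrix (Fin 3) (Fin 3) F) * ![A, B] (τ.symm 1) * ((C 1)⁻¹ : GL (Fin 3) F).1,
    hnorm (C 1) hU1 _ (hAB _), ?_⟩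
  congr 1
  funext i
  fin_cases i <;> rfl

end Cfsg.Agent.Lib.Helper54.U92R9Norm
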