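import Mathlib
import Cfsg.Prelude.Def_GeometricClasses
import Cfsg.Agent.Lib.Helper99.AschDefs
import Cfsg.Agent.Lib.Helper99.U92.Defs
import Cfsg.Agent.Lib.Helper25.U92PT2
import Cfsg.Agent.Lib.Helper54.U92R9NormOf

/-!
# Project ASCHU, sub-sheet U92 (helper99), module U92-[R9-NORM] (helper54): exact sheet statement

`Cfsg.Agent.Lib.Helper99.U92.conj_mem_R9set`, from `conj_mem_R9set_of` and an own-name proof `isU_factors'` of the
[UNIT-FACTORS] statement (so this file does not wait for that module).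
-/

set_option autoImplicit false

namespace Cfsg.Agent.Lib.Helper54.U92R9Norm

open Cfsg Cfsg.Geo Cfsg.Agent.Lib.Helper99.Asch Cfsg.Agent.Lib.Helper70.AschU
open Cfsg.Agent.Lib.Helper15.AschSlotNorm Cfsg.Agent.Lib.Helper15.AschUPure
open Cfsg.Agent.Lib.Helper99.U92
open scoped MatrixGroups Matrix

variable {F : Type*} [Field F] [Fintype F] {σ : F ≃+* F} {ω : F}

/-- own-name version of the sheet's [UNIT-FACTORS] `isU_factors` -/
theorem isU_factors' (hσ : UCtx σ 2) (a b : Matrix (Fin 3) (Fin 3) F) (h : IsU σ (PT ![a, b])) :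
    IsU σ a ∧ IsU σ b := by
  unfold IsU at h ⊢
  rw [PT_two_transpose, PT_two_map, PT_two_mul] at h
  obtain ⟨c, hc0, hM, hN⟩ := PT_two_eq_one (by norm_num) h
  -- `H = aᵀ * a^σ` satisfies `H^σ = Hᵀ`
  have hH : (aᵀ * a.map σ).map σ = (aᵀ * a.map σ)ᵀ := by
    ext i j
    simp only [Matrix.map_apply, Matrix.mul_apply, Matrix.transpose_apply, map_sum, map_mul, hσ.invol]
    exact Finset.sum_congr rfl (fun k _ => mul_comm _ _)
  have hc : σ c = c := by
    have := congrFun (congrFun hH 0) 0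
    rw [hM] at this
    simpa [Matrix.map_apply, Matrix.smul_apply] using this
  have hc1 : c = 1 := by
    rw [hσ.frob, sq] at hc
    have : c * (c - 1) = 0 := by rw [mul_sub, hc, mul_one, sub_self]
    rcases mul_eq_zero.mp this with h0 | h1
    · exact absurd h0 hc0
    · exact sub_eq_zero.mp h1
  subst hc1
  rw [one_smul] at hM
  rw [inv_one, one_smul] at hN
  exact ⟨hM, hN⟩

end Cfsg.Agent.Lib.Helper54.U92R9Norm

namespace Cfsg.Agent.Lib.Helper99.U92

open Cfsg Cfsg.Geo Cfsg.Agent.Lib.Helper99.Asch Cfsg.Agent.Lib.Helper70.AschU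
open Cfsg.Agent.Lib.Helper15.AschSlotNorm Cfsg.Agent.Lib.Helper15.AschUPure
open scoped MatrixGroups Matrix

variable {F : Type*} [Field F] [Fintype F] {σ : F ≃+* F} {ω : F}

/-- U92-[R9-NORM] (the hypothesis `hω` is not used). -/
theorem conj_mem_R9set (hσ : UCtx σ 2) (hω : ω ^ 2 + ω + 1 = 0)
    (hnorm : ∀ a : GL (Fin 3) F, IsU σ (a : Matrix (Fin 3) (Fin 3) F) → ∀ m ∈ R3set ω,
      (a : Matrix (Fin 3) (Fin 3) F) * m * ((a⁻¹ : GL (Fin 3) F) : Matrix (Fin 3) (Fin 3) F) ∈ R3set ω)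
    (g : GL I9 F) (hg : g ∈ tensorWreathStandard 3 2 F) (hgU : IsU σ (g : Matrix I9 I9 F))
    {M : Matrix I9 I9 F} (hM : M ∈ R9set ω) :
    (g : Matrix I9 I9 F) * M * ((g⁻¹ : GL I9 F) : Matrix I9 I9 F) ∈ R9set ω :=
  have _ := hω
  Cfsg.Agent.Lib.Helper54.U92R9Norm.conj_mem_R9set_of
    (Cfsg.Agent.Lib.Helper54.U92R9Norm.isU_factors' hσ) hnorm g hg hgU hM

end Cfsg.Agent.Lib.Helper99.U92
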