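import Mathlib
import Cfsg.Agent.Lib.Helper60.PFTwelveG1
import Cfsg.Agent.Lib.Helper24.ConjOn
import Cfsg.Agent.Lib.Helper54.BGElevenD

/-!
# Peterfalvi (12.7) group part, modules [ORB], [U0Q], [FRL] (helper54, for helper60 #3353)
-/

set_option autoImplicit false

namespace Cfsg.Agent.Lib.Helper54

open Cfsg
open Cfsg.Agent.Lib.Helper60.PF12G

/-- A finite group fixing a point and acting freely elsewhere has order dividing the number of
remaining points. -/
theorem card_dvd_card_sub_one_of_free {A : Type*} [Group A] [Finite A] {Ω : Type*} [Finite Ω]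
    [MulAction A Ω] (α : Ω) (hα : ∀ a : A, a • α = α)
    (hfree : ∀ (a : A) (ω : Ω), ω ≠ α → a • ω = ω → a = 1) :
    Nat.card A ∣ Nat.card Ω - 1 := by
  classical
  have : Fintype A := Fintype.ofFinite A
  have : Fintype Ω := Fintype.ofFinite Ω
  have hB := MulAction.sum_card_fixedBy_eq_card_orbits_mul_card_group A Ω
  have h1 : ∀ a : A, a ≠ 1 → Fintype.card (MulAction.fixedBy Ω a) = 1 := by
    intro a ha
    rw [Fintype.card_eq_one_iff]
    refine ⟨⟨α, hα a⟩, ?_⟩
    rintro ⟨ω, hω⟩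
    apply Subtype.ext
    by_contra hne
    exact ha (hfree a ω hne hω)
  have h2 : Fintype.card (MulAction.fixedBy Ω (1 : A)) = Fintype.card Ω :=
    Fintype.card_congr (Equiv.subtypeUnivEquiv (fun ω => one_smul A ω))
  rw [← Finset.add_sum_erase Finset.univ _ (Finset.mem_univ (1 : A)), h2,
    Finset.sum_congr rfl (fun a ha => h1 a (Finset.ne_of_mem_erase ha)),
    Finset.sum_const, smul_eq_mul, mul_one, Finset.card_erase_of_mem (Finset.mem_univ _),
    Finset.card_univ] at hB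
  rw [Nat.card_eq_fintype_card, Nat.card_eq_fintype_card]
  have hA : 0 < Fintype.card A := Fintype.card_pos
  have hΩ : 0 < Fintype.card Ω := Fintype.card_pos_iff.mpr ⟨α⟩
  have h3 : Fintype.card A ∣ (Fintype.card Ω - 1) + Fintype.card A :=
    ⟨_, by rw [mul_comm, ← hB]; omega⟩
  exact (Nat.dvd_add_left (dvd_refl _)).mp h3

variable {G : Type*} [Group G]

/-- **[ORB]** A subgroup `E` normalizing `V` and acting on it without fixed points has order dividing
`|V| - 1`. -/
theorem card_dvd_card_sub_one_of_fpf [Finite G] (E V : Subgroup G)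
    (hEV : ∀ e ∈ E, ∀ v ∈ V, e * v * e⁻¹ ∈ V)
    (hfpf : ∀ e ∈ E, e ≠ 1 → ∀ v ∈ V, e * v = v * e → v = 1) :
    Nat.card E ∣ Nat.card V - 1 := by
  have hle : E ≤ Subgroup.normalizer (V : Set G) :=
    fun e he => mem_normalizer_of_conj_mem (hEV e he)
  let φ : ↥E →* MulAut ↥V := Cfsg.Agent.Lib.Helper24.conjOn E V hle
  let _ : MulAction ↥E ↥V := MulAction.compHom ↥V φ
  have hsmul : ∀ (e : ↥E) (v : ↥V), ((e • v : ↥V) : G) = (e : G) * v * (e : G)⁻¹ := fun e v => rfl
  apply card_dvd_card_sub_one_of_free (1 : ↥V)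
  · intro e
    apply Subtype.ext
    rw [hsmul]
    simp
  · intro e v hv hev
    by_contra he1
    apply hv
    apply Subtype.ext
    have h1 : (e : G) * v * (e : G)⁻¹ = v := by rw [← hsmul, hev]
    refine hfpf e e.2 (fun h => he1 (Subtype.ext h)) v v.2 ?_
    calc (e : G) * v = (e : G) * v * (e : G)⁻¹ * e := by group
      _ = v * e := by rw [h1]

/-- **[U0Q]** every prime divisor of `|U|` is the order of an element of `U₀`. -/
theorem exists_mem_U₀_orderOf [Finite G] {M K U U₁ U₀ : Subgroup G} (hD : FData M K U U₁ U₀)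
    {q : ℕ} (hq : q.Prime) (hqU : q ∣ Nat.card U) : ∃ u₀ ∈ U₀, orderOf u₀ = q := by
  have : Fact q.Prime := ⟨hq⟩
  obtain ⟨u, hu⟩ := exists_prime_orderOf_dvd_card' q hqU
  have h1 : q ∣ Monoid.exponent ↥U := by
    rw [← hu]
    exact Monoid.order_dvd_exponent u
  rw [← hD.exp] at h1
  have h2 : q ∣ Nat.card ↥U₀ := by
    have h3 : Monoid.exponent ↥U₀ ∣ Nat.card ↥U₀ := Group.exponent_dvd_nat_card
    exact h1.trans h3
  obtain ⟨u₀, hu₀⟩ := exists_prime_orderOf_dvd_card' q h2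
  exact ⟨u₀, u₀.2, by rw [Subgroup.orderOf_coe, hu₀]⟩

/-- **[FRL]** In a group `L` of Frobenius type a normal subgroup `V ≤ H` of order `p` or `p²` forces every
prime divisor of `|L : H|` to be at most `p + 1`; so no prime `q > p` divides `|U|` (all orders odd). -/
theorem not_dvd_card_of_lt [Finite G] {L H U U₁ U₀ : Subgroup G} (hD : FData L H U U₁ U₀)
    {p q : ℕ} (hp : p.Prime) (hq : q.Prime) (hpq : p < q) (hqU : q ∣ Nat.card U)
    (V : Subgroup G) (hVH : V ≤ H) (hV1 : V ≠ ⊥) (hVn : ∀ l ∈ L, ∀ v ∈ V, l * v * l⁻¹ ∈ V)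
    (hVc : Nat.card V ∣ p ^ 2) : False := by
  obtain ⟨u₀, hu₀, hu₀o⟩ := exists_mem_U₀_orderOf hD hq hqU
  have hu₀1 : u₀ ≠ 1 := by
    rintro rfl
    rw [orderOf_one] at hu₀o
    exact hq.one_lt.ne hu₀o
  have hUL : U ≤ L := hD.compl.2.1
  have hu₀L : u₀ ∈ L := hUL (hD.U₀_le hu₀)
  -- `⟨u₀⟩` acts without fixed points on `V`
  have h1 : Nat.card (Subgroup.zpowers u₀) ∣ Nat.card V - 1 := by
    apply card_dvd_card_sub_one_of_fpf
    · intro e he v hv
      exact hVn e ((Subgroup.zpowers_le.mpr hu₀L) he) v hv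
    · intro e he he1 v hv hev
      exact hD.fpf e ((Subgroup.zpowers_le.mpr hu₀) he) he1 v (hVH hv) hev
  rw [Nat.card_zpowers, hu₀o] at h1
  -- parity
  have hLodd : Odd (Nat.card L) := hD.M_odd
  have hqodd : Odd q := by
    apply Odd.of_dvd_nat hLodd
    exact hqU.trans (Subgroup.card_dvd_of_le hUL)
  have hVcardodd : Odd (Nat.card V) := by
    apply Odd.of_dvd_nat hLodd
    exact Subgroup.card_dvd_of_le (hVH.trans hD.compl.1)
  have hpodd : Odd p := by
    obtain ⟨j, hj, hjc⟩ := (Nat.dvd_prime_pow hp).mp hVc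
    have hj0 : j ≠ 0 := by
      rintro rfl
      rw [pow_zero] at hjc
      exact hV1 (Subgroup.card_eq_one.mp hjc)
    rw [hjc] at hVcardodd
    exact (Nat.odd_pow_iff hj0).mp hVcardodd
  -- `|V| ∈ {p, p²}` and `q ∣ |V| - 1`
  obtain ⟨j, hj, hjc⟩ := (Nat.dvd_prime_pow hp).mp hVc
  have hq2 : p + 2 ≤ q := by
    obtain ⟨a, ha⟩ := hpodd
    obtain ⟨b, hb⟩ := hqodd
    omega
  interval_cases j
  · rw [pow_zero] at hjc
    exact hV1 (Subgroup.card_eq_one.mp hjc)
  · rw [hjc, pow_one] at h1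
    have h2 : q ≤ p - 1 := Nat.le_of_dvd (by have := hp.two_le; omega) h1
    omega
  · rw [hjc] at h1
    have h3 : p ^ 2 - 1 = (p - 1) * (p + 1) := by
      have h4 : 1 ≤ p := hp.one_lt.le
      obtain ⟨c, rfl⟩ : ∃ c, p = c + 1 := ⟨p - 1, by omega⟩
      simp only [Nat.add_sub_cancel]
      ring_nf
      omega
    rw [h3] at h1
    rcases (Nat.Prime.dvd_mul hq).mp h1 with h2 | h2
    · have h5 : q ≤ p - 1 := Nat.le_of_dvd (by have := hp.two_le; omega) h2
      omega
    · have h5 : q ≤ p + 1 := Nat.le_of_dvd (by omega) h2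
      omega

end Cfsg.Agent.Lib.Helper54
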