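import Mathlib
import Cfsg.Agent.Lib.Helper60.PFTwelveG1
import Cfsg.Agent.Lib.Helper54.PF12GOrb
import Cfsg.Agent.Lib.Helper54.BGFourteenSixC
import Cfsg.Agent.Lib.Helper62.PiHall
import Cfsg.Agent.Lib.Helper23.TypeP

/-!
# Peterfalvi (12.7) group part, modules [PRM], [BAD], [RK2] (helper54, for helper60 #3353)
-/

set_option autoImplicit false
set_option linter.unusedVariables false

namespace Cfsg.Agent.Lib.Helper54

open Cfsg
open Cfsg.Agent.Lib.Helper60.PF12G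
open scoped Pointwise

variable {G : Type*} [Group G]

/-- **[PRM]** In a subgroup `L` with normal Hall subgroup `H`, an element outside `H` has a power of prime
order `s ∤ |H|`. -/
theorem exists_pow_prime_order [Finite G] (L H : Subgroup G) (hHL : H ≤ L)
    (hLH : ∀ l ∈ L, ∀ h ∈ H, l * h * l⁻¹ ∈ H) (hcop : (Nat.card H).Coprime (H.relIndex L))
    {d : G} (hd : d ∈ L) (hdH : d ∉ H) :
    ∃ n : ℕ, (orderOf (d ^ n)).Prime ∧ ¬ orderOf (d ^ n) ∣ Nat.card H := by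
  have hopos : 0 < orderOf d := orderOf_pos d
  -- `d ^ |L : H| ∈ H`
  have hnorm : (H.subgroupOf L).Normal := by
    constructor
    intro n hn g
    rw [Subgroup.mem_subgroupOf] at hn ⊢
    exact hLH g g.2 n hn
  have hdm : d ^ H.relIndex L ∈ H := by
    have h1 := Subgroup.pow_index_mem (H.subgroupOf L) (⟨d, hd⟩ : ↥L)
    rw [Subgroup.mem_subgroupOf] at h1
    exact h1
  -- some prime of `o(d)` does not divide `|H|`
  have hex : ∃ q : ℕ, q.Prime ∧ q ∣ orderOf d ∧ ¬ q ∣ Nat.card H := by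
    by_contra hcon
    push Not at hcon
    apply hdH
    have hc : (orderOf d).Coprime (H.relIndex L) := by
      apply Nat.Coprime.symm
      apply Nat.coprime_of_dvd
      intro r hr hrm hro
      have h2 := hcon r hr hro
      exact hr.one_lt.ne' (Nat.eq_one_of_dvd_coprimes hcop h2 hrm)
    rcases Nat.lt_or_ge 1 (orderOf d) with h1 | h1
    · obtain ⟨k, -, hk⟩ := Nat.exists_mul_mod_eq_one_of_coprime hc.symm h1
      have h3 : d = (d ^ H.relIndex L) ^ k := by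
        rw [← pow_mul, ← pow_mod_orderOf, hk, pow_one]
      rw [h3]
      exact H.pow_mem hdm k
    · have h2 : orderOf d = 1 := by omega
      rw [orderOf_eq_one_iff.mp h2]
      exact H.one_mem
  obtain ⟨q, hq, hqd, hqH⟩ := hex
  refine ⟨orderOf d / q, ?_, ?_⟩
  · rw [orderOf_pow_orderOf_div hopos.ne' hqd]
    exact hq
  · rw [orderOf_pow_orderOf_div hopos.ne' hqd]
    exact hqH

/-- In the situation of `FData`: `|K : M|`-index facts. -/
theorem FData_relIndex [Finite G] {M K U U₁ U₀ : Subgroup G} (hD : FData M K U U₁ U₀) :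
    K.relIndex M = Nat.card U ∧ U.relIndex M = Nat.card K := by
  have h1 := Cfsg.Agent.Lib.Helper23.card_of_isComplIn hD.compl
  have h2 := Cfsg.Agent.Lib.Helper23.card_mul_relIndex_of_le hD.compl.1
  have h3 := Cfsg.Agent.Lib.Helper23.card_mul_relIndex_of_le hD.compl.2.1
  constructor
  · rw [h1] at h2
    exact Nat.eq_of_mul_eq_mul_left Nat.card_pos h2
  · rw [h1, mul_comm (Nat.card K)] at h3
    exact Nat.eq_of_mul_eq_mul_left Nat.card_pos h3

/-- Every element of `M` of prime order `q ∤ |K|` is `M`-conjugate into `U`. -/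
theorem FData_exists_conj_mem [Finite G] {M K U U₁ U₀ : Subgroup G} (hD : FData M K U U₁ U₀)
    {q : ℕ} (hq : q.Prime) (hqK : ¬ q ∣ Nat.card K) {y : G} (hyM : y ∈ M) (hyo : orderOf y = q) :
    ∃ m ∈ M, m * y * m⁻¹ ∈ U := by
  let π : Set ℕ := {r | r.Prime ∧ ¬ r ∣ Nat.card K}
  have hUH : IsPiHallOf π U M := by
    refine ⟨hD.compl.2.1, ?_, ?_⟩
    · intro r hr hrU
      refine ⟨hr, fun hrK => ?_⟩
      exact hr.one_lt.ne' (Nat.eq_one_of_dvd_coprimes hD.cop hrK hrU)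
    · intro r hr hrπ
      rw [(FData_relIndex hD).2]
      exact hrπ.2
  have hYM : Subgroup.zpowers y ≤ M := Subgroup.zpowers_le.mpr hyM
  obtain ⟨H₁, hH₁, hyH₁⟩ := Cfsg.Agent.Lib.Helper62.isPiHallOf_dom (π := π) hD.M_solv hYM (by
    intro r hr hrd
    rw [Nat.card_zpowers, hyo] at hrd
    rw [(Nat.prime_dvd_prime_iff_eq hr hq).mp hrd]
    exact ⟨hq, hqK⟩)
  obtain ⟨k, hkM, hk⟩ := Cfsg.Agent.Lib.Helper62.isPiHallOf_conj hD.M_solv hH₁ hUH
  refine ⟨k, hkM, ?_⟩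
  rw [← hk]
  exact Subgroup.smul_mem_pointwise_smul _ _ _ (hyH₁ (Subgroup.mem_zpowers y))

/-- **[BAD]** If `M` (of Frobenius type, data `hD`) is not a Frobenius group with kernel `K`, there are a
prime `q ∤ |K|`, an element `u ∈ U` of order `q` centralizing a non-identity element of `K`, and an
element `u₀ ∈ U₀` of order `q`. -/
theorem exists_elts_of_not_frob [Finite G] {M K U U₁ U₀ : Subgroup G} (hD : FData M K U U₁ U₀)
    {g h : G} (hg : g ∈ M) (hgK : g ∉ K) (hh : h ∈ K) (hh1 : h ≠ 1) (hgh : g * h = h * g) :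
    ∃ q : ℕ, q.Prime ∧ ¬ q ∣ Nat.card K ∧
      ∃ u ∈ U, orderOf u = q ∧ (∃ k ∈ K, k ≠ 1 ∧ u * k = k * u) ∧ ∃ u₀ ∈ U₀, orderOf u₀ = q := by
  obtain ⟨n, hnp, hnK⟩ := exists_pow_prime_order M K hD.compl.1 hD.K_norm
    (by rw [(FData_relIndex hD).1]; exact hD.cop) hg hgK
  set q := orderOf (g ^ n) with hqdef
  obtain ⟨m, hmM, hmU⟩ := FData_exists_conj_mem hD hnp hnK (M.pow_mem hg n) hqdef.symm
  have huo : orderOf (m * g ^ n * m⁻¹) = q := by
    have h2 := orderOf_injective (MulAut.conj m).toMonoidHom (MulAut.conj m).injective (g ^ n)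
    simpa [MulAut.conj_apply] using h2
  have hqU : q ∣ Nat.card U := by
    have h1 : orderOf (⟨m * g ^ n * m⁻¹, hmU⟩ : ↥U) = q := by
      rw [← Subgroup.orderOf_coe]; exact huo
    rw [← h1]
    exact orderOf_dvd_natCard _
  refine ⟨q, hnp, hnK, m * g ^ n * m⁻¹, hmU, huo, ⟨m * h * m⁻¹, hD.K_norm m hmM h hh, ?_, ?_⟩,
    exists_mem_U₀_orderOf hD hnp hqU⟩
  · intro h1
    apply hh1
    have : h = m⁻¹ * (m * h * m⁻¹) * m := by group
    rw [this, h1]
    group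
  · have hgnh : g ^ n * h = h * g ^ n := ((show Commute g h from hgh).pow_left n).eq
    calc m * g ^ n * m⁻¹ * (m * h * m⁻¹) = m * (g ^ n * h) * m⁻¹ := by group
      _ = m * (h * g ^ n) * m⁻¹ := by rw [hgnh]
      _ = m * h * m⁻¹ * (m * g ^ n * m⁻¹) := by group

/-- **[RK2]** With abelian Sylow `q`-subgroups of `U`: two elements of order `q` of `U`, one with and one
without fixed points on `K`, give an elementary abelian subgroup of order `q²` of `U`. -/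
theorem exists_rank_two [Finite G] {M K U U₁ U₀ : Subgroup G} (hD : FData M K U U₁ U₀)
    {q : ℕ} (hq : q.Prime) (hSyl : ∀ P : Sylow q U, IsMulCommutative (P : Subgroup U))
    {u u₀ : G} (hu : u ∈ U) (huo : orderOf u = q) (huk : ∃ k ∈ K, k ≠ 1 ∧ u * k = k * u)
    (hu₀ : u₀ ∈ U₀) (hu₀o : orderOf u₀ = q) :
    ∃ A : Subgroup G, A ≤ U ∧ Nat.card A = q ^ 2 ∧ (∀ a ∈ A, ∀ b ∈ A, a * b = b * a) ∧
      ∀ a ∈ A, a ^ q = 1 := by
  have : Fact q.Prime := ⟨hq⟩
  have hu₀U : u₀ ∈ U := hD.U₀_le hu₀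
  have hUM : U ≤ M := hD.compl.2.1
  -- Sylow subgroups
  have hup : IsPGroup q (Subgroup.zpowers (⟨u, hu⟩ : ↥U)) := by
    apply IsPGroup.of_card (n := 1)
    rw [Nat.card_zpowers, Subgroup.orderOf_mk, huo, pow_one]
  have hu₀p : IsPGroup q (Subgroup.zpowers (⟨u₀, hu₀U⟩ : ↥U)) := by
    apply IsPGroup.of_card (n := 1)
    rw [Nat.card_zpowers, Subgroup.orderOf_mk, hu₀o, pow_one]
  obtain ⟨Q, hQ⟩ := hup.exists_le_sylow
  obtain ⟨Q', hQ'⟩ := hu₀p.exists_le_sylow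
  obtain ⟨v, hv⟩ := MulAction.exists_smul_eq ↥U Q' Q
  have hvQ : v * ⟨u₀, hu₀U⟩ * v⁻¹ ∈ (Q : Subgroup ↥U) := by
    rw [← hv, Sylow.coe_subgroup_smul]
    have := Subgroup.smul_mem_pointwise_smul _ (MulAut.conj v) _
      (hQ' (Subgroup.mem_zpowers (⟨u₀, hu₀U⟩ : ↥U)))
    simpa [MulAut.smul_def, MulAut.conj_apply] using this
  set w : G := (v : G) * u₀ * (v : G)⁻¹ with hw
  have hcomm := hSyl Q
  set QG : Subgroup G := (Q : Subgroup ↥U).map U.subtype with hQG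
  have hQGcomm : ∀ a ∈ QG, ∀ b ∈ QG, a * b = b * a := by
    rintro _ ⟨a, ha, rfl⟩ _ ⟨b, hb, rfl⟩
    have := hcomm.is_comm.comm ⟨a, ha⟩ ⟨b, hb⟩
    have h2 : a * b = b * a := congrArg Subtype.val this
    exact congrArg Subtype.val h2
  have huQ : u ∈ QG := ⟨⟨u, hu⟩, hQ (Subgroup.mem_zpowers _), rfl⟩
  have hwQ : w ∈ QG := ⟨v * ⟨u₀, hu₀U⟩ * v⁻¹, hvQ, rfl⟩
  have hwo : orderOf w = q := by
    have h2 := orderOf_injective (MulAut.conj (v : G)).toMonoidHom (MulAut.conj (v : G)).injective u₀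
    rw [← hu₀o]
    simpa [MulAut.conj_apply] using h2
  -- `w` has no fixed points on `K`
  have hu₀1 : u₀ ≠ 1 := by
    rintro rfl
    rw [orderOf_one] at hu₀o
    exact hq.one_lt.ne hu₀o
  have hwfpf : ∀ k ∈ K, w * k = k * w → k = 1 := by
    intro k hk hwk
    have hvM : (v : G)⁻¹ ∈ M := M.inv_mem (hUM v.2)
    have hk' : (v : G)⁻¹ * k * ((v : G)⁻¹)⁻¹ ∈ K := hD.K_norm _ hvM k hk
    have h1 : u₀ * ((v : G)⁻¹ * k * ((v : G)⁻¹)⁻¹) = ((v : G)⁻¹ * k * ((v : G)⁻¹)⁻¹) * u₀ := by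
      have e1 : u₀ * ((v : G)⁻¹ * k * ((v : G)⁻¹)⁻¹) = (v : G)⁻¹ * (w * k) * v := by
        rw [hw]; group
      have e2 : ((v : G)⁻¹ * k * ((v : G)⁻¹)⁻¹) * u₀ = (v : G)⁻¹ * (k * w) * v := by
        rw [hw]; group
      rw [e1, e2, hwk]
    have h2 := hD.fpf u₀ hu₀ hu₀1 _ hk' h1
    have : k = (v : G) * ((v : G)⁻¹ * k * ((v : G)⁻¹)⁻¹) * (v : G)⁻¹ := by group
    rw [this, h2]
    group
  -- `⟨u⟩ ≠ ⟨w⟩`
  have hne : Subgroup.zpowers u ≠ Subgroup.zpowers w := by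
    intro h1
    obtain ⟨k, hk, hk1, huk'⟩ := huk
    apply hk1
    apply hwfpf k hk
    have hwu : w ∈ Subgroup.zpowers u := by rw [h1]; exact Subgroup.mem_zpowers w
    obtain ⟨j, hj⟩ := Subgroup.mem_zpowers_iff.mp hwu
    rw [← hj]
    exact ((show Commute u k from huk').zpow_left j).eq
  have hres := elemAb_sup_of_card_prime (p := q) hQGcomm (Subgroup.zpowers_le.mpr huQ)
    (Subgroup.zpowers_le.mpr hwQ) (by rw [Nat.card_zpowers, huo]) (by rw [Nat.card_zpowers, hwo]) hne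
  refine ⟨Subgroup.zpowers u ⊔ Subgroup.zpowers w, ?_, hres.2, ?_, hres.1.2⟩
  · apply sup_le
    · exact Subgroup.zpowers_le.mpr hu
    · rw [Subgroup.zpowers_le, hw]
      exact U.mul_mem (U.mul_mem v.2 hu₀U) (U.inv_mem v.2)
  · intro a ha b hb
    exact congrArg Subtype.val (hres.1.1.is_comm.comm ⟨a, ha⟩ ⟨b, hb⟩)

end Cfsg.Agent.Lib.Helper54
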