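/-
helper54: module S5634-[GL-P3] of helper43's project S5634 (`gl_base_three_five`: `card F = 5`, `GLHyp Y` on
`Fin 3` gives `Y ≤ Mono`).  `gl_base_three_five_of` takes the step [GL-STEP] (k = 2) as a hypothesis;
`gl_base_three_five_of_L5` only the statement of [GL-L5] (everything else is imported).
-/
import Mathlib
import Cfsg.Agent.Lib.Helper43.MonoSecHyp
import Cfsg.Agent.Lib.Helper25.MonoGLP2H
import Cfsg.Agent.Lib.Helper95.MonoGLWord5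
import Cfsg.Agent.Lib.Helper9.MonoGLStep
import Cfsg.Agent.Lib.Helper1.MonoGLL3
import Cfsg.Agent.Lib.Helper1.MonoStarSelf
import Cfsg.Agent.Lib.Helper25.MonoGLL4

set_option autoImplicit false

namespace Cfsg.Agent.Lib.Helper54.Mono5634

open Matrix Cfsg.Geo Cfsg.Agent.Lib.Helper93 Cfsg.Agent.Lib.Helper43

variable {F : Type*} [Field F]

/-- entries of `pm σ * X * pm σ⁻¹` -/
theorem pm_conj_apply {ι : Type} [Fintype ι] [DecidableEq ι] (σ : Equiv.Perm ι) (X : GL ι F)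
    (i j : ι) :
    ((pm σ * X * pm σ⁻¹ : GL ι F) : Matrix ι ι F) i j = (X : Matrix ι ι F) (σ⁻¹ i) (σ⁻¹ j) := by
  rw [mul_pm_apply, pm_mul_apply]

theorem exists_perm_three : ∀ i₀ : Fin 3, ∃ σ : Equiv.Perm (Fin 3),
    σ⁻¹ 0 = i₀ ∧ σ⁻¹ 1 = i₀.succAbove 0 ∧ σ⁻¹ 2 = i₀.succAbove 1 := by
  decide

/-- conjugating `embSA i₀ hm` (Hadamard block) by a suitable permutation gives the matrix `A` -/
theorem conj_embSA_hm (i₀ : Fin 3) (σ : Equiv.Perm (Fin 3)) (h0 : σ⁻¹ 0 = i₀)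
    (h1 : σ⁻¹ 1 = i₀.succAbove 0) (h2 : σ⁻¹ 2 = i₀.succAbove 1) {hm : GL (Fin 2) F}
    (hmv : (hm : Matrix (Fin 2) (Fin 2) F) = !![1, 1; 1, -1]) :
    ((pm σ * embSA i₀ hm * pm σ⁻¹ : GL (Fin 3) F) : Matrix (Fin 3) (Fin 3) F)
      = !![1, 0, 0; 0, 1, 1; 0, 1, -1] := by
  have h00 : (hm : Matrix (Fin 2) (Fin 2) F) 0 0 = 1 := by rw [hmv]; rfl
  have h01 : (hm : Matrix (Fin 2) (Fin 2) F) 0 1 = 1 := by rw [hmv]; rfl
  have h10 : (hm : Matrix (Fin 2) (Fin 2) F) 1 0 = 1 := by rw [hmv]; rfl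
  have h11 : (hm : Matrix (Fin 2) (Fin 2) F) 1 1 = -1 := by rw [hmv]; rfl
  ext i j
  fin_cases i <;> fin_cases j
  · show ((pm σ * embSA i₀ hm * pm σ⁻¹ : GL (Fin 3) F) : Matrix (Fin 3) (Fin 3) F) 0 0 = _
    rw [pm_conj_apply, h0, embSA_self_self]; rfl
  · show ((pm σ * embSA i₀ hm * pm σ⁻¹ : GL (Fin 3) F) : Matrix (Fin 3) (Fin 3) F) 0 1 = _
    rw [pm_conj_apply, h0, h1, embSA_self_sa]; rfl
  · show ((pm σ * embSA i₀ hm * pm σ⁻¹ : GL (Fin 3) F) : Matrix (Fin 3) (Fin 3) F) 0 2 = _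
    rw [pm_conj_apply, h0, h2, embSA_self_sa]; rfl
  · show ((pm σ * embSA i₀ hm * pm σ⁻¹ : GL (Fin 3) F) : Matrix (Fin 3) (Fin 3) F) 1 0 = _
    rw [pm_conj_apply, h0, h1, embSA_sa_self]; rfl
  · show ((pm σ * embSA i₀ hm * pm σ⁻¹ : GL (Fin 3) F) : Matrix (Fin 3) (Fin 3) F) 1 1 = _
    rw [pm_conj_apply, h1, embSA_sa_sa, h00]; rfl
  · show ((pm σ * embSA i₀ hm * pm σ⁻¹ : GL (Fin 3) F) : Matrix (Fin 3) (Fin 3) F) 1 2 = _
    rw [pm_conj_apply, h1, h2, embSA_sa_sa, h01]; rfl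
  · show ((pm σ * embSA i₀ hm * pm σ⁻¹ : GL (Fin 3) F) : Matrix (Fin 3) (Fin 3) F) 2 0 = _
    rw [pm_conj_apply, h0, h2, embSA_sa_self]; rfl
  · show ((pm σ * embSA i₀ hm * pm σ⁻¹ : GL (Fin 3) F) : Matrix (Fin 3) (Fin 3) F) 2 1 = _
    rw [pm_conj_apply, h1, h2, embSA_sa_sa, h10]; rfl
  · show ((pm σ * embSA i₀ hm * pm σ⁻¹ : GL (Fin 3) F) : Matrix (Fin 3) (Fin 3) F) 2 2 = _
    rw [pm_conj_apply, h2, embSA_sa_sa, h11]; rfl

/-- [GL-P3] with the step [GL-STEP] (for `k = 2`) as an explicit hypothesis. -/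
theorem gl_base_three_five_of [Fintype F] (hq : Fintype.card F = 5)
    (hStep : ∀ {Y : Subgroup (GL (Fin 3) F)}, GLHyp Y →
      (∀ i₀ : Fin 3, ∀ C : GL (Fin 2) F, embSA i₀ C ∈ Y → C ∈ Mono (Fin 2) F) →
      Y ≤ Mono (Fin 3) F)
    {Y : Subgroup (GL (Fin 3) F)} (hY : GLHyp Y) : Y ≤ Mono (Fin 3) F := by
  classical
  by_cases hall : ∀ i₀ : Fin 3, Y.comap (embSA i₀) ≤ Mono (Fin 2) F
  · apply hStep hY
    intro i₀ C hC
    exact hall i₀ (Subgroup.mem_comap.mpr hC)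
  · exfalso
    push Not at hall
    obtain ⟨i₀, hi₀⟩ := hall
    have hsecY : GLHyp (Y.comap (embSA i₀)) := glHyp_comap_embSA hY i₀
    rcases Cfsg.Agent.Lib.Helper25.gl_two_hadamard hsecY with hle | ⟨hm, hmY, hmv⟩
    · exact hi₀ hle
    · obtain ⟨σ, h0, h1, h2⟩ := exists_perm_three i₀
      have hX : embSA i₀ hm ∈ Y := Subgroup.mem_comap.mp hmY
      have hA : pm σ * embSA i₀ hm * pm σ⁻¹ ∈ Y :=
        Y.mul_mem (Y.mul_mem (hY.mono_le (pm_mem_Mono σ)) hX) (hY.mono_le (pm_mem_Mono σ⁻¹))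
      obtain ⟨i, j, hij, b, hb, hmem⟩ := Cfsg.Agent.Lib.Helper95.word_five hq hY.mono_le hA
        (conj_embSA_hm i₀ σ h0 h1 h2 hmv)
      exact hb (hY.net i j hij b hmem)

/-- [GL-P3] with only the statement of [GL-L5] (`Helper9.Mono.StGLL5`) as a hypothesis: [GL-P2H],
[GL-WORD5], [GL-SECHYP], [GL-STEP], [GL-L3], [STAR], [GL-L4] are imported. -/
theorem gl_base_three_five_of_L5 [Fintype F] (hL5 : Cfsg.Agent.Lib.Helper9.Mono.StGLL5 F)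
    (hq : Fintype.card F = 5) {Y : Subgroup (GL (Fin 3) F)} (hY : GLHyp Y) :
    Y ≤ Mono (Fin 3) F := by
  refine gl_base_three_five_of hq (fun {Y} hY hsec => ?_) hY
  refine Cfsg.Agent.Lib.Helper9.Mono.gl_step_of_sections ?_ ?_ ?_ hL5 (by omega) (le_refl 2) hY hsec
  · intro k hμ Y hY i₀ hsec h hh hcol
    exact Cfsg.Agent.Lib.Helper1.Mono5634.gl_star_self hμ hY i₀ hsec hh hcol
  · intro n Y hm hs
    exact Cfsg.Agent.Lib.Helper1.Mono5634.star_of_self hm hs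
  · intro n hq4 Y hD hstar g hg l i h0
    exact Cfsg.Agent.Lib.Helper25.gl_zero_entry_mono hq4 hD hstar hg h0

end Cfsg.Agent.Lib.Helper54.Mono5634
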