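import Mathlib
import Cfsg.Agent.Lib.Helper39.FieldGen

/-!
# S2279-[ALG-K] (helper53's cut): pure algebra on the additive subgroups `R w` of a finite field.
With `T = R (n-2)` and `K = stabSubfield T`: `s ∈ T ↔ c s ∈ K`, `c ^ n ∈ K`, and
`binom(n-1+i, n-1) c ^ i ∈ K` for `i + 3 ≤ n`.
-/

set_option autoImplicit false

namespace Cfsg.Agent.Lib.Helper54.TwoReg

open Cfsg.Agent.Lib.Helper39.FieldGen

theorem alg_K {F : Type*} [Field F] [Fintype F] (n : ℕ) (hn : 4 ≤ n) (c : F) (hc : c ≠ 0)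
    (R : ℕ → AddSubgroup F)
    (h3 : c ^ 3 ∈ R 2)
    (hW : ∀ w, w + 3 ≤ n → ∀ s ∈ R w, c * s ∈ R (w + 1))
    (hNar : ∀ w1 w2 w3, w1 + 2 ≤ n → w2 + 2 ≤ n → w3 ≤ w1 → n - 1 ≤ w1 + w2 - w3 →
      ∀ s ∈ R w1, ∀ s' ∈ R w2, s * s' * ((w1 + w2 - w3).choose (n - 1) : F) ∈ R w3) :
    (∀ s, s ∈ R (n - 2) ↔ c * s ∈ stabSubfield (R (n - 2))) ∧ c ^ n ∈ stabSubfield (R (n - 2)) ∧
      ∀ i, i + 3 ≤ n → ((n - 1 + i).choose (n - 1) : F) * c ^ i ∈ stabSubfield (R (n - 2)) := by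
  -- (1') iterate `hW`
  have hWk : ∀ k w, w + k + 2 ≤ n → ∀ s ∈ R w, c ^ k * s ∈ R (w + k) := by
    intro k
    induction k with
    | zero => intro w _ s hs; simpa using hs
    | succ k ih =>
      intro w hwk s hs
      have h1 := ih w (by omega) s hs
      have h2 := hW (w + k) (by omega) _ h1
      have e : c ^ (k + 1) * s = c * (c ^ k * s) := by ring
      rw [e]
      exact h2
  -- (1) `c ^ (n - 1) ∈ T`
  have hcT : c ^ (n - 1) ∈ R (n - 2) := by
    have h1 := hWk (n - 4) 2 (by omega) _ h3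
    have e1 : 2 + (n - 4) = n - 2 := by omega
    have e2 : c ^ (n - 4) * c ^ 3 = c ^ (n - 1) := by
      rw [← pow_add]
      congr 1
      omega
    rwa [e1, e2] at h1
  -- (2) `c (s s') ∈ T`
  have hmulT : ∀ s ∈ R (n - 2), ∀ s' ∈ R (n - 2), c * (s * s') ∈ R (n - 2) := by
    intro s hs s' hs'
    have h1 := hNar (n - 2) (n - 2) (n - 3) (by omega) (by omega) (by omega) (by omega) s hs s' hs'
    have e1 : n - 2 + (n - 2) - (n - 3) = n - 1 := by omega
    rw [e1, Nat.choose_self, Nat.cast_one, mul_one] at h1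
    have h2 := hW (n - 3) (by omega) _ h1
    have e2 : n - 3 + 1 = n - 2 := by omega
    rwa [e2] at h2
  -- (3) `c s ∈ K`
  have hK : ∀ s ∈ R (n - 2), c * s ∈ stabSubfield (R (n - 2)) := by
    intro s hs
    rw [mem_stabSubfield]
    intro x hx
    rw [mul_assoc]
    exact hmulT s hs x hx
  -- (4)
  have hcn : c ^ n ∈ stabSubfield (R (n - 2)) := by
    have h1 := hK _ hcT
    have e : c * c ^ (n - 1) = c ^ n := by
      rw [← pow_succ']
      congr 1
      omega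
    rwa [e] at h1
  -- (5) `c⁻¹ ∈ T`
  have hcinv : c⁻¹ ∈ R (n - 2) := by
    have h1 : (c ^ n)⁻¹ ∈ stabSubfield (R (n - 2)) := (stabSubfield (R (n - 2))).inv_mem hcn
    have h2 := (mem_stabSubfield.1 h1) _ hcT
    have e : (c ^ n)⁻¹ * c ^ (n - 1) = c⁻¹ := by
      have hn' : n = (n - 1) + 1 := by omega
      have hpow : c ^ n = c ^ (n - 1) * c := by
        conv_lhs => rw [hn']
        rw [pow_succ]
      rw [hpow, mul_inv, mul_comm (c ^ (n - 1))⁻¹ c⁻¹, mul_assoc,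
        inv_mul_cancel₀ (pow_ne_zero _ hc), mul_one]
    rwa [e] at h2
  refine ⟨fun s => ⟨hK s, fun hs => ?_⟩, hcn, ?_⟩
  · have h1 := (mem_stabSubfield.1 hs) _ hcinv
    have e : c * s * c⁻¹ = s := by
      rw [mul_comm c s, mul_assoc, mul_inv_cancel₀ hc, mul_one]
    rwa [e] at h1
  · intro i hi
    have h1 := hNar (n - 2) (n - 2) (n - 3 - i) (by omega) (by omega) (by omega) (by omega)
      _ hcinv _ hcinv
    have e1 : n - 2 + (n - 2) - (n - 3 - i) = n - 1 + i := by omega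
    rw [e1] at h1
    have h2 := hWk (i + 1) (n - 3 - i) (by omega) _ h1
    have e2 : n - 3 - i + (i + 1) = n - 2 := by omega
    rw [e2] at h2
    have h3' := hK _ h2
    have e3 : c * (c ^ (i + 1) * (c⁻¹ * c⁻¹ * ((n - 1 + i).choose (n - 1) : F))) =
        ((n - 1 + i).choose (n - 1) : F) * c ^ i := by
      rw [pow_succ]
      field_simp
    rwa [e3] at h3'

end Cfsg.Agent.Lib.Helper54.TwoReg
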