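import Mathlib
import Cfsg.Agent.Lib.Helper39.RankOne
import Cfsg.Agent.Lib.Helper39.JordanMat
import Cfsg.Agent.Lib.Helper53.TwoReg.Defs
import Cfsg.Agent.Lib.Helper53.TwoReg.Mats1

/-!
# S2279-[MATS-2] (helper53's cut): the Gram values `α_j · a_k`, the shift by conjugation with `J`,
and the elements `d_k = t_{k+1} t_k⁻¹` of `H`, for the concrete matrices of `TwoReg/Defs.lean`.
-/

set_option autoImplicit false
set_option linter.unusedSectionVars false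

namespace Cfsg.Agent.Lib.Helper54.TwoReg

open Matrix Cfsg.Agent.Lib.Helper39.RankOne Cfsg.Agent.Lib.Helper39.JordanMat
open Cfsg.Agent.Lib.Helper53.TwoReg

variable {F : Type*} [Field F]

theorem Jmat_pow_mul_Jinv_pow (n k : ℕ) :
    (Jmat n : Matrix (Fin n) (Fin n) F) ^ k * (Jinv n) ^ k = 1 := by
  have hc : Commute (Jmat n : Matrix (Fin n) (Fin n) F) (Jinv n) := by
    show (Jmat n : Matrix (Fin n) (Fin n) F) * Jinv n = Jinv n * Jmat n
    rw [Jmat_mul_Jinv, Jinv_mul_Jmat]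
  rw [← hc.mul_pow, Jmat_mul_Jinv, one_pow]

theorem Jinv_pow_mul_Jmat_pow (n k : ℕ) :
    (Jinv n : Matrix (Fin n) (Fin n) F) ^ k * (Jmat n) ^ k = 1 := by
  have hc : Commute (Jinv n : Matrix (Fin n) (Fin n) F) (Jmat n) := by
    show (Jinv n : Matrix (Fin n) (Fin n) F) * Jmat n = Jmat n * Jinv n
    rw [Jmat_mul_Jinv, Jinv_mul_Jmat]
  rw [← hc.mul_pow, Jinv_mul_Jmat, one_pow]

/-- `α_j · a_k = (J^j J⁻ᵏ)_{0,last}` -/
theorem acov_dot_avec (m j k : ℕ) :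
    acov (F := F) m j ⬝ᵥ avec m k =
      ((Jmat (m + 4)) ^ j * (Jinv (m + 4)) ^ k : Matrix (Fin (m + 4)) (Fin (m + 4)) F)
        0 (Fin.last (m + 3)) := by
  unfold acov avec eZero eLast
  rw [dotProduct_mulVec, vecMul_vecMul, ← dotProduct_mulVec, mulVec_single_one, single_dotProduct,
    one_mul]
  rfl

theorem gram (m j k : ℕ) (hkj : k ≤ j) :
    acov (F := F) m j ⬝ᵥ avec m k = (((j - k).choose (m + 4 - 1) : ℕ) : F) := by
  rw [acov_dot_avec]
  have h1 : (Jmat (m + 4) : Matrix (Fin (m + 4)) (Fin (m + 4)) F) ^ j * (Jinv (m + 4)) ^ k =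
      (Jmat (m + 4)) ^ (j - k) := by
    conv_lhs => rw [← Nat.sub_add_cancel hkj, pow_add, Matrix.mul_assoc, Jmat_pow_mul_Jinv_pow,
      mul_one]
  rw [h1, Jmat_pow_apply]
  have h2 : (0 : Fin (m + 4)).val ≤ (Fin.last (m + 3)).val := Nat.zero_le _
  rw [if_pos h2]
  congr 2

theorem gram1 (m j : ℕ) : acov (F := F) m j ⬝ᵥ avec m (j + 1) = (-1) ^ (m + 3) := by
  rw [acov_dot_avec]
  have h1 : (Jmat (m + 4) : Matrix (Fin (m + 4)) (Fin (m + 4)) F) ^ j * (Jinv (m + 4)) ^ (j + 1) =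
      Jinv (m + 4) := by
    rw [pow_succ, ← Matrix.mul_assoc, Jmat_pow_mul_Jinv_pow, one_mul]
  rw [h1, Jinv_apply]
  have h2 : (0 : Fin (m + 4)).val ≤ (Fin.last (m + 3)).val := Nat.zero_le _
  rw [if_pos h2]
  rfl

/-- `J⁻¹ (s a_j) = s a_{j+1}` -/
theorem Jinv_mulVec_smul_avec (m j : ℕ) (s : F) :
    (Jinv (m + 4) : Matrix (Fin (m + 4)) (Fin (m + 4)) F) *ᵥ (s • avec m j) = s • avec m (j + 1) := by
  unfold avec
  rw [mulVec_smul, mulVec_mulVec, ← pow_succ']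

/-- `J (s a_{j+1}) = s a_j` -/
theorem Jmat_mulVec_smul_avec (m j : ℕ) (s : F) :
    (Jmat (m + 4) : Matrix (Fin (m + 4)) (Fin (m + 4)) F) *ᵥ (s • avec m (j + 1)) = s • avec m j := by
  unfold avec
  rw [mulVec_smul, mulVec_mulVec, pow_succ', ← Matrix.mul_assoc, Jmat_mul_Jinv, one_mul]

/-- `α_k J = α_{k+1}` -/
theorem acov_vecMul_Jmat (m k : ℕ) :
    acov (F := F) m k ᵥ* (Jmat (m + 4) : Matrix (Fin (m + 4)) (Fin (m + 4)) F) = acov m (k + 1) := by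
  unfold acov
  rw [vecMul_vecMul, ← pow_succ]

/-- `α_{k+1} J⁻¹ = α_k` -/
theorem acov_vecMul_Jinv (m k : ℕ) :
    acov (F := F) m (k + 1) ᵥ* (Jinv (m + 4) : Matrix (Fin (m + 4)) (Fin (m + 4)) F) = acov m k := by
  unfold acov
  rw [vecMul_vecMul, pow_succ, Matrix.mul_assoc, Jmat_mul_Jinv, mul_one]

theorem inH_Jinv (m : ℕ) (H : Subgroup (SpecialLinearGroup (Fin (m + 4)) F))
    (hJ : InH H (Jmat (m + 4) : Matrix (Fin (m + 4)) (Fin (m + 4)) F)) :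
    InH H (Jinv (m + 4) : Matrix (Fin (m + 4)) (Fin (m + 4)) F) :=
  hJ.of_mul_eq_one (Jmat_mul_Jinv (m + 4))

theorem shift (m : ℕ) (H : Subgroup (SpecialLinearGroup (Fin (m + 4)) F))
    (hJ : InH H (Jmat (m + 4) : Matrix (Fin (m + 4)) (Fin (m + 4)) F)) (j k : ℕ) (s : F) :
    InH H (tv (s • avec m j) (acov m k)) ↔ InH H (tv (s • avec m (j + 1)) (acov m (k + 1))) := by
  constructor
  · intro h
    have := InH.conj (inH_Jinv m H hJ) (Jinv_mul_Jmat (m + 4)) h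
    rwa [Jinv_mulVec_smul_avec, acov_vecMul_Jmat] at this
  · intro h
    have := InH.conj hJ (Jmat_mul_Jinv (m + 4)) h
    rwa [Jmat_mulVec_smul_avec, acov_vecMul_Jinv] at this

theorem avec_zero (m : ℕ) : avec (F := F) m 0 = eLast m := by
  unfold avec
  rw [pow_zero, one_mulVec]

theorem acov_zero (m : ℕ) : acov (F := F) m 0 = eZero m := by
  unfold acov
  rw [pow_zero, vecMul_one]

/-- conjugating a product of two `tv`'s by `J⁻¹` -/
theorem Jinv_conj_mul (m : ℕ) (a δ a' δ' : Fin (m + 4) → F) :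
    (Jinv (m + 4) : Matrix (Fin (m + 4)) (Fin (m + 4)) F) * (tv a δ * tv a' δ') * Jmat (m + 4) =
      tv ((Jinv (m + 4) : Matrix (Fin (m + 4)) (Fin (m + 4)) F) *ᵥ a) (δ ᵥ* Jmat (m + 4)) *
        tv ((Jinv (m + 4) : Matrix (Fin (m + 4)) (Fin (m + 4)) F) *ᵥ a') (δ' ᵥ* Jmat (m + 4)) := by
  rw [← conj_tv' _ _ (Jinv_mul_Jmat (m + 4)) a δ, ← conj_tv' _ _ (Jinv_mul_Jmat (m + 4)) a' δ']
  have e : (Jinv (m + 4) : Matrix (Fin (m + 4)) (Fin (m + 4)) F) * tv a δ * Jmat (m + 4) *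
      (Jinv (m + 4) * tv a' δ' * Jmat (m + 4)) =
      Jinv (m + 4) * tv a δ * (Jmat (m + 4) * Jinv (m + 4)) * tv a' δ' * Jmat (m + 4) := by
    simp only [Matrix.mul_assoc]
  rw [e, Jmat_mul_Jinv, mul_one]
  simp only [Matrix.mul_assoc]

theorem hd (m : ℕ) (H : Subgroup (SpecialLinearGroup (Fin (m + 4)) F))
    (hJ : InH H (Jmat (m + 4) : Matrix (Fin (m + 4)) (Fin (m + 4)) F)) (c : F)
    (hv : InH H (vMat m c)) (k : ℕ) :
    InH H (tv (c • avec m (k + 1)) (acov m (k + 1)) * tv (-(c • avec m k)) (acov m k)) := by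
  have hJi := inH_Jinv m H hJ
  induction k with
  | zero =>
    have h1 : InH H ((Jinv (m + 4) : Matrix (Fin (m + 4)) (Fin (m + 4)) F) * vMat m c) := hJi.mul hv
    have e : (Jinv (m + 4) : Matrix (Fin (m + 4)) (Fin (m + 4)) F) * vMat m c =
        tv (c • avec m (0 + 1)) (acov m (0 + 1)) * tv (-(c • avec m 0)) (acov m 0) := by
      unfold vMat tauMat
      rw [← Matrix.mul_assoc, ← Matrix.mul_assoc, conj_tv' _ _ (Jinv_mul_Jmat (m + 4)),
        ← avec_zero, ← acov_zero, Jinv_mulVec_smul_avec, acov_vecMul_Jmat, neg_smul]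
    rwa [e] at h1
  | succ k ih =>
    have h1 := (hJi.mul ih).mul hJ
    rw [Jinv_conj_mul, Jinv_mulVec_smul_avec, acov_vecMul_Jmat, mulVec_neg, Jinv_mulVec_smul_avec,
      acov_vecMul_Jmat] at h1
    exact h1

end Cfsg.Agent.Lib.Helper54.TwoReg
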