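import Cfsg.Agent.Lib.Helper54.BGElevenC

/-!
# Bender–Glauberman §11: a normal `E_{q^2}` with `q ∉ σ(M)` does not centralize a normal Sylow
subgroup of `M` which is Sylow in `G` ("TOOL Z" in the proof of Theorem 11.7).
-/

set_option autoImplicit false

namespace Cfsg.Agent.Lib.Helper54

open scoped Pointwise
open Cfsg
open Cfsg.Agent.Lib.Helper34 (UniquenessThm)

variable {G : Type*} [Group G]

/-- For `q ∉ σ(M)`, an elementary abelian subgroup `W` of order `q ^ 2` of `M` with `C_G(W) ≤ M`
contains all elements of order dividing `q` of its centralizer. -/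
theorem elemAb_sq_mem_of_pow_eq_one [Finite G] (hG : IsMinSimpleOddOrder G) (hU : UniquenessThm G)
    {M : Subgroup G} (hM : IsCoatom M) {q : ℕ} [Fact q.Prime] (hq : q ∉ sigma M)
    {W : Subgroup G} (hWM : W ≤ M) (hW : IsElementaryAbelian q W) (hWc : Nat.card W = q ^ 2)
    {x : G} (hx : x ∈ Subgroup.centralizer (W : Set G)) (hxq : x ^ q = 1) : x ∈ W := by
  have hs : IsSimpleGroup G := hG.2.1
  have hB : IsElementaryAbelian q (W ⊔ Subgroup.zpowers x) := by
    apply Cfsg.Agent.Lib.Helper45.isElementaryAbelian_sup hW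
      (Cfsg.Agent.Lib.Helper34.isElementaryAbelian_zpowers hxq)
    intro a ha b hb
    obtain ⟨k, rfl⟩ := Subgroup.mem_zpowers_iff.mp hb
    have h1 : Commute a x := (Subgroup.mem_centralizer_iff.mp hx a ha)
    exact (h1.zpow_right k)
  have := Cfsg.Agent.Lib.Helper34.eq_of_le_isElementaryAbelian hU hM hq hWM hW hWc hB le_sup_left
  rw [← this]
  exact Subgroup.mem_sup_right (Subgroup.mem_zpowers x)

/-- For `q ∉ σ(M)`, an elementary abelian subgroup of order `q ^ 2` of `M` satisfies the
transitivity hypothesis (given `q`-length one of the proper subgroups). -/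
theorem elemAb_sq_transitivityHypothesis [Finite G] (hG : IsMinSimpleOddOrder G)
    (hU : UniquenessThm G) {M : Subgroup G} (hM : IsCoatom M) {q : ℕ} [Fact q.Prime]
    (hPLq : ∀ H : Subgroup G, H ≠ ⊤ → PLengthLE q 1 H) (hq : q ∉ sigma M)
    {W : Subgroup G} (hWM : W ≤ M) (hW : IsElementaryAbelian q W) (hWc : Nat.card W = q ^ 2) :
    TransitivityHypothesis W := by
  have hqp : q.Prime := Fact.out
  have hWp : IsPGroup q W := isPGroup_of_exponent hW.2
  have hW1 : W ≠ ⊥ := by
    intro h0
    rw [h0, Subgroup.card_bot] at hWc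
    have h1 : 1 < q ^ 2 := Nat.one_lt_pow (by norm_num) hqp.one_lt
    omega
  have hqG : q ∣ Nat.card G :=
    (dvd_card_of_isPGroup_ne_bot hWp hW1).trans (Subgroup.card_subgroup_dvd_card _)
  refine Cfsg.Agent.S1396.result hG q hqG W hWp hW.1 (Or.inl ⟨?_, hPLq⟩)
  intro x hx
  exact ⟨fun hxq => elemAb_sq_mem_of_pow_eq_one hG hU hM hq hWM hW hWc hx hxq,
    fun hxW => hW.2 x hxW⟩

/-- **TOOL Z.** A normal elementary abelian subgroup `W` of order `q ^ 2` of a maximal subgroup `M`
with `q ∉ σ(M)` cannot centralize a nontrivial normal subgroup `S` of `M` which is a maximal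
`s`-subgroup of `G`. -/
theorem not_centralizes_of_normal_elemAb_sq [Finite G] (hG : IsMinSimpleOddOrder G)
    (hU : UniquenessThm G) (M : Subgroup G) (hM : IsCoatom M)
    (q : ℕ) [Fact q.Prime] (hPLq : ∀ H : Subgroup G, H ≠ ⊤ → PLengthLE q 1 H) (hq : q ∉ sigma M)
    (W : Subgroup G) (hWM : W ≤ M) (hW : IsElementaryAbelian q W) (hWc : Nat.card W = q ^ 2)
    (hMW : M ≤ Subgroup.normalizer (W : Set G))
    (s : ℕ) [Fact s.Prime] (S : Subgroup G) (hS : IsPGroup s S) (hS1 : S ≠ ⊥) (hsq : s ≠ q)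
    (hSmax : ∀ R : Subgroup G, IsPGroup s R → S ≤ R → R = S)
    (hMS : M ≤ Subgroup.normalizer (S : Set G))
    (hWS : W ≤ Subgroup.centralizer (S : Set G)) : False := by
  have hqp : q.Prime := Fact.out
  have hsp : s.Prime := Fact.out
  have hs : IsSimpleGroup G := hG.2.1
  have hnc := hG.2.2.1
  have hTH := elemAb_sq_transitivityHypothesis hG hU hM hPLq hq hWM hW hWc
  have hWp : IsPGroup q W := isPGroup_of_exponent hW.2
  have hW1 : W ≠ ⊥ := hTH.1
  have hWcomm : ∀ x ∈ W, ∀ y ∈ W, x * y = y * x := fun _ hx _ hy =>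
    Cfsg.Agent.Lib.Helper45.IsElementaryAbelian_comm hW hx hy
  have hSM : S ≤ M := by
    -- `S ≤ N_G(S) = M`
    have hM1 : M ≠ ⊥ := by
      intro h
      apply hW1
      rw [eq_bot_iff, ← h]
      exact hWM
    by_contra hcon
    -- `M < M ⊔ S ≤ N_G(S)`, so `N_G(S) = ⊤`, `S` normal, contradiction
    have h1 : M ⊔ S ≤ Subgroup.normalizer (S : Set G) := sup_le hMS Subgroup.le_normalizer
    have h2 : M ⊔ S = ⊤ := by
      by_contra h3
      have := hM.2 (M ⊔ S) (lt_of_le_of_ne le_sup_left (fun h => hcon (h ▸ le_sup_right)))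
      exact h3 this
    have h3 : Subgroup.normalizer (S : Set G) = ⊤ := by
      rw [eq_top_iff, ← h2]; exact h1
    have hn : S.Normal := Subgroup.normalizer_eq_top_iff.mp h3
    rcases hn.eq_bot_or_eq_top with h' | h'
    · exact hS1 h'
    · apply hcon
      -- `S = ⊤` would make `G` an `s`-group, contradiction with `q ∣ |G|`
      exfalso
      have hGs : IsPGroup s G := by
        intro g
        obtain ⟨k, hk⟩ := hS ⟨g, h' ▸ Subgroup.mem_top g⟩
        exact ⟨k, by simpa using congrArg Subtype.val hk⟩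
      have hqW : q ∣ Nat.card W := dvd_card_of_isPGroup_ne_bot hWp hW1
      have hqG : q ∣ Nat.card G := hqW.trans (Subgroup.card_subgroup_dvd_card _)
      obtain ⟨k, hk⟩ := hGs.exists_card_eq
      rw [hk] at hqG
      exact hsq ((Nat.prime_dvd_prime_iff_eq hqp hsp).mp (hqp.dvd_of_dvd_pow hqG)).symm
  have hNS : Subgroup.normalizer (S : Set G) = M :=
    normalizer_eq_of_coatom hM hSM hS1 hMS
  have hNW : Subgroup.normalizer (W : Set G) = M :=
    normalizer_eq_of_coatom hM hWM hW1 hMW
  have hCW : Subgroup.centralizer (W : Set G) ≤ M := by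
    rw [← hNW]
    exact Subgroup.centralizer_le_normalizer (W : Set G)
  have hsW : ¬ s ∣ Nat.card W := by
    rw [hWc]
    intro h
    exact hsq ((Nat.prime_dvd_prime_iff_eq hsp hqp).mp (hsp.dvd_of_dvd_pow h))
  have hmem : ∀ Q : Subgroup G, IsPGroup s Q →
      (∀ R : Subgroup G, IsPGroup s R → Q ≤ R → R = Q) →
      W ≤ Subgroup.normalizer (Q : Set G) → Q ∈ maxInvSubgroups ⊤ W {s} := by
    intro Q hQ hQmax hAQ
    refine ⟨(mem_invSubgroups_iff' (q := s)).mpr ⟨le_top, hQ, hAQ⟩, ?_⟩
    intro R hR hQR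
    exact hQmax R ((mem_invSubgroups_iff' (q := s)).mp hR).2.1 hQR
  -- the key claim: `M` is the only conjugate of `M` containing `W`
  have key : ∀ x : G, W ≤ MulAut.conj x • M → x ∈ M := by
    intro x hWx
    set S' : Subgroup G := MulAut.conj x • S with hS'
    have hS'p : IsPGroup s S' := isPGroup_conj_smul hS x
    have hS'max : ∀ R : Subgroup G, IsPGroup s R → S' ≤ R → R = S' :=
      maximal_pGroup_of_card_eq hS hSmax (card_conj_smul x S)
    have hWS' : W ≤ Subgroup.normalizer (S' : Set G) := by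
      rw [hS', normalizer_conj_smul]
      exact hWx.trans (conj_smul_le_conj_smul hMS)
    have hS'1 : S' ≠ ⊥ := by
      intro h
      apply hS1
      have := card_conj_smul x S
      rw [← hS', h, Subgroup.card_bot] at this
      exact Subgroup.card_eq_one.mp this.symm
    have hS'q : ¬ q ∣ Nat.card S' := by
      obtain ⟨k, hk⟩ := hS'p.exists_card_eq
      rw [hk]
      intro h
      exact hsq ((Nat.prime_dvd_prime_iff_eq hqp hsp).mp (hqp.dvd_of_dvd_pow h)).symm
    obtain ⟨B, hBW, hBcard, hBD⟩ := exists_hyperplane_centralizer (p := q) W S' ⊥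
      hWcomm hW.2 hS'q hWS' (fun h => hS'1 (le_bot_iff.mp h))
    have hB1 : B ≠ ⊥ := by
      intro h
      rw [h, Subgroup.card_bot, hWc] at hBcard
      have : q * q ≤ q * 1 := by rw [← pow_two]; exact hBcard
      have := Nat.le_of_mul_le_mul_left this hqp.pos
      exact absurd hqp.one_lt (by omega)
    obtain ⟨b, hb1⟩ := Subgroup.ne_bot_iff_exists_ne_one.mp hB1
    have hb1' : (b : G) ≠ 1 := fun h => hb1 (Subtype.ext h)
    have hCtop : Subgroup.centralizer (B : Set G) ≠ ⊤ := by
      intro h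
      apply centralizer_singleton_ne_top hs hnc hb1'
      rw [eq_top_iff, ← h]
      exact Subgroup.centralizer_le (Set.singleton_subset_iff.mpr b.2)
    have hWC : W ≤ Subgroup.centralizer (B : Set G) := by
      intro w hw
      rw [Subgroup.mem_centralizer_iff]
      intro y hy
      exact hWcomm y (hBW hy) w hw
    have hSC : S ≤ Subgroup.centralizer (B : Set G) := by
      intro y hy
      rw [Subgroup.mem_centralizer_iff]
      intro z hz
      exact (Subgroup.mem_centralizer_iff.mp (hWS (hBW hz)) y hy).symm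
    have hlink1 : Subgroup.centralizer (B : Set G) ⊓ S ≠ ⊥ := by
      rw [inf_eq_right.mpr hSC]
      exact hS1
    have hlink2 : Subgroup.centralizer (B : Set G) ⊓ S' ≠ ⊥ := by
      intro h
      apply hBD
      rw [inf_comm, h]
    obtain ⟨k, hk, hQk⟩ := bg_conj_of_common_overgroup W hs hG.2.2.2 hTH s hsW S
      (hmem S hS hSmax (hWS.trans (Subgroup.centralizer_le_normalizer (S : Set G)))) S'
      (hmem S' hS'p hS'max hWS')
      ⟨Subgroup.centralizer (B : Set G), hCtop, hWC, hlink1, hlink2⟩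
    have hkM : k ∈ M := hCW (piCoreOf_le _ _ hk)
    have hkS : MulAut.conj k • S = S := mem_normalizer_iff_conj_smul.mp (hMS hkM)
    rw [hkS] at hQk
    rw [← hNS]
    exact mem_normalizer_iff_conj_smul.mpr hQk
  -- hence `q ∈ σ(M)`
  apply hq
  obtain ⟨P, hWP⟩ := exists_sylow_map_ge hWM hWp
  refine ⟨hqp, (dvd_card_of_isPGroup_ne_bot hWp hW1).trans (Subgroup.card_dvd_of_le hWM), P, ?_⟩
  intro x hx
  apply key
  have h1 : MulAut.conj x • ((P : Subgroup ↥M).map M.subtype) = (P : Subgroup ↥M).map M.subtype :=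
    mem_normalizer_iff_conj_smul.mp hx
  calc W ≤ (P : Subgroup ↥M).map M.subtype := hWP
    _ = MulAut.conj x • ((P : Subgroup ↥M).map M.subtype) := h1.symm
    _ ≤ MulAut.conj x • M := conj_smul_le_conj_smul (Subgroup.map_subtype_le _)

end Cfsg.Agent.Lib.Helper54
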