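import Mathlib
import Cfsg.Agent.Lib.Helper54.BGSemiregular
import Cfsg.Agent.Lib.Helper54.BGFourteenSixC
import Cfsg.Agent.Lib.Helper54.BGElevenD
import Cfsg.Agent.Lib.Helper23.BGFourteenB

/-!
# A `p`-element acting on `C_p × C_p` (helper54)

If `g` has `p`-power order, normalizes the elementary abelian group `A` of order `p ^ 2` and does not
centralize `x ∈ A`, then every element of `A` not centralized by `g` is a `⟨g⟩`-conjugate of a power
`x ^ k`, `p ∤ k`.
-/

set_option autoImplicit false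

namespace Cfsg.Agent.Lib.Helper54

open Cfsg

variable {G : Type*} [Group G]

/-- A `p`-element normalizing a finite subgroup of order divisible by `p` centralizes a non-identity
element of it. -/
theorem exists_commute_ne_one_of_pow_prime_pow [Finite G] {p : ℕ} [Fact p.Prime] (I : Subgroup G)
    {g : G} (hgI : g ∈ Subgroup.normalizer (I : Set G)) (hgp : ∃ m : ℕ, g ^ p ^ m = 1)
    (hI : p ∣ Nat.card I) : ∃ w ∈ I, w ≠ 1 ∧ g * w = w * g := by
  obtain ⟨m, hm⟩ := hgp
  have hP : IsPGroup p ↥(Subgroup.zpowers g) := by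
    rintro ⟨y, hy⟩
    obtain ⟨n, rfl⟩ := Subgroup.mem_zpowers_iff.mp hy
    refine ⟨m, Subtype.ext ?_⟩
    show (g ^ n) ^ p ^ m = 1
    rw [← zpow_natCast, ← zpow_mul, mul_comm, zpow_mul, zpow_natCast, hm, one_zpow]
  have hle : Subgroup.zpowers g ≤ Subgroup.normalizer (I : Set G) := by
    rw [Subgroup.zpowers_le]; exact hgI
  obtain ⟨w, hw1, hw⟩ := exists_fixed_ne_one_of_isPGroup p hP
    (Cfsg.Agent.Lib.Helper24.conjOn (Subgroup.zpowers g) I hle) hI
  refine ⟨w, w.2, fun h => hw1 (Subtype.ext h), ?_⟩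
  have h1 := hw ⟨g, Subgroup.mem_zpowers g⟩
  have h2 : g * (w : G) * g⁻¹ = w := congrArg Subtype.val h1
  calc g * (w : G) = g * w * g⁻¹ * g := by group
    _ = w * g := by rw [h2]

theorem exists_conj_pow_of_elemAb_sq [Finite G] {p : ℕ} [Fact p.Prime] (A : Subgroup G)
    (hAcomm : ∀ a ∈ A, ∀ b ∈ A, a * b = b * a) (hAexp : ∀ a ∈ A, a ^ p = 1)
    (hAc : Nat.card A = p ^ 2) {x g : G} (hxA : x ∈ A)
    (hgA : g ∈ Subgroup.normalizer (A : Set G)) (hgp : ∃ m : ℕ, g ^ p ^ m = 1)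
    (hgx : g * x ≠ x * g) :
    ∀ a ∈ A, g * a = a * g ∨ ∃ n k : ℕ, ¬ p ∣ k ∧ a = g ^ n * x ^ k * (g ^ n)⁻¹ := by
  classical
  have hp : p.Prime := Fact.out
  have hconj : ∀ a ∈ A, g * a * g⁻¹ ∈ A := fun a ha => (Subgroup.mem_normalizer_iff.mp hgA a).mp ha
  -- the commutator map `θ a = g a g⁻¹ a⁻¹`
  let θ : ↥A →* G :=
    { toFun := fun a => g * a * g⁻¹ * (a : G)⁻¹
      map_one' := by simp
      map_mul' := by
        intro a b
        have h1 : (a : G)⁻¹ * (g * b * g⁻¹) = (g * b * g⁻¹) * (a : G)⁻¹ :=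
          hAcomm _ (A.inv_mem a.2) _ (hconj b b.2)
        have h2 : (b : G)⁻¹ * (a : G)⁻¹ = (a : G)⁻¹ * (b : G)⁻¹ :=
          hAcomm _ (A.inv_mem b.2) _ (A.inv_mem a.2)
        show g * ((a : G) * b) * g⁻¹ * ((a : G) * b)⁻¹ =
          g * a * g⁻¹ * (a : G)⁻¹ * (g * b * g⁻¹ * (b : G)⁻¹)
        calc g * ((a : G) * b) * g⁻¹ * ((a : G) * b)⁻¹
            = g * a * g⁻¹ * (g * b * g⁻¹) * ((b : G)⁻¹ * (a : G)⁻¹) := by group
          _ = g * a * g⁻¹ * (g * b * g⁻¹) * ((a : G)⁻¹ * (b : G)⁻¹) := by rw [h2]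
          _ = g * a * g⁻¹ * ((g * b * g⁻¹) * (a : G)⁻¹) * (b : G)⁻¹ := by group
          _ = g * a * g⁻¹ * ((a : G)⁻¹ * (g * b * g⁻¹)) * (b : G)⁻¹ := by rw [h1]
          _ = g * a * g⁻¹ * (a : G)⁻¹ * (g * b * g⁻¹ * (b : G)⁻¹) := by group }
  have hθ : ∀ a : ↥A, θ a = g * a * g⁻¹ * (a : G)⁻¹ := fun a => rfl
  have hθA : θ.range ≤ A := by
    rintro _ ⟨a, rfl⟩
    rw [hθ]
    exact A.mul_mem (hconj a a.2) (A.inv_mem a.2)
  have hθker : ∀ a : ↥A, a ∈ θ.ker ↔ g * (a : G) = a * g := by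
    intro a
    rw [MonoidHom.mem_ker, hθ]
    constructor
    · intro h
      have : g * (a : G) * g⁻¹ = a := by
        calc g * (a : G) * g⁻¹ = g * a * g⁻¹ * (a : G)⁻¹ * a := by group
          _ = a := by rw [h, one_mul]
      calc g * (a : G) = g * a * g⁻¹ * g := by group
        _ = a * g := by rw [this]
    · intro h
      calc g * (a : G) * g⁻¹ * (a : G)⁻¹ = (g * (a : G)) * g⁻¹ * (a : G)⁻¹ := by group
        _ = ((a : G) * g) * g⁻¹ * (a : G)⁻¹ := by rw [h]
        _ = 1 := by group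
  -- a fixed point `z0`
  obtain ⟨z0, hz0A, hz01, hz0g⟩ := exists_commute_ne_one_of_pow_prime_pow A hgA hgp
    (by rw [hAc]; exact dvd_pow_self p (by norm_num))
  -- `|ker θ| = p`
  have hker_ne_bot : θ.ker ≠ ⊥ := by
    intro h
    have h1 : (⟨z0, hz0A⟩ : ↥A) ∈ θ.ker := (hθker _).mpr hz0g
    rw [h, Subgroup.mem_bot] at h1
    exact hz01 (congrArg Subtype.val h1)
  have hker_ne_top : θ.ker ≠ ⊤ := by
    intro h
    have h1 : (⟨x, hxA⟩ : ↥A) ∈ θ.ker := by rw [h]; exact Subgroup.mem_top _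
    exact hgx ((hθker _).mp h1)
  have hcard := θ.ker.card_mul_index
  rw [Subgroup.index_ker, hAc] at hcard
  have hkerp : Nat.card θ.ker = p := by
    have hdvd : Nat.card θ.ker ∣ p ^ 2 := Dvd.intro _ hcard
    obtain ⟨j, hj, hjc⟩ := (Nat.dvd_prime_pow hp).mp hdvd
    interval_cases j
    · exfalso
      rw [pow_zero] at hjc
      exact hker_ne_bot (Subgroup.card_eq_one.mp hjc)
    · rw [hjc, pow_one]
    · exfalso
      apply hker_ne_top
      apply Subgroup.eq_top_of_card_eq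
      rw [hjc, hAc]
  have hrangep : Nat.card θ.range = p := by
    rw [hkerp, pow_two] at hcard
    exact Nat.eq_of_mul_eq_mul_left hp.pos hcard
  -- `g` centralizes `range θ`
  have hgR : g ∈ Subgroup.normalizer ((θ.range : Subgroup G) : Set G) := by
    apply mem_normalizer_of_conj_mem
    rintro _ ⟨a, rfl⟩
    refine ⟨⟨g * a * g⁻¹, hconj a a.2⟩, ?_⟩
    rw [hθ, hθ]
    show g * (g * a * g⁻¹) * g⁻¹ * (g * (a : G) * g⁻¹)⁻¹ = g * (g * a * g⁻¹ * (a : G)⁻¹) * g⁻¹
    group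
  obtain ⟨w, hwR, hw1, hwg⟩ := exists_commute_ne_one_of_pow_prime_pow θ.range hgR hgp
    (by rw [hrangep])
  have hgcent : g ∈ Subgroup.centralizer ((θ.range : Subgroup G) : Set G) := by
    rw [← centralizer_singleton_eq_of_card_prime (by rw [hrangep]; exact hp) hwR hw1,
      Subgroup.mem_centralizer_singleton_iff]
    exact hwg
  -- the element `c = [g, x]`
  set c : G := g * x * g⁻¹ * x⁻¹ with hc
  have hcR : c ∈ θ.range := ⟨⟨x, hxA⟩, rfl⟩
  have hcA : c ∈ A := hθA hcR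
  have hgc : g * c = c * g := (Subgroup.mem_centralizer_iff.mp hgcent c hcR).symm
  have hc1 : c ≠ 1 := by
    intro h
    apply hgx
    have : g * x * g⁻¹ = x := by
      calc g * x * g⁻¹ = g * x * g⁻¹ * x⁻¹ * x := by group
        _ = x := by rw [← hc, h, one_mul]
    calc g * x = g * x * g⁻¹ * g := by group
      _ = x * g := by rw [this]
  have hcx : c * x = x * c := hAcomm c hcA x hxA
  have hgxc : g * x * g⁻¹ = c * x := by rw [hc]; group
  have hx1 : x ≠ 1 := by
    rintro rfl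
    exact hgx (by rw [mul_one, one_mul])
  have hxo : orderOf x = p := orderOf_eq_prime (hAexp x hxA) hx1
  have hco : orderOf c = p := orderOf_eq_prime (hAexp c hcA) hc1
  have hcardx : Nat.card (Subgroup.zpowers x) = p := by rw [Nat.card_zpowers, hxo]
  have hcardc : Nat.card (Subgroup.zpowers c) = p := by rw [Nat.card_zpowers, hco]
  -- `c ∉ ⟨x⟩`
  have hcx' : c ∉ Subgroup.zpowers x := by
    intro h
    apply hgx
    have h1 : g ∈ Subgroup.centralizer ({c} : Set G) :=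
      Subgroup.mem_centralizer_singleton_iff.mpr hgc
    rw [centralizer_singleton_eq_of_card_prime (by rw [hcardx]; exact hp) h hc1] at h1
    exact (Subgroup.mem_centralizer_iff.mp h1 x (Subgroup.mem_zpowers x)).symm
  -- `A = ⟨c⟩ ⟨x⟩`
  have hsup : Subgroup.zpowers c ⊔ Subgroup.zpowers x = A := by
    have h1 := (elemAb_sup_of_card_prime (p := p) hAcomm (Subgroup.zpowers_le.mpr hcA)
      (Subgroup.zpowers_le.mpr hxA) hcardc hcardx (by
        intro h
        apply hcx'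
        rw [← h]
        exact Subgroup.mem_zpowers c)).2
    apply Subgroup.eq_of_le_of_card_ge
      (sup_le (Subgroup.zpowers_le.mpr hcA) (Subgroup.zpowers_le.mpr hxA))
    rw [h1, hAc]
  -- `g ^ n x g ^ -n = c ^ n x`
  have hpow : ∀ n : ℕ, g ^ n * x * (g ^ n)⁻¹ = c ^ n * x := by
    intro n
    induction n with
    | zero => simp
    | succ n ih =>
      have hgcn : g * c ^ n = c ^ n * g := ((show Commute g c from hgc).pow_right n).eq
      calc g ^ (n + 1) * x * (g ^ (n + 1))⁻¹ = g * (g ^ n * x * (g ^ n)⁻¹) * g⁻¹ := by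
            rw [pow_succ']; group
        _ = g * (c ^ n * x) * g⁻¹ := by rw [ih]
        _ = (g * c ^ n) * x * g⁻¹ := by group
        _ = (c ^ n * g) * x * g⁻¹ := by rw [hgcn]
        _ = c ^ n * (g * x * g⁻¹) := by group
        _ = c ^ n * (c * x) := by rw [hgxc]
        _ = c ^ (n + 1) * x := by rw [pow_succ]; group
  intro a ha
  rw [← hsup] at ha
  have hnorm : Subgroup.zpowers c ≤ Subgroup.normalizer ((Subgroup.zpowers x : Subgroup G) : Set G) := by
    rw [Subgroup.zpowers_le]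
    apply Subgroup.centralizer_le_normalizer
    rw [Subgroup.mem_centralizer_iff]
    intro y hy
    obtain ⟨n, rfl⟩ := Subgroup.mem_zpowers_iff.mp hy
    exact ((show Commute x c from hcx.symm).zpow_left n).eq
  obtain ⟨c', hc', x', hx', rfl⟩ := Cfsg.Agent.Lib.Helper23.exists_mul_of_mem_sup_h23 hnorm ha
  obtain ⟨m, rfl⟩ : ∃ m : ℕ, c ^ m = c' := by
    have h1 : c' ∈ Submonoid.powers c := mem_powers_iff_mem_zpowers.mpr hc'
    exact (Submonoid.mem_powers_iff _ _).mp h1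
  obtain ⟨k, rfl⟩ : ∃ k : ℕ, x ^ k = x' := by
    have h1 : x' ∈ Submonoid.powers x := mem_powers_iff_mem_zpowers.mpr hx'
    exact (Submonoid.mem_powers_iff _ _).mp h1
  by_cases hpk : p ∣ k
  · left
    obtain ⟨j, rfl⟩ := hpk
    rw [pow_mul, hAexp x hxA, one_pow, mul_one]
    exact ((show Commute g c from hgc).pow_right m).eq
  · right
    have hcop : Nat.Coprime k p := ((Nat.Prime.coprime_iff_not_dvd hp).mpr hpk).symm
    obtain ⟨k', -, hk'⟩ := Nat.exists_mul_mod_eq_one_of_coprime hcop hp.one_lt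
    refine ⟨m * k', k, hpk, ?_⟩
    have h1 : g ^ (m * k') * x ^ k * (g ^ (m * k'))⁻¹ = (g ^ (m * k') * x * (g ^ (m * k'))⁻¹) ^ k :=
      (conj_pow).symm
    rw [h1, hpow, (show Commute (c ^ (m * k')) x from (show Commute c x from hcx).pow_left _).mul_pow]
    congr 1
    rw [← pow_mul]
    have h2 : c ^ (m * k' * k) = c ^ ((m * k' * k) % p) := by
      rw [← hco]; exact (pow_mod_orderOf c _).symm
    have h3 : (m * k' * k) % p = m % p := by
      have : m * k' * k = m * (k * k') := by ring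
      rw [this, Nat.mul_mod, hk', mul_one, Nat.mod_mod]
    rw [h2, h3, ← hco, pow_mod_orderOf]

end Cfsg.Agent.Lib.Helper54
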