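import Mathlib
import Cfsg.Agent.Lib.Helper22.BGFifteenNineA
import Cfsg.Agent.Lib.Helper22.BGFourteenFourB
import Cfsg.Agent.Lib.Helper34.TildeEquiv
import Cfsg.Agent.Lib.Helper54.BGOrbitSq
import Cfsg.Agent.Lib.Helper54.Hyperplane
import Cfsg.Agent.Lib.Helper54.BGFourteenSixD
import Cfsg.Agent.S1361

/-!
# B&G Corollary 15.9, module [S2], steps (β) and (γ) (helper54)

In the configuration `Ctx M N Nstar K U x p t` of helper22, let `A ≤ U` be elementary abelian of order
`p ^ 2` with `x ∈ A`, and let `g ∈ M_σ` be a `p`-element normalizing `A` and not centralizing `x`.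
Then `N_σ ≤ C_G(x)`.
-/

set_option autoImplicit false

namespace Cfsg.Agent.Lib.Helper54

open Cfsg
open Cfsg.Agent.Lib.Helper22.BGFifteenNine
open scoped Pointwise

universe u

variable {G : Type u} [Group G] [Finite G]

/-- (β): an element `a ≠ 1` of `A` centralizing a non-identity element of `N_σ` lies in `⟨x⟩`. -/
theorem mem_zpowers_of_sigmaCore_inf_centralizer_ne_bot (hG : IsMinSimpleOddOrder G)
    {M N Nstar K U : Subgroup G} {x : G} {p t : ℕ} (h : Ctx M N Nstar K U x p t)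
    (A : Subgroup G) (hAU : A ≤ U) (hAel : IsElementaryAbelian p A) (hAc : Nat.card A = p ^ 2)
    (hxA : x ∈ A) (g : G) (hgσ : g ∈ sigmaCore M) (hgA : g ∈ Subgroup.normalizer (A : Set G))
    (hgp : ∃ m : ℕ, g ^ p ^ m = 1) (hgx : g * x ≠ x * g) {a : G} (haA : a ∈ A) (ha1 : a ≠ 1)
    (hne : sigmaCore N ⊓ Subgroup.centralizer ({a} : Set G) ≠ ⊥) : a ∈ Subgroup.zpowers x := by
  have hpp : p.Prime := h.pp
  have : Fact p.Prime := ⟨hpp⟩
  have hAcomm : ∀ a ∈ A, ∀ b ∈ A, a * b = b * a := fun a ha b hb =>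
    congrArg Subtype.val (hAel.1.is_comm.comm ⟨a, ha⟩ ⟨b, hb⟩)
  -- elements of `M_σ ∩ N` commute with `x`
  have F1 : ∀ w ∈ sigmaCore M, w ∈ N → w * x = x * w := by
    intro w hw hwN
    have hwU : w ∈ U := by rw [h.U_eq]; exact ⟨hw, hwN⟩
    exact h.hUab w hwU x h.hxU
  have hgN : g ∉ N := fun hg => hgx (F1 g hgσ hg)
  -- `C_G(a) ≤ N`
  have hz1 : Subgroup.zpowers a ≠ ⊥ := by
    intro h'
    apply ha1
    have : a ∈ Subgroup.zpowers a := Subgroup.mem_zpowers a
    rw [h'] at this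
    exact Subgroup.mem_bot.mp this
  have h61 := Cfsg.Agent.S1361.result hG N h.hN K U h.hKU (Subgroup.zpowers a)
    (Subgroup.zpowers_le.mpr (hAU haA)) hz1 (by rw [centralizer_zpowers_eq]; exact hne)
  rw [centralizer_zpowers_eq] at h61
  have hCaN := h61.1
  rcases exists_conj_pow_of_elemAb_sq A hAcomm hAel.2 hAc hxA hgA hgp hgx a haA with hga | ⟨n, k, hk, rfl⟩
  · exfalso
    apply hgN
    apply hCaN
    rw [Subgroup.mem_centralizer_singleton_iff]
    exact hga
  · set w : G := g ^ n with hw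
    have hwσ : w ∈ sigmaCore M := Subgroup.pow_mem _ hgσ n
    -- `C_G(x) ≤ w⁻¹ N w`
    have hN' : IsCoatom (N.map (MulAut.conj w⁻¹).toMonoidHom) :=
      Cfsg.Agent.Lib.Helper34.TildeEquiv.isCoatom_map_conj h.hN w⁻¹
    have hCx : Subgroup.centralizer ({x} : Set G) ≤ N.map (MulAut.conj w⁻¹).toMonoidHom := by
      intro y hy
      rw [Subgroup.mem_centralizer_singleton_iff] at hy
      refine ⟨w * y * w⁻¹, ?_, ?_⟩
      · apply hCaN
        rw [Subgroup.mem_centralizer_singleton_iff]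
        have hyk : y * x ^ k = x ^ k * y := ((show Commute y x from hy).pow_right k).eq
        calc w * y * w⁻¹ * (w * x ^ k * w⁻¹) = w * (y * x ^ k) * w⁻¹ := by group
          _ = w * (x ^ k * y) * w⁻¹ := by rw [hyk]
          _ = w * x ^ k * w⁻¹ * (w * y * w⁻¹) := by group
      · show w⁻¹ * (w * y * w⁻¹) * (w⁻¹)⁻¹ = y
        group
    have hNeq := h.huniq _ hN' hCx
    have hN1 : N ≠ ⊥ := by
      intro h'
      have := h.hxN
      rw [h'] at this
      exact h.hx1 (Subgroup.mem_bot.mp this)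
    have hwN' : w⁻¹ ∈ Subgroup.normalizer (N : Set G) := by
      rw [mem_normalizer_iff_conj_smul]
      exact hNeq
    rw [Cfsg.Agent.Lib.Helper22.BGFourteenFour.normalizer_eq_of_isCoatom hG.2.1 h.hN hN1] at hwN'
    have hwN : w ∈ N := by
      have := N.inv_mem hwN'
      rwa [inv_inv] at this
    have hwx : w * x = x * w := F1 w hwσ hwN
    have hwxk : w * x ^ k = x ^ k * w := ((show Commute w x from hwx).pow_right k).eq
    have : w * x ^ k * w⁻¹ = x ^ k := by rw [hwxk]; group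
    rw [this]
    exact Subgroup.pow_mem _ (Subgroup.mem_zpowers x) k

/-- (γ): `N_σ ≤ C_G(x)`. -/
theorem sigmaCore_le_centralizer_of_elemAb (hG : IsMinSimpleOddOrder G)
    {M N Nstar K U : Subgroup G} {x : G} {p t : ℕ} (h : Ctx M N Nstar K U x p t)
    (A : Subgroup G) (hAU : A ≤ U) (hAel : IsElementaryAbelian p A) (hAc : Nat.card A = p ^ 2)
    (hxA : x ∈ A) (g : G) (hgσ : g ∈ sigmaCore M) (hgA : g ∈ Subgroup.normalizer (A : Set G))
    (hgp : ∃ m : ℕ, g ^ p ^ m = 1) (hgx : g * x ≠ x * g) :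
    sigmaCore N ≤ Subgroup.centralizer ({x} : Set G) := by
  have hpp : p.Prime := h.pp
  have : Fact p.Prime := ⟨hpp⟩
  have hU := uniq hG
  have hAcomm : ∀ a ∈ A, ∀ b ∈ A, a * b = b * a := fun a ha b hb =>
    congrArg Subtype.val (hAel.1.is_comm.comm ⟨a, ha⟩ ⟨b, hb⟩)
  by_contra hnot
  set D : Subgroup G := sigmaCore N ⊓ Subgroup.centralizer ({x} : Set G) with hD
  have hRD : ¬ sigmaCore N ≤ D := fun h' => hnot (h'.trans inf_le_right)
  have hR : ¬ p ∣ Nat.card (sigmaCore N) := by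
    intro hd
    exact h.hpτ.2.1 ((sigmaCore_hall_of hG hU N h.hN).1.2.1 p hpp hd)
  have hAR : A ≤ Subgroup.normalizer ((sigmaCore N : Subgroup G) : Set G) :=
    (hAU.trans h.U_le_N).trans (le_normalizer_sigmaCore N)
  obtain ⟨B1, hB1A, hB1c, hB1D⟩ :=
    exists_hyperplane_centralizer A (sigmaCore N) D hAcomm hAel.2 hR hAR hRD
  have hB11 : B1 ≠ ⊥ := by
    intro h'
    rw [h', Subgroup.card_bot, mul_one, hAc] at hB1c
    have : p < p ^ 2 := by
      calc p = p ^ 1 := (pow_one p).symm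
        _ < p ^ 2 := Nat.pow_lt_pow_right hpp.one_lt (by norm_num)
    omega
  obtain ⟨⟨a, haB⟩, ha1⟩ := (Subgroup.ne_bot_iff_exists_ne_one).mp hB11
  have ha1' : a ≠ 1 := fun h' => ha1 (Subtype.ext h')
  have hCB1a : Subgroup.centralizer (B1 : Set G) ≤ Subgroup.centralizer ({a} : Set G) :=
    Subgroup.centralizer_le (by
      intro y hy
      rw [Set.mem_singleton_iff] at hy
      rw [hy]
      exact haB)
  have hne : sigmaCore N ⊓ Subgroup.centralizer ({a} : Set G) ≠ ⊥ := by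
    intro h'
    apply hB1D
    have : sigmaCore N ⊓ Subgroup.centralizer (B1 : Set G) ≤ ⊥ := by
      rw [← h']
      exact inf_le_inf_left _ hCB1a
    exact this.trans bot_le
  have hax := mem_zpowers_of_sigmaCore_inf_centralizer_ne_bot hG h A hAU hAel hAc hxA g hgσ hgA hgp
    hgx (hB1A haB) ha1' hne
  apply hB1D
  refine le_inf inf_le_left ?_
  have hxo : Nat.card (Subgroup.zpowers x) = p := by rw [Nat.card_zpowers, h.hxo]
  have e := centralizer_singleton_eq_of_card_prime (by rw [hxo]; exact hpp) hax ha1'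
  refine inf_le_right.trans (hCB1a.trans ?_)
  rw [e, centralizer_zpowers_eq]

end Cfsg.Agent.Lib.Helper54
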