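import Mathlib

/-!
# S0998 (Brauer–Tuan special case), helper17's sheet `Lib/Helper17/BT/SPINE.md`:
the three arithmetic modules [AR-MINUS], [AR-B98], [AR-A98]  (Mathlib only)
-/

set_option autoImplicit false
set_option linter.unusedVariables false

namespace Cfsg.Agent.Lib.Helper54.BTArith

theorem two_pow_even_mod (j : ℕ) : 2 ^ (2 * j) % 3 = 1 := by
  rw [pow_mul]
  norm_num [Nat.pow_mod]

theorem two_pow_odd_mod (j : ℕ) : 2 ^ (2 * j + 1) % 3 = 2 := by
  rw [pow_succ, pow_mul, Nat.mul_mod]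
  norm_num [Nat.pow_mod]

/-- a prime divisible by 3 is 3 -/
theorem prime_eq_three_of_dvd {r : ℕ} (hr : r.Prime) (h : 3 ∣ r) : r = 3 :=
  ((Nat.prime_dvd_prime_iff_eq Nat.prime_three hr).1 h).symm

variable {ι : Type*} [DecidableEq ι]

/-- splitting off two known members of a three-element finset -/
theorem eq_triple_of_card {X : Finset ι} {x y : ι} (hx : x ∈ X) (hy : y ∈ X) (hxy : x ≠ y)
    (hc : X.card = 3) : ∃ z ∈ X, z ≠ x ∧ z ≠ y ∧ X = {x, y, z} := by
  have hy' : y ∈ X.erase x := Finset.mem_erase.2 ⟨hxy.symm, hy⟩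
  have h1 : (X.erase x).card = 2 := by rw [Finset.card_erase_of_mem hx, hc]
  have h2 : ((X.erase x).erase y).card = 1 := by rw [Finset.card_erase_of_mem hy', h1]
  obtain ⟨z, hz⟩ := Finset.card_eq_one.1 h2
  have hzmem : z ∈ (X.erase x).erase y := by rw [hz]; exact Finset.mem_singleton_self z
  rw [Finset.mem_erase, Finset.mem_erase] at hzmem
  refine ⟨z, hzmem.2.2, hzmem.2.1, hzmem.1, ?_⟩
  ext w
  simp only [Finset.mem_insert, Finset.mem_singleton]
  constructor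
  · intro hw
    by_cases h1 : w = x
    · exact Or.inl h1
    by_cases h2 : w = y
    · exact Or.inr (Or.inl h2)
    right; right
    have : w ∈ (X.erase x).erase y :=
      Finset.mem_erase.2 ⟨h2, Finset.mem_erase.2 ⟨h1, hw⟩⟩
    rw [hz, Finset.mem_singleton] at this
    exact this
  · rintro (rfl | rfl | rfl)
    · exact hx
    · exact hy
    · exact hzmem.2.2

/-- splitting off one known member of a two-element finset -/
theorem eq_pair_of_card {X : Finset ι} {x : ι} (hx : x ∈ X) (hc : X.card = 2) :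
    ∃ z ∈ X, z ≠ x ∧ X = {x, z} := by
  have h1 : (X.erase x).card = 1 := by rw [Finset.card_erase_of_mem hx, hc]
  obtain ⟨z, hz⟩ := Finset.card_eq_one.1 h1
  have hzmem : z ∈ X.erase x := by rw [hz]; exact Finset.mem_singleton_self z
  rw [Finset.mem_erase] at hzmem
  refine ⟨z, hzmem.2, hzmem.1, ?_⟩
  ext w
  simp only [Finset.mem_insert, Finset.mem_singleton]
  constructor
  · intro hw
    by_cases h1 : w = x
    · exact Or.inl h1
    right
    have : w ∈ X.erase x := Finset.mem_erase.2 ⟨h1, hw⟩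
    rw [hz, Finset.mem_singleton] at this
    exact this
  · rintro (rfl | rfl)
    · exact hx
    · exact hzmem.2

/-- **[AR-A98]** -/
theorem arith_plus_prime (X : Finset ι) (a : ι → ℤ) (d : ι → ℕ) (triv : ι) (p q b r : ℕ)
    (hp : p.Prime) (hq : q.Prime) (hr : r.Prime) (hr3 : 3 ≤ r) (hpr : p = 2 * r + 1)
    (hqr : q ≠ r) (hqp : q ≠ p)
    (htriv : triv ∈ X) (hatriv : a triv = 1) (hdtriv : d triv = 1)
    (ha : ∀ i ∈ X, a i = 1 ∨ a i = -1)
    (hdd : ∀ i ∈ X, d i ∣ q ^ b * r) (hmod : ∀ i ∈ X, (p : ℤ) ∣ (d i : ℤ) - a i)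
    (hsum : (r : ℤ) = ∑ i ∈ X, a i * (d i : ℤ)) (hXcard : X.card = r)
    (i₂ : ι) (hi₂ : i₂ ∈ X) (hai₂ : a i₂ = 1) (hdi₂ : d i₂ = p + 1) :
    q = 2 ∧ p = 7 ∧ r = 3 ∧ ∃ i₃ ∈ X, i₃ ≠ triv ∧ i₃ ≠ i₂ ∧ d i₃ = 6 ∧ a i₃ = -1 ∧
      X = {triv, i₂, i₃} := by
  -- `2 (r+1) ∣ q ^ b`
  have h1 : 2 * (r + 1) ∣ q ^ b * r := by
    have := hdd i₂ hi₂
    rw [hdi₂, hpr] at this
    have e : 2 * r + 1 + 1 = 2 * (r + 1) := by ring
    rwa [e] at this
  have hrodd : ¬ 2 ∣ r := by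
    intro h
    have := (Nat.prime_dvd_prime_iff_eq Nat.prime_two hr).1 h
    omega
  have hco : Nat.Coprime (2 * (r + 1)) r := by
    apply Nat.Coprime.mul_left
    · exact (Nat.coprime_primes Nat.prime_two hr).2 (by omega)
    · have : Nat.Coprime r (r + 1) := by simp
      exact this.symm
  have h2 : 2 * (r + 1) ∣ q ^ b := hco.dvd_of_dvd_mul_right h1
  have hq2 : q = 2 := by
    have : 2 ∣ q ^ b := Dvd.dvd.trans (Dvd.intro _ rfl) h2
    have := Nat.Prime.dvd_of_dvd_pow Nat.prime_two this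
    exact ((Nat.prime_dvd_prime_iff_eq Nat.prime_two hq).1 this).symm
  subst hq2
  obtain ⟨k', hk'b, hk'⟩ := (Nat.dvd_prime_pow Nat.prime_two).1 h2
  -- `r + 1 = 2 ^ k`
  have hk'pos : 1 ≤ k' := by
    by_contra hcon
    have : k' = 0 := by omega
    rw [this] at hk'
    simp at hk'
  obtain ⟨k, rfl⟩ : ∃ k, k' = k + 1 := ⟨k' - 1, by omega⟩
  have hrk : r + 1 = 2 ^ k := by
    rw [pow_succ] at hk'
    omega
  have hr3' : r = 3 := by
    rcases Nat.even_or_odd' k with ⟨j, hj | hj⟩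
    · -- `k` even: `3 ∣ r`
      apply prime_eq_three_of_dvd hr
      have := two_pow_even_mod j
      rw [← hj, ← hrk] at this
      omega
    · -- `k` odd: `3 ∣ p`
      exfalso
      have h3 : 2 ^ (2 * (j + 1)) % 3 = 1 := two_pow_even_mod (j + 1)
      have e : 2 ^ (2 * (j + 1)) = 2 * 2 ^ k := by
        rw [hj]
        have : 2 * (j + 1) = 2 * j + 1 + 1 := by ring
        rw [this, pow_succ (n := 2 * j + 1)]
        ring
      rw [e, ← hrk] at h3
      have hp3 : 3 ∣ p := by omega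
      have := prime_eq_three_of_dvd hp hp3
      omega
  subst hr3'
  have hp7 : p = 7 := by omega
  subst hp7
  refine ⟨rfl, rfl, rfl, ?_⟩
  have hne : triv ≠ i₂ := by
    intro h
    rw [← h, hdtriv] at hdi₂
    omega
  obtain ⟨i₃, hi₃, h3t, h32, hX⟩ := eq_triple_of_card htriv hi₂ hne hXcard
  have hsum' : (3 : ℤ) = a triv * (d triv : ℤ) + (a i₂ * (d i₂ : ℤ) + a i₃ * (d i₃ : ℤ)) := by
    have : ∑ i ∈ X, a i * (d i : ℤ) =
        a triv * (d triv : ℤ) + (a i₂ * (d i₂ : ℤ) + a i₃ * (d i₃ : ℤ)) := by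
      rw [hX, Finset.sum_insert, Finset.sum_pair h32.symm]
      simp only [Finset.mem_insert, Finset.mem_singleton, not_or]
      exact ⟨hne, h3t.symm⟩
    rw [← this]
    exact_mod_cast hsum
  rw [hatriv, hdtriv, hai₂, hdi₂] at hsum'
  have hprod : a i₃ * (d i₃ : ℤ) = -6 := by push_cast at hsum'; linarith
  refine ⟨i₃, hi₃, h3t, h32, ?_, ?_, hX⟩
  · rcases ha i₃ hi₃ with h | h
    · rw [h] at hprod
      have : (0 : ℤ) ≤ (d i₃ : ℤ) := Int.natCast_nonneg _
      omega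
    · rw [h] at hprod
      have : (d i₃ : ℤ) = 6 := by linarith
      exact_mod_cast this
  · rcases ha i₃ hi₃ with h | h
    · rw [h] at hprod
      have : (0 : ℤ) ≤ (d i₃ : ℤ) := Int.natCast_nonneg _
      omega
    · exact h

/-- **[AR-B98]** -/
theorem arith_minus_prime (X : Finset ι) (a : ι → ℤ) (d : ι → ℕ) (triv : ι) (p b e t r : ℕ)
    (hp : p.Prime) (hr : r.Prime) (hp5 : 5 ≤ p) (hpet : p = e * t + 1) (ht : 2 ≤ t)
    (hr' : r = p - e) (α : ℕ) (hα : 1 ≤ α) (heα : e = 2 ^ α) (hαt : α = 1 ∨ t = 2)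
    (htriv : triv ∈ X) (hatriv : a triv = 1) (hdtriv : d triv = 1)
    (ha : ∀ i ∈ X, a i = 1 ∨ a i = -1)
    (hdd : ∀ i ∈ X, d i ∣ 2 ^ b * r) (hmod : ∀ i ∈ X, (p : ℤ) ∣ (d i : ℤ) - a i)
    (hsum : -(r : ℤ) = ∑ i ∈ X, a i * (d i : ℤ)) (hXcard : X.card = e) :
    p = 5 ∧ r = 3 ∧ e = 2 ∧ ∃ i₂ ∈ X, i₂ ≠ triv ∧ d i₂ = 4 ∧ a i₂ = -1 ∧ X = {triv, i₂} := by
  by_cases hα1 : α = 1
  · -- `e = 2`
    subst hα1
    have he2 : e = 2 := by rw [heα]; norm_num
    subst he2
    clear heα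
    obtain ⟨i₂, hi₂, h2t, hX⟩ := eq_pair_of_card htriv hXcard
    have hsum' : -(r : ℤ) = a triv * (d triv : ℤ) + a i₂ * (d i₂ : ℤ) := by
      have : ∑ i ∈ X, a i * (d i : ℤ) = a triv * (d triv : ℤ) + a i₂ * (d i₂ : ℤ) := by
        rw [hX, Finset.sum_pair h2t.symm]
      rw [← this]
      exact hsum
    rw [hatriv, hdtriv] at hsum'
    have hprod : a i₂ * (d i₂ : ℤ) = -((r : ℤ) + 1) := by push_cast at hsum'; linarith
    have hd0 : (0 : ℤ) ≤ (d i₂ : ℤ) := Int.natCast_nonneg _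
    have hr0 : (0 : ℤ) ≤ (r : ℤ) := Int.natCast_nonneg _
    have ha2 : a i₂ = -1 := by
      rcases ha i₂ hi₂ with h | h
      · rw [h] at hprod
        omega
      · exact h
    have hd2 : d i₂ = r + 1 := by
      rw [ha2] at hprod
      have : (d i₂ : ℤ) = (r : ℤ) + 1 := by linarith
      exact_mod_cast this
    have hrp : r + 2 = p := by omega
    -- `r + 1 ∣ 2 ^ b`
    have h1 : r + 1 ∣ 2 ^ b * r := hd2 ▸ hdd i₂ hi₂
    have hco : Nat.Coprime (r + 1) r := by
      have : Nat.Coprime r (r + 1) := by simp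
      exact this.symm
    have h2 : r + 1 ∣ 2 ^ b := hco.dvd_of_dvd_mul_right h1
    obtain ⟨β, hβb, hβ⟩ := (Nat.dvd_prime_pow Nat.prime_two).1 h2
    have hr3 : r = 3 := by
      rcases Nat.even_or_odd' β with ⟨j, hj | hj⟩
      · apply prime_eq_three_of_dvd hr
        have := two_pow_even_mod j
        rw [← hj, ← hβ] at this
        omega
      · exfalso
        have := two_pow_odd_mod j
        rw [← hj, ← hβ] at this
        have hp3 : 3 ∣ p := by omega
        have := prime_eq_three_of_dvd hp hp3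
        omega
    subst hr3
    refine ⟨by omega, rfl, rfl, i₂, hi₂, h2t, by omega, ha2, hX⟩
  · -- `t = 2`, `α ≥ 2`: impossible
    exfalso
    have ht2 : t = 2 := by
      rcases hαt with h | h
      · exact absurd h hα1
      · exact h
    subst ht2
    have hp' : p = 2 * 2 ^ α + 1 := by rw [hpet, heα]; ring
    have hr'' : r = 2 ^ α + 1 := by rw [hr', hp', heα]; omega
    rcases Nat.even_or_odd' α with ⟨j, hj | hj⟩
    · -- `α` even: `3 ∣ p`
      have := two_pow_even_mod j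
      rw [← hj] at this
      have hp3 : 3 ∣ p := by omega
      have := prime_eq_three_of_dvd hp hp3
      omega
    · -- `α` odd: `3 ∣ r`, `r = 3`, `α = 1`
      have := two_pow_odd_mod j
      rw [← hj] at this
      have hr3 : 3 ∣ r := by omega
      have h3 := prime_eq_three_of_dvd hr hr3
      have h2α : 2 ^ α = 2 ^ 1 := by omega
      have := Nat.pow_right_injective (le_refl 2) h2α
      exact hα1 this

/-- a positive multiple of `p` below `2 p` is `p` -/
theorem eq_of_dvd_of_lt_two_mul {p n : ℕ} (h : p ∣ n) (h0 : 0 < n) (h2 : n < 2 * p) : n = p := by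
  obtain ⟨c, rfl⟩ := h
  have hc1 : c = 1 := by
    rcases Nat.lt_or_ge c 2 with hc | hc
    · have : c ≠ 0 := by
        rintro rfl
        simp at h0
      omega
    · exfalso
      have : p * 2 ≤ p * c := Nat.mul_le_mul_left p hc
      omega
  rw [hc1, mul_one]

/-- **[AR-MINUS]** -/
theorem arith_minus (X : Finset ι) (a : ι → ℤ) (d : ι → ℕ) (triv : ι) (p q b e t g₀ : ℕ)
    (hp : p.Prime) (hq : q.Prime) (hpq : p ≠ q) (hpet : p = e * t + 1) (he : 2 ≤ e) (ht : 2 ≤ t)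
    (hg₀ : g₀ = p - e) (hqg : ¬ q ∣ g₀) (hedvd : e ∣ p * q ^ b * g₀)
    (htriv : triv ∈ X) (hatriv : a triv = 1) (hdtriv : d triv = 1)
    (ha : ∀ i ∈ X, a i = 1 ∨ a i = -1) (hqd : ∀ i ∈ X, i ≠ triv → q ∣ d i)
    (hdd : ∀ i ∈ X, d i ∣ q ^ b * g₀) (hmod : ∀ i ∈ X, (p : ℤ) ∣ (d i : ℤ) - a i)
    (hsum : -(g₀ : ℤ) = ∑ i ∈ X, a i * (d i : ℤ)) (hXcard : X.card = e) :
    q = 2 ∧ ∃ α : ℕ, 1 ≤ α ∧ e = 2 ^ α ∧ (α = 1 ∨ t = 2) := by
  have het : e * 2 ≤ e * t := Nat.mul_le_mul_left e ht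
  have hep : e < p := by omega
  have hg₀pos : 0 < g₀ := by omega
  have hcop : Nat.Coprime e p := by
    apply Nat.Coprime.symm
    apply (Nat.Prime.coprime_iff_not_dvd hp).2
    intro h
    have := Nat.le_of_dvd (by omega) h
    omega
  have hcog : Nat.Coprime e g₀ := by
    rw [hg₀]
    have h1 : Nat.gcd e (p - e) ∣ e := Nat.gcd_dvd_left _ _
    have h2 : Nat.gcd e (p - e) ∣ p - e := Nat.gcd_dvd_right _ _
    have h3 : Nat.gcd e (p - e) ∣ p := by
      have := Nat.dvd_add h2 h1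
      rwa [Nat.sub_add_cancel hep.le] at this
    have h4 : Nat.gcd e (p - e) ∣ Nat.gcd e p := Nat.dvd_gcd h1 h3
    rw [hcop.gcd_eq_one] at h4
    exact Nat.eq_one_of_dvd_one h4
  have heq : e ∣ q ^ b := by
    have h1 : e ∣ p * q ^ b := hcog.dvd_of_dvd_mul_right hedvd
    exact hcop.dvd_of_dvd_mul_left h1
  obtain ⟨α, hαb, hα⟩ := (Nat.dvd_prime_pow hq).1 heq
  have hα1 : 1 ≤ α := by
    by_contra hcon
    have : α = 0 := by omega
    rw [this, pow_zero] at hα
    omega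
  have hqe : q ∣ e := by
    rw [hα]
    exact dvd_pow_self q (by omega)
  have hep1 : e ∣ p - 1 := ⟨t, by omega⟩
  have hqp1 : q ∣ p - 1 := hqe.trans hep1
  -- the sum without the trivial index
  have hsplit : a triv * (d triv : ℤ) + ∑ i ∈ X.erase triv, a i * (d i : ℤ) =
      ∑ i ∈ X, a i * (d i : ℤ) := Finset.add_sum_erase X (fun i => a i * (d i : ℤ)) htriv
  rw [hatriv, hdtriv] at hsplit
  have hS : ∑ i ∈ X.erase triv, a i * (d i : ℤ) = -((g₀ : ℤ) + 1) := by
    push_cast at hsplit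
    linarith
  have hqS : (q : ℤ) ∣ ∑ i ∈ X.erase triv, a i * (d i : ℤ) := by
    apply Finset.dvd_sum
    intro i hi
    rw [Finset.mem_erase] at hi
    exact Dvd.dvd.mul_left (Int.natCast_dvd_natCast.2 (hqd i hi.2 hi.1)) _
  have hqg1 : q ∣ g₀ + 1 := by
    rw [hS, dvd_neg] at hqS
    exact_mod_cast hqS
  have hq2 : q = 2 := by
    have h1 : q ∣ g₀ + 1 + e := Nat.dvd_add hqg1 hqe
    have h2 : g₀ + 1 + e = (p - 1) + 2 := by omega
    rw [h2] at h1
    have h3 : q ∣ 2 := (Nat.dvd_add_right hqp1).1 h1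
    exact (Nat.prime_dvd_prime_iff_eq hq Nat.prime_two).1 h3
  subst hq2
  refine ⟨rfl, α, hα1, hα, ?_⟩
  by_contra hcon
  push Not at hcon
  obtain ⟨hαne, htne⟩ := hcon
  have h4e : 4 ∣ e := by
    rw [hα]
    obtain ⟨c, rfl⟩ : ∃ c, α = c + 2 := ⟨α - 2, by omega⟩
    rw [pow_add]
    exact Dvd.intro_left _ rfl
  have h4p1 : 4 ∣ p - 1 := h4e.trans hep1
  -- some `d i` is `2 μ` with `μ` odd
  have hex : ∃ i ∈ X, i ≠ triv ∧ ¬ 4 ∣ d i := by
    by_contra hno
    push Not at hno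
    have h4S : (4 : ℤ) ∣ ∑ i ∈ X.erase triv, a i * (d i : ℤ) := by
      apply Finset.dvd_sum
      intro i hi
      rw [Finset.mem_erase] at hi
      have : (4 : ℤ) ∣ (d i : ℤ) := by exact_mod_cast hno i hi.2 hi.1
      exact Dvd.dvd.mul_left this _
    rw [hS, dvd_neg] at h4S
    have h4g : 4 ∣ g₀ + 1 := by exact_mod_cast h4S
    have h1 : 4 ∣ g₀ + 1 + e := Nat.dvd_add h4g h4e
    have h2 : g₀ + 1 + e = (p - 1) + 2 := by omega
    rw [h2] at h1
    have h3 : 4 ∣ 2 := (Nat.dvd_add_right h4p1).1 h1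
    omega
  obtain ⟨i, hiX, hit, hi4⟩ := hex
  have hi2 : 2 ∣ d i := hqd i hiX hit
  obtain ⟨μ, hμ⟩ := hi2
  have hμodd : ¬ 2 ∣ μ := by
    intro h
    obtain ⟨c, rfl⟩ := h
    apply hi4
    exact ⟨c, by rw [hμ]; ring⟩
  have hdi := hdd i hiX
  have hμg : μ ∣ g₀ := by
    have h1 : μ ∣ 2 ^ b * g₀ := (Dvd.intro_left 2 hμ.symm).trans hdi
    have hco : Nat.Coprime μ (2 ^ b) := by
      apply Nat.Coprime.pow_right
      exact ((Nat.Prime.coprime_iff_not_dvd Nat.prime_two).2 hμodd).symm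
    exact hco.dvd_of_dvd_mul_left h1
  have hμle : μ ≤ g₀ := Nat.le_of_dvd hg₀pos hμg
  have hμpos : 0 < μ := Nat.pos_of_dvd_of_pos hμg hg₀pos
  obtain ⟨k, hk⟩ := hμg
  have hmodi := hmod i hiX
  rcases ha i hiX with hai | hai
  · -- `2 μ = p + 1`
    rw [hai, hμ] at hmodi
    have h1 : p ∣ 2 * μ - 1 := by
      have e1 : ((2 * μ : ℕ) : ℤ) - 1 = ((2 * μ - 1 : ℕ) : ℤ) := by
        have : 1 ≤ 2 * μ := by omega
        push_cast [this]
        ring
      rw [e1] at hmodi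
      exact_mod_cast hmodi
    have h2 := eq_of_dvd_of_lt_two_mul h1 (by omega) (by omega)
    -- `g₀ = μ k` with `g₀ < 2 μ`
    have hk1 : k = 1 := by
      rcases Nat.lt_or_ge k 2 with hk2 | hk2
      · have : k ≠ 0 := by
          rintro rfl
          simp at hk
          omega
        omega
      · exfalso
        have : μ * 2 ≤ μ * k := Nat.mul_le_mul_left μ hk2
        omega
    rw [hk1, mul_one] at hk
    -- `p = 2 e + 1`, so `t = 2`
    have hp2e : p = 2 * e + 1 := by omega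
    have : e * t = e * 2 := by omega
    exact htne (Nat.eq_of_mul_eq_mul_left (by omega) this)
  · -- `2 μ = p - 1`
    rw [hai, hμ] at hmodi
    have h1 : p ∣ 2 * μ + 1 := by
      have e1 : ((2 * μ : ℕ) : ℤ) - (-1) = ((2 * μ + 1 : ℕ) : ℤ) := by
        push_cast
        ring
      rw [e1] at hmodi
      exact_mod_cast hmodi
    have h2 := eq_of_dvd_of_lt_two_mul h1 (by omega) (by omega)
    have hk1 : k = 1 := by
      rcases Nat.lt_or_ge k 2 with hk2 | hk2
      · have : k ≠ 0 := by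
          rintro rfl
          simp at hk
          omega
        omega
      · exfalso
        have : μ * 2 ≤ μ * k := Nat.mul_le_mul_left μ hk2
        omega
    rw [hk1, mul_one] at hk
    omega

end Cfsg.Agent.Lib.Helper54.BTArith
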