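import Mathlib

/-!
# Baer's trick and coprime action with a normalizing `p`-group

For a finite `p`-group `P` (`p` odd) of class at most two, acted on by a group `Γ` with subgroups
`Q` (of order prime to `p`) and `E` (a `p`-group normalizing `Q`): if every `E`-fixed element of
order `p` of `P` is `Q`-fixed, then `Q` acts trivially on `P`.
-/

set_option autoImplicit false

namespace Cfsg.Agent.Lib.Helper54

open scoped commutatorElement

section AbelianFixed

variable {V Γ : Type*} [CommGroup V] [Group Γ] [MulDistribMulAction Γ V]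

/-- The norm map of a finite subgroup `Q` of `Γ` on the abelian group `V`. -/
noncomputable def normMap (Q : Subgroup Γ) [Fintype Q] : V →* V where
  toFun v := ∏ g : Q, (g : Γ) • v
  map_one' := by simp
  map_mul' v w := by
    simp only [smul_mul']
    exact Finset.prod_mul_distrib

theorem normMap_apply (Q : Subgroup Γ) [Fintype Q] (v : V) :
    normMap Q v = ∏ g : Q, (g : Γ) • v := rfl

theorem normMap_smul_of_mem (Q : Subgroup Γ) [Fintype Q] {h : Γ} (hh : h ∈ Q) (v : V) :
    normMap Q (h • v) = normMap Q v := by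
  rw [normMap_apply, normMap_apply]
  refine Fintype.prod_equiv (Equiv.mulRight (⟨h, hh⟩ : Q)) _ _ ?_
  intro g
  simp [smul_smul]

theorem normMap_of_fixed (Q : Subgroup Γ) [Fintype Q] {v : V} (hv : ∀ g ∈ Q, g • v = v) :
    normMap Q v = v ^ Nat.card Q := by
  rw [normMap_apply]
  have : ∀ g : Q, (g : Γ) • v = v := fun g => hv g g.2
  simp [this, Finset.prod_const, Finset.card_univ, Nat.card_eq_fintype_card]

theorem normMap_smul_of_normalizer (Q : Subgroup Γ) [Fintype Q] {e : Γ}
    (he : e ∈ Subgroup.normalizer (Q : Set Γ)) (v : V) :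
    normMap Q (e • v) = e • normMap Q v := by
  rw [normMap_apply, normMap_apply, Finset.smul_prod']
  let φ : Q ≃ Q :=
    { toFun := fun g => ⟨e⁻¹ * g * e, by
        have := (Subgroup.mem_normalizer_iff.mp (Subgroup.inv_mem _ he) (g : Γ)).mp g.2
        simpa using this⟩
      invFun := fun g => ⟨e * g * e⁻¹, (Subgroup.mem_normalizer_iff.mp he (g : Γ)).mp g.2⟩
      left_inv := fun g => by ext; simp [mul_assoc]
      right_inv := fun g => by ext; simp [mul_assoc] }
  refine Fintype.prod_equiv φ _ _ ?_
  intro g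
  simp only [φ, Equiv.coe_fn_mk, smul_smul]
  congr 1
  group

/-- Coprime action on an abelian `p`-group with a normalizing `p`-group: if all `E`-fixed elements
of order `p` are `Q`-fixed then `Q` acts trivially. -/
theorem abelian_fixed [Finite V] (p : ℕ) [Fact p.Prime] (hV : IsPGroup p V) (Q E : Subgroup Γ)
    [Finite Q] (hQ : (Nat.card Q).Coprime p) (hE : IsPGroup p E)
    (hEQ : E ≤ Subgroup.normalizer (Q : Set Γ))
    (hfix : ∀ v : V, orderOf v = p → (∀ e ∈ E, e • v = v) → ∀ g ∈ Q, g • v = v) :
    ∀ g ∈ Q, ∀ v : V, g • v = v := by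
  classical
  let _ : Fintype Q := Fintype.ofFinite Q
  set θ : V →* V := normMap Q with hθ
  by_cases hker : θ.ker = ⊥
  · intro g hg v
    have h1 : g • v / v ∈ θ.ker := by
      rw [MonoidHom.mem_ker, map_div, hθ, normMap_smul_of_mem Q hg, div_self']
    rw [hker, Subgroup.mem_bot, div_eq_one] at h1
    exact h1
  · exfalso
    -- the kernel is a nontrivial `E`-invariant `p`-group
    let S : SubMulAction E V :=
      { carrier := (θ.ker : Set V)
        smul_mem' := by
          intro e v hv
          have hv' : θ v = 1 := hv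
          show θ ((e : Γ) • v) = 1
          rw [hθ, normMap_smul_of_normalizer Q (hEQ e.2), ← hθ, hv', smul_one] }
    have hcardS : Nat.card S = Nat.card θ.ker := rfl
    have hpdvd : p ∣ Nat.card S := by
      rw [hcardS]
      obtain ⟨k, hk⟩ := (hV.to_subgroup θ.ker).exists_card_eq
      rw [hk]
      rcases Nat.eq_zero_or_pos k with h0 | h0
      · exfalso
        rw [h0, pow_zero] at hk
        exact hker (Subgroup.card_eq_one.mp hk)
      · exact dvd_pow_self p h0.ne'
    have h1fix : (⟨1, θ.ker.one_mem⟩ : S) ∈ MulAction.fixedPoints E S := by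
      intro e
      apply Subtype.ext
      show (e : Γ) • (1 : V) = 1
      exact smul_one _
    have : Finite S := Finite.of_injective (fun s : S => (s : V)) Subtype.val_injective
    obtain ⟨w, hwfix, hw1⟩ :=
      hE.exists_fixed_point_of_prime_dvd_card_of_fixed_point (α := S) hpdvd h1fix
    have hwV : (w : V) ≠ 1 := by
      intro h
      apply hw1
      apply Subtype.ext
      exact h.symm
    have hwker : θ (w : V) = 1 := w.2
    have hwE : ∀ e ∈ E, e • (w : V) = w := by
      intro e he
      have := hwfix ⟨e, he⟩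
      exact congrArg Subtype.val this
    -- an element of order `p`
    obtain ⟨k, hk⟩ := (IsPGroup.iff_orderOf.mp hV) (w : V)
    have hk0 : k ≠ 0 := by
      rintro rfl
      rw [pow_zero, orderOf_eq_one_iff] at hk
      exact hwV hk
    obtain ⟨j, rfl⟩ : ∃ j, k = j + 1 := Nat.exists_eq_succ_of_ne_zero hk0
    set w' : V := (w : V) ^ p ^ j with hw'
    have hw'ord : orderOf w' = p := by
      rw [hw', orderOf_pow_of_dvd (pow_ne_zero j (Fact.out : p.Prime).ne_zero)
        (by rw [hk]; exact pow_dvd_pow p (Nat.le_succ j)), hk, pow_succ,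
        Nat.mul_div_cancel_left _ (pow_pos (Fact.out : p.Prime).pos j)]
    have hw'E : ∀ e ∈ E, e • w' = w' := by
      intro e he
      rw [hw', smul_pow', hwE e he]
    have hw'Q := hfix w' hw'ord hw'E
    have hw'ker : θ w' = 1 := by rw [hw', map_pow, hwker, one_pow]
    rw [hθ, normMap_of_fixed Q hw'Q] at hw'ker
    have h1 : orderOf w' ∣ Nat.card Q := orderOf_dvd_of_pow_eq_one hw'ker
    rw [hw'ord] at h1
    have := Nat.Coprime.eq_one_of_dvd hQ.symm h1
    exact (Fact.out : p.Prime).one_lt.ne' this

end AbelianFixed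

/-! ### Baer's trick -/

/-- Data for Baer's trick: a group of class at most two all of whose elements have order dividing
the odd number `n = 2 h - 1`. -/
structure BaerData (P : Type*) [Group P] where
  /-- half of `n + 1` -/
  h : ℕ
  /-- an odd exponent -/
  n : ℕ
  two_h : 2 * h = n + 1
  pow_n : ∀ x : P, x ^ n = 1
  central : ∀ x y z : P, Commute ⁅x, y⁆ z

/-- The underlying set of `P`, to be given Baer's commutative group structure. -/
structure Baer {P : Type*} [Group P] (d : BaerData P) where
  /-- the underlying element -/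
  val : P

namespace Baer

variable {P : Type*} [Group P] (d : BaerData P)

theorem val_injective : Function.Injective (Baer.val : Baer d → P) := by
  rintro ⟨x⟩ ⟨y⟩ h
  cases h
  rfl

theorem ext' {x y : Baer d} (h : x.val = y.val) : x = y := val_injective d h

instance : Mul (Baer d) := ⟨fun x y => ⟨x.val * y.val * ⁅y.val, x.val⁆ ^ d.h⟩⟩
instance : One (Baer d) := ⟨⟨1⟩⟩
instance : Inv (Baer d) := ⟨fun x => ⟨x.val⁻¹⟩⟩

theorem mul_val (x y : Baer d) : (x * y).val = x.val * y.val * ⁅y.val, x.val⁆ ^ d.h := rfl
theorem one_val : (1 : Baer d).val = 1 := rfl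
theorem inv_val (x : Baer d) : (x⁻¹).val = x.val⁻¹ := rfl

theorem comm_mul_left (d : BaerData P) (x y z : P) : ⁅x * y, z⁆ = ⁅x, z⁆ * ⁅y, z⁆ := by
  rw [commutatorElement_mul_left_eq_conj_mul, ← (d.central y z x).eq, mul_inv_cancel_right,
    (d.central y z _).eq]

theorem comm_mul_right (d : BaerData P) (x y z : P) : ⁅x, y * z⁆ = ⁅x, y⁆ * ⁅x, z⁆ := by
  rw [commutatorElement_mul_right_eq_mul_conj, mul_assoc _ ⁅x, z⁆, (d.central x z y⁻¹).eq,
    mul_assoc, mul_inv_cancel_left]

theorem comm_pow_left (d : BaerData P) (x y z : P) (k : ℕ) : ⁅⁅x, y⁆ ^ k, z⁆ = 1 :=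
  ((d.central x y z).pow_left k).commutator_eq

theorem comm_pow_right (d : BaerData P) (x y z : P) (k : ℕ) : ⁅z, ⁅x, y⁆ ^ k⁆ = 1 :=
  ((d.central x y z).pow_left k).symm.commutator_eq

theorem pow_h_sq (d : BaerData P) (z : P) : z ^ d.h * z ^ d.h = z := by
  rw [← pow_add, ← two_mul, d.two_h, pow_succ, d.pow_n, one_mul]

theorem mul_assoc' (x y z : Baer d) : x * y * z = x * (y * z) := by
  apply ext'
  rw [mul_val, mul_val, mul_val, mul_val]
  rw [comm_mul_right d z.val (x.val * y.val), comm_pow_right d, mul_one,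
    comm_mul_right d z.val x.val y.val,
    comm_mul_left d (y.val * z.val), comm_pow_left d, mul_one,
    comm_mul_left d y.val z.val x.val]
  rw [(d.central z.val x.val ⁅z.val, y.val⁆).mul_pow, (d.central y.val x.val ⁅z.val, x.val⁆).mul_pow]
  set a := ⁅y.val, x.val⁆ ^ d.h with ha
  set b := ⁅z.val, x.val⁆ ^ d.h with hb
  set c := ⁅z.val, y.val⁆ ^ d.h with hc
  have hca : ∀ w : P, Commute a w := fun w => (d.central _ _ w).pow_left _
  have hcb : ∀ w : P, Commute b w := fun w => (d.central _ _ w).pow_left _
  have hcc : ∀ w : P, Commute c w := fun w => (d.central _ _ w).pow_left _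
  calc x.val * y.val * a * z.val * (b * c)
      = x.val * y.val * (a * z.val) * (b * c) := by simp only [mul_assoc]
    _ = x.val * y.val * (z.val * a) * (b * c) := by rw [(hca z.val).eq]
    _ = x.val * y.val * z.val * (a * (b * c)) := by simp only [mul_assoc]
    _ = x.val * y.val * z.val * (c * (a * b)) := by
        congr 1
        rw [(hcc (a * b)).eq, mul_assoc]
    _ = x.val * (y.val * z.val * c) * (a * b) := by simp only [mul_assoc]

theorem mul_comm' (x y : Baer d) : x * y = y * x := by
  apply ext'
  rw [mul_val, mul_val]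
  have h1 : x.val * y.val = ⁅x.val, y.val⁆ * (y.val * x.val) := by
    rw [commutatorElement_def]; group
  have h2 : ⁅y.val, x.val⁆ = ⁅x.val, y.val⁆⁻¹ := (commutatorElement_inv _ _).symm
  rw [h1, h2, inv_pow, (d.central x.val y.val (y.val * x.val)).eq, mul_assoc]
  congr 1
  rw [mul_inv_eq_iff_eq_mul, pow_h_sq d]

instance : CommGroup (Baer d) :=
  { Group.ofLeftAxioms (mul_assoc' d)
      (fun x => by apply ext'; rw [mul_val, one_val]; simp)
      (fun x => by apply ext'; rw [mul_val, inv_val, one_val]; simp [commutatorElement_def]) with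
    mul_comm := mul_comm' d }

theorem pow_val (x : Baer d) (k : ℕ) : (x ^ k).val = x.val ^ k := by
  induction k with
  | zero => rw [pow_zero, pow_zero]; rfl
  | succ k ih =>
    rw [pow_succ, pow_succ]
    change (x ^ k).val * x.val * ⁅x.val, (x ^ k).val⁆ ^ d.h = _
    rw [ih, ((Commute.refl x.val).pow_right k).commutator_eq, one_pow, mul_one]

theorem eq_one_iff (x : Baer d) : x = 1 ↔ x.val = 1 :=
  ⟨fun h => by rw [h]; rfl, fun h => ext' d h⟩

theorem orderOf_eq (x : Baer d) : orderOf x = orderOf x.val := by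
  rw [orderOf_eq_orderOf_iff]
  intro k
  rw [eq_one_iff, pow_val]

instance [Finite P] : Finite (Baer d) := Finite.of_injective _ (val_injective d)

theorem isPGroup {p : ℕ} (hP : IsPGroup p P) : IsPGroup p (Baer d) := by
  intro x
  obtain ⟨k, hk⟩ := hP x.val
  exact ⟨k, by rw [eq_one_iff, pow_val, hk]⟩

variable {Γ : Type*} [Group Γ] [MulDistribMulAction Γ P]

instance : MulDistribMulAction Γ (Baer d) where
  smul g x := ⟨g • x.val⟩
  one_smul x := by apply ext'; exact one_smul Γ x.val
  mul_smul g g' x := by apply ext'; exact mul_smul g g' x.val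
  smul_mul g x y := by
    apply ext'
    change g • (x.val * y.val * ⁅y.val, x.val⁆ ^ d.h) =
      g • x.val * g • y.val * ⁅g • y.val, g • x.val⁆ ^ d.h
    rw [smul_mul', smul_mul', smul_pow']
    congr 2
    exact map_commutatorElement (MulDistribMulAction.toMonoidHom P g) _ _
  smul_one g := by apply ext'; exact smul_one g

theorem smul_val (g : Γ) (x : Baer d) : (g • x).val = g • x.val := rfl

end Baer

/-- A finite `p`-group of odd order and class at most two carries Baer data. -/
noncomputable def baerDataOfOdd {P : Type*} [Group P] [Finite P] (hodd : Odd (Nat.card P))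
    (hcl : ∀ x y z : P, Commute ⁅x, y⁆ z) : BaerData P where
  h := (Nat.card P + 1) / 2
  n := Nat.card P
  two_h := by
    obtain ⟨k, hk⟩ := hodd
    rw [hk]
    omega
  pow_n := fun x => pow_card_eq_one'
  central := hcl

/-- Coprime action on a `p`-group of class at most two (`p` odd) with a normalizing `p`-group:
if all `E`-fixed elements of order `p` are `Q`-fixed then `Q` acts trivially. -/
theorem class_two_fixed {P Γ : Type*} [Group P] [Finite P] [Group Γ] [MulDistribMulAction Γ P]
    (p : ℕ) [Fact p.Prime] (hp2 : p ≠ 2) (hP : IsPGroup p P)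
    (hcl : ∀ x y z : P, Commute ⁅x, y⁆ z) (Q E : Subgroup Γ)
    [Finite Q] (hQ : (Nat.card Q).Coprime p) (hE : IsPGroup p E)
    (hEQ : E ≤ Subgroup.normalizer (Q : Set Γ))
    (hfix : ∀ v : P, orderOf v = p → (∀ e ∈ E, e • v = v) → ∀ g ∈ Q, g • v = v) :
    ∀ g ∈ Q, ∀ v : P, g • v = v := by
  have hodd : Odd (Nat.card P) := by
    obtain ⟨k, hk⟩ := hP.exists_card_eq
    rw [hk]
    exact ((Fact.out : p.Prime).odd_of_ne_two hp2).pow
  let d := baerDataOfOdd hodd hcl
  have key := abelian_fixed (V := Baer d) (Γ := Γ) p (Baer.isPGroup d hP) Q E hQ hE hEQ (by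
    intro v hv hvE g hg
    apply Baer.ext'
    rw [Baer.smul_val]
    apply hfix v.val (by rw [← Baer.orderOf_eq]; exact hv) _ g hg
    intro e he
    have := hvE e he
    rw [← Baer.smul_val, this])
  intro g hg v
  have := key g hg ⟨v⟩
  exact congrArg Baer.val this

end Cfsg.Agent.Lib.Helper54
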