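import Mathlib
import Cfsg.Agent.Lib.Helper80.Berger.WolfDefs

/-!
# S0889-[INDEP]  (helper80's Berger / Wolf sheet)

Coset representatives of `Z(E)` in `E` are linearly independent in `End(V)`; hence
`|E : Z(E)| ≤ (dim V)^2`.
-/

set_option autoImplicit false
set_option linter.unusedVariables false
set_option linter.unusedSectionVars false

namespace Cfsg.Agent.Lib.Helper54.BergerIndep

open Cfsg.Agent.Lib.Helper80.Wolf

universe u v

open scoped commutatorElement

section Indep

variable {K : Type v} [Field K] {V : Type v} [AddCommGroup V] [Module K V] {X : Type u} [Group X]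

/-- conjugating `ρ t` by `ρ g` multiplies it by a scalar. -/
theorem exists_conj_scalar (ρ : X →* (V ≃ₗ[K] V))
    (E : Subgroup X) (hcl : ∀ a ∈ E, ∀ b ∈ E, ∀ c ∈ E, ⁅a, b⁆ * c = c * ⁅a, b⁆)
    (hsc : ∀ z ∈ E, (∀ e ∈ E, z * e = e * z) → IsScalar ρ z)
    (g t : X) (hg : g ∈ E) (ht : t ∈ E) :
    ∃ μ : K, ∀ w : V, ρ (g * t * g⁻¹) w = μ • ρ t w := by
  have hz : ⁅g, t⁆ ∈ E := by
    rw [commutatorElement_def]
    exact E.mul_mem (E.mul_mem (E.mul_mem hg ht) (E.inv_mem hg)) (E.inv_mem ht)
  obtain ⟨μ, hμ⟩ := hsc ⁅g, t⁆ hz (fun e he => hcl g hg t ht e he)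
  refine ⟨μ, fun w => ?_⟩
  have h1 : g * t * g⁻¹ = ⁅g, t⁆ * t := by
    rw [commutatorElement_def]; group
  rw [h1, map_mul]
  exact hμ (ρ t w)

theorem linearIndependent_reps [Nontrivial V] (ρ : X →* (V ≃ₗ[K] V))
    (hρ : Function.Injective ρ)
    (E : Subgroup X) (hcl : ∀ a ∈ E, ∀ b ∈ E, ∀ c ∈ E, ⁅a, b⁆ * c = c * ⁅a, b⁆)
    (hsc : ∀ z ∈ E, (∀ e ∈ E, z * e = e * z) → IsScalar ρ z)
    {ι : Type*} (f : ι → X) (hfE : ∀ i, f i ∈ E)
    (hf : ∀ i j, i ≠ j → (f i)⁻¹ * f j ∉ Subgroup.centralizer (E : Set X)) :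
    LinearIndependent K (fun i => ((ρ (f i)).toLinearMap : Module.End K V)) := by
  classical
  rw [linearIndependent_iff']
  intro S
  induction S using Finset.induction_on with
  | empty => intro c _ i hi; simp at hi
  | insert s S' hs IH =>
    intro c hrel
    -- all coefficients on S' vanish
    have hS' : ∀ i ∈ S', c i = 0 := by
      intro s' hs'
      have hne : s ≠ s' := fun h => hs (h ▸ hs')
      -- find g ∈ E not commuting with (f s)⁻¹ * f s'
      have hnc := hf s s' hne
      rw [Subgroup.mem_centralizer_iff] at hnc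
      push Not at hnc
      obtain ⟨g, hgE, hgne⟩ := hnc
      have hgE' : g ∈ E := hgE
      -- scalars
      have hex : ∀ i, ∃ μ : K, ∀ w : V, ρ (g * f i * g⁻¹) w = μ • ρ (f i) w :=
        fun i => exists_conj_scalar ρ E hcl hsc g (f i) hgE' (hfE i)
      choose μ hμ using hex
      -- the scalars of s and s' differ
      have hμne : μ s' ≠ μ s := by
        intro heq
        apply hgne
        -- g commutes with (f s)⁻¹ * f s'
        have hμs0 : μ s ≠ 0 := by
          intro h0
          obtain ⟨v, hv⟩ := exists_ne (0 : V)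
          have := hμ s v
          rw [h0, zero_smul] at this
          exact hv ((ρ (g * f s * g⁻¹)).map_eq_zero_iff.mp this)
        have hconj : ρ (g * ((f s)⁻¹ * f s') * g⁻¹) = ρ ((f s)⁻¹ * f s') := by
          have h1 : g * ((f s)⁻¹ * f s') * g⁻¹ = (g * f s * g⁻¹)⁻¹ * (g * f s' * g⁻¹) := by group
          rw [h1, map_mul, map_mul _ (f s)⁻¹, map_inv, map_inv]
          ext w
          simp only [LinearEquiv.mul_apply]
          -- (ρ (g f s g⁻¹))⁻¹ (ρ (g f s' g⁻¹) w) = (ρ (f s))⁻¹ (ρ (f s') w)
          have h2 : ρ (g * f s' * g⁻¹) w = μ s • ρ (f s') w := by rw [hμ s' w, heq]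
          rw [h2]
          have h3 : ∀ y : V, (ρ (g * f s * g⁻¹))⁻¹ (μ s • y) = (ρ (f s))⁻¹ y := by
            intro y
            have h4 : ρ (g * f s * g⁻¹) ((ρ (f s))⁻¹ y) = μ s • y := by
              rw [hμ s]
              congr 1
              show (ρ (f s) * (ρ (f s))⁻¹) y = y
              rw [mul_inv_cancel]; rfl
            rw [← h4]
            show ((ρ (g * f s * g⁻¹))⁻¹ * ρ (g * f s * g⁻¹)) ((ρ (f s))⁻¹ y) = _
            rw [inv_mul_cancel]; rfl
          exact h3 _
        have h5 := hρ hconj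
        -- g * x * g⁻¹ = x → x * g = g * x
        have : g * ((f s)⁻¹ * f s') = ((f s)⁻¹ * f s') * g := by
          calc g * ((f s)⁻¹ * f s') = (g * ((f s)⁻¹ * f s') * g⁻¹) * g := by group
            _ = ((f s)⁻¹ * f s') * g := by rw [h5]
        exact this
      -- conjugated relation
      have hrel2 : ∑ i ∈ insert s S', (c i * μ i) • ((ρ (f i)).toLinearMap : Module.End K V) = 0 := by
        have h6 : ∀ i, ((ρ (g * f i * g⁻¹)).toLinearMap : Module.End K V)
            = μ i • ((ρ (f i)).toLinearMap : Module.End K V) := by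
          intro i
          ext w
          simp only [LinearEquiv.coe_coe, LinearMap.smul_apply]
          exact hμ i w
        have h7 : ∀ i, ((ρ (g * f i * g⁻¹)).toLinearMap : Module.End K V)
            = (ρ g).toLinearMap * (ρ (f i)).toLinearMap * (ρ g⁻¹).toLinearMap := by
          intro i
          ext w
          simp [map_mul]
        have h8 : (ρ g).toLinearMap * (∑ i ∈ insert s S', c i • ((ρ (f i)).toLinearMap : Module.End K V))
            * (ρ g⁻¹).toLinearMap = 0 := by
          rw [hrel]; simp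
        rw [Finset.mul_sum, Finset.sum_mul] at h8
        rw [← h8]
        apply Finset.sum_congr rfl
        intro i _
        rw [mul_smul_comm, smul_mul_assoc, ← h7, h6, smul_smul]
      -- subtract
      have hrel3 : ∑ i ∈ S', (c i * (μ i - μ s)) • ((ρ (f i)).toLinearMap : Module.End K V) = 0 := by
        have h9 : ∑ i ∈ insert s S', (c i * (μ i - μ s)) • ((ρ (f i)).toLinearMap : Module.End K V) = 0 := by
          have : ∀ i, (c i * (μ i - μ s)) • ((ρ (f i)).toLinearMap : Module.End K V)
              = (c i * μ i) • ((ρ (f i)).toLinearMap : Module.End K V)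
                - μ s • (c i • ((ρ (f i)).toLinearMap : Module.End K V)) := by
            intro i
            rw [smul_smul, ← sub_smul]
            congr 1; ring
          simp_rw [this]
          rw [Finset.sum_sub_distrib, ← Finset.smul_sum, hrel, hrel2]
          simp
        rw [Finset.sum_insert hs] at h9
        simpa using h9
      have h10 := IH (fun i => c i * (μ i - μ s)) hrel3 s' hs'
      have h11 : μ s' - μ s ≠ 0 := sub_ne_zero.mpr hμne
      exact (mul_eq_zero.mp h10).resolve_right h11
    intro i hi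
    rw [Finset.mem_insert] at hi
    rcases hi with rfl | hi
    · rw [Finset.sum_insert hs] at hrel
      have h12 : ∑ j ∈ S', c j • ((ρ (f j)).toLinearMap : Module.End K V) = 0 := by
        apply Finset.sum_eq_zero
        intro j hj
        rw [hS' j hj, zero_smul]
      rw [h12, add_zero] at hrel
      by_contra hc
      obtain ⟨v, hv⟩ := exists_ne (0 : V)
      have h13 := congrArg (fun A : Module.End K V => A v) hrel
      simp only [LinearMap.smul_apply, LinearEquiv.coe_coe, LinearMap.zero_apply] at h13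
      rcases smul_eq_zero.mp h13 with h | h
      · exact hc h
      · exact hv ((ρ (f i)).map_eq_zero_iff.mp h)
    · exact hS' i hi

/-- [INDEP] (with the necessary extra hypothesis `[Nontrivial V]`). -/
theorem relIndex_center_le_sq [Finite V] [Nontrivial V] [Finite X] (ρ : X →* (V ≃ₗ[K] V))
    (hρ : Function.Injective ρ)
    (E : Subgroup X) (hcl : ∀ a ∈ E, ∀ b ∈ E, ∀ c ∈ E, ⁅a, b⁆ * c = c * ⁅a, b⁆)
    (hsc : ∀ z ∈ E, (∀ e ∈ E, z * e = e * z) → IsScalar ρ z) :
    (E ⊓ Subgroup.centralizer (E : Set X)).relIndex E ≤ (Module.finrank K V) ^ 2 := by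
  classical
  set Z' : Subgroup E := (E ⊓ Subgroup.centralizer (E : Set X)).subgroupOf E with hZ'
  have : Module.Finite K V := Module.Finite.of_finite
  have : Fintype (E ⧸ Z') := Fintype.ofFinite _
  let f : E ⧸ Z' → X := fun q => ((Quotient.out q : E) : X)
  have hfE : ∀ q, f q ∈ E := fun q => (Quotient.out q : E).2
  have hf : ∀ i j, i ≠ j → (f i)⁻¹ * f j ∉ Subgroup.centralizer (E : Set X) := by
    intro i j hij hmem
    apply hij
    have h1 : (Quotient.out i : E)⁻¹ * (Quotient.out j : E) ∈ Z' := by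
      show _ ∈ (E ⊓ Subgroup.centralizer (E : Set X)).subgroupOf E
      rw [Subgroup.mem_subgroupOf]
      refine ⟨?_, ?_⟩
      · exact E.mul_mem (E.inv_mem (hfE i)) (hfE j)
      · exact hmem
    have h2 : ((Quotient.out i : E) : E ⧸ Z') = ((Quotient.out j : E) : E ⧸ Z') :=
      QuotientGroup.eq.mpr h1
    have h3 : ∀ q : E ⧸ Z', ((Quotient.out q : E) : E ⧸ Z') = q := fun q => Quotient.out_eq' q
    rw [h3, h3] at h2
    exact h2
  have hli := linearIndependent_reps ρ hρ E hcl hsc f hfE hf
  have hcard := hli.fintype_card_le_finrank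
  have hfin : Module.finrank K (Module.End K V) = (Module.finrank K V) ^ 2 := by
    rw [Module.finrank_linearMap, sq]
  rw [hfin] at hcard
  have : (E ⊓ Subgroup.centralizer (E : Set X)).relIndex E = Fintype.card (E ⧸ Z') := by
    rw [Subgroup.relIndex, Subgroup.index, Nat.card_eq_fintype_card]
  rw [this]
  exact hcard

end Indep

end Cfsg.Agent.Lib.Helper54.BergerIndep
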