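import Mathlib
import Cfsg.Agent.Lib.Helper37.BHRSU5.Defs
import Cfsg.Agent.Lib.Helper99.FrobElt

/-!
# BHRSU5-[B2] (hedge, helper54): unitary determinant-one elements of `K0 = F_4[Zc]` are powers of `Zc`
-/

set_option autoImplicit false

namespace Cfsg.Agent.Lib.Helper54.Bhrsu5B2

open Cfsg Cfsg.Geo Cfsg.Agent.Lib.Helper37.BHRSU5
open Cfsg.Agent.Lib.Helper56.F4 (w v)
open scoped Matrix

instance charP_F4c : CharP F4c 2 := CharTwo.of_one_ne_zero_of_two_eq_zero (by decide) (by decide)

/-- `hc` through the Frobenius ring homomorphism -/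
lemma hc_eq (M : M5) : hc M = (M.map (frobenius F4c 2))ᵀ := rfl

lemma hc_add' (M N : M5) : hc (M + N) = hc M + hc N := by
  rw [hc_eq, hc_eq, hc_eq, Matrix.map_add _ (map_add _), Matrix.transpose_add]

lemma hc_mul' (M N : M5) : hc (M * N) = hc N * hc M := by
  rw [hc_eq, hc_eq, hc_eq, Matrix.map_mul, Matrix.transpose_mul]

lemma hc_algebraMap (c : F4c) : hc (algebraMap F4c M5 c) = algebraMap F4c M5 (c ^ 2) := by
  rw [hc_eq, Matrix.algebraMap_eq_diagonal, Matrix.algebraMap_eq_diagonal]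
  ext i j
  by_cases h : i = j
  · subst h; simp [frobenius_def]
  · simp [Matrix.diagonal_apply_ne _ h, Matrix.diagonal_apply_ne _ (Ne.symm h)]

set_option maxRecDepth 100000 in
lemma hc_Zc : hc Zc = Zc ^ 32 := by decide

/-- Frobenius: `hc k = k ^ 32` on `K0` -/
lemma hc_eq_pow (hK0 : IsFieldSubalgebra 5 K0) (k : M5) (hk : k ∈ K0) : hc k = k ^ 32 := by
  unfold K0 at hk
  induction hk using Algebra.adjoin_induction with
  | mem x hx =>
    rw [Set.mem_singleton_iff] at hx
    subst hx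
    exact hc_Zc
  | algebraMap c =>
    rw [hc_algebraMap, ← map_pow]
    congr 1
    revert c
    decide
  | add x y hx hy ihx ihy =>
    rw [hc_add', ihx, ihy]
    have hcomm : Commute x y := hK0.comm x hx y hy
    have := add_pow_char_pow_of_commute 2 5 hcomm
    norm_num at this
    exact this.symm
  | mul x y hx hy ihx ihy =>
    rw [hc_mul', ihx, ihy]
    have hcomm : Commute x y := hK0.comm x hx y hy
    rw [hcomm.mul_pow, (hcomm.pow_pow 32 32).eq]

/-- in a commutative domain, `n` distinct `n`-th roots of unity are all of them -/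
lemma eq_of_pow_eq_one {R : Type*} [CommRing R] [IsDomain R] {n : ℕ} (hn : 0 < n) (f : Fin n → R)
    (hf : Function.Injective f) (hroot : ∀ i, f i ^ n = 1) (x : R) (hx : x ^ n = 1) : ∃ i, x = f i := by
  classical
  have hsub : Finset.univ.image f ⊆ Polynomial.nthRootsFinset n (1 : R) := by
    intro y hy
    obtain ⟨i, -, rfl⟩ := Finset.mem_image.mp hy
    exact (Polynomial.mem_nthRootsFinset hn 1).mpr (hroot i)
  have hcard : (Polynomial.nthRootsFinset n (1 : R)).card ≤ (Finset.univ.image f).card := by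
    rw [Finset.card_image_of_injective _ hf, Finset.card_univ, Fintype.card_fin]
    unfold Polynomial.nthRootsFinset
    exact (Multiset.toFinset_card_le _).trans (Polynomial.card_nthRoots n 1)
  have heq := Finset.eq_of_subset_of_card_le hsub hcard
  have hxm : x ∈ Finset.univ.image f := by
    rw [heq]
    exact (Polynomial.mem_nthRootsFinset hn 1).mpr hx
  obtain ⟨i, -, hi⟩ := Finset.mem_image.mp hxm
  exact ⟨i, hi.symm⟩

set_option maxRecDepth 100000 in
lemma Zc_pow_eleven' : Zc ^ 11 = 1 := by decide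

set_option maxRecDepth 100000 in
lemma Zc_pow_inj' : ∀ a b : Fin 11, Zc ^ (a : ℕ) = Zc ^ (b : ℕ) → a = b := by decide

lemma det_Zc' : Zc.det = 1 := by
  have h : Zc.det ^ 11 = 1 := by rw [← Matrix.det_pow, Zc_pow_eleven', Matrix.det_one]
  revert h
  generalize Zc.det = d
  revert d
  decide

/-- **BHRSU5-[B2]** -/
theorem unitary_mem_K0 (hK0 : IsFieldSubalgebra 5 K0) (k : M5) (hk : k ∈ K0) (hu : IsU k) (hd : k.det = 1) :
    ∃ a : ℕ, k = Zc ^ a := by
  classical
  -- `k ^ 33 = 1`
  have h33 : k ^ 33 = 1 := by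
    have h1 : hc k * k = 1 := by
      have : (kᵀ * k.map (· ^ 2))ᵀ = 1 := by rw [hu, Matrix.transpose_one]
      rwa [Matrix.transpose_mul, Matrix.transpose_transpose] at this
    rw [hc_eq_pow hK0 k hk] at h1
    rw [pow_succ]
    exact h1
  let _ := Cfsg.Agent.Lib.Helper99.FieldNorm.fieldK hK0 (by norm_num)
  set κ : ↥K0 := ⟨k, hk⟩ with hκ
  have hκ33 : κ ^ 33 = 1 := Subtype.ext (by simpa using h33)
  set ζ : ↥K0 := ⟨Zc, Algebra.subset_adjoin (Set.mem_singleton _)⟩ with hζ
  have hζ11 : ζ ^ 11 = 1 := Subtype.ext (by simpa using Zc_pow_eleven')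
  -- eleventh roots of unity
  obtain ⟨a, ha⟩ := eq_of_pow_eq_one (R := ↥K0) (n := 11) (by norm_num) (fun i => ζ ^ (i : ℕ))
    (by
      intro i j hij
      have : Zc ^ (i : ℕ) = Zc ^ (j : ℕ) := by simpa using congrArg Subtype.val hij
      exact Zc_pow_inj' i j this)
    (by
      intro i
      rw [← pow_mul, mul_comm, pow_mul, hζ11, one_pow])
    (κ ^ 3) (by rw [← pow_mul]; exact hκ33)
  -- cube roots of unity
  obtain ⟨b, hb⟩ := eq_of_pow_eq_one (R := ↥K0) (n := 3) (by norm_num)
    (fun i => algebraMap F4c ↥K0 (![1, w, v] i))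
    (by
      intro i j hij
      have h1 := (algebraMap F4c ↥K0).injective hij
      revert h1
      fin_cases i <;> fin_cases j <;> decide)
    (by
      intro i
      rw [← map_pow]
      have : (![1, w, v] i : F4c) ^ 3 = 1 := by fin_cases i <;> decide
      rw [this, map_one])
    (κ ^ 11) (by rw [← pow_mul]; exact hκ33)
  -- `κ = (κ^3)^4 * (κ^11)^2`
  have hκeq : κ = (κ ^ 3) ^ 4 * (κ ^ 11) ^ 2 := by
    rw [← pow_mul, ← pow_mul, ← pow_add]
    have : κ ^ (3 * 4 + 11 * 2) = κ ^ 33 * κ := by rw [← pow_succ]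
    rw [this, hκ33, one_mul]
  rw [ha, hb] at hκeq
  have hkeq : k = (Zc ^ (a : ℕ)) ^ 4 * (algebraMap F4c M5 (![1, w, v] b)) ^ 2 := by
    have := congrArg Subtype.val hκeq
    simpa using this
  -- determinant
  have hdet : (![1, w, v] b : F4c) ^ 10 = 1 := by
    have h := hd
    rw [hkeq, Matrix.det_mul, Matrix.det_pow, Matrix.det_pow, Matrix.det_pow, det_Zc', one_pow, one_pow, one_mul,
      Algebra.algebraMap_eq_smul_one, Matrix.det_smul, Matrix.det_one, mul_one, Fintype.card_fin, ← pow_mul] at h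
    exact h
  have hb0 : (![1, w, v] b : F4c) = 1 := by
    revert hdet
    fin_cases b <;> decide
  refine ⟨(a : ℕ) * 4, ?_⟩
  rw [hkeq, hb0, map_one, one_pow, mul_one, pow_mul]

end Cfsg.Agent.Lib.Helper54.Bhrsu5B2
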