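/-
helper54: module BLK-[1B] of helper94's project (S5634 part 2, blocks of dimension m ≥ 2):
`mem_stabDec_of_forall`: a linear equivalence mapping every non-zero vector of every member of the decomposition
into some member lies in the stabiliser of the decomposition.
-/
import Mathlib
import Cfsg.Agent.Lib.Helper94.Blk.Ex

set_option autoImplicit false

namespace Cfsg.Agent.Lib.Helper54.Blk1B

open Cfsg.Agent.Lib.Helper94 Cfsg.Agent.Lib.Helper94.SympData Cfsg.Agent.Lib.Helper94.Blk

variable {K V : Type*} [Field K] [AddCommGroup V] [Module K V] [FiniteDimensional K V]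
  {t m : ℕ} {D : Fin t → Submodule K V}

/-- [BLK-1B] -/
theorem mem_stabDec_of_forall (hD : LDecomp m D) (hm : 1 ≤ m) {g : V ≃ₗ[K] V}
    (h : ∀ i, ∀ v ∈ D i, v ≠ 0 → ∃ l, g v ∈ D l) : g ∈ stabDec D := by
  classical
  have hex : ∀ i : Fin t, ∃ v ∈ D i, v ≠ 0 := fun i => exists_mem_ne_zero hD hm i
  choose w hwD hw0 using hex
  have hex2 : ∀ i : Fin t, ∃ l, g (w i) ∈ D l := fun i => h i (w i) (hwD i) (hw0 i)
  choose π hπ using hex2
  have hg0 : ∀ x : V, g x = 0 → x = 0 := fun x hx => by
    have := g.injective (hx.trans (map_zero g).symm)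
    exact this
  -- Claim A
  have hA : ∀ i, ∀ v ∈ D i, g v ∈ D (π i) := by
    intro i v hv
    by_cases hv0 : v = 0
    · rw [hv0, map_zero]; exact zero_mem _
    obtain ⟨l, hl⟩ := h i v hv hv0
    by_cases hlπ : l = π i
    · rw [← hlπ]; exact hl
    exfalso
    have hu : v + w i ∈ D i := add_mem hv (hwD i)
    have hu0 : v + w i ≠ 0 := by
      intro h0
      have h1 : g v = - g (w i) := by
        have : g (v + w i) = 0 := by rw [h0, map_zero]
        rw [map_add] at this
        exact eq_neg_of_add_eq_zero_left this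
      have h2 : g v ∈ D (π i) := by rw [h1]; exact neg_mem (hπ i)
      exact hv0 (hg0 v (hD.eq_zero_of_mem_of_mem hlπ hl h2))
    obtain ⟨l2, hl2⟩ := h i (v + w i) hu hu0
    have hsum : g (v + w i) = g v + g (w i) := map_add g v (w i)
    have h3 : l2 = l := by
      by_contra hne
      have h4 : hD.pr l (g (v + w i)) = 0 := hD.pr_of_mem_ne hne hl2
      rw [hsum, map_add, hD.pr_of_mem hl, hD.pr_of_mem_ne (Ne.symm hlπ) (hπ i), add_zero] at h4
      exact hv0 (hg0 v h4)
    have h5 : l2 = π i := by
      by_contra hne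
      have h4 : hD.pr (π i) (g (v + w i)) = 0 := hD.pr_of_mem_ne hne hl2
      rw [hsum, map_add, hD.pr_of_mem (hπ i), hD.pr_of_mem_ne hlπ hl, zero_add] at h4
      exact hw0 i (hg0 _ h4)
    exact hlπ (h3.symm.trans h5)
  -- Claim B
  have hB : ∀ i, (D i).map (g : V →ₗ[K] V) = D (π i) := by
    intro i
    apply Submodule.eq_of_le_of_finrank_eq
    · rintro _ ⟨v, hv, rfl⟩
      exact hA i v hv
    · have h1 : Module.finrank K ((D i).map (g : V →ₗ[K] V)) = Module.finrank K (D i) :=
        LinearEquiv.finrank_map_eq g (D i)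
      rw [h1, hD.finrank_eq, hD.finrank_eq]
  -- injectivity
  have hinj : Function.Injective π := by
    intro i i' hii
    by_contra hne
    have h1 : (D i).map (g : V →ₗ[K] V) = (D i').map (g : V →ₗ[K] V) := by
      rw [hB i, hB i', hii]
    have h2 : D i = D i' := Submodule.map_injective_of_injective (f := (g : V →ₗ[K] V)) g.injective h1
    have h3 : w i ∈ D i' := h2 ▸ hwD i
    exact hw0 i (hD.eq_zero_of_mem_of_mem hne (hwD i) h3)
  have hbij : Function.Bijective π := Finite.injective_iff_bijective.1 hinj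
  rw [mem_stabDec]
  exact ⟨Equiv.ofBijective π hbij, fun i => by rw [Equiv.ofBijective_apply]; exact hB i⟩

end Cfsg.Agent.Lib.Helper54.Blk1B
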