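import Cfsg.Agent.Lib.Helper54.Baer
import Cfsg.Agent.S0028
import Cfsg.Agent.Lib.Helper54.PLocal

/-!
# A `p'`-group normalized by a `p`-group acting on a `p`-group

Let `P` be a `p`-group normalized by a `p'`-group `Q` and a `p`-group `E`, where `E` normalizes `Q`.
If `p` is odd and every element of order `p` of `C_P(E)` centralizes `Q`, then `Q` centralizes `P`.
-/

set_option autoImplicit false

namespace Cfsg.Agent.Lib.Helper54

open scoped commutatorElement

variable {X : Type*} [Group X]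

/-- The class-two case, via Baer's trick. -/
theorem class_two_centralizes [Finite X] (p : ℕ) [Fact p.Prime] (hp2 : p ≠ 2)
    (P Q E : Subgroup X) (hP : IsPGroup p P)
    (hcl : ∀ x ∈ P, ∀ y ∈ P, ∀ z ∈ P, Commute ⁅x, y⁆ z)
    (hQ : (Nat.card Q).Coprime p) (hE : IsPGroup p E)
    (hQP : Q ≤ Subgroup.normalizer (P : Set X)) (hEP : E ≤ Subgroup.normalizer (P : Set X))
    (hEQ : E ≤ Subgroup.normalizer (Q : Set X))
    (hfix : ∀ x ∈ P, orderOf x = p → x ∈ Subgroup.centralizer (E : Set X) →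
      x ∈ Subgroup.centralizer (Q : Set X)) :
    Q ≤ Subgroup.centralizer (P : Set X) := by
  set N : Subgroup X := Subgroup.normalizer (P : Set X) with hN
  have hclP : ∀ x y z : P, Commute ⁅x, y⁆ z := by
    intro x y z
    have := hcl x x.2 y y.2 z z.2
    unfold Commute SemiconjBy at this ⊢
    apply Subtype.ext
    simpa [commutatorElement_def] using this
  have hQ' : (Nat.card (Q.subgroupOf N)).Coprime p := by
    rw [Nat.card_congr (Subgroup.subgroupOfEquivOfLe hQP).toEquiv]; exact hQ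
  have hE' : IsPGroup p (E.subgroupOf N) := hE.comap_subtype
  have hEQ' : E.subgroupOf N ≤ Subgroup.normalizer ((Q.subgroupOf N : Subgroup N) : Set N) := by
    intro e he
    rw [Subgroup.mem_normalizer_iff]
    intro g
    rw [Subgroup.mem_subgroupOf, Subgroup.mem_subgroupOf]
    have := Subgroup.mem_normalizer_iff.mp (hEQ (Subgroup.mem_subgroupOf.mp he)) (g : X)
    simpa using this
  have key := class_two_fixed (P := P) (Γ := N) p hp2 hP hclP (Q.subgroupOf N) (E.subgroupOf N)
    hQ' hE' hEQ' (by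
      intro v hv hvE g hg
      have h1 : (v : X) ∈ Subgroup.centralizer (E : Set X) := by
        rw [Subgroup.mem_centralizer_iff]
        intro e he
        have h2 := hvE ⟨e, hEP he⟩ (Subgroup.mem_subgroupOf.mpr he)
        have h3 : e * (v : X) * e⁻¹ = v := congrArg Subtype.val h2
        calc e * (v : X) = (e * (v : X) * e⁻¹) * e := by group
          _ = (v : X) * e := by rw [h3]
      have h4 := hfix v v.2 (by rw [Subgroup.orderOf_coe]; exact hv) h1
      rw [Subgroup.mem_centralizer_iff] at h4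
      have h5 := h4 g (Subgroup.mem_subgroupOf.mp hg)
      apply Subtype.ext
      show (g : X) * v * (g : X)⁻¹ = v
      rw [h5]; group)
  intro g hg
  rw [Subgroup.mem_centralizer_iff]
  intro x hx
  have h1 := key ⟨g, hQP hg⟩ (Subgroup.mem_subgroupOf.mpr hg) ⟨x, hx⟩
  have h2 : g * x * g⁻¹ = x := congrArg Subtype.val h1
  calc x * g = (g * x * g⁻¹) * g := by rw [h2]
    _ = g * x := by group

/-- Auxiliary form of `core_odd`, by induction on the order of `P`. -/
theorem core_odd_aux [Finite X] (p : ℕ) [Fact p.Prime] (hp2 : p ≠ 2)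
    (Q E : Subgroup X) (hQ : (Nat.card Q).Coprime p) (hE : IsPGroup p E)
    (hEQ : E ≤ Subgroup.normalizer (Q : Set X)) :
    ∀ (n : ℕ) (P : Subgroup X), Nat.card P = n → IsPGroup p P →
      Q ≤ Subgroup.normalizer (P : Set X) → E ≤ Subgroup.normalizer (P : Set X) →
      (∀ x ∈ P, orderOf x = p → x ∈ Subgroup.centralizer (E : Set X) →
        x ∈ Subgroup.centralizer (Q : Set X)) →
      Q ≤ Subgroup.centralizer (P : Set X) := by
  intro n
  induction n using Nat.strong_induction_on with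
  | _ n ih =>
    intro P hcard hP hQP hEP hfix
    have hprop : ∀ V : Subgroup X, V ≤ P → V ≠ P → Q ≤ Subgroup.normalizer (V : Set X) →
        E ≤ Subgroup.normalizer (V : Set X) → Q ≤ Subgroup.centralizer (V : Set X) := by
      intro V hVP hne hQV hEV
      have hlt : Nat.card V < n := by
        rw [← hcard]
        exact Set.Finite.card_lt_card (Set.toFinite _)
          (SetLike.coe_ssubset_coe.mpr (lt_of_le_of_ne hVP hne))
      exact ih (Nat.card V) hlt V rfl (hP.to_le hVP) hQV hEV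
        (fun x hx => hfix x (hVP hx))
    by_cases hW : ⁅P, Q⁆ = P
    · by_cases hPbot : P = ⊥
      · rw [hPbot]
        intro g _
        rw [Subgroup.mem_centralizer_iff]
        intro h hh
        have : h = 1 := by simpa using hh
        rw [this, one_mul, mul_one]
      have hPP : P ≤ Subgroup.normalizer (P : Set X) := Subgroup.le_normalizer
      have hD_le : ⁅P, P⁆ ≤ P := Subgroup.le_normalizer_iff_commutator_le_left.mp hPP
      have hDne : ⁅P, P⁆ ≠ P :=
        fun h => hPbot (Cfsg.Agent.S0028.eq_bot_of_commutator_eq hP hP hPP h)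
      have hQD : Q ≤ Subgroup.normalizer ((⁅P, P⁆ : Subgroup X) : Set X) :=
        Cfsg.Agent.S0028.le_normalizer_commutator hQP hQP
      have hED : E ≤ Subgroup.normalizer ((⁅P, P⁆ : Subgroup X) : Set X) :=
        Cfsg.Agent.S0028.le_normalizer_commutator hEP hEP
      have hQcD := hprop ⁅P, P⁆ hD_le hDne hQD hED
      have e0 : ⁅⁅P, P⁆, Q⁆ = ⊥ := by
        rw [Subgroup.commutator_eq_bot_iff_le_centralizer]
        exact Subgroup.le_centralizer_iff.mp hQcD
      have e1 : ⁅⁅Q, ⁅P, P⁆⁆, P⁆ = ⊥ := by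
        rw [Subgroup.commutator_comm Q, e0, Subgroup.commutator_bot_left]
      have e2 : ⁅⁅⁅P, P⁆, P⁆, Q⁆ = ⊥ := by
        have h1 : ⁅⁅P, P⁆, P⁆ ≤ ⁅P, P⁆ :=
          Subgroup.le_normalizer_iff_commutator_le_left.mp (Subgroup.normalizer_commutator_ge_right P P)
        exact le_bot_iff.mp (e0 ▸ Subgroup.commutator_mono h1 le_rfl)
      have e3 : ⁅⁅P, Q⁆, ⁅P, P⁆⁆ = ⊥ := Subgroup.commutator_commutator_eq_bot_of_rotate e1 e2
      rw [hW] at e3
      have hDc : ⁅P, P⁆ ≤ Subgroup.centralizer (P : Set X) :=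
        Subgroup.le_centralizer_iff.mp (Subgroup.commutator_eq_bot_iff_le_centralizer.mp e3)
      apply class_two_centralizes p hp2 P Q E hP _ hQ hE hQP hEP hEQ hfix
      intro x hx y hy z hz
      have h1 := hDc (Subgroup.commutator_mem_commutator hx hy)
      exact (Subgroup.mem_centralizer_iff.mp h1 z hz).symm
    · have hW_le : ⁅P, Q⁆ ≤ P := Subgroup.le_normalizer_iff_commutator_le_left.mp hQP
      have hEW : E ≤ Subgroup.normalizer ((⁅P, Q⁆ : Subgroup X) : Set X) :=
        Cfsg.Agent.S0028.le_normalizer_commutator hEP hEQ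
      have hQW : Q ≤ Subgroup.normalizer ((⁅P, Q⁆ : Subgroup X) : Set X) :=
        Subgroup.normalizer_commutator_ge_right P Q
      have hQcW := hprop ⁅P, Q⁆ hW_le hW hQW hEW
      have e1 : ⁅⁅P, Q⁆, Q⁆ = ⊥ := by
        rw [Subgroup.commutator_eq_bot_iff_le_centralizer]
        exact Subgroup.le_centralizer_iff.mp hQcW
      have e2 := Cfsg.Agent.S0028.commutator_eq_bot_of_coprime hP hQ hQP e1
      exact Subgroup.le_centralizer_iff.mp (Subgroup.commutator_eq_bot_iff_le_centralizer.mp e2)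

/-- Let `P` be a `p`-group (`p` odd) normalized by a `p'`-group `Q` and a `p`-group `E` which
normalizes `Q`. If every element of order `p` of `C_P(E)` centralizes `Q`, then `Q` centralizes
`P`. -/
theorem core_odd [Finite X] (p : ℕ) [Fact p.Prime] (hp2 : p ≠ 2)
    (P Q E : Subgroup X) (hP : IsPGroup p P) (hQ : (Nat.card Q).Coprime p) (hE : IsPGroup p E)
    (hQP : Q ≤ Subgroup.normalizer (P : Set X)) (hEP : E ≤ Subgroup.normalizer (P : Set X))
    (hEQ : E ≤ Subgroup.normalizer (Q : Set X))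
    (hfix : ∀ x ∈ P, orderOf x = p → x ∈ Subgroup.centralizer (E : Set X) →
      x ∈ Subgroup.centralizer (Q : Set X)) :
    Q ≤ Subgroup.centralizer (P : Set X) :=
  core_odd_aux p hp2 Q E hQ hE hEQ (Nat.card P) P rfl hP hQP hEP hfix

/-- A subgroup contains the commutators of its elements. -/
theorem commutatorElement_mem_of_mem {H : Subgroup X} {x y : X} (hx : x ∈ H) (hy : y ∈ H) :
    ⁅x, y⁆ ∈ H := by
  rw [commutatorElement_def]
  exact H.mul_mem (H.mul_mem (H.mul_mem hx hy) (H.inv_mem hx)) (H.inv_mem hy)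

/-- An element `c` of order prime to `p` with `c x c⁻¹ = x b`, where `b` is a `p`-element commuting
with `c`, centralizes `x`. -/
theorem eq_one_of_conj_eq_mul {p : ℕ} {c x b : X} (h : c * x * c⁻¹ = x * b) (hcb : Commute c b)
    (hc : (orderOf c).Coprime p) {j : ℕ} (hb : b ^ p ^ j = 1) : b = 1 := by
  have key : ∀ k : ℕ, c ^ k * x * (c ^ k)⁻¹ = x * b ^ k := by
    intro k
    induction k with
    | zero => simp
    | succ k ih =>
      have h1 : c * b ^ k * c⁻¹ = b ^ k := by
        rw [(hcb.pow_right k).eq, mul_inv_cancel_right]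
      calc c ^ (k + 1) * x * (c ^ (k + 1))⁻¹ = c * (c ^ k * x * (c ^ k)⁻¹) * c⁻¹ := by
            rw [pow_succ']; group
        _ = c * (x * b ^ k) * c⁻¹ := by rw [ih]
        _ = (c * x * c⁻¹) * (c * b ^ k * c⁻¹) := by group
        _ = x * b ^ (k + 1) := by rw [h, h1, pow_succ', mul_assoc]
  have h1 := key (orderOf c)
  rw [pow_orderOf_eq_one, one_mul, inv_one, mul_one] at h1
  have h2 : b ^ orderOf c = 1 := by
    have := mul_left_cancel (a := x) (b := 1) (c := b ^ orderOf c) (by rw [mul_one]; exact h1)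
    exact this.symm
  have hd1 : orderOf b ∣ orderOf c := orderOf_dvd_of_pow_eq_one h2
  have hd2 : orderOf b ∣ p ^ j := orderOf_dvd_of_pow_eq_one hb
  have : orderOf b = 1 := Nat.eq_one_of_dvd_coprimes (hc.pow_right j) hd1 hd2
  exact orderOf_eq_one_iff.mp this

/-- The class-two variant (used for `p = 2`): `P` is a normal self-centralizing `p`-subgroup, `E` an
abelian `p`-subgroup with `C_{PE}(E) = E` and `PE` of class at most two. Then every `p'`-subgroup
normalized by `E` is trivial. -/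
theorem core_class_two [Finite X] (p : ℕ) [Fact p.Prime]
    (P Q E : Subgroup X) [hPn : P.Normal] (hP : IsPGroup p P) (hQ : (Nat.card Q).Coprime p)
    (hE : IsPGroup p E) (hEab : ∀ x ∈ E, ∀ y ∈ E, x * y = y * x)
    (hEQ : E ≤ Subgroup.normalizer (Q : Set X))
    (hcl : ∀ x ∈ P ⊔ E, ∀ y ∈ P ⊔ E, ∀ z ∈ P ⊔ E, Commute ⁅x, y⁆ z)
    (hCE : ∀ x ∈ P ⊔ E, x ∈ Subgroup.centralizer (E : Set X) → x ∈ E)
    (hCP : Subgroup.centralizer (P : Set X) ≤ P) : Q = ⊥ := by
  have hPQ : ∀ x, x ∈ P → x ∈ Q → x = 1 := fun x hxP hxQ =>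
    eq_one_of_mem_pGroup_of_mem_coprime hP hQ hxP hxQ
  have hnQ : ∀ e ∈ E, ∀ g ∈ Q, e * g * e⁻¹ ∈ Q := fun e he g hg =>
    (Subgroup.mem_normalizer_iff.mp (hEQ he) g).mp hg
  -- step 1
  have hB : ∀ x ∈ P, ∀ e ∈ E, ⁅x, e⁆ ∈ E ⊓ P := by
    intro x hx e he
    have hxT : x ∈ P ⊔ E := Subgroup.mem_sup_left hx
    have heT : e ∈ P ⊔ E := Subgroup.mem_sup_right he
    refine ⟨hCE _ (commutatorElement_mem_of_mem hxT heT) ?_, ?_⟩
    · rw [Subgroup.mem_centralizer_iff]
      intro e' he'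
      exact (hcl x hxT e heT e' (Subgroup.mem_sup_right he')).eq.symm
    · have h1 : ⁅x, e⁆ = x * (e * x⁻¹ * e⁻¹) := by rw [commutatorElement_def]; group
      rw [h1]
      exact P.mul_mem hx (hPn.conj_mem _ (P.inv_mem hx) e)
  -- step 2
  have hQB : ∀ b ∈ E ⊓ P, ∀ g ∈ Q, g * b = b * g := by
    intro b hb g hg
    have h1 : ⁅b, g⁆ ∈ Q := by
      have : ⁅b, g⁆ = (b * g * b⁻¹) * g⁻¹ := by rw [commutatorElement_def]
      rw [this]
      exact Q.mul_mem (hnQ b hb.1 g hg) (Q.inv_mem hg)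
    have h2 : ⁅b, g⁆ ∈ P := by
      have : ⁅b, g⁆ = b * (g * b⁻¹ * g⁻¹) := by rw [commutatorElement_def]; group
      rw [this]
      exact P.mul_mem hb.2 (hPn.conj_mem _ (P.inv_mem hb.2) g)
    exact (commutatorElement_eq_one_iff_mul_comm.mp (hPQ _ h2 h1)).symm
  -- step 3
  have hEQc : ∀ g ∈ Q, ∀ e ∈ E, g * e = e * g := by
    intro g hg e he
    rw [← commutatorElement_eq_one_iff_mul_comm]
    set c := ⁅g, e⁆ with hc
    have hcQ : c ∈ Q := by
      have : c = g * (e * g⁻¹ * e⁻¹) := by rw [hc, commutatorElement_def]; group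
      rw [this]
      exact Q.mul_mem hg (hnQ e he _ (Q.inv_mem hg))
    have hcP : c ∈ Subgroup.centralizer (P : Set X) := by
      rw [Subgroup.mem_centralizer_iff]
      intro x hx
      set b₁ := ⁅x⁻¹, e⁻¹⁆ with hb₁
      have hb₁B : b₁ ∈ E ⊓ P := hB _ (P.inv_mem hx) _ (E.inv_mem he)
      set y := g⁻¹ * x * g with hy
      have hyP : y ∈ P := by
        have := hPn.conj_mem x hx g⁻¹
        simpa [hy] using this
      set b₂ := ⁅y⁻¹, e⁆ with hb₂
      have hb₂B : b₂ ∈ E ⊓ P := hB _ (P.inv_mem hyP) _ he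
      have f1 : e⁻¹ * x * e = x * b₁ := by rw [hb₁, commutatorElement_def]; group
      have f2 : g⁻¹ * b₁ * g = b₁ := by
        rw [mul_assoc, ← hQB b₁ hb₁B g hg, inv_mul_cancel_left]
      have f3 : e * y * e⁻¹ = y * b₂ := by rw [hb₂, commutatorElement_def]; group
      have f4 : e * b₁ * e⁻¹ = b₁ := by
        rw [hEab e he b₁ hb₁B.1, mul_inv_cancel_right]
      have f5 : g * b₂ * g⁻¹ = b₂ := by
        rw [hQB b₂ hb₂B g hg, mul_inv_cancel_right]
      have f6 : g * b₁ * g⁻¹ = b₁ := by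
        rw [hQB b₁ hb₁B g hg, mul_inv_cancel_right]
      have f7 : g * y * g⁻¹ = x := by rw [hy]; group
      have hconj : c * x * c⁻¹ = x * (b₂ * b₁) := by
        calc c * x * c⁻¹ = g * e * g⁻¹ * (e⁻¹ * x * e) * g * e⁻¹ * g⁻¹ := by
              rw [hc, commutatorElement_def]; group
          _ = g * e * g⁻¹ * (x * b₁) * g * e⁻¹ * g⁻¹ := by rw [f1]
          _ = g * e * (g⁻¹ * x * g) * (g⁻¹ * b₁ * g) * e⁻¹ * g⁻¹ := by group
          _ = g * e * y * b₁ * e⁻¹ * g⁻¹ := by rw [f2]
          _ = g * (e * y * e⁻¹) * (e * b₁ * e⁻¹) * g⁻¹ := by group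
          _ = g * (y * b₂) * b₁ * g⁻¹ := by rw [f3, f4]
          _ = (g * y * g⁻¹) * (g * b₂ * g⁻¹) * (g * b₁ * g⁻¹) := by group
          _ = x * (b₂ * b₁) := by rw [f5, f6, f7, mul_assoc]
      have hbB : b₂ * b₁ ∈ E ⊓ P := Subgroup.mul_mem _ hb₂B hb₁B
      obtain ⟨j, hj⟩ := hP ⟨b₂ * b₁, hbB.2⟩
      have hj' : (b₂ * b₁) ^ p ^ j = 1 := by
        have := congrArg Subtype.val hj
        simpa using this
      have hb1 := eq_one_of_conj_eq_mul hconj (hQB _ hbB c hcQ) (orderOf_coprime_of_mem hQ hcQ) hj'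
      rw [hb1, mul_one] at hconj
      calc x * c = (c * x * c⁻¹) * c := by rw [hconj]
        _ = c * x := by group
    exact hPQ c (hCP hcP) hcQ
  -- step 4
  have hEcQ : E ≤ Subgroup.centralizer (Q : Set X) := by
    intro e he
    rw [Subgroup.mem_centralizer_iff]
    intro g hg
    exact hEQc g hg e he
  have hC : P ⊓ Subgroup.centralizer (E : Set X) ≤ Subgroup.centralizer (Q : Set X) := by
    rintro x ⟨hxP, hxE⟩
    have hxE' : x ∈ E := hCE x (Subgroup.mem_sup_left hxP) hxE
    rw [Subgroup.mem_centralizer_iff]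
    intro g hg
    exact hQB x ⟨hxE', hxP⟩ g hg
  have hnorm : ∀ H : Subgroup X, H ≤ Subgroup.normalizer (P : Set X) := by
    intro H
    rw [Subgroup.normalizer_eq_top]; exact le_top
  have h1 := Cfsg.Agent.S0028.result p E Q P hE hQ hP hEcQ (hnorm E) (hnorm Q) hC
  rw [eq_bot_iff]
  intro g hg
  rw [Subgroup.mem_bot]
  exact hPQ g (hCP (h1 hg)) hg

end Cfsg.Agent.Lib.Helper54
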