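import Mathlib
import Cfsg.Prelude.Def_FusionSystem
import Cfsg.Agent.Lib.Helper84.StrongEmb
import Cfsg.Agent.Lib.Helper87.FusionCore
import Cfsg.Agent.Lib.Helper88.FusionEssential

/-!
# DSQW-[ESSB] (helper84's cut of S5248): the basic facts on an essential subgroup of a saturated
fusion system: it is a proper centric subgroup of `S` whose automizer is not a `p`-group.
-/

set_option autoImplicit false

namespace Cfsg.Agent.Lib.Helper54.DSQW

open Cfsg Cfsg.FusionSystem Cfsg.Agent.Lib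

variable {Ω : Type*} [Group Ω] {S : Subgroup Ω}

set_option linter.unusedVariables false in
theorem essential_basic (F : FusionSystem S) [Finite S] {p : ℕ} [Fact p.Prime] (hS : IsPGroup p S)
    (hF : F.IsSaturated p) {E : Subgroup Ω} (hE : F.IsEssential p E) :
    E ≤ S ∧ E ≠ S ∧ centralizerIn S E ≤ E ∧ ¬ IsPGroup p (F.autGroup E) := by
  have hne : E ≠ S := Helper88.ne_top_of_essential F hF hE
  obtain ⟨hcen, -, hnorm, M, hM⟩ := hE
  refine ⟨hcen.1, hne, hcen.2 E (Helper87.isConj_refl F hcen.1), ?_⟩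
  intro h1
  have h2 : IsPGroup p (F.autGroup E ⧸ (Inn E).subgroupOf (F.autGroup E)) := h1.to_quotient _
  have h3 : (⊤ : Subgroup (F.autGroup E ⧸ (Inn E).subgroupOf (F.autGroup E))) = ⊥ :=
    Helper84.normal_pgroup_eq_bot hM ⊤ (h2.to_subgroup ⊤)
  have h4 := hM.1
  have h5 : Nat.card (F.autGroup E ⧸ (Inn E).subgroupOf (F.autGroup E)) = 1 := by
    rw [← Subgroup.card_top, h3, Subgroup.card_bot]
  rw [h5] at h4
  exact (Fact.out : p.Prime).one_lt.ne' (Nat.dvd_one.1 h4)

end Cfsg.Agent.Lib.Helper54.DSQW
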