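import Mathlib
import Cfsg.Agent.Lib.Helper84.DSQW.Defs
import Cfsg.Agent.Lib.Helper85.FusionBasic
import Cfsg.Agent.Lib.Helper85.FusionRealized

/-!
# DSQW-[PB] (helper84's cut of S5248): the fusion system `pb e` that a group `G` induces on
`X` through an isomorphism `e : X ≃* T` onto a subgroup `T` of `G`: realization, saturation,
conjugacy of elements, fusion into a cyclic subgroup, the automizers, and realizability of any
system with the same maps.
-/

set_option autoImplicit false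
universe u

namespace Cfsg.Agent.Lib.Helper54.DSQW

open Cfsg Cfsg.FusionSystem Cfsg.Agent.Lib.Helper84 Cfsg.Agent.Lib.Helper84.DSQW

section pullback
variable {X : Type*} [Group X] {G : Type*} [Group G] {T : Subgroup G}

theorem pb_isRealizedBy (e : X ≃* T) : (pb e).IsRealizedBy (incl e) :=
  pullbackSystem_isRealizedBy (incl e) (incl_injective e)

theorem pb_isSaturated [Finite G] (T : Sylow 2 G) (e : X ≃* (T : Subgroup G)) :
    (pb e).IsSaturated 2 :=
  pullbackSystem_isSaturated (incl e) (incl_injective e) T (incl_range e).symm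

/-- membership in `(pb e).Hom P`, unfolded -/
theorem mem_pb_hom_iff (e : X ≃* T) (P : Subgroup X) (φ : P →* X) :
    φ ∈ (pb e).Hom P ↔ ∃ g : G, ∀ u : P, (e (φ u) : G) = g * (e (u : X) : G) * g⁻¹ := by
  constructor
  · rintro ⟨hP, hφ, g, hg⟩
    exact ⟨g, fun u => hg u⟩
  · rintro ⟨g, hg⟩
    exact ⟨le_top, fun _ => Subgroup.mem_top _, g, fun u => hg u⟩

/-- the homomorphism `u ↦ e⁻¹ (g e(u) g⁻¹)` on a subgroup `P` whose image under `e` is conjugated
into `T` by `g` -/
noncomputable def conjHomX (e : X ≃* T) (P : Subgroup X) (g : G)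
    (h : ∀ u : P, g * (e (u : X) : G) * g⁻¹ ∈ T) : P →* X :=
  e.symm.toMonoidHom.comp
    (((MulAut.conj g).toMonoidHom.comp (T.subtype.comp (e.toMonoidHom.comp P.subtype))).codRestrict T h)

theorem e_conjHomX (e : X ≃* T) (P : Subgroup X) (g : G)
    (h : ∀ u : P, g * (e (u : X) : G) * g⁻¹ ∈ T) (u : P) :
    (e (conjHomX e P g h u) : G) = g * (e (u : X) : G) * g⁻¹ := by
  unfold conjHomX
  simp only [MonoidHom.coe_comp, Function.comp_apply, MulEquiv.coe_toMonoidHom,
    MulEquiv.apply_symm_apply]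
  rfl

theorem conjHomX_mem (e : X ≃* T) (P : Subgroup X) (g : G)
    (h : ∀ u : P, g * (e (u : X) : G) * g⁻¹ ∈ T) : conjHomX e P g h ∈ (pb e).Hom P :=
  (mem_pb_hom_iff e P _).2 ⟨g, e_conjHomX e P g h⟩

/-- the image of `zpowers a` is conjugated into `T` as soon as the image of `a` is -/
theorem conj_zpowers_mem (e : X ≃* T) (a : X) (g : G) (h : g * (e a : G) * g⁻¹ ∈ T)
    (u : Subgroup.zpowers a) : g * (e (u : X) : G) * g⁻¹ ∈ T := by
  obtain ⟨i, hi⟩ := u.2
  have h1 : (e (u : X) : G) = (e a : G) ^ i := by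
    rw [← hi, map_zpow]
    rfl
  rw [h1]
  have h2 : g * (e a : G) ^ i * g⁻¹ = (g * (e a : G) * g⁻¹) ^ i := by
    rw [← MulAut.conj_apply, ← MulAut.conj_apply, map_zpow]
  rw [h2]
  exact T.zpow_mem h i

theorem isConjElt_pb_iff (e : X ≃* T) (a b : X) :
    (pb e).IsConjElt a b ↔ ∃ g : G, g * (e a : G) * g⁻¹ = (e b : G) := by
  constructor
  · rintro ⟨φ, hφ, hab⟩
    obtain ⟨g, hg⟩ := (mem_pb_hom_iff e _ φ).1 hφ
    refine ⟨g, ?_⟩
    have := hg ⟨a, Subgroup.mem_zpowers a⟩
    rw [hab] at this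
    exact this.symm
  · rintro ⟨g, hg⟩
    have hT : g * (e a : G) * g⁻¹ ∈ T := by rw [hg]; exact (e b).2
    refine ⟨conjHomX e _ g (conj_zpowers_mem e a g hT), conjHomX_mem e _ g _, ?_⟩
    apply e.injective
    apply Subtype.ext
    rw [e_conjHomX]
    exact hg

/-- fusion into `⟨x⟩`, with an integer exponent (no finiteness needed) -/
theorem fused_pb_iff_zpow (e : X ≃* T) (x w : X) :
    fused (pb e) x w ↔ ∃ (g : G) (k : ℤ), g * (e w : G) * g⁻¹ = (e x : G) ^ k := by
  constructor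
  · rintro ⟨φ, hφ, k, hk⟩
    obtain ⟨g, hg⟩ := (mem_pb_hom_iff e _ φ).1 hφ
    refine ⟨g, k, ?_⟩
    have := hg ⟨w, Subgroup.mem_zpowers w⟩
    rw [← this, ← hk, map_zpow]
    rfl
  · rintro ⟨g, k, hg⟩
    have hT : g * (e w : G) * g⁻¹ ∈ T := by
      rw [hg]; exact T.zpow_mem (e x).2 k
    refine ⟨conjHomX e _ g (conj_zpowers_mem e w g hT), conjHomX_mem e _ g _, k, ?_⟩
    apply e.injective
    apply Subtype.ext
    rw [e_conjHomX, map_zpow]
    exact hg.symm

/-- fusion into `⟨x⟩` with a natural exponent: needs `x` of finite order (FALSE in general for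
an element of infinite order: `X = G = T = ℤ`, `w = x⁻¹`) -/
theorem fused_pb_iff_of_isOfFinOrder (e : X ≃* T) (x w : X) (hx : IsOfFinOrder x) :
    fused (pb e) x w ↔ ∃ (g : G) (k : ℕ), g * (e w : G) * g⁻¹ = (e x : G) ^ k := by
  rw [fused_pb_iff_zpow]
  constructor
  · rintro ⟨g, k, hg⟩
    obtain ⟨n, hn⟩ := hx.exists_pow_eq_one
    -- `x ^ k = x ^ (k mod n)`
    refine ⟨g, (k % (n : ℤ)).toNat, ?_⟩
    have hnpos : (0 : ℤ) < n := by exact_mod_cast hn.1
    have hnn : 0 ≤ k % (n : ℤ) := Int.emod_nonneg _ hnpos.ne'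
    have hexn : (e x : G) ^ (n : ℤ) = 1 := by
      rw [zpow_natCast]
      have : ((e x : T) : G) ^ n = ((e (x ^ n) : T) : G) := by rw [map_pow]; rfl
      rw [this, hn.2, map_one]; rfl
    have : (e x : G) ^ k = (e x : G) ^ (k % (n : ℤ)) := by
      conv_lhs => rw [← Int.emod_add_mul_ediv k n]
      rw [zpow_add, zpow_mul, hexn, one_zpow, mul_one]
    rw [hg, this, ← zpow_natCast, Int.toNat_of_nonneg hnn]
  · rintro ⟨g, k, hg⟩
    exact ⟨g, (k : ℤ), by rw [zpow_natCast]; exact hg⟩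

theorem fused_pb_iff [Finite X] (e : X ≃* T) (x w : X) :
    fused (pb e) x w ↔ ∃ (g : G) (k : ℕ), g * (e w : G) * g⁻¹ = (e x : G) ^ k :=
  fused_pb_iff_of_isOfFinOrder e x w (isOfFinOrder_of_finite x)

theorem mem_autGroup_pb_iff (e : X ≃* T) (P : Subgroup X) (α : MulAut P) :
    α ∈ (pb e).autGroup P ↔
      ∃ g : G, ∀ u : P, (e ((α u : P) : X) : G) = g * (e (u : X) : G) * g⁻¹ := by
  rw [Cfsg.Agent.Lib.Helper85.mem_autGroup_iff (pb e) le_top α, mem_pb_hom_iff]
  rfl

end pullback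

theorem isRealizable_of_hom_eq_pb {X : Type u} [Group X] {G : Type} [Group G] [Finite G]
    (T : Sylow 2 G) (e : X ≃* (T : Subgroup G)) (F : FusionSystem (⊤ : Subgroup X))
    (h : ∀ P : Subgroup X, F.Hom P = (pb e).Hom P) : F.IsRealizable 2 := by
  let f : G →* ULift.{u} G := (MulEquiv.ulift (α := G)).symm.toMonoidHom
  have hf : Function.Surjective f := (MulEquiv.ulift (α := G)).symm.surjective
  have hfi : Function.Injective f := (MulEquiv.ulift (α := G)).symm.injective
  refine ⟨ULift.{u} G, inferInstance, inferInstance, f.comp (incl e), ⟨?_, ?_⟩, ?_⟩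
  · exact hfi.comp (incl_injective e)
  · intro P hP φ hφ
    rw [h P]
    constructor
    · rintro ⟨_, _, g, hg⟩
      refine ⟨f g, fun x => ?_⟩
      show f (incl e ⟨φ x, hφ x⟩) = f g * f (incl e ⟨x, hP x.2⟩) * (f g)⁻¹
      rw [hg x, map_mul, map_mul, map_inv]
    · rintro ⟨g', hg'⟩
      obtain ⟨g, rfl⟩ := hf g'
      refine ⟨hP, hφ, g, fun x => ?_⟩
      apply hfi
      have := hg' x
      rw [map_mul, map_mul, map_inv]
      exact this
  · refine ⟨T.mapSurjective hf, ?_⟩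
    rw [Sylow.coe_mapSurjective, MonoidHom.range_comp, incl_range]

end Cfsg.Agent.Lib.Helper54.DSQW
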