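/-
FT KIT (helper54, module FTKIT-[ALL], requested by lead): the standard corollaries of the
Odd Order Theorem `Cfsg.Agent.S0205.result`, stated once so that nobody re-derives them.

Contents (all in namespace `Cfsg.Agent.Lib.Helper54.FTKit`, NO solvability hypotheses):
* `ft`                                   the theorem as a universe-polymorphic constant, in the shape
                                         of the usual FT hypotheses (`OddSolvable`, `FTHyp`, ...)
* `isSolvable_of_odd`, `isSolvable_subgroup_of_odd`
* `solvable_or_solvable_of_coprime`      coprime orders: one of the two groups is solvable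
* `sz_conj`, `sz_conj_mem`, `sz_conj_sub`, `sz_dominate`
                                         Schur-Zassenhaus conjugacy, type form and subgroup form
* `coprime_exists_invariant_sylow`, `coprime_conj_invariant_sylow`, `coprime_invariant_sylow_ge`,
  `coprime_fixed_points_quotient`, `coprime_commutator_sup_centralizer`,
  `coprime_commutator_commutator`, `coprime_centralizer_factorization`
                                         the coprime action package
* `isSolvable_oddCore`, `isSolvable_of_isCyclic_sylow_two`, `isSolvable_of_card_eq_two_mul_odd`,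
  `isSolvable_of_normal_two_complement`, `exists_normal_two_complement_of_isCyclic`,
  `isSolvable_of_chain`, `isSolvable_of_isPSolvable_two`, `isCyclic_of_simple_of_odd`
* `even_card_of_not_isSolvable`, `exists_orderOf_eq_two_of_not_isSolvable`,
  `isSolvable_of_forall_orderOf_ne_two`,
  `even_card_of_simple_nonabelian`, `exists_involution_of_simple_nonabelian`,
  `not_isSolvable_of_simple_nonabelian`
The Hall subgroup statements (S3745, S1908) are re-exported in `FTKitHall.lean`.
-/
import Cfsg.Agent.S0205
import Cfsg.Agent.S0001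
import Cfsg.Agent.S0022
import Cfsg.Agent.S0026
import Cfsg.Agent.S0027
import Cfsg.Agent.S0030
import Cfsg.Agent.Lib.Helper54.Coprime
import Cfsg.Agent.Lib.Helper97.Cores
import Cfsg.Prelude.Def_Local

set_option autoImplicit false

namespace Cfsg.Agent.Lib.Helper54.FTKit

open Pointwise

universe u v

/-! ### (0) the theorem itself -/

/-- The Odd Order Theorem as a universe-polymorphic constant: `ft.{u}` has exactly the type of
the FT hypotheses of the conditional libraries (`Helper97.OddSolvable.{u}`, `Helper23.FTHyp.{u}`,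
`fun X _ _ h => ...`). -/
theorem ft : ∀ (X : Type u) [Group X] [Finite X], Odd (Nat.card X) → Group.IsSolvable X :=
  fun _ _ _ h => Cfsg.Agent.S0205.result h

/-- A finite group of odd order is solvable (implicit form). -/
theorem isSolvable_of_odd {X : Type u} [Group X] [Finite X] (h : Odd (Nat.card X)) :
    Group.IsSolvable X := ft X h

/-- `Finite` is automatic: an odd `Nat.card` is nonzero. -/
theorem isSolvable_of_odd' {X : Type u} [Group X] (h : Odd (Nat.card X)) :
    Group.IsSolvable X := by
  have : Finite X := Nat.finite_of_card_ne_zero (by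
    intro h0
    rw [h0] at h
    exact absurd h (by decide))
  exact ft X h

/-- A subgroup of odd order is solvable. -/
theorem isSolvable_subgroup_of_odd {G : Type u} [Group G] (H : Subgroup G)
    (h : Odd (Nat.card H)) : Group.IsSolvable H := isSolvable_of_odd' h

/-! ### (1) coprime orders -/

/-- If two groups have coprime orders, one of them is solvable (one of the orders is odd). -/
theorem solvable_or_solvable_of_coprime {A : Type u} {K : Type v} [Group A] [Group K]
    (h : (Nat.card A).Coprime (Nat.card K)) : Group.IsSolvable A ∨ Group.IsSolvable K := by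
  by_cases hA : Odd (Nat.card A)
  · exact Or.inl (isSolvable_of_odd' hA)
  · have h2 : 2 ∣ Nat.card A := by
      rcases Nat.even_or_odd (Nat.card A) with he | ho
      · exact even_iff_two_dvd.mp he
      · exact absurd ho hA
    have hK : Odd (Nat.card K) := by
      rw [← Nat.not_even_iff_odd, even_iff_two_dvd]
      intro h2K
      have h3 : 2 ∣ Nat.gcd (Nat.card A) (Nat.card K) := Nat.dvd_gcd h2 h2K
      have h4 : Nat.gcd (Nat.card A) (Nat.card K) = 1 := h
      rw [h4] at h3
      exact absurd h3 (by decide)
    exact Or.inr (isSolvable_of_odd' hK)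

/-- Subgroup form of `solvable_or_solvable_of_coprime`. -/
theorem solvable_or_solvable_of_coprime_sub {G : Type u} [Group G] (A K : Subgroup G)
    (h : (Nat.card A).Coprime (Nat.card K)) : Group.IsSolvable A ∨ Group.IsSolvable K :=
  solvable_or_solvable_of_coprime h

variable {G : Type u} [Group G]

/-! ### (2) Schur-Zassenhaus conjugacy without solvability hypothesis -/

/-- Schur-Zassenhaus, conjugacy part: the complements of a normal Hall subgroup are conjugate. -/
theorem sz_conj [Finite G] (N : Subgroup G) [N.Normal] (hN : (Nat.card N).Coprime N.index)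
    (H K : Subgroup G) (hH : Subgroup.IsComplement' N H) (hK : Subgroup.IsComplement' N K) :
    ∃ g : G, MulAut.conj g • H = K := by
  refine Cfsg.Agent.S0001.result N hN ?_ H K hH hK
  have h1 : (Nat.card N).Coprime (Nat.card (G ⧸ N)) := by
    rw [← Subgroup.index_eq_card]; exact hN
  exact solvable_or_solvable_of_coprime h1

/-- Schur-Zassenhaus, conjugacy part, with the conjugating element in the normal Hall subgroup. -/
theorem sz_conj_mem [Finite G] (N : Subgroup G) [N.Normal] (hN : (Nat.card N).Coprime N.index)
    (H K : Subgroup G) (hH : Subgroup.IsComplement' N H) (hK : Subgroup.IsComplement' N K) :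
    ∃ n ∈ N, MulAut.conj n • H = K := by
  obtain ⟨g, hg⟩ := sz_conj N hN H K hH hK
  obtain ⟨⟨n, h⟩, hnh, -⟩ := hH.existsUnique g
  refine ⟨n, n.2, ?_⟩
  have hnh' : (n : G) * (h : G) = g := hnh
  rw [← hg, ← hnh', map_mul, mul_smul, Subgroup.conj_smul_eq_self_of_mem h.2]

/-- Schur-Zassenhaus conjugacy, subgroup form ("Glauberman's lemma" shape): if `L ⊴ M` has
complements `A`, `B` in `M` of order coprime to `|L|`, then `B` is an `L`-conjugate of `A`.
(`Helper54.sz_conj_rel` without its solvability hypothesis.) -/
theorem sz_conj_sub [Finite G] (M L A B : Subgroup G) (hLM : L ≤ M)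
    (hML : M ≤ Subgroup.normalizer (L : Set G)) (hAM : A ≤ M) (hBM : B ≤ M)
    (hcard : Nat.card L * Nat.card A = Nat.card M) (hAB : Nat.card B = Nat.card A)
    (hcop : (Nat.card L).Coprime (Nat.card A)) :
    ∃ l ∈ L, MulAut.conj l • A = B :=
  Cfsg.Agent.Lib.Helper54.sz_conj_rel M L A B hLM hML hAM hBM hcard hAB hcop
    (solvable_or_solvable_of_coprime hcop).symm

/-- Schur-Zassenhaus, domination part: if `N` is a normal subgroup with complement `H`, every
subgroup `U` of order coprime to `|N|` lies in an `N`-conjugate of `H`. -/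
theorem sz_dominate [Finite G] (N : Subgroup G) [N.Normal] (H : Subgroup G)
    (hH : Subgroup.IsComplement' N H) (U : Subgroup G)
    (hU : (Nat.card N).Coprime (Nat.card U)) :
    ∃ n ∈ N, U ≤ MulAut.conj n • H := by
  set M := N ⊔ U with hM
  have hNn : ∀ X : Subgroup G, X ≤ Subgroup.normalizer (N : Set G) := fun X => by
    rw [Subgroup.normalizer_eq_top]; exact le_top
  have hNU : N ⊓ U = ⊥ := (Subgroup.disjoint_of_coprime_natCard hU).eq_bot
  have hcM : Nat.card M = Nat.card N * Nat.card U :=
    Cfsg.Agent.Lib.Helper54.card_sup_of_le_normalizer (hNn U) hNU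
  have hNH : N ⊓ H = ⊥ := hH.disjoint.eq_bot
  have hNH' : N ⊓ (M ⊓ H) = ⊥ :=
    le_bot_iff.mp (by rw [← hNH]; exact inf_le_inf_left N inf_le_right)
  have hc1 : Nat.card (N ⊔ (M ⊓ H) : Subgroup G) = Nat.card N * Nat.card (M ⊓ H : Subgroup G) :=
    Cfsg.Agent.Lib.Helper54.card_sup_of_le_normalizer (hNn _) hNH'
  have hNM : N ≤ M := le_sup_left
  have hsup : N ⊔ (M ⊓ H) = M := by
    apply le_antisymm (sup_le hNM inf_le_left)
    intro m hm
    obtain ⟨⟨n, h⟩, hnh, -⟩ := hH.existsUnique m
    have hnh' : (n : G) * (h : G) = m := hnh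
    have hhM : (h : G) ∈ M := by
      have e : (h : G) = (n : G)⁻¹ * m := by rw [← hnh']; group
      rw [e]
      exact M.mul_mem (M.inv_mem (hNM n.2)) hm
    rw [← hnh']
    exact Subgroup.mul_mem_sup n.2 (Subgroup.mem_inf.mpr ⟨hhM, h.2⟩)
  have hcard : Nat.card N * Nat.card (M ⊓ H : Subgroup G) = Nat.card M := by rw [← hc1, hsup]
  have hAB : Nat.card U = Nat.card (M ⊓ H : Subgroup G) := by
    have h1 : Nat.card N * Nat.card U = Nat.card N * Nat.card (M ⊓ H : Subgroup G) := by
      rw [hcard, hcM]
    exact Nat.eq_of_mul_eq_mul_left Nat.card_pos h1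
  obtain ⟨l, hl, hlU⟩ := sz_conj_sub M N (M ⊓ H) U hNM (hNn M) inf_le_left le_sup_right hcard hAB
    (by rw [← hAB]; exact hU)
  refine ⟨l, hl, ?_⟩
  rw [← hlU]
  exact Cfsg.Agent.Lib.Helper54.conj_smul_le_conj_smul inf_le_right

/-! ### (3) the coprime action package without solvability hypothesis

`A`, `K` are subgroups of a finite group, `A` normalizes `K`, `(|A|, |K|) = 1`. -/

/-- `A`-invariant Sylow `p`-subgroups of `K` exist. -/
theorem coprime_exists_invariant_sylow [Finite G] (A K : Subgroup G)
    (hAK : A ≤ Subgroup.normalizer (K : Set G))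
    (hcop : (Nat.card A).Coprime (Nat.card K)) (p : ℕ) [Fact p.Prime] :
    ∃ P : Sylow p K,
      A ≤ Subgroup.normalizer (((P : Subgroup K).map K.subtype : Subgroup G) : Set G) :=
  Cfsg.Agent.Lib.Helper54.exists_invariant_sylow A K hAK hcop
    (solvable_or_solvable_of_coprime hcop) p

/-- Two `A`-invariant Sylow `p`-subgroups of `K` are conjugate under `C_K(A)`. -/
theorem coprime_conj_invariant_sylow [Finite G] (A K : Subgroup G)
    (hAK : A ≤ Subgroup.normalizer (K : Set G))
    (hcop : (Nat.card A).Coprime (Nat.card K)) (p : ℕ) [Fact p.Prime] (P Q : Sylow p K)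
    (hP : A ≤ Subgroup.normalizer (((P : Subgroup K).map K.subtype : Subgroup G) : Set G))
    (hQ : A ≤ Subgroup.normalizer (((Q : Subgroup K).map K.subtype : Subgroup G) : Set G)) :
    ∃ c : K, (c : G) ∈ Subgroup.centralizer (A : Set G) ∧ MulAut.conj c • P = Q :=
  Cfsg.Agent.Lib.Helper54.exists_centralizer_conj_sylow A K hAK hcop
    (solvable_or_solvable_of_coprime hcop) p P Q hP hQ

/-- Every `A`-invariant `p`-subgroup of `K` lies in an `A`-invariant Sylow `p`-subgroup of `K`. -/
theorem coprime_invariant_sylow_ge [Finite G] (A K : Subgroup G)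
    (hAK : A ≤ Subgroup.normalizer (K : Set G))
    (hcop : (Nat.card A).Coprime (Nat.card K)) (p : ℕ) [Fact p.Prime]
    (U : Subgroup G) (hUK : U ≤ K) (hU : IsPGroup p U)
    (hUA : A ≤ Subgroup.normalizer (U : Set G)) :
    ∃ P : Sylow p K, U ≤ (P : Subgroup K).map K.subtype ∧
      A ≤ Subgroup.normalizer (((P : Subgroup K).map K.subtype : Subgroup G) : Set G) :=
  Cfsg.Agent.Lib.Helper54.exists_invariant_sylow_ge A K hAK hcop
    (solvable_or_solvable_of_coprime hcop) p U hUK hU hUA

/-- `C_{K/N}(A) = C_K(A)N/N`: an element of `K` fixed by `A` modulo the `A`-invariant normal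
subgroup `N` of `K` is congruent modulo `N` to an element of `C_K(A)`. -/
theorem coprime_fixed_points_quotient [Finite G] (A K : Subgroup G)
    (hAK : A ≤ Subgroup.normalizer (K : Set G))
    (hcop : (Nat.card A).Coprime (Nat.card K))
    (N : Subgroup G) (hNK : N ≤ K) (hNnormal : K ≤ Subgroup.normalizer (N : Set G))
    (hNA : A ≤ Subgroup.normalizer (N : Set G))
    (k : G) (hk : k ∈ K) (hfix : ∀ a ∈ A, a * k * a⁻¹ * k⁻¹ ∈ N) :
    ∃ c ∈ K ⊓ Subgroup.centralizer (A : Set G), k⁻¹ * c ∈ N :=
  Cfsg.Agent.S0022.result A K hAK hcop (solvable_or_solvable_of_coprime hcop) N hNK hNnormal hNA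
    k hk hfix

/-- `K = [K, A] C_K(A)`. -/
theorem coprime_commutator_sup_centralizer [Finite G] (A K : Subgroup G)
    (hAK : A ≤ Subgroup.normalizer (K : Set G))
    (hcop : (Nat.card A).Coprime (Nat.card K)) :
    ⁅K, A⁆ ⊔ (K ⊓ Subgroup.centralizer (A : Set G)) = K :=
  Cfsg.Agent.S0026.result A K hAK hcop (solvable_or_solvable_of_coprime hcop)

/-- `[K, A, A] = [K, A]`. -/
theorem coprime_commutator_commutator [Finite G] (A K : Subgroup G)
    (hAK : A ≤ Subgroup.normalizer (K : Set G))
    (hcop : (Nat.card A).Coprime (Nat.card K)) :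
    ⁅⁅K, A⁆, A⁆ = ⁅K, A⁆ :=
  Cfsg.Agent.S0027.result A K hAK hcop (solvable_or_solvable_of_coprime hcop)

/-- If `K = XY` with `X`, `Y` `A`-invariant subgroups, then `C_K(A) = C_X(A) C_Y(A)`. -/
theorem coprime_centralizer_factorization [Finite G] (A K : Subgroup G)
    (hAK : A ≤ Subgroup.normalizer (K : Set G))
    (hcop : (Nat.card A).Coprime (Nat.card K))
    (X Y : Subgroup G) (hX : X ≤ K) (hY : Y ≤ K)
    (hXA : A ≤ Subgroup.normalizer (X : Set G)) (hYA : A ≤ Subgroup.normalizer (Y : Set G))
    (hXY : ∀ k ∈ K, ∃ x ∈ X, ∃ y ∈ Y, k = x * y) (k : G)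
    (hk : k ∈ K ⊓ Subgroup.centralizer (A : Set G)) :
    ∃ x ∈ X ⊓ Subgroup.centralizer (A : Set G), ∃ y ∈ Y ⊓ Subgroup.centralizer (A : Set G),
      k = x * y :=
  Cfsg.Agent.S0030.result A K hAK hcop (solvable_or_solvable_of_coprime hcop) X Y hX hY hXA hYA
    hXY k hk

/-! ### (4) odd core, cyclic Sylow 2-subgroups, involutions -/

/-- `O(G)` is solvable. -/
theorem isSolvable_oddCore [Finite G] : Group.IsSolvable (Cfsg.oddCore G) :=
  isSolvable_subgroup_of_odd _ Cfsg.Agent.Lib.Helper97.odd_card_oddCore

/-- A normal subgroup of odd order is solvable, and the group is solvable as soon as the quotient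
is. -/
theorem isSolvable_of_odd_normal_of_quotient (N : Subgroup G) [N.Normal] (hN : Odd (Nat.card N))
    (hQ : Group.IsSolvable (G ⧸ N)) : Group.IsSolvable G := by
  have h1 : Group.IsSolvable N := isSolvable_subgroup_of_odd N hN
  refine Group.isSolvable_of_ker_le_range N.subtype (QuotientGroup.mk' N) ?_
  rw [QuotientGroup.ker_mk', Subgroup.range_subtype]

/-- A group with a normal 2-complement (a normal subgroup of odd order and 2-power index) is
solvable. -/
theorem isSolvable_of_normal_two_complement [Finite G] (N : Subgroup G) [N.Normal]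
    (hN : Odd (Nat.card N)) {n : ℕ} (hidx : N.index = 2 ^ n) : Group.IsSolvable G := by
  apply isSolvable_of_odd_normal_of_quotient N hN
  have hp : IsPGroup 2 (G ⧸ N) := by
    have : Fact (Nat.Prime 2) := ⟨Nat.prime_two⟩
    exact IsPGroup.of_card (n := n) (by rw [← Subgroup.index_eq_card, hidx])
  have : Fact (Nat.Prime 2) := ⟨Nat.prime_two⟩
  have : Group.IsNilpotent (G ⧸ N) := hp.isNilpotent
  infer_instance

/-- Burnside: a group with a cyclic Sylow 2-subgroup has a normal 2-complement. -/
theorem exists_normal_two_complement_of_isCyclic [Finite G] (P : Sylow 2 G) (hP : IsCyclic P) :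
    ∃ N : Subgroup G, N.Normal ∧ Odd (Nat.card N) ∧ N.IsComplement' (P : Subgroup G) := by
  by_cases h2 : 2 ∣ Nat.card G
  · have hmin : (Nat.card G).minFac = 2 := (Nat.minFac_eq_two_iff _).mpr h2
    have hcomp := IsCyclic.isComplement' hmin hP
    have hnd := MonoidHom.not_dvd_card_ker_transferSylow P (hP.normalizer_le_centralizer hmin)
    refine ⟨_, inferInstance, ?_, hcomp⟩
    rw [← Nat.not_even_iff_odd, even_iff_two_dvd]
    exact hnd
  · -- odd order: the Sylow 2-subgroup is trivial
    have hPbot : (P : Subgroup G) = ⊥ := by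
      have h1 : Nat.card (P : Subgroup G) ∣ Nat.card G := Subgroup.card_subgroup_dvd_card _
      obtain ⟨k, hk⟩ := IsPGroup.iff_card.mp P.isPGroup'
      rcases Nat.eq_zero_or_pos k with h0 | h0
      · rw [h0, pow_zero] at hk
        exact Subgroup.card_eq_one.mp hk
      · exfalso
        apply h2
        refine dvd_trans ?_ h1
        rw [hk]
        exact dvd_pow_self 2 (by omega)
    refine ⟨⊤, inferInstance, ?_, ?_⟩
    · rw [Subgroup.card_top, ← Nat.not_even_iff_odd, even_iff_two_dvd]
      exact h2
    · rw [hPbot]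
      exact Subgroup.isComplement'_top_bot

/-- A group with a cyclic Sylow 2-subgroup is solvable (Burnside's normal 2-complement and the
Odd Order Theorem). -/
theorem isSolvable_of_isCyclic_sylow_two [Finite G] (P : Sylow 2 G) (hP : IsCyclic P) :
    Group.IsSolvable G := by
  obtain ⟨N, hN, hodd, hcomp⟩ := exists_normal_two_complement_of_isCyclic P hP
  have := hN
  obtain ⟨k, hk⟩ := IsPGroup.iff_card.mp P.isPGroup'
  exact isSolvable_of_normal_two_complement N hodd (n := k) (by rw [hcomp.symm.index_eq_card, hk])

/-- A group of order `2 * odd` is solvable. -/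
theorem isSolvable_of_card_eq_two_mul_odd [Finite G] {m : ℕ} (hm : Odd m)
    (hcard : Nat.card G = 2 * m) : Group.IsSolvable G := by
  have : Fact (Nat.Prime 2) := ⟨Nat.prime_two⟩
  obtain ⟨P⟩ : Nonempty (Sylow 2 G) := inferInstance
  apply isSolvable_of_isCyclic_sylow_two P
  have hcP : Nat.card P = 2 := by
    have h1 : Nat.card P = 2 ^ (Nat.card G).factorization 2 := P.card_eq_multiplicity
    rw [h1, hcard]
    have h2 : (2 * m).factorization 2 = 1 := by
      have hm0 : m ≠ 0 := by
        rintro rfl
        exact absurd hm (by decide)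
      rw [Nat.factorization_mul (by norm_num) hm0]
      have h3 : m.factorization 2 = 0 := by
        apply Nat.factorization_eq_zero_of_not_dvd
        rw [← even_iff_two_dvd, Nat.not_even_iff_odd]
        exact hm
      simp [h3, Nat.Prime.factorization_self Nat.prime_two]
    rw [h2, pow_one]
  exact isCyclic_of_prime_card hcP

/-! ### (4') chains with solvable factors: 2-solvable groups are solvable -/

/-- A group with a chain of normal subgroups from `⊥` to `⊤` whose factors are solvable is
solvable. -/
theorem isSolvable_of_chain (n : ℕ) (H : Fin (n + 1) → Subgroup G) (h0 : H 0 = ⊥)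
    (hlast : H (Fin.last n) = ⊤) (hmono : Monotone H) (hnorm : ∀ i, (H i).Normal)
    (hfac : ∀ i : Fin n,
      Group.IsSolvable (↥(H i.succ) ⧸ (H i.castSucc).subgroupOf (H i.succ))) :
    Group.IsSolvable G := by
  have key : ∀ i : Fin (n + 1), Group.IsSolvable (H i) := by
    intro i
    induction i using Fin.induction with
    | zero => rw [h0]; infer_instance
    | succ i ih =>
      have hAB : H i.castSucc ≤ H i.succ := hmono (Fin.castSucc_lt_succ (i := i)).le
      have := hnorm i.castSucc
      have h1 : Group.IsSolvable ((H i.castSucc).subgroupOf (H i.succ)) :=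
        Group.isSolvable_of_isSolvable_injective
          (f := (Subgroup.subgroupOfEquivOfLe hAB).toMonoidHom)
          (Subgroup.subgroupOfEquivOfLe hAB).injective
      have h2 := hfac i
      refine Group.isSolvable_of_ker_le_range ((H i.castSucc).subgroupOf (H i.succ)).subtype
        (QuotientGroup.mk' ((H i.castSucc).subgroupOf (H i.succ))) ?_
      rw [QuotientGroup.ker_mk', Subgroup.range_subtype]
  have h3 := key (Fin.last n)
  rw [hlast] at h3
  exact Group.isSolvable_of_isSolvable_injective (f := (Subgroup.topEquiv (G := G)).symm.toMonoidHom)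
    (Subgroup.topEquiv (G := G)).symm.injective

/-- A `2`-solvable group is solvable. -/
theorem isSolvable_of_isPSolvable_two (h : Cfsg.IsPSolvable 2 G) : Group.IsSolvable G := by
  obtain ⟨n, H, h0, hlast, hmono, hnorm, hfac⟩ := h
  refine isSolvable_of_chain n H h0 hlast hmono hnorm ?_
  intro i
  have := hnorm i.castSucc
  have hcard : Nat.card (↥(H i.succ) ⧸ (H i.castSucc).subgroupOf (H i.succ)) =
      (H i.castSucc).relIndex (H i.succ) := by
    rw [Subgroup.relIndex, Subgroup.index_eq_card]
  rcases hfac i with ⟨m, hm⟩ | hodd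
  · have : Fact (Nat.Prime 2) := ⟨Nat.prime_two⟩
    have hfin : Finite (↥(H i.succ) ⧸ (H i.castSucc).subgroupOf (H i.succ)) :=
      Nat.finite_of_card_ne_zero (by rw [hcard, hm]; positivity)
    have hp : IsPGroup 2 (↥(H i.succ) ⧸ (H i.castSucc).subgroupOf (H i.succ)) :=
      IsPGroup.of_card (n := m) (by rw [hcard, hm])
    have : Group.IsNilpotent (↥(H i.succ) ⧸ (H i.castSucc).subgroupOf (H i.succ)) :=
      hp.isNilpotent
    infer_instance
  · apply isSolvable_of_odd'
    rw [hcard]
    exact Nat.Coprime.odd_of_right hodd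

/-- A non-solvable finite group has even order. -/
theorem even_card_of_not_isSolvable [Finite G] (h : ¬ Group.IsSolvable G) :
    Even (Nat.card G) := by
  by_contra hne
  exact h (isSolvable_of_odd (Nat.not_even_iff_odd.mp hne))

/-- A non-solvable finite group contains an involution. -/
theorem exists_orderOf_eq_two_of_not_isSolvable [Finite G] (h : ¬ Group.IsSolvable G) :
    ∃ t : G, orderOf t = 2 := by
  have : Fact (Nat.Prime 2) := ⟨Nat.prime_two⟩
  exact exists_prime_orderOf_dvd_card' 2 (even_iff_two_dvd.mp (even_card_of_not_isSolvable h))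

/-- A finite group without involutions is solvable. -/
theorem isSolvable_of_forall_orderOf_ne_two [Finite G] (h : ∀ t : G, orderOf t ≠ 2) :
    Group.IsSolvable G := by
  by_contra hns
  obtain ⟨t, ht⟩ := exists_orderOf_eq_two_of_not_isSolvable hns
  exact h t ht

/-- A nonabelian simple group is not solvable. -/
theorem not_isSolvable_of_simple_nonabelian [IsSimpleGroup G] (hna : ∃ a b : G, a * b ≠ b * a) :
    ¬ Group.IsSolvable G := by
  intro hs
  obtain ⟨a, b, hab⟩ := hna
  exact hab (IsSimpleGroup.comm_iff_isSolvable.mpr hs a b)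

/-- A nonabelian finite simple group has even order. -/
theorem even_card_of_simple_nonabelian [Finite G] [IsSimpleGroup G]
    (hna : ∃ a b : G, a * b ≠ b * a) : Even (Nat.card G) :=
  even_card_of_not_isSolvable (not_isSolvable_of_simple_nonabelian hna)

/-- A nonabelian finite simple group contains an involution. -/
theorem exists_involution_of_simple_nonabelian [Finite G] [IsSimpleGroup G]
    (hna : ∃ a b : G, a * b ≠ b * a) : ∃ t : G, orderOf t = 2 :=
  exists_orderOf_eq_two_of_not_isSolvable (not_isSolvable_of_simple_nonabelian hna)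

/-- A finite simple group of odd order is cyclic of prime order. -/
theorem isCyclic_of_simple_of_odd [Finite G] [IsSimpleGroup G] (h : Odd (Nat.card G)) :
    IsCyclic G ∧ (Nat.card G).Prime := by
  have hs : Group.IsSolvable G := isSolvable_of_odd h
  have hcomm : ∀ a b : G, a * b = b * a := IsSimpleGroup.comm_iff_isSolvable.mpr hs
  let _ : CommGroup G := { (inferInstance : Group G) with mul_comm := hcomm }
  exact ⟨inferInstance, IsSimpleGroup.prime_card⟩

end Cfsg.Agent.Lib.Helper54.FTKit
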