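/-
FT KIT, part 2 (helper54, module FTKIT-[ALL]): Hall subgroup statements that need the Odd Order
Theorem or come with it, re-exported under one roof (namespace `Cfsg.Agent.Lib.Helper54.FTKit`):
* `odd_exists_isPiHallOf`, `odd_isPiHallOf_conj`, `odd_isPiHallOf_dom`
      Hall's theorem inside a subgroup `M` of odd order (helper62's `PiHall` + FT)
* `coprime_exists_invariant_hall`, `coprime_conj_invariant_hall`, `coprime_invariant_hall_ge`
      coprime action of `A` on a SOLVABLE `K` (no hypothesis on `A`): the three parts of `S3745`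
* `coprime_exists_invariant_hall_of_odd` ... the same when `|K|` is odd
* `piSeparable_hall`  = `S1908.result` (helper15): in a `π`-separable group Hall `π`-subgroups
      exist, are conjugate and dominate the `π`-subgroups (`D_π`), no parity hypothesis on `π`.
-/
import Cfsg.Agent.S3745
import Cfsg.Agent.S1908
import Cfsg.Agent.Lib.Helper54.FTKit
import Cfsg.Agent.Lib.Helper62.PiHall

set_option autoImplicit false

namespace Cfsg.Agent.Lib.Helper54.FTKit

open Pointwise

universe u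

variable {X : Type u} [Group X]

/-! ### Hall's theorem in a subgroup of odd order -/

/-- Hall `π`-subgroups exist in a subgroup of odd order. -/
theorem odd_exists_isPiHallOf [Finite X] (π : Set ℕ) (M : Subgroup X) (hM : Odd (Nat.card M)) :
    ∃ H : Subgroup X, Cfsg.IsPiHallOf π H M :=
  Cfsg.Agent.Lib.Helper62.exists_isPiHallOf π M (isSolvable_subgroup_of_odd M hM)

/-- Hall `π`-subgroups of a subgroup `M` of odd order are conjugate in `M`. -/
theorem odd_isPiHallOf_conj [Finite X] {π : Set ℕ} {M H₁ H₂ : Subgroup X} (hM : Odd (Nat.card M))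
    (h₁ : Cfsg.IsPiHallOf π H₁ M) (h₂ : Cfsg.IsPiHallOf π H₂ M) :
    ∃ k ∈ M, MulAut.conj k • H₁ = H₂ :=
  Cfsg.Agent.Lib.Helper62.isPiHallOf_conj (isSolvable_subgroup_of_odd M hM) h₁ h₂

/-- Every `π`-subgroup of a subgroup `M` of odd order lies in a Hall `π`-subgroup of `M`. -/
theorem odd_isPiHallOf_dom [Finite X] {π : Set ℕ} {M U : Subgroup X} (hM : Odd (Nat.card M))
    (hU : U ≤ M) (hUπ : ∀ p : ℕ, p.Prime → p ∣ Nat.card U → p ∈ π) :
    ∃ H : Subgroup X, Cfsg.IsPiHallOf π H M ∧ U ≤ H :=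
  Cfsg.Agent.Lib.Helper62.isPiHallOf_dom (isSolvable_subgroup_of_odd M hM) hU hUπ

/-! ### coprime action on a solvable group: invariant Hall subgroups (`S3745`) -/

/-- `A`-invariant Hall `π`-subgroups of the solvable group `K` exist. -/
theorem coprime_exists_invariant_hall [Finite X] (A K : Subgroup X)
    (hAK : A ≤ Subgroup.normalizer (K : Set X)) (hcop : (Nat.card A).Coprime (Nat.card K))
    (hsolv : Group.IsSolvable K) (π : Set ℕ) :
    ∃ H : Subgroup X, Cfsg.IsPiHallOf π H K ∧ A ≤ Subgroup.normalizer (H : Set X) :=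
  (Cfsg.Agent.S3745.result A K hAK hcop hsolv π).1

/-- Two `A`-invariant Hall `π`-subgroups of the solvable group `K` are conjugate under `C_K(A)`. -/
theorem coprime_conj_invariant_hall [Finite X] (A K : Subgroup X)
    (hAK : A ≤ Subgroup.normalizer (K : Set X)) (hcop : (Nat.card A).Coprime (Nat.card K))
    (hsolv : Group.IsSolvable K) (π : Set ℕ) (H₁ H₂ : Subgroup X)
    (h₁ : Cfsg.IsPiHallOf π H₁ K) (hA₁ : A ≤ Subgroup.normalizer (H₁ : Set X))
    (h₂ : Cfsg.IsPiHallOf π H₂ K) (hA₂ : A ≤ Subgroup.normalizer (H₂ : Set X)) :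
    ∃ c ∈ K ⊓ Subgroup.centralizer (A : Set X), H₂ = H₁.map (MulAut.conj c).toMonoidHom :=
  (Cfsg.Agent.S3745.result A K hAK hcop hsolv π).2.1 H₁ H₂ h₁ hA₁ h₂ hA₂

/-- Every `A`-invariant `π`-subgroup of the solvable group `K` lies in an `A`-invariant Hall
`π`-subgroup of `K`. -/
theorem coprime_invariant_hall_ge [Finite X] (A K : Subgroup X)
    (hAK : A ≤ Subgroup.normalizer (K : Set X)) (hcop : (Nat.card A).Coprime (Nat.card K))
    (hsolv : Group.IsSolvable K) (π : Set ℕ) (U : Subgroup X) (hUK : U ≤ K)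
    (hAU : A ≤ Subgroup.normalizer (U : Set X))
    (hUπ : ∀ p : ℕ, p.Prime → p ∣ Nat.card U → p ∈ π) :
    ∃ H : Subgroup X, Cfsg.IsPiHallOf π H K ∧ A ≤ Subgroup.normalizer (H : Set X) ∧ U ≤ H :=
  (Cfsg.Agent.S3745.result A K hAK hcop hsolv π).2.2 U hUK hAU hUπ

/-- `coprime_exists_invariant_hall` for `K` of odd order. -/
theorem coprime_exists_invariant_hall_of_odd [Finite X] (A K : Subgroup X)
    (hAK : A ≤ Subgroup.normalizer (K : Set X)) (hcop : (Nat.card A).Coprime (Nat.card K))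
    (hK : Odd (Nat.card K)) (π : Set ℕ) :
    ∃ H : Subgroup X, Cfsg.IsPiHallOf π H K ∧ A ≤ Subgroup.normalizer (H : Set X) :=
  coprime_exists_invariant_hall A K hAK hcop (isSolvable_subgroup_of_odd K hK) π

/-- `coprime_conj_invariant_hall` for `K` of odd order. -/
theorem coprime_conj_invariant_hall_of_odd [Finite X] (A K : Subgroup X)
    (hAK : A ≤ Subgroup.normalizer (K : Set X)) (hcop : (Nat.card A).Coprime (Nat.card K))
    (hK : Odd (Nat.card K)) (π : Set ℕ) (H₁ H₂ : Subgroup X)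
    (h₁ : Cfsg.IsPiHallOf π H₁ K) (hA₁ : A ≤ Subgroup.normalizer (H₁ : Set X))
    (h₂ : Cfsg.IsPiHallOf π H₂ K) (hA₂ : A ≤ Subgroup.normalizer (H₂ : Set X)) :
    ∃ c ∈ K ⊓ Subgroup.centralizer (A : Set X), H₂ = H₁.map (MulAut.conj c).toMonoidHom :=
  coprime_conj_invariant_hall A K hAK hcop (isSolvable_subgroup_of_odd K hK) π H₁ H₂ h₁ hA₁ h₂ hA₂

/-- `coprime_invariant_hall_ge` for `K` of odd order. -/
theorem coprime_invariant_hall_ge_of_odd [Finite X] (A K : Subgroup X)
    (hAK : A ≤ Subgroup.normalizer (K : Set X)) (hcop : (Nat.card A).Coprime (Nat.card K))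
    (hK : Odd (Nat.card K)) (π : Set ℕ) (U : Subgroup X) (hUK : U ≤ K)
    (hAU : A ≤ Subgroup.normalizer (U : Set X))
    (hUπ : ∀ p : ℕ, p.Prime → p ∣ Nat.card U → p ∈ π) :
    ∃ H : Subgroup X, Cfsg.IsPiHallOf π H K ∧ A ≤ Subgroup.normalizer (H : Set X) ∧ U ≤ H :=
  coprime_invariant_hall_ge A K hAK hcop (isSolvable_subgroup_of_odd K hK) π U hUK hAU hUπ

/-! ### `π`-separable groups satisfy `D_π` (`S1908`, helper15) -/

/-- In a finite `π`-separable group (a chain of normal subgroups whose factors are `π`- or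
`π'`-groups) Hall `π`-subgroups exist, any two are conjugate, and every `π`-subgroup lies in one.
No hypothesis on the parity of the primes in `π`: this is where the Odd Order Theorem enters. -/
theorem piSeparable_hall [Finite X] (π : Set ℕ)
    (hsep : ∃ (n : ℕ) (H : Fin (n + 1) → Subgroup X), H 0 = ⊥ ∧ H (Fin.last n) = ⊤ ∧ Monotone H ∧
      (∀ i, (H i).Normal) ∧
      ∀ i : Fin n, (∀ q : ℕ, q.Prime → q ∣ (H i.castSucc).relIndex (H i.succ) → q ∈ π) ∨
        (∀ q : ℕ, q.Prime → q ∣ (H i.castSucc).relIndex (H i.succ) → q ∉ π)) :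
    (∃ K : Subgroup X, Cfsg.IsPiHall π K) ∧
      (∀ K L : Subgroup X, Cfsg.IsPiHall π K → Cfsg.IsPiHall π L →
        ∃ g : X, L = K.map (MulAut.conj g).toMonoidHom) ∧
      ∀ U : Subgroup X, (∀ q : ℕ, q.Prime → q ∣ Nat.card U → q ∈ π) →
        ∃ K : Subgroup X, Cfsg.IsPiHall π K ∧ U ≤ K :=
  Cfsg.Agent.S1908.result π hsep

end Cfsg.Agent.Lib.Helper54.FTKit
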