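/-
helper54: shared FORM KIT item (c) = FORMKIT-[TENSORGRAM] for the projects ASCHSP / ASCHU / ASCHO / ASCHOE:
a sesquilinear form (Gram matrix `J`, general field automorphism `σ`) preserved up to scalars by a group in
tensor normal form `B N B⁻¹ = {a ⊗ 1}` has, in the coordinates of the normal form, Gram matrix `G1 ⊗ G2`.
Main statements: `kron_gram_factor` (pure matrices), `tensorNF_gram` (helper99's `TensorNF`),
`kron_right_invariance` (the second factor).
-/
import Mathlib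
import Cfsg.Prelude.Def_GeometricClasses
import Cfsg.Agent.Lib.Helper99.AschDefs

set_option autoImplicit false
set_option linter.unusedSectionVars false

namespace Cfsg.Agent.Lib.Helper54.FormTensorGram

open Cfsg Cfsg.Geo
open scoped Matrix Kronecker

variable {α β : Type} [Fintype α] [DecidableEq α] [Fintype β] [DecidableEq β]
  {F : Type*} [Field F]

/-- the `(s, t)` block of a matrix over `α × β` -/
def blk (G : Matrix (α × β) (α × β) F) (s t : β) : Matrix α α F := fun i j => G (i, s) (j, t)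

theorem blk_apply (G : Matrix (α × β) (α × β) F) (s t : β) (i j : α) :
    blk G s t i j = G (i, s) (j, t) := rfl

theorem blk_kron_mul (A : Matrix α α F) (G : Matrix (α × β) (α × β) F) (s t : β) :
    blk ((A ⊗ₖ (1 : Matrix β β F)) * G) s t = A * blk G s t := by
  ext i j
  rw [blk_apply, Matrix.mul_apply, Matrix.mul_apply, Fintype.sum_prod_type]
  apply Finset.sum_congr rfl
  intro k _
  simp only [Matrix.kroneckerMap_apply, Matrix.one_apply, mul_ite, mul_one, mul_zero, ite_mul,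
    zero_mul]
  rw [Finset.sum_ite_eq]
  simp [blk_apply]

theorem blk_mul_kron (G : Matrix (α × β) (α × β) F) (C : Matrix α α F) (s t : β) :
    blk (G * (C ⊗ₖ (1 : Matrix β β F))) s t = blk G s t * C := by
  ext i j
  rw [blk_apply, Matrix.mul_apply, Matrix.mul_apply, Fintype.sum_prod_type]
  apply Finset.sum_congr rfl
  intro k _
  simp only [Matrix.kroneckerMap_apply, Matrix.one_apply, mul_ite, mul_one, mul_zero]
  rw [Finset.sum_ite_eq']
  simp [blk_apply]

theorem blk_smul (c : F) (G : Matrix (α × β) (α × β) F) (s t : β) :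
    blk (c • G) s t = c • blk G s t := by
  ext i j
  rfl

theorem kron_one_transpose (A : Matrix α α F) :
    (A ⊗ₖ (1 : Matrix β β F))ᵀ = Aᵀ ⊗ₖ (1 : Matrix β β F) := by
  rw [← Matrix.kroneckerMap_transpose, Matrix.transpose_one]

theorem kron_one_map (σ : F ≃+* F) (A : Matrix α α F) :
    (A ⊗ₖ (1 : Matrix β β F)).map σ = A.map σ ⊗ₖ (1 : Matrix β β F) := by
  ext ⟨i, s⟩ ⟨j, t⟩
  simp only [Matrix.map_apply, Matrix.kroneckerMap_apply, Matrix.one_apply, map_mul]
  by_cases h : s = t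
  · simp [h]
  · simp [h]

/-- block form of the invariance -/
theorem blk_invariance (σ : F ≃+* F) (a : Matrix α α F) (G : Matrix (α × β) (α × β) F) (s t : β) :
    blk ((a ⊗ₖ (1 : Matrix β β F))ᵀ * G * (a ⊗ₖ (1 : Matrix β β F)).map σ) s t =
      aᵀ * blk G s t * a.map σ := by
  rw [kron_one_transpose, kron_one_map, blk_mul_kron, blk_kron_mul]

/-- `σ` applied entrywise to an invertible matrix gives an invertible matrix -/
theorem isUnit_map (σ : F ≃+* F) {a : Matrix α α F} (ha : IsUnit a) : IsUnit (a.map σ) := by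
  obtain ⟨u, rfl⟩ := ha
  have h1 : (u : Matrix α α F).map σ * ((u⁻¹ : (Matrix α α F)ˣ) : Matrix α α F).map σ = 1 := by
    rw [← Matrix.map_mul, Units.mul_inv]
    ext i j
    simp [Matrix.one_apply, apply_ite]
  have h2 : ((u⁻¹ : (Matrix α α F)ˣ) : Matrix α α F).map σ * (u : Matrix α α F).map σ = 1 := by
    rw [← Matrix.map_mul, Units.inv_mul]
    ext i j
    simp [Matrix.one_apply, apply_ite]
  exact ⟨⟨_, _, h1, h2⟩, rfl⟩

/-- a nonzero matrix which is semi-invariant under an irreducible set of invertible matrices is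
invertible -/
theorem isUnit_of_invariant (σ : F ≃+* F) (W : Set (Matrix α α F)) (hirr : ActsIrreducibly W)
    (hinv : ∀ s ∈ W, IsUnit s) (P : Matrix α α F) (hP : P ≠ 0)
    (hfix : ∀ s ∈ W, ∃ c : F, sᵀ * P * s.map σ = c • P) : IsUnit P := by
  -- the left radical
  let L : Submodule F (α → F) := LinearMap.ker (Matrix.toLin' Pᵀ)
  have hL : ∀ u, u ∈ L ↔ Pᵀ *ᵥ u = 0 := by
    intro u
    rw [LinearMap.mem_ker, Matrix.toLin'_apply]
  have hLinv : ∀ s ∈ W, L.map (Matrix.toLin' s) ≤ L := by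
    rintro s hs _ ⟨u, hu, rfl⟩
    rw [SetLike.mem_coe, hL] at hu
    rw [hL]
    rw [Matrix.toLin'_apply]
    obtain ⟨c, hc⟩ := hfix s hs
    have hX : IsUnit (s.map σ)ᵀ := (Matrix.isUnit_transpose _).mpr (isUnit_map σ (hinv s hs))
    have h1 : (s.map σ)ᵀ * Pᵀ * s = c • Pᵀ := by
      have := congrArg Matrix.transpose hc
      rw [Matrix.transpose_mul, Matrix.transpose_mul, Matrix.transpose_transpose,
        Matrix.transpose_smul, ← Matrix.mul_assoc] at this
      exact this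
    have h2 : (s.map σ)ᵀ *ᵥ (Pᵀ *ᵥ (s *ᵥ u)) = 0 := by
      rw [Matrix.mulVec_mulVec, Matrix.mulVec_mulVec, h1, Matrix.smul_mulVec,
        hu, smul_zero]
    have hinj := Matrix.mulVec_injective_iff_isUnit.mpr hX
    apply hinj
    rw [h2, Matrix.mulVec_zero]
  rcases hirr L hLinv with h | h
  · -- trivial radical: `Pᵀ` is injective
    rw [← Matrix.isUnit_transpose, ← Matrix.mulVec_injective_iff_isUnit]
    intro u v huv
    have : u - v ∈ L := by
      rw [hL, Matrix.mulVec_sub, huv, sub_self]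
    rw [h, Submodule.mem_bot, sub_eq_zero] at this
    exact this
  · -- full radical: `P = 0`
    exfalso
    apply hP
    have h0 : Pᵀ = 0 := by
      apply Matrix.toLin'.injective
      apply LinearMap.ext
      intro u
      have : u ∈ L := by rw [h]; exact Submodule.mem_top
      rw [hL] at this
      rw [Matrix.toLin'_apply, this]
      simp
    have := congrArg Matrix.transpose h0
    rwa [Matrix.transpose_transpose, Matrix.transpose_zero] at this

/-- two matrices semi-invariant with the same multipliers under a set with scalar commutant are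
proportional -/
theorem proportional_of_invariant (σ : F ≃+* F) (W : Set (Matrix α α F))
    (hcomm : ∀ M : Matrix α α F, (∀ s ∈ W, M * s = s * M) → ∃ c : F, M = c • (1 : Matrix α α F))
    (hinv : ∀ s ∈ W, IsUnit s) (P P' : Matrix α α F) (hP : IsUnit P)
    (hfix : ∀ s ∈ W, ∃ c : F, sᵀ * P * s.map σ = c • P ∧ sᵀ * P' * s.map σ = c • P') :
    ∃ k : F, P' = k • P := by
  obtain ⟨Pu, rfl⟩ := hP
  obtain ⟨E, hE⟩ : ∃ E : Matrix α α F, E = P' * ((Pu⁻¹ : (Matrix α α F)ˣ) : Matrix α α F) := ⟨_, rfl⟩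
  have hEP : E * (Pu : Matrix α α F) = P' := by
    rw [hE, Matrix.mul_assoc, Units.inv_mul, Matrix.mul_one]
  have hcommE : ∀ s ∈ W, Eᵀ * s = s * Eᵀ := by
    intro s hs
    obtain ⟨c, hc1, hc2⟩ := hfix s hs
    obtain ⟨X, hX⟩ := isUnit_map σ (hinv s hs)
    rw [← hX] at hc1 hc2
    -- `sᵀ P' = c P' X⁻¹` and `P⁻¹ sᵀ = c X⁻¹ P⁻¹`
    have h1 : sᵀ * P' = c • (P' * ((X⁻¹ : (Matrix α α F)ˣ) : Matrix α α F)) := by
      have := congrArg (fun M => M * ((X⁻¹ : (Matrix α α F)ˣ) : Matrix α α F)) hc2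
      simp only [Matrix.mul_assoc, Units.mul_inv, Matrix.mul_one, Matrix.smul_mul] at this
      exact this
    have h2 : ((Pu⁻¹ : (Matrix α α F)ˣ) : Matrix α α F) * sᵀ =
        c • (((X⁻¹ : (Matrix α α F)ˣ) : Matrix α α F) * ((Pu⁻¹ : (Matrix α α F)ˣ) : Matrix α α F)) := by
      have h3 : sᵀ * (Pu : Matrix α α F) = c • ((Pu : Matrix α α F) * ((X⁻¹ : (Matrix α α F)ˣ) : Matrix α α F)) := by
        have := congrArg (fun M => M * ((X⁻¹ : (Matrix α α F)ˣ) : Matrix α α F)) hc1
        simp only [Matrix.mul_assoc, Units.mul_inv, Matrix.mul_one, Matrix.smul_mul] at this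
        exact this
      have := congrArg (fun M => ((Pu⁻¹ : (Matrix α α F)ˣ) : Matrix α α F) * M *
        ((Pu⁻¹ : (Matrix α α F)ˣ) : Matrix α α F)) h3
      simp only [Matrix.mul_assoc, Units.mul_inv, Matrix.mul_one, Matrix.mul_smul, Matrix.smul_mul] at this
      rw [this, ← Matrix.mul_assoc, Units.inv_mul, Matrix.one_mul]
    have h4 : sᵀ * E = E * sᵀ := by
      rw [hE, ← Matrix.mul_assoc, h1, Matrix.mul_assoc P', h2, Matrix.smul_mul, Matrix.mul_smul,
        Matrix.mul_assoc]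
    have := congrArg Matrix.transpose h4
    rw [Matrix.transpose_mul, Matrix.transpose_mul, Matrix.transpose_transpose] at this
    exact this
  obtain ⟨k, hk⟩ := hcomm Eᵀ hcommE
  refine ⟨k, ?_⟩
  have hE' : E = k • (1 : Matrix α α F) := by
    have := congrArg Matrix.transpose hk
    rwa [Matrix.transpose_transpose, Matrix.transpose_smul, Matrix.transpose_one] at this
  rw [← hEP, hE', Matrix.smul_mul, Matrix.one_mul]

/-- **Gram matrix of a tensor normal form.**  If the matrices `s ⊗ 1`, `s ∈ W`, with `W` absolutely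
irreducible, preserve the `σ`-sesquilinear form with Gram matrix `G` up to scalars, then `G = G1 ⊗ G2`
with `G1` preserved by `W` with the same scalars. -/
theorem kron_gram_factor [Nonempty α] [Nonempty β] (σ : F ≃+* F) (W : Set (Matrix α α F))
    (habs : ActsAbsolutelyIrreducibly W) (hinv : ∀ s ∈ W, IsUnit s)
    (G : Matrix (α × β) (α × β) F)
    (hG : ∀ s ∈ W, ∃ c : F,
      (s ⊗ₖ (1 : Matrix β β F))ᵀ * G * (s ⊗ₖ (1 : Matrix β β F)).map σ = c • G) :
    ∃ (G1 : Matrix α α F) (G2 : Matrix β β F), G = G1 ⊗ₖ G2 ∧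
      (∀ s ∈ W, ∀ c : F,
        (s ⊗ₖ (1 : Matrix β β F))ᵀ * G * (s ⊗ₖ (1 : Matrix β β F)).map σ = c • G →
          sᵀ * G1 * s.map σ = c • G1) ∧
      (IsUnit G → IsUnit G1 ∧ IsUnit G2) := by
  have hblk : ∀ s ∈ W, ∀ c : F,
      (s ⊗ₖ (1 : Matrix β β F))ᵀ * G * (s ⊗ₖ (1 : Matrix β β F)).map σ = c • G →
      ∀ u t, sᵀ * blk G u t * s.map σ = c • blk G u t := by
    intro s _ c h u t
    rw [← blk_invariance, h, blk_smul]
  by_cases h0 : G = 0
  · refine ⟨0, 0, ?_, ?_, ?_⟩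
    · rw [h0, Matrix.zero_kronecker]
    · intro s _ c _
      rw [Matrix.mul_zero, Matrix.zero_mul, smul_zero]
    · intro hu
      rw [h0] at hu
      exact absurd hu not_isUnit_zero
  · obtain ⟨s₀, t₀, hP⟩ : ∃ s₀ t₀, blk G s₀ t₀ ≠ 0 := by
      by_contra hcon
      simp only [not_exists, not_not] at hcon
      apply h0
      ext ⟨i, u⟩ ⟨j, t⟩
      have := congrFun (congrFun (hcon u t) i) j
      rw [blk_apply] at this
      rw [this]
      rfl
    set P := blk G s₀ t₀ with hPdef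
    have hPfix : ∀ s ∈ W, ∃ c : F, sᵀ * P * s.map σ = c • P := by
      intro s hs
      obtain ⟨c, hc⟩ := hG s hs
      exact ⟨c, hblk s hs c hc s₀ t₀⟩
    have hPunit : IsUnit P := isUnit_of_invariant σ W habs.1 hinv P hP hPfix
    have hprop : ∀ u t, ∃ k : F, blk G u t = k • P := by
      intro u t
      apply proportional_of_invariant σ W habs.2 hinv P (blk G u t) hPunit
      intro s hs
      obtain ⟨c, hc⟩ := hG s hs
      exact ⟨c, hblk s hs c hc s₀ t₀, hblk s hs c hc u t⟩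
    choose C hC using hprop
    have hGeq : G = P ⊗ₖ (Matrix.of C : Matrix β β F) := by
      ext ⟨i, u⟩ ⟨j, t⟩
      rw [Matrix.kroneckerMap_apply, Matrix.of_apply, ← blk_apply G u t i j, hC u t,
        Matrix.smul_apply, smul_eq_mul, mul_comm]
    refine ⟨P, Matrix.of C, hGeq, fun s hs c h => hblk s hs c h s₀ t₀, ?_⟩
    intro hu
    refine ⟨hPunit, ?_⟩
    rw [hGeq, Matrix.isUnit_iff_isUnit_det, Matrix.det_kronecker] at hu
    rw [Matrix.isUnit_iff_isUnit_det]
    have h1 := isUnit_of_mul_isUnit_right hu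
    exact (isUnit_pow_iff Fintype.card_ne_zero).mp h1

/-- invariance of the second tensor factor: if `1 ⊗ b` preserves `G1 ⊗ G2` up to the scalar `c` and
`G1 ≠ 0` then `b` preserves `G2` up to `c` -/
theorem kron_right_invariance (σ : F ≃+* F) (G1 : Matrix α α F) (G2 b : Matrix β β F) (c : F)
    (hG1 : G1 ≠ 0)
    (h : ((1 : Matrix α α F) ⊗ₖ b)ᵀ * (G1 ⊗ₖ G2) * ((1 : Matrix α α F) ⊗ₖ b).map σ =
      c • (G1 ⊗ₖ G2)) :
    bᵀ * G2 * b.map σ = c • G2 := by
  have h1 : ((1 : Matrix α α F) ⊗ₖ b)ᵀ = (1 : Matrix α α F) ⊗ₖ bᵀ := by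
    rw [← Matrix.kroneckerMap_transpose, Matrix.transpose_one]
  have h2 : ((1 : Matrix α α F) ⊗ₖ b).map σ = (1 : Matrix α α F) ⊗ₖ b.map σ := by
    ext ⟨i, s⟩ ⟨j, t⟩
    simp only [Matrix.map_apply, Matrix.kroneckerMap_apply, Matrix.one_apply, map_mul]
    by_cases hij : i = j
    · simp [hij]
    · simp [hij]
  rw [h1, h2, ← Matrix.mul_kronecker_mul, ← Matrix.mul_kronecker_mul, Matrix.one_mul, Matrix.mul_one,
    ← Matrix.kronecker_smul] at h
  obtain ⟨i, j, hij⟩ : ∃ i j, G1 i j ≠ 0 := by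
    by_contra hcon
    simp only [not_exists, not_not] at hcon
    exact hG1 (Matrix.ext hcon)
  ext s t
  have h3 := congrFun (congrFun h (i, s)) (j, t)
  rw [Matrix.kroneckerMap_apply, Matrix.kroneckerMap_apply] at h3
  exact mul_left_cancel₀ hij h3

/-- the first factor of an invertible Kronecker product is nonzero -/
theorem ne_zero_of_isUnit_kron [Nonempty α] [Nonempty β] (G1 : Matrix α α F) (G2 : Matrix β β F)
    (h : IsUnit (G1 ⊗ₖ G2)) : G1 ≠ 0 := by
  rintro rfl
  rw [Matrix.zero_kronecker] at h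
  exact not_isUnit_zero h

section nf

open Cfsg.Agent.Lib.Helper99.Asch
open scoped MatrixGroups

variable {ι : Type} [Fintype ι] [DecidableEq ι]

/-- transport of a semi-invariant Gram matrix along a base change -/
theorem conj_invariance (σ : F ≃+* F) (B x : GL ι F) (J : Matrix ι ι F) (c : F)
    (h : (x : Matrix ι ι F)ᵀ * J * (x : Matrix ι ι F).map σ = c • J) :
    ((B * x * B⁻¹ : GL ι F) : Matrix ι ι F)ᵀ *
        (((B⁻¹ : GL ι F) : Matrix ι ι F)ᵀ * J * ((B⁻¹ : GL ι F) : Matrix ι ι F).map σ) *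
        ((B * x * B⁻¹ : GL ι F) : Matrix ι ι F).map σ =
      c • (((B⁻¹ : GL ι F) : Matrix ι ι F)ᵀ * J * ((B⁻¹ : GL ι F) : Matrix ι ι F).map σ) := by
  have hBt : ∀ Z : Matrix ι ι F,
      (B : Matrix ι ι F)ᵀ * (((B⁻¹ : GL ι F) : Matrix ι ι F)ᵀ * Z) = Z := by
    intro Z
    rw [← Matrix.mul_assoc, ← Matrix.transpose_mul, Units.inv_mul, Matrix.transpose_one,
      Matrix.one_mul]
  have hBs : ∀ Z : Matrix ι ι F,
      ((B⁻¹ : GL ι F) : Matrix ι ι F).map σ * ((B : Matrix ι ι F).map σ * Z) = Z := by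
    intro Z
    rw [← Matrix.mul_assoc, ← Matrix.map_mul, Units.inv_mul]
    have : (1 : Matrix ι ι F).map σ = 1 := by
      ext i j
      simp [Matrix.one_apply, apply_ite]
    rw [this, Matrix.one_mul]
  have hX : ∀ Z : Matrix ι ι F,
      (x : Matrix ι ι F)ᵀ * (J * ((x : Matrix ι ι F).map σ * Z)) = c • (J * Z) := by
    intro Z
    rw [← Matrix.mul_assoc, ← Matrix.mul_assoc, h, Matrix.smul_mul]
  rw [Units.val_mul, Units.val_mul, Matrix.transpose_mul, Matrix.transpose_mul, Matrix.map_mul,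
    Matrix.map_mul]
  simp only [Matrix.mul_assoc]
  rw [hBt, hBs, hX, Matrix.mul_smul]

/-- the entries of a tensor normal form are invertible -/
theorem isUnit_of_kron_one {d e : ℕ} (he : 0 < e) (a : Matrix (Fin d) (Fin d) F)
    (h : IsUnit (a ⊗ₖ (1 : Matrix (Fin e) (Fin e) F))) : IsUnit a := by
  rw [Matrix.isUnit_iff_isUnit_det, Matrix.det_kronecker, Matrix.det_one, one_pow, mul_one,
    Fintype.card_fin] at h
  rw [Matrix.isUnit_iff_isUnit_det]
  exact (isUnit_pow_iff (by omega)).mp h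

/-- **FORMKIT-[TENSORGRAM]**: in the coordinates of a tensor normal form `B N B⁻¹ = {a ⊗ 1}` a
`σ`-sesquilinear form preserved by `N` up to scalars has Gram matrix `G1 ⊗ G2`. -/
theorem tensorNF_gram {n d e : ℕ} (hn : 0 < n) (σ : F ≃+* F) (N : Subgroup (GL (Fin n) F))
    (idx : Fin n ≃ Fin d × Fin e) (B : GL (Fin n) F) (hNF : TensorNF N d e idx B)
    (J : Matrix (Fin n) (Fin n) F)
    (hJ : ∀ x ∈ N, ∃ c : F, (x : Matrix (Fin n) (Fin n) F)ᵀ * J *
      (x : Matrix (Fin n) (Fin n) F).map σ = c • J) :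
    ∃ (G1 : Matrix (Fin d) (Fin d) F) (G2 : Matrix (Fin e) (Fin e) F),
      ((B⁻¹ : GL (Fin n) F) : Matrix (Fin n) (Fin n) F)ᵀ * J *
          ((B⁻¹ : GL (Fin n) F) : Matrix (Fin n) (Fin n) F).map σ =
        Matrix.reindex idx.symm idx.symm (G1 ⊗ₖ G2) ∧
      (∀ x ∈ N, ∀ (a : Matrix (Fin d) (Fin d) F) (c : F),
        ((B * x * B⁻¹ : GL (Fin n) F) : Matrix (Fin n) (Fin n) F) =
          Matrix.reindex idx.symm idx.symm (a ⊗ₖ (1 : Matrix (Fin e) (Fin e) F)) →
        (x : Matrix (Fin n) (Fin n) F)ᵀ * J * (x : Matrix (Fin n) (Fin n) F).map σ = c • J →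
        aᵀ * G1 * a.map σ = c • G1) ∧
      (IsUnit J → IsUnit G1 ∧ IsUnit G2) := by
  have hcard : n = d * e := by
    have := Fintype.card_congr idx
    rwa [Fintype.card_fin, Fintype.card_prod, Fintype.card_fin, Fintype.card_fin] at this
  have hd : 0 < d := Nat.pos_of_ne_zero (fun h => by rw [h, zero_mul] at hcard; omega)
  have he : 0 < e := Nat.pos_of_ne_zero (fun h => by rw [h, mul_zero] at hcard; omega)
  have : Nonempty (Fin d) := ⟨⟨0, hd⟩⟩
  have : Nonempty (Fin e) := ⟨⟨0, he⟩⟩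
  set J' : Matrix (Fin n) (Fin n) F := ((B⁻¹ : GL (Fin n) F) : Matrix (Fin n) (Fin n) F)ᵀ * J *
    ((B⁻¹ : GL (Fin n) F) : Matrix (Fin n) (Fin n) F).map σ with hJ'
  set G : Matrix (Fin d × Fin e) (Fin d × Fin e) F := J'.submatrix idx.symm idx.symm with hGdef
  -- invariance in the new coordinates
  have hinvar : ∀ x ∈ N, ∀ (a : Matrix (Fin d) (Fin d) F) (c : F),
      ((B * x * B⁻¹ : GL (Fin n) F) : Matrix (Fin n) (Fin n) F) =
        Matrix.reindex idx.symm idx.symm (a ⊗ₖ (1 : Matrix (Fin e) (Fin e) F)) →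
      (x : Matrix (Fin n) (Fin n) F)ᵀ * J * (x : Matrix (Fin n) (Fin n) F).map σ = c • J →
      (a ⊗ₖ (1 : Matrix (Fin e) (Fin e) F))ᵀ * G * (a ⊗ₖ (1 : Matrix (Fin e) (Fin e) F)).map σ =
        c • G := by
    intro x _ a c hxa hc
    have h1 := conj_invariance σ B x J c hc
    rw [← hJ'] at h1
    have h2 : a ⊗ₖ (1 : Matrix (Fin e) (Fin e) F) =
        ((B * x * B⁻¹ : GL (Fin n) F) : Matrix (Fin n) (Fin n) F).submatrix idx.symm idx.symm := by
      rw [hxa, Matrix.reindex_apply, Matrix.submatrix_submatrix]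
      simp
    rw [h2, hGdef, Matrix.transpose_submatrix, Matrix.submatrix_mul_equiv, ← Matrix.submatrix_map,
      Matrix.submatrix_mul_equiv, h1]
    rfl
  -- the hypotheses of `kron_gram_factor`
  have hW : ∀ a ∈ {a : Matrix (Fin d) (Fin d) F | ∃ x ∈ N,
      ((B * x * B⁻¹ : GL (Fin n) F) : Matrix (Fin n) (Fin n) F) =
        Matrix.reindex idx.symm idx.symm (a ⊗ₖ (1 : Matrix (Fin e) (Fin e) F))}, IsUnit a := by
    rintro a ⟨x, _, hxa⟩
    apply isUnit_of_kron_one he
    have h2 : a ⊗ₖ (1 : Matrix (Fin e) (Fin e) F) =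
        ((B * x * B⁻¹ : GL (Fin n) F) : Matrix (Fin n) (Fin n) F).submatrix idx.symm idx.symm := by
      rw [hxa, Matrix.reindex_apply, Matrix.submatrix_submatrix]
      simp
    rw [h2, Matrix.isUnit_iff_isUnit_det, Matrix.det_submatrix_equiv_self,
      ← Matrix.isUnit_iff_isUnit_det]
    exact (B * x * B⁻¹).isUnit
  obtain ⟨G1, G2, hG12, hfix, hunit⟩ := kron_gram_factor σ _ hNF.2 hW G (by
    rintro a ⟨x, hx, hxa⟩
    obtain ⟨c, hc⟩ := hJ x hx
    exact ⟨c, hinvar x hx a c hxa hc⟩)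
  refine ⟨G1, G2, ?_, ?_, ?_⟩
  · rw [← hG12, hGdef, Matrix.reindex_apply, Matrix.submatrix_submatrix]
    simp
  · intro x hx a c hxa hc
    exact hfix a ⟨x, hx, hxa⟩ c (hinvar x hx a c hxa hc)
  · intro hJu
    apply hunit
    rw [hGdef, Matrix.isUnit_iff_isUnit_det, Matrix.det_submatrix_equiv_self, hJ', Matrix.det_mul,
      Matrix.det_mul, Matrix.det_transpose]
    have h1 : IsUnit (((B⁻¹ : GL (Fin n) F) : Matrix (Fin n) (Fin n) F)).det :=
      (Matrix.isUnit_iff_isUnit_det _).mp (B⁻¹).isUnit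
    have h2 : IsUnit ((((B⁻¹ : GL (Fin n) F) : Matrix (Fin n) (Fin n) F)).map σ).det :=
      (Matrix.isUnit_iff_isUnit_det _).mp (isUnit_map σ (B⁻¹).isUnit)
    exact (h1.mul ((Matrix.isUnit_iff_isUnit_det _).mp hJu)).mul h2

end nf

end Cfsg.Agent.Lib.Helper54.FormTensorGram
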