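import Cfsg.Agent.Lib.Helper99.KSL.Defs
import Cfsg.Agent.Lib.Helper99.GLClassCount

set_option autoImplicit false

universe u

namespace Cfsg.Agent.Lib.Helper99.KSL

open Polynomial Finset DirectSum
open Cfsg.Agent.Lib.Helper99.GLClass

section field

variable {F : Type u} [Field F]

/-- the transvection `1 + E_{01}` has the characteristic polynomial of the identity -/
theorem lower_charpoly_transvection (m : ℕ) :
    (Matrix.transvection (0 : Fin (m + 2)) 1 (1 : F)).charpoly =
      (1 : Matrix (Fin (m + 2)) (Fin (m + 2)) F).charpoly := by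
  have hup : (Matrix.transvection (0 : Fin (m + 2)) 1 (1 : F)).IsUpperTriangular := by
    intro i j hij
    simp only [id] at hij
    rw [Matrix.transvection, Matrix.add_apply, Matrix.one_apply_ne (ne_of_gt hij),
      zero_add, Matrix.single_apply]
    rw [if_neg]
    rintro ⟨rfl, rfl⟩
    exact absurd hij (by simp)
  rw [Matrix.charpoly_of_isUpperTriangular _ hup, Matrix.charpoly_one]
  rw [Finset.prod_congr rfl (fun i _ => ?_), Finset.prod_const, Finset.card_univ]
  rw [Matrix.transvection, Matrix.add_apply, Matrix.one_apply_eq, Matrix.single_apply, if_neg,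
    add_zero, C_1]
  rintro ⟨h1, h2⟩
  rw [← h1] at h2
  exact absurd h2 (by simp)

theorem lower_transvection_ne_one (m : ℕ) :
    Matrix.transvection (0 : Fin (m + 2)) 1 (1 : F) ≠ 1 := by
  intro h
  have := congrFun (congrFun h 0) 1
  rw [Matrix.transvection, Matrix.add_apply, Matrix.single_apply_same,
    Matrix.one_apply_ne (by simp)] at this
  simp at this

/-- a matrix of determinant one, different from `1`, with prescribed characteristic polynomial
of constant term `(-1)^n` -/
theorem lower_exists_SL (m : ℕ) (f : F[X]) (hf : f.Monic) (hd : f.natDegree = m + 2)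
    (h0 : f.coeff 0 = (-1) ^ (m + 2)) :
    ∃ a : Matrix.SpecialLinearGroup (Fin (m + 2)) F,
      (a : Matrix (Fin (m + 2)) (Fin (m + 2)) F).charpoly = f ∧ a ≠ 1 := by
  obtain ⟨A, hA⟩ := exists_matrix_charpoly (m + 2) f hf hd
  have hdet : ∀ B : Matrix (Fin (m + 2)) (Fin (m + 2)) F, B.charpoly = f → B.det = 1 := by
    intro B hB
    rw [Matrix.det_eq_sign_charpoly_coeff, hB, h0, Fintype.card_fin, ← mul_pow]
    simp
  by_cases hA1 : A = 1
  · refine ⟨⟨Matrix.transvection (0 : Fin (m + 2)) 1 (1 : F), hdet _ ?_⟩, ?_, ?_⟩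
    · rw [lower_charpoly_transvection, ← hA1, hA]
    · show (Matrix.transvection (0 : Fin (m + 2)) 1 (1 : F)).charpoly = f
      rw [lower_charpoly_transvection, ← hA1, hA]
    · intro h
      have := congrArg (fun a : Matrix.SpecialLinearGroup (Fin (m + 2)) F =>
        (a : Matrix (Fin (m + 2)) (Fin (m + 2)) F)) h
      exact lower_transvection_ne_one m this
  · refine ⟨⟨A, hdet A hA⟩, hA, ?_⟩
    intro h
    have := congrArg (fun a : Matrix.SpecialLinearGroup (Fin (m + 2)) F =>
      (a : Matrix (Fin (m + 2)) (Fin (m + 2)) F)) h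
    exact hA1 this

theorem lower_conj_charpoly_eq {n : ℕ} (a b : Matrix.SpecialLinearGroup (Fin n) F)
    (h : ConjClasses.mk a = ConjClasses.mk b) :
    (a : Matrix (Fin n) (Fin n) F).charpoly = (b : Matrix (Fin n) (Fin n) F).charpoly := by
  have h2 : ConjClasses.mk (Matrix.SpecialLinearGroup.toGL a) =
      ConjClasses.mk (Matrix.SpecialLinearGroup.toGL b) := by
    rw [ConjClasses.mk_eq_mk_iff_isConj] at h ⊢
    exact (Matrix.SpecialLinearGroup.toGL :
      Matrix.SpecialLinearGroup (Fin n) F →* Matrix.GeneralLinearGroup (Fin n) F).map_isConj h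
  have h3 := conj_charpoly_eq (Matrix.SpecialLinearGroup.toGL a)
    (Matrix.SpecialLinearGroup.toGL b) h2
  rw [Matrix.SpecialLinearGroup.coe_GL_coe_matrix,
    Matrix.SpecialLinearGroup.coe_GL_coe_matrix] at h3
  exact h3

variable [Fintype F]

/-- [LOWER] -/
theorem card_SL_lower (n : ℕ) (hn : 2 ≤ n) :
    Fintype.card F ^ (n - 1) <
      Nat.card (ConjClasses (Matrix.SpecialLinearGroup (Fin n) F)) := by
  classical
  obtain ⟨m, rfl⟩ : ∃ m, n = m + 2 := ⟨n - 2, by omega⟩
  -- the polynomials
  let fpol : (Fin (m + 1) → F) → F[X] :=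
    fun c => monicOf (m + 2) (Fin.cons ((-1) ^ (m + 2)) c : Fin (m + 2) → F)
  have hex : ∀ c : Fin (m + 1) → F, ∃ a : Matrix.SpecialLinearGroup (Fin (m + 2)) F,
      (a : Matrix (Fin (m + 2)) (Fin (m + 2)) F).charpoly = fpol c ∧ a ≠ 1 := by
    intro c
    refine lower_exists_SL m (fpol c) (monicOf_monic _ _) (monicOf_natDegree _ _) ?_
    have := monicOf_coeff (m + 2) (Fin.cons ((-1) ^ (m + 2)) c : Fin (m + 2) → F) 0
    simpa using this
  choose a ha1 ha2 using hex
  let ψ : Option (Fin (m + 1) → F) → ConjClasses (Matrix.SpecialLinearGroup (Fin (m + 2)) F) :=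
    fun o => match o with
      | none => ConjClasses.mk 1
      | some c => ConjClasses.mk (a c)
  have hψ : Function.Injective ψ := by
    intro o o' h
    match o, o' with
    | none, none => rfl
    | none, some c =>
      exfalso
      have h' : ConjClasses.mk (1 : Matrix.SpecialLinearGroup (Fin (m + 2)) F) =
          ConjClasses.mk (a c) := h
      rw [ConjClasses.mk_eq_mk_iff_isConj, isConj_one_right] at h'
      exact ha2 c h'
    | some c, none =>
      exfalso
      have h' : ConjClasses.mk (a c) =
          ConjClasses.mk (1 : Matrix.SpecialLinearGroup (Fin (m + 2)) F) := h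
      rw [ConjClasses.mk_eq_mk_iff_isConj, isConj_one_left] at h'
      exact ha2 c h'
    | some c, some c' =>
      have h' : ConjClasses.mk (a c) = ConjClasses.mk (a c') := h
      have h2 := lower_conj_charpoly_eq _ _ h'
      rw [ha1, ha1] at h2
      have h3 := monicOf_injective (m + 2) h2
      exact congrArg some (Fin.cons_right_injective _ h3)
  have hcard := Nat.card_le_card_of_injective ψ hψ
  have h1 : Nat.card (Option (Fin (m + 1) → F)) = Fintype.card F ^ (m + 1) + 1 := by
    rw [Nat.card_eq_fintype_card, Fintype.card_option, Fintype.card_fun, Fintype.card_fin]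
  rw [h1] at hcard
  have : m + 2 - 1 = m + 1 := by omega
  rw [this]
  omega

end field

end Cfsg.Agent.Lib.Helper99.KSL
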