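import Cfsg.Agent.Lib.Helper99.KSL.Defs

set_option autoImplicit false

universe u

namespace Cfsg.Agent.Lib.Helper99.KSL

open Polynomial Finset DirectSum
open scoped Pointwise
open Cfsg.Agent.Lib.Helper99.GLClass

/-- [SPLIT] the `N`-classes inside one `G`-class: at most `|G : N C_G(x)|`. -/
theorem card_fiber_le {G N : Type*} [Group G] [Group N] [Finite G] (ι : N →* G)
    (hι : Function.Injective ι) (hn : (ι.range).Normal) (x : N) :
    Nat.card {D : ConjClasses N // ConjClasses.map ι D = ConjClasses.mk (ι x)} ≤
      (ι.range ⊔ Subgroup.centralizer {ι x}).index := by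
  classical
  set H : Subgroup G := ι.range ⊔ Subgroup.centralizer {ι x} with hH
  -- for every class in the fibre choose a conjugating element
  have hex : ∀ D : {D : ConjClasses N // ConjClasses.map ι D = ConjClasses.mk (ι x)},
      ∃ g : G, g * ι x * g⁻¹ = ι (Quotient.out D.1) := by
    rintro ⟨D, hD⟩
    have e1 : ConjClasses.mk (Quotient.out D) = D := Quotient.out_eq D
    have h2 : ConjClasses.mk (ι (Quotient.out D)) = ConjClasses.mk (ι x) := by
      rw [← hD]
      conv_rhs => rw [← e1]
      rfl
    rw [ConjClasses.mk_eq_mk_iff_isConj, isConj_comm, isConj_iff] at h2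
    exact h2
  choose g hg using hex
  have hinj : Function.Injective
      (fun D : {D : ConjClasses N // ConjClasses.map ι D = ConjClasses.mk (ι x)} =>
        (QuotientGroup.mk (g D) : G ⧸ H)) := by
    intro D D' h
    simp only at h
    rw [QuotientGroup.eq] at h
    -- (g D)⁻¹ * g D' ∈ H = range * centralizer
    have hmem : ((g D)⁻¹ * g D' : G) ∈
        ((ι.range : Set G) * (Subgroup.centralizer {ι x} : Set G) : Set G) := by
      rw [← Subgroup.normal_mul]
      exact h
    obtain ⟨ν, hν, c, hc, hνc⟩ := hmem
    simp only [SetLike.mem_coe] at hν hc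
    replace hνc : ν * c = (g D)⁻¹ * g D' := hνc
    have hc' : c * ι x * c⁻¹ = ι x := by
      rw [Subgroup.mem_centralizer_iff] at hc
      have := hc (ι x) (Set.mem_singleton _)
      rw [← this, mul_inv_cancel_right]
    have hgD' : g D' = g D * ν * c := by
      rw [mul_assoc, hνc, mul_inv_cancel_left]
    -- the element m = g ν g⁻¹ lies in the range
    have hm : g D * ν * (g D)⁻¹ ∈ ι.range := hn.conj_mem ν hν (g D)
    obtain ⟨k, hk⟩ := hm
    have hconj : ι (Quotient.out D'.1) = ι (k * Quotient.out D.1 * k⁻¹) := by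
      rw [map_mul, map_mul, map_inv, hk, ← hg D, ← hg D', hgD']
      have : (g D * ν * c) * ι x * (g D * ν * c)⁻¹ =
          (g D * ν) * (c * ι x * c⁻¹) * (g D * ν)⁻¹ := by
        simp only [mul_inv_rev, mul_assoc]
      rw [this, hc']
      simp only [mul_inv_rev, mul_assoc, inv_inv, inv_mul_cancel_left]
    have hy := hι hconj
    apply Subtype.ext
    have e1 : ConjClasses.mk (Quotient.out D.1) = D.1 := Quotient.out_eq D.1
    have e2 : ConjClasses.mk (Quotient.out D'.1) = D'.1 := Quotient.out_eq D'.1
    rw [← e1, ← e2, hy, ConjClasses.mk_eq_mk_iff_isConj, isConj_iff]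
    exact ⟨k, rfl⟩
  have := Nat.card_le_card_of_injective _ hinj
  rwa [← Subgroup.index_eq_card] at this

end Cfsg.Agent.Lib.Helper99.KSL
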