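import Cfsg.Agent.Lib.Helper99.KSL.Defs
import Cfsg.Agent.Lib.Helper54.KslSplit

set_option autoImplicit false

universe u

namespace Cfsg.Agent.Lib.Helper99.KSL

open Polynomial Finset DirectSum
open Cfsg.Agent.Lib.Helper99.GLClass

section field

variable {F : Type u} [Field F]

theorem slgl_range_toGL (n : ℕ) :
    (Matrix.SpecialLinearGroup.toGL :
      Matrix.SpecialLinearGroup (Fin n) F →* Matrix.GeneralLinearGroup (Fin n) F).range =
      (Matrix.GeneralLinearGroup.det :
        Matrix.GeneralLinearGroup (Fin n) F →* Fˣ).ker := by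
  ext x
  rw [MonoidHom.mem_range, MonoidHom.mem_ker]
  constructor
  · rintro ⟨y, rfl⟩
    apply Units.ext
    simp
  · intro hx
    have h1 : (x : Matrix (Fin n) (Fin n) F).det = 1 := by
      have := congrArg Units.val hx
      simpa using this
    refine ⟨⟨(x : Matrix (Fin n) (Fin n) F), h1⟩, ?_⟩
    apply Units.ext
    rfl

/-- the image under `det` of the centraliser only depends on the conjugacy class -/
theorem slgl_map_det_centralizer_conj {n : ℕ} (g y : Matrix.GeneralLinearGroup (Fin n) F) :
    (Subgroup.centralizer {g * y * g⁻¹}).map Matrix.GeneralLinearGroup.det =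
      (Subgroup.centralizer {y}).map Matrix.GeneralLinearGroup.det := by
  ext c
  simp only [Subgroup.mem_map, Subgroup.mem_centralizer_iff, Set.mem_singleton_iff, forall_eq]
  constructor
  · rintro ⟨k, hk, rfl⟩
    refine ⟨g⁻¹ * k * g, ?_, ?_⟩
    · have : g⁻¹ * (g * y * g⁻¹ * k) * g = g⁻¹ * (k * (g * y * g⁻¹)) * g := by rw [hk]
      simp only [mul_assoc, inv_mul_cancel_left] at this
      simp only [mul_assoc, inv_mul_cancel, mul_one] at this ⊢
      exact this
    · simp only [map_mul, map_inv]
      rw [mul_comm, ← mul_assoc, mul_inv_cancel, one_mul]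
  · rintro ⟨k, hk, rfl⟩
    refine ⟨g * k * g⁻¹, ?_, ?_⟩
    · simp only [mul_assoc, inv_mul_cancel_left]
      rw [← mul_assoc y, hk, mul_assoc]
    · simp only [map_mul, map_inv]
      rw [mul_comm, ← mul_assoc, inv_mul_cancel, one_mul]

/-- [SLGL] class number of `SL_n` bounded through `GL_n`-classes of determinant one,
each weighted by the index of `det (C_GL(x))` in `Fˣ`. -/
theorem card_conjClasses_SL_le [Fintype F] {α : Type*} (n : ℕ) (s : Finset α) (wt : α → ℕ)
    (φ : ConjClasses (Matrix.GeneralLinearGroup (Fin n) F) → α) (hφ : Function.Injective φ)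
    (h : ∀ C : ConjClasses (Matrix.GeneralLinearGroup (Fin n) F),
      Matrix.GeneralLinearGroup.det (Quotient.out C) = 1 →
        φ C ∈ s ∧ ((Subgroup.centralizer {Quotient.out C}).map
          Matrix.GeneralLinearGroup.det).index ≤ wt (φ C)) :
    Nat.card (ConjClasses (Matrix.SpecialLinearGroup (Fin n) F)) ≤ ∑ a ∈ s, wt a := by
  classical
  set ι : Matrix.SpecialLinearGroup (Fin n) F →* Matrix.GeneralLinearGroup (Fin n) F :=
    Matrix.SpecialLinearGroup.toGL with hιdef
  have hιinj : Function.Injective ι := Matrix.SpecialLinearGroup.toGL_injective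
  have hrange : ι.range = (Matrix.GeneralLinearGroup.det :
        Matrix.GeneralLinearGroup (Fin n) F →* Fˣ).ker := slgl_range_toGL n
  have hnormal : (ι.range).Normal := by rw [hrange]; infer_instance
  let _ : Fintype (ConjClasses (Matrix.GeneralLinearGroup (Fin n) F)) := Fintype.ofFinite _
  -- the fibres
  let fib : ConjClasses (Matrix.GeneralLinearGroup (Fin n) F) → Type _ :=
    fun C => {D : ConjClasses (Matrix.SpecialLinearGroup (Fin n) F) // ConjClasses.map ι D = C}
  have hcard : Nat.card (ConjClasses (Matrix.SpecialLinearGroup (Fin n) F)) =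
      ∑ C : ConjClasses (Matrix.GeneralLinearGroup (Fin n) F), Nat.card (fib C) := by
    rw [← Nat.card_sigma]
    exact Nat.card_congr (Equiv.sigmaFiberEquiv (ConjClasses.map ι)).symm
  -- classes with nonempty fibre
  set T : Finset (ConjClasses (Matrix.GeneralLinearGroup (Fin n) F)) :=
    Finset.univ.filter (fun C => Nonempty (fib C)) with hT
  have hfib : ∀ C ∈ T, φ C ∈ s ∧ Nat.card (fib C) ≤ wt (φ C) := by
    intro C hC
    rw [hT, Finset.mem_filter] at hC
    obtain ⟨-, ⟨D, hD⟩⟩ := hC
    obtain ⟨x, rfl⟩ := ConjClasses.mk_surjective D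
    have hCx : C = ConjClasses.mk (ι x) := hD.symm
    -- `out C` is conjugate to `ι x`
    have hout : ConjClasses.mk (Quotient.out C) = ConjClasses.mk (ι x) := by
      rw [← hCx]; exact Quotient.out_eq C
    rw [ConjClasses.mk_eq_mk_iff_isConj, isConj_comm, isConj_iff] at hout
    obtain ⟨g, hg⟩ := hout
    have hdet1 : Matrix.GeneralLinearGroup.det (ι x) = 1 := by
      have : ι x ∈ ι.range := ⟨x, rfl⟩
      rw [hrange, MonoidHom.mem_ker] at this
      exact this
    have hdet : Matrix.GeneralLinearGroup.det (Quotient.out C) = 1 := by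
      rw [← hg]
      simp only [map_mul, map_inv]
      rw [hdet1, mul_one, mul_inv_cancel]
    obtain ⟨h1, h2⟩ := h C hdet
    refine ⟨h1, le_trans ?_ h2⟩
    rw [← hg, slgl_map_det_centralizer_conj, Subgroup.index_map]
    have hle : Nat.card (fib C) ≤ (ι.range ⊔ Subgroup.centralizer {ι x}).index := by
      have := card_fiber_le ι hιinj hnormal x
      rw [hCx]
      exact this
    refine le_trans hle ?_
    rw [sup_comm, hrange]
    have hpos : 0 < (Matrix.GeneralLinearGroup.det :
        Matrix.GeneralLinearGroup (Fin n) F →* Fˣ).range.index :=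
      Nat.pos_of_ne_zero (Subgroup.index_ne_zero_of_finite)
    exact Nat.le_mul_of_pos_right _ hpos
  have hzero : ∀ C ∉ T, Nat.card (fib C) = 0 := by
    intro C hC
    rw [hT, Finset.mem_filter] at hC
    simp only [Finset.mem_univ, true_and, not_nonempty_iff] at hC
    exact Nat.card_of_isEmpty
  rw [hcard]
  calc ∑ C : ConjClasses (Matrix.GeneralLinearGroup (Fin n) F), Nat.card (fib C)
      = ∑ C ∈ T, Nat.card (fib C) := by
        symm
        apply Finset.sum_subset (Finset.subset_univ _)
        intro C _ hC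
        exact hzero C hC
    _ ≤ ∑ C ∈ T, wt (φ C) := Finset.sum_le_sum (fun C hC => (hfib C hC).2)
    _ = ∑ a ∈ T.image φ, wt a := by
        rw [Finset.sum_image]
        intro a _ b _ hab
        exact hφ hab
    _ ≤ ∑ a ∈ s, wt a := by
        apply Finset.sum_le_sum_of_subset
        intro a ha
        rw [Finset.mem_image] at ha
        obtain ⟨C, hC, rfl⟩ := ha
        exact (hfib C hC).1

end field

end Cfsg.Agent.Lib.Helper99.KSL
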