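import Cfsg.Agent.Lib.Helper99.MinIdx.Defs
import Cfsg.Agent.Lib.Helper5.SLGen

/-!
# S2140 module [GEN] (helper54, for helper99): `SL(V)` is generated by the transvections `tv v r`

Transfer of the matrix statement `Cfsg.Agent.Lib.Helper5.closure_transvection_eq_top` along
`Matrix.SpecialLinearGroup.toLin_equiv` for a basis of `V`.
-/

set_option autoImplicit false

namespace Cfsg.Agent.Lib.Helper54.MinIdxGen

open Module Cfsg.Agent.Lib.Helper99.MinIdx

variable {F : Type*} [Field F] {V : Type*} [AddCommGroup V] [Module F V]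

theorem toLin_equiv_transvection {ι : Type*} [Fintype ι] [DecidableEq ι] (b : Basis ι F V)
    {i j : ι} (hij : i ≠ j) (c : F) :
    Matrix.SpecialLinearGroup.toLin_equiv b (Matrix.SpecialLinearGroup.transvection hij c)
      = tv (c • b i) (b.coord j) := by
  have h0 : b.coord j (c • b i) = 0 := by
    simp [Finsupp.single_eq_of_ne hij.symm]
  apply SpecialLinearGroup.ext
  intro x
  rw [tv_apply h0]
  have h1 : (Matrix.SpecialLinearGroup.toLin_equiv b
      (Matrix.SpecialLinearGroup.transvection hij c)) x
      = Matrix.toLin b b (Matrix.SpecialLinearGroup.transvection hij c).1 x := rfl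
  rw [h1, Matrix.SpecialLinearGroup.transvection_coe, map_add, Matrix.toLin_one,
    LinearMap.add_apply, LinearMap.id_apply, Matrix.toLin_apply, Matrix.single_mulVec_eq]
  congr 1
  rw [Finset.sum_eq_single i]
  · simp [smul_smul, mul_comm]
  · intro k _ hk
    simp [Pi.single_eq_of_ne hk]
  · intro h
    exact absurd (Finset.mem_univ i) h

theorem closure_tv_eq_top [FiniteDimensional F V] :
    Subgroup.closure {g : SpecialLinearGroup F V | ∃ (v : V) (r : Dual F V), r v = 0 ∧ g = tv v r}
      = ⊤ := by
  classical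
  set b := Module.finBasis F V with hb
  set φ := Matrix.SpecialLinearGroup.toLin_equiv b with hφ
  have h1 := Cfsg.Agent.Lib.Helper5.closure_transvection_eq_top (F := F) (ι := Fin (finrank F V))
  have h2 : Subgroup.map φ.toMonoidHom ⊤ = ⊤ := by
    rw [← MonoidHom.range_eq_map, MonoidHom.range_eq_top]
    exact φ.surjective
  rw [← h1, MonoidHom.map_closure] at h2
  rw [eq_top_iff, ← h2]
  apply Subgroup.closure_mono
  rintro _ ⟨g, ⟨i, j, hij, c, rfl⟩, rfl⟩
  refine ⟨c • b i, b.coord j, ?_, ?_⟩
  · simp [Finsupp.single_eq_of_ne hij.symm]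
  · exact toLin_equiv_transvection b hij c

end Cfsg.Agent.Lib.Helper54.MinIdxGen
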