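import Cfsg.Agent.Lib.Helper99.MinIdx.Defs

/-!
# S2140 module [RHO] (helper54, for helper99): the cocycle `ρ` of a regular `Q_e`

If the transvection group `Q_e = {tv e r : r e = 0}` acts freely on `Ω` and `|Ω| = |Q_e|`, then for
every `g` there is a unique `ρ g ∈ annE e` with `tv e (ρ g) • g • ω₀ = ω₀`, and `ρ` satisfies the
cocycle law on the stabiliser of `e`.
-/

set_option autoImplicit false

namespace Cfsg.Agent.Lib.Helper54.MinIdxRho

open Module MulAction Cfsg.Agent.Lib.Helper99.MinIdx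

variable {F : Type*} [Field F] {V : Type*} [AddCommGroup V] [Module F V]

theorem sl_inv_apply_apply (g : SpecialLinearGroup F V) (x : V) : g⁻¹ (g x) = x := by
  have h : (g⁻¹ * g) x = x := by rw [inv_mul_cancel]; rfl
  exact h

theorem sl_apply_inv_apply (g : SpecialLinearGroup F V) (x : V) : g (g⁻¹ x) = x := by
  have h : (g * g⁻¹) x = x := by rw [mul_inv_cancel]; rfl
  exact h

theorem sl_inv_apply_of_fix {g : SpecialLinearGroup F V} {e : V} (h : g e = e) : g⁻¹ e = e := by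
  conv_lhs => rw [← h]
  exact sl_inv_apply_apply g e

/-- Under `hfree`, `r ↦ tv e r • ω'` is injective on `annE e`. -/
theorem tv_smul_injective {Ω : Type*} [MulAction (SpecialLinearGroup F V) Ω] {e : V}
    (hfree : ∀ r : Dual F V, r e = 0 → r ≠ 0 → ∀ ω : Ω, tv e r • ω ≠ ω) (ω' : Ω)
    {r r' : Dual F V} (hr : r e = 0) (hr' : r' e = 0) (h : tv e r • ω' = tv e r' • ω') :
    r = r' := by
  by_contra hne
  have hd : (-r' + r) e = 0 := by simp [hr, hr']
  have hd0 : -r' + r ≠ 0 := by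
    intro h0
    apply hne
    have : r = r' := by
      have := eq_neg_of_add_eq_zero_right h0
      rw [neg_neg] at this
      exact this
    exact this
  apply hfree (-r' + r) hd hd0 ω'
  have hn : (-r') e = 0 := by simp [hr']
  rw [← tv_mul_same_left hn hr, ← tv_inv hr', mul_smul, h, inv_smul_smul]

theorem exists_rho [Finite F] [FiniteDimensional F V] {Ω : Type*} [Finite Ω]
    [MulAction (SpecialLinearGroup F V) Ω] {e : V} (he : e ≠ 0)
    (hN : Nat.card Ω = Nat.card F ^ (finrank F V - 1))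
    (hfree : ∀ r : Dual F V, r e = 0 → r ≠ 0 → ∀ ω : Ω, tv e r • ω ≠ ω) (ω₀ : Ω) :
    ∃ ρ : SpecialLinearGroup F V → Dual F V,
      (∀ g, g e = e → ρ g e = 0 ∧ (tv e (ρ g) * g) • ω₀ = ω₀) ∧
      (∀ g g', g e = e → g' e = e → ∀ x, ρ (g * g') x = ρ g x + ρ g' (g⁻¹ x)) := by
  classical
  -- bijectivity of `r ↦ tv e r • ω'`
  have hbij : ∀ ω' : Ω, Function.Bijective (fun r : annE (F := F) e => tv e r.1 • ω') := by
    intro ω'
    have : Finite (annE (F := F) e) := Module.finite_of_finite F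
    rw [Nat.bijective_iff_injective_and_card]
    refine ⟨?_, ?_⟩
    · intro r r' h
      exact Subtype.ext (tv_smul_injective hfree ω' r.2 r'.2 h)
    · rw [card_annE he, hN]
  have hex : ∀ g : SpecialLinearGroup F V, ∃ r : annE (F := F) e, tv e r.1 • (g • ω₀) = ω₀ :=
    fun g => (hbij (g • ω₀)).2 ω₀
  choose ρ' hρ' using hex
  refine ⟨fun g => (ρ' g).1, ?_, ?_⟩
  · intro g _
    exact ⟨(ρ' g).2, by rw [mul_smul]; exact hρ' g⟩
  · intro g g' hg hg' x
    -- the candidate
    set s : Dual F V := (ρ' g).1 + (ρ' g').1.comp ((g⁻¹).1 : V →ₗ[F] V) with hs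
    have hcomp : ∀ y, ((ρ' g').1.comp ((g⁻¹).1 : V →ₗ[F] V)) y = (ρ' g').1 (g⁻¹ y) :=
      fun y => rfl
    have hc0 : ((ρ' g').1.comp ((g⁻¹).1 : V →ₗ[F] V)) e = 0 := by
      rw [hcomp, sl_inv_apply_of_fix hg]
      exact (ρ' g').2
    have hs0 : s e = 0 := by
      rw [hs, LinearMap.add_apply, hc0, add_zero]
      exact (ρ' g).2
    have hconj : g * tv e (ρ' g').1 * g⁻¹ = tv e ((ρ' g').1.comp ((g⁻¹).1 : V →ₗ[F] V)) := by
      have := tv_conj g (v := e) (r := (ρ' g').1)
        (r' := (ρ' g').1.comp ((g⁻¹).1 : V →ₗ[F] V)) (ρ' g').2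
        (fun y => by rw [hcomp, sl_inv_apply_apply])
      rw [hg] at this
      exact this
    have hfix : tv e s • ((g * g') • ω₀) = ω₀ := by
      rw [hs, ← tv_mul_same_left (ρ' g).2 hc0, ← hconj]
      have : (tv e (ρ' g).1 * (g * tv e (ρ' g').1 * g⁻¹)) • ((g * g') • ω₀)
          = tv e (ρ' g).1 • (g • (tv e (ρ' g').1 • (g' • ω₀))) := by
        simp only [mul_smul, inv_smul_smul]
      rw [this, hρ' g', hρ' g]
    have hinj := (hbij ((g * g') • ω₀)).1
    have heq : ρ' (g * g') = ⟨s, hs0⟩ := by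
      apply hinj
      change tv e (ρ' (g * g')).1 • ((g * g') • ω₀) = tv e s • ((g * g') • ω₀)
      rw [hfix, hρ' (g * g')]
    change (ρ' (g * g')).1 x = _
    rw [heq]
    rfl

end Cfsg.Agent.Lib.Helper54.MinIdxRho
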