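import Cfsg.Agent.Lib.Helper99.MinIdx.Defs

/-!
# S2140 module [SPREAD] (helper54, for helper99)

If for every `e ≠ 0` the transvections `tv e r` fixing `ω` are exactly those killing a line
`ℓ_e = span {e, y_e}`, then the lines `ℓ_e` would form an `SL`-stable-at-`ω` spread, which is
impossible for `finrank ≥ 3`.
-/

set_option autoImplicit false

namespace Cfsg.Agent.Lib.Helper54.MinIdxSpread

open Module MulAction Submodule Cfsg.Agent.Lib.Helper99.MinIdx

variable {F : Type*} [Field F] {V : Type*} [AddCommGroup V] [Module F V]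

/-- Separation: a vector outside `span {a, b}` is detected by a functional killing `a`, `b`. -/
theorem sep2 {a b x : V} (hx : x ∉ span F ({a, b} : Set V)) :
    ∃ r : Dual F V, r a = 0 ∧ r b = 0 ∧ r x = 1 := by
  obtain ⟨g, hg, hgx⟩ := LinearMap.exists_extend_of_notMem
    (0 : (span F ({a, b} : Set V)) →ₗ[F] F) hx 1
  have hk : ∀ w (hw : w ∈ span F ({a, b} : Set V)), g w = 0 := by
    intro w hw
    have := congrArg (fun f => f ⟨w, hw⟩) hg
    simpa using this
  exact ⟨g, hk a (subset_span (by simp)), hk b (subset_span (by simp)), hgx⟩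

/-- Equivariance: if `h` fixes `ω` then `tv (h e) r` fixes `ω` iff `tv e (r ∘ h)` does. -/
theorem fix_conj_iff {Ω : Type*} [MulAction (SpecialLinearGroup F V) Ω] {ω : Ω}
    (h : SpecialLinearGroup F V) (hh : h • ω = ω) (e : V) (r : Dual F V) (hr : r (h e) = 0) :
    tv (h e) r • ω = ω ↔ tv e (r.comp (h.1 : V →ₗ[F] V)) • ω = ω := by
  have h0 : (r.comp (h.1 : V →ₗ[F] V)) e = 0 := hr
  have hc := tv_conj h (v := e) (r := r.comp (h.1 : V →ₗ[F] V)) (r' := r) h0 (fun x => rfl)
  have hinv : h⁻¹ • ω = ω := by rw [inv_smul_eq_iff, hh]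
  rw [← hc, mul_smul, mul_smul, hinv]
  constructor
  · intro h1
    have := congrArg (fun z => h⁻¹ • z) h1
    simpa [hinv] using this
  · intro h1
    rw [h1, hh]

/-- The spread property (a'). -/
theorem spread_aux {Ω : Type*} [MulAction (SpecialLinearGroup F V) Ω] {ω : Ω}
    {e v ye yv : V} (he : e ≠ 0)
    (hPe : ∀ r : Dual F V, r e = 0 → (tv e r • ω = ω ↔ r ye = 0))
    (hv : v ∈ span F ({e, ye} : Set V)) (hve : v ∉ span F ({e} : Set V))
    (hPv : ∀ r : Dual F V, r v = 0 → (tv v r • ω = ω ↔ r yv = 0)) :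
    yv ∈ span F ({e, v} : Set V) := by
  obtain ⟨a, b, hab⟩ := mem_span_pair.1 hv
  have hb : b ≠ 0 := by
    rintro rfl
    apply hve
    rw [mem_span_singleton]
    exact ⟨a, by simpa using hab⟩
  by_contra hcon
  by_cases hcase : e ∈ span F ({v, yv} : Set V)
  · obtain ⟨c, d, hcd⟩ := mem_span_pair.1 hcase
    have hd : d ≠ 0 := by
      rintro rfl
      have hc0 : c ≠ 0 := by
        rintro rfl
        apply he
        simpa using hcd.symm
      apply hve
      rw [mem_span_singleton]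
      refine ⟨c⁻¹, ?_⟩
      rw [← hcd]
      simp [smul_smul, hc0]
    apply hcon
    rw [mem_span_pair]
    refine ⟨d⁻¹, -(d⁻¹ * c), ?_⟩
    rw [← hcd, smul_add, smul_smul, smul_smul, inv_mul_cancel₀ hd, one_smul, neg_smul]
    abel
  · obtain ⟨r', hr'v, hr'y, hr'e⟩ := sep2 hcase
    have hfix : tv v r' • ω = ω := (hPv r' hr'v).2 hr'y
    have hhe : tv v r' e = e + v := by rw [tv_apply hr'v, hr'e, one_smul]
    have hall : ∀ r : Dual F V, r e = 0 → r v = 0 → r yv = 0 := by
      intro r hre hrv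
      have hrye : r ye = 0 := by
        have := congrArg r hab
        simp only [map_add, map_smul, hre, hrv, smul_eq_mul, mul_zero, zero_add,
          mul_eq_zero] at this
        exact this.resolve_left hb
      have h1 : tv e r • ω = ω := (hPe r hre).2 hrye
      have h2 : tv (e + v) r • ω = ω := by
        have hrh : r (tv v r' e) = 0 := by rw [hhe]; simp [hre, hrv]
        have h3 := fix_conj_iff (tv v r') hfix e r hrh
        rw [hhe] at h3
        rw [h3]
        have h4 : r.comp ((tv v r').1 : V →ₗ[F] V) = r := by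
          ext x
          change r (tv v r' x) = r x
          rw [tv_apply hr'v]
          simp [hrv]
        rw [h4]
        exact h1
      have h3 : tv v r • ω = ω := by
        have h5 := tv_mul_same_right (v := e) (v' := v) hre hrv
        have h6 : tv v r = (tv e r)⁻¹ * tv (e + v) r := by rw [← h5]; group
        rw [h6, mul_smul, h2, inv_smul_eq_iff, h1]
      exact (hPv r hrv).1 h3
    apply hcon
    by_contra hcon2
    obtain ⟨r, hre, hrv, hry⟩ := sep2 hcon2
    have := hall r hre hrv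
    rw [hry] at this
    exact one_ne_zero this

theorem spread_false [FiniteDimensional F V] (hn : 3 ≤ finrank F V) {Ω : Type*}
    [MulAction (SpecialLinearGroup F V) Ω] (ω : Ω)
    (hell : ∀ e : V, e ≠ 0 → ∃ y : V, y ∉ Submodule.span F {e} ∧
      ∀ r : Dual F V, r e = 0 → (tv e r • ω = ω ↔ r y = 0)) : False := by
  classical
  have hnt : Nontrivial V := (Module.finrank_pos_iff (R := F) (M := V)).1 (by omega)
  obtain ⟨e₁, he₁⟩ := exists_ne (0 : V)
  obtain ⟨y₁, hy₁, hP₁⟩ := hell e₁ he₁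
  have hex : ∃ e₂, e₂ ∉ span F ({e₁, y₁} : Set V) := by
    by_contra hall
    push Not at hall
    have htop : span F ({e₁, y₁} : Set V) = ⊤ := eq_top_iff'.2 hall
    have h1 := finrank_span_finset_le_card (R := F) ({e₁, y₁} : Finset V)
    have h2 : (({e₁, y₁} : Finset V) : Set V) = ({e₁, y₁} : Set V) := by simp
    unfold Set.finrank at h1
    rw [h2, htop, finrank_top] at h1
    have h3 : ({e₁, y₁} : Finset V).card ≤ 2 := Finset.card_le_two
    omega
  obtain ⟨e₂, he₂L⟩ := hex
  have he₂ : e₂ ≠ 0 := by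
    rintro rfl
    exact he₂L (zero_mem _)
  obtain ⟨y₂, hy₂, hP₂⟩ := hell e₂ he₂
  obtain ⟨r, hr1, hr1y, hr2⟩ := sep2 he₂L
  set w₀ := y₂ - r y₂ • e₂ with hw₀def
  have hrw : r w₀ = 0 := by simp [w₀, hr2]
  have hw₀L : w₀ ∈ span F ({e₂, y₂} : Set V) := by
    rw [mem_span_pair]
    exact ⟨-(r y₂), 1, by rw [hw₀def]; simp; abel⟩
  have hw₀F : w₀ ∉ span F ({e₂} : Set V) := by
    intro hmem
    apply hy₂
    have : y₂ = w₀ + r y₂ • e₂ := by simp [w₀]
    rw [this]
    exact add_mem hmem (smul_mem _ _ (mem_span_singleton_self _))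
  have hw₀ : w₀ ≠ 0 := by
    intro h0
    apply hw₀F
    rw [h0]
    exact zero_mem _
  obtain ⟨y₃, hy₃, hP₃⟩ := hell w₀ hw₀
  have hy₃L : y₃ ∈ span F ({e₂, w₀} : Set V) := spread_aux he₂ hP₂ hw₀L hw₀F hP₃
  obtain ⟨a, b, hab⟩ := mem_span_pair.1 hy₃L
  have ha : a ≠ 0 := by
    rintro rfl
    apply hy₃
    rw [mem_span_singleton]
    exact ⟨b, by simpa using hab⟩
  have hfix : tv e₁ r • ω = ω := (hP₁ r hr1).2 hr1y
  have hhw : tv e₁ r w₀ = w₀ := by rw [tv_apply hr1, hrw, zero_smul, add_zero]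
  have hhy : tv e₁ r y₃ = y₃ + a • e₁ := by
    rw [tv_apply hr1]
    congr 2
    rw [← hab]
    simp [hr2, hrw]
  have hmem : tv e₁ r y₃ ∈ span F ({w₀, y₃} : Set V) := by
    by_contra hcon
    obtain ⟨r'', hr''w, hr''y, hr''h⟩ := sep2 hcon
    have hF : tv w₀ r'' • ω = ω := (hP₃ r'' hr''w).2 hr''y
    have hrh : r'' (tv e₁ r w₀) = 0 := by rw [hhw]; exact hr''w
    have h3 := fix_conj_iff (tv e₁ r) hfix w₀ r'' hrh
    rw [hhw] at h3
    have h4 := h3.1 hF
    have h5 : (r''.comp ((tv e₁ r).1 : V →ₗ[F] V)) w₀ = 0 := hrh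
    have h6 := (hP₃ _ h5).1 h4
    have h7 : (r''.comp ((tv e₁ r).1 : V →ₗ[F] V)) y₃ = r'' (tv e₁ r y₃) := rfl
    rw [h7, hr''h] at h6
    exact one_ne_zero h6
  have he₁L₂ : e₁ ∈ span F ({e₂, y₂} : Set V) := by
    have h8 : span F ({e₂, w₀} : Set V) ≤ span F ({e₂, y₂} : Set V) := by
      rw [span_le]
      rintro x (rfl | rfl)
      · exact subset_span (by simp)
      · exact hw₀L
    have h6 : span F ({w₀, y₃} : Set V) ≤ span F ({e₂, y₂} : Set V) := by
      rw [span_le]
      rintro x (rfl | rfl)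
      · exact hw₀L
      · exact h8 hy₃L
    have h7 : a • e₁ ∈ span F ({e₂, y₂} : Set V) := by
      have : a • e₁ = tv e₁ r y₃ - y₃ := by rw [hhy]; abel
      rw [this]
      exact sub_mem (h6 hmem) (h6 (subset_span (by simp)))
    have := smul_mem _ a⁻¹ h7
    rwa [smul_smul, inv_mul_cancel₀ ha, one_smul] at this
  by_cases hc : e₁ ∈ span F ({e₂} : Set V)
  · obtain ⟨c, hc⟩ := mem_span_singleton.1 hc
    have hc0 : c ≠ 0 := by
      rintro rfl
      apply he₁
      simpa using hc.symm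
    apply he₂L
    have : e₂ = c⁻¹ • e₁ := by rw [← hc, smul_smul, inv_mul_cancel₀ hc0, one_smul]
    rw [this]
    exact smul_mem _ _ (subset_span (by simp))
  · have h9 := spread_aux he₂ hP₂ he₁L₂ hc hP₁
    obtain ⟨a', b', hab'⟩ := mem_span_pair.1 h9
    have ha' : a' ≠ 0 := by
      rintro rfl
      apply hy₁
      rw [mem_span_singleton]
      exact ⟨b', by simpa using hab'⟩
    apply he₂L
    have : e₂ = a'⁻¹ • (y₁ - b' • e₁) := by
      rw [← hab']
      simp [smul_smul, ha']
    rw [this]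
    exact smul_mem _ _ (sub_mem (subset_span (by simp)) (smul_mem _ _ (subset_span (by simp))))

end Cfsg.Agent.Lib.Helper54.MinIdxSpread
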