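/-
helper54: module S5634-[SL-TOP] of helper43's project S5634 (`sl_main`), with the statements of the modules it
uses ([SL-SECHYP], [SL-L3], [SL-L4], [SL-TINV], [SL-CASEA], [SL-CASEB]) as explicit hypotheses; [STAR] is imported.
-/
import Mathlib
import Cfsg.Agent.Lib.Helper43.MonoStar
import Cfsg.Agent.Lib.Helper1.MonoStarSelf

set_option autoImplicit false

namespace Cfsg.Agent.Lib.Helper54.Mono5634

open Matrix Cfsg.Geo Cfsg.Agent.Lib.Helper93 Cfsg.Agent.Lib.Helper43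

variable {F : Type*} [Field F]

/-- [SL-TOP] with the modules it uses as explicit hypotheses ([STAR] is imported from helper1). -/
theorem sl_main_of {k : ℕ}
    (hA : ∀ Y : Subgroup (GL (Fin k) F), GLHyp Y → Y ≤ Mono (Fin k) F)
    (hSecHyp : ∀ {M : Subgroup (GL (Fin (k + 1)) F)}, SLHyp M → ∀ i₀ : Fin (k + 1),
      GLHyp (secSL M i₀))
    (hL3 : ∀ {M : Subgroup (GL (Fin (k + 1)) F)}, SLHyp M → ∀ i₀ : Fin (k + 1),
      secSL M i₀ ≤ Mono (Fin k) F → ∀ {h : GL (Fin (k + 1)) F}, h ∈ M →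
      (∀ a, (h : Matrix (Fin (k + 1)) (Fin (k + 1)) F) (i₀.succAbove a) i₀ = 0) →
      h ∈ Mono (Fin (k + 1)) F)
    (hL4 : ∀ {M : Subgroup (GL (Fin (k + 1)) F)},
      (∀ d : Fin (k + 1) → Fˣ, ∏ i, d i = 1 → dg d ∈ M) → ColStar M →
      ∀ {g : GL (Fin (k + 1)) F}, g ∈ M → ∀ {i l l' : Fin (k + 1)}, l ≠ l' →
      (g : Matrix (Fin (k + 1)) (Fin (k + 1)) F) l i = 0 →
      (g : Matrix (Fin (k + 1)) (Fin (k + 1)) F) l' i = 0 → g ∈ Mono (Fin (k + 1)) F)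
    (hTinvMono : ∀ g : GL (Fin (k + 1)) F,
      tinv g ∈ Mono (Fin (k + 1)) F ↔ g ∈ Mono (Fin (k + 1)) F)
    (hTinvHyp : ∀ {M : Subgroup (GL (Fin (k + 1)) F)}, SLHyp M →
      SLHyp (M.map (tinv : GL (Fin (k + 1)) F ≃* GL (Fin (k + 1)) F).toMonoidHom))
    (hCaseA : ∀ {M : Subgroup (GL (Fin (k + 1)) F)},
      (∀ d : Fin (k + 1) → Fˣ, ∏ i, d i = 1 → dg d ∈ M) →
      (∀ g ∈ M, g ∉ Mono (Fin (k + 1)) F → ∀ i j,
        (g : Matrix (Fin (k + 1)) (Fin (k + 1)) F) i j ≠ 0) → M ≤ Mono (Fin (k + 1)) F)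
    (hCaseB : ∀ {M : Subgroup (GL (Fin (k + 1)) F)},
      (∀ d : Fin (k + 1) → Fˣ, ∏ i, d i = 1 → dg d ∈ M) →
      (∀ g ∈ M, ∀ i l l', l ≠ l' → (g : Matrix (Fin (k + 1)) (Fin (k + 1)) F) l i = 0 →
        (g : Matrix (Fin (k + 1)) (Fin (k + 1)) F) l' i = 0 → g ∈ Mono (Fin (k + 1)) F) →
      (∀ g ∈ M, ∀ i l l', l ≠ l' → (g : Matrix (Fin (k + 1)) (Fin (k + 1)) F) i l = 0 →
        (g : Matrix (Fin (k + 1)) (Fin (k + 1)) F) i l' = 0 → g ∈ Mono (Fin (k + 1)) F) →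
      ∀ {g : GL (Fin (k + 1)) F}, g ∈ M → g ∉ Mono (Fin (k + 1)) F → ∀ {b k' : Fin (k + 1)},
      ((g⁻¹ : GL (Fin (k + 1)) F) : Matrix (Fin (k + 1)) (Fin (k + 1)) F) b k' = 0 → False)
    {M : Subgroup (GL (Fin (k + 1)) F)} (hM : SLHyp M) : M ≤ Mono (Fin (k + 1)) F := by
  classical
  -- the torus lies in every subgroup satisfying `SLHyp`
  have hTof : ∀ {M : Subgroup (GL (Fin (k + 1)) F)}, SLHyp M →
      ∀ d : Fin (k + 1) → Fˣ, ∏ i, d i = 1 → dg d ∈ M := by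
    intro M hM d hd
    exact hM.mono_le ⟨dg_mem_Mono d, dg_mem_specialLinear hd⟩
  -- two zeros in a column force monomiality, for every subgroup satisfying `SLHyp`
  have h2colof : ∀ {M : Subgroup (GL (Fin (k + 1)) F)}, SLHyp M →
      ∀ g ∈ M, ∀ i l l', l ≠ l' → (g : Matrix (Fin (k + 1)) (Fin (k + 1)) F) l i = 0 →
        (g : Matrix (Fin (k + 1)) (Fin (k + 1)) F) l' i = 0 → g ∈ Mono (Fin (k + 1)) F := by
    intro M hM g hg i l l' hll h0 h0'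
    have hself : ∀ (i₀ : Fin (k + 1)) (h : GL (Fin (k + 1)) F), h ∈ M →
        (∀ r, r ≠ i₀ → (h : Matrix (Fin (k + 1)) (Fin (k + 1)) F) r i₀ = 0) →
        h ∈ Mono (Fin (k + 1)) F := by
      intro i₀ h hh hcol
      exact hL3 hM i₀ (hA _ (hSecHyp hM i₀)) hh
        (fun a => hcol _ (Fin.succAbove_ne i₀ a))
    have hstar : ColStar M := Cfsg.Agent.Lib.Helper1.Mono5634.star_of_self hM.mono_le hself
    exact hL4 (hTof hM) hstar hg hll h0 h0'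
  have hT := hTof hM
  have h2col := h2colof hM
  have hM' := hTinvHyp hM
  have h2col' := h2colof hM'
  have h2row : ∀ g ∈ M, ∀ i l l', l ≠ l' → (g : Matrix (Fin (k + 1)) (Fin (k + 1)) F) i l = 0 →
      (g : Matrix (Fin (k + 1)) (Fin (k + 1)) F) i l' = 0 → g ∈ Mono (Fin (k + 1)) F := by
    intro g hg i l l' hll h0 h0'
    have hmem : tinv g⁻¹ ∈ M.map (tinv : GL (Fin (k + 1)) F ≃* GL (Fin (k + 1)) F).toMonoidHom :=
      Subgroup.mem_map_of_mem _ (M.inv_mem hg)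
    have hent : ∀ a b, ((tinv g⁻¹ : GL (Fin (k + 1)) F) : Matrix _ _ F) a b
        = (g : Matrix (Fin (k + 1)) (Fin (k + 1)) F) b a := by
      intro a b
      rw [tinv_apply, inv_inv]
    have h1 := h2col' _ hmem i l l' hll (by rw [hent]; exact h0) (by rw [hent]; exact h0')
    have h2 : g⁻¹ ∈ Mono (Fin (k + 1)) F := (hTinvMono _).1 h1
    exact (Subgroup.inv_mem_iff _).1 h2
  by_cases hex : ∃ g ∈ M, g ∉ Mono (Fin (k + 1)) F ∧ ∃ b k',
      (g : Matrix (Fin (k + 1)) (Fin (k + 1)) F) b k' = 0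
  · obtain ⟨g, hg, hgm, b, k', h0⟩ := hex
    exfalso
    have hgm' : g⁻¹ ∉ Mono (Fin (k + 1)) F := fun h => hgm ((Subgroup.inv_mem_iff _).1 h)
    exact hCaseB hT h2col h2row (M.inv_mem hg) hgm' (b := b) (k' := k')
      (by rw [inv_inv]; exact h0)
  · apply hCaseA hT
    intro g hg hgm i j h0
    exact hex ⟨g, hg, hgm, i, j, h0⟩

end Cfsg.Agent.Lib.Helper54.Mono5634
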