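import Mathlib
import Cfsg.Prelude.Def_GeometricClasses
import Cfsg.Agent.Lib.Helper99.AschDefs
import Cfsg.Agent.Lib.Helper55.Oe.Defs
import Cfsg.Agent.Lib.Helper50.AschD2Form
import Cfsg.Agent.Lib.Helper1.AschSpKQuad
import Cfsg.Agent.Lib.Helper37.Asch.FormKit2
import Cfsg.Agent.Lib.Helper76.AschUKFoldH

/-!
# Project ASCHOE (helper55), module ASCHOE-[II-KFOLD] (helper54)

`eight_plus_of_components`: a system of `k ≥ 2` components of an absolutely irreducible `P ≤ H ≤ O(Q)`,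
`n ∈ {8, 10, 12}`, forces `n = 8 = 2³` and `Q` of plus type.

Proof: ASCH-[KFOLD] (via helper76's `kfold_of_compSys_h76`) gives tensor coordinates `F^8 = F² ⊗ F² ⊗ F²` with the
components acting in the slots and spanning the slot algebras.  `P` fixes the tensor form `ω ⊗ ω ⊗ ω` (helper50's
ASCH-[D2FORM] kit) and the polar form of `Q`; they are proportional (helper37 `gram_proportional`).  So the polar form
vanishes on `X = {coordinate vectors supported on a 0 = t}`, `Q` is additive there, and the zero set of `Q` on a line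
`e_i ⊗ e_j ⊗ F²` is a subspace invariant under the third component, whose span is the full slot algebra: it is
non-zero by counting, hence everything.  So `Q` vanishes on all tensor basis vectors, hence on `e₀ ⊗ F² ⊗ F²`
(dimension 4).  No case distinction on the characteristic is needed.
-/

set_option autoImplicit false

namespace Cfsg.Agent.Lib.Helper54.OeIIKFold

open Cfsg Cfsg.Geo Cfsg.Agent.Lib.Helper99.Asch
open Cfsg.Agent.Lib.Helper50.AschD2Form Cfsg.Agent.Lib.Helper1.AschSpKQuad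
open scoped MatrixGroups Matrix Kronecker commutatorElement

variable {n : ℕ} {F : Type*} [Field F]

/-! ### arithmetic -/

theorem arith {n d k : ℕ} (hn : n = 8 ∨ n = 10 ∨ n = 12) (hd : 2 ≤ d) (hk : 2 ≤ k) (h : n = d ^ k) :
    n = 8 ∧ d = 2 ∧ k = 3 := by
  have hd3 : d ≤ 3 := by
    by_contra hc
    have h4 : 4 ≤ d := by omega
    have : 4 ^ 2 ≤ d ^ k := le_trans (Nat.pow_le_pow_left h4 2) (Nat.pow_le_pow_right (by omega) hk)
    omega
  have hk3 : k ≤ 3 := by
    by_contra hc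
    have h4 : 4 ≤ k := by omega
    have : 2 ^ 4 ≤ d ^ k := le_trans (Nat.pow_le_pow_right (by norm_num) h4) (Nat.pow_le_pow_left hd k)
    omega
  interval_cases d <;> interval_cases k <;> omega

/-! ### tensor coordinates -/

section coords
variable {k d : ℕ}

/-- the vector with tensor coordinates `w` -/
def Phi (idx : Fin n ≃ (Fin k → Fin d)) (B : GL (Fin n) F) (w : (Fin k → Fin d) → F) : Fin n → F :=
  ((B⁻¹ : GL (Fin n) F) : Matrix (Fin n) (Fin n) F) *ᵥ (w ∘ idx)

theorem Phi_add (idx : Fin n ≃ (Fin k → Fin d)) (B : GL (Fin n) F) (w w' : (Fin k → Fin d) → F) :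
    Phi idx B (w + w') = Phi idx B w + Phi idx B w' := by
  unfold Phi
  rw [← Matrix.mulVec_add]
  rfl

theorem Phi_smul (idx : Fin n ≃ (Fin k → Fin d)) (B : GL (Fin n) F) (c : F) (w : (Fin k → Fin d) → F) :
    Phi idx B (c • w) = c • Phi idx B w := by
  unfold Phi
  rw [← Matrix.mulVec_smul]
  rfl

/-- `Phi` as a linear map -/
def PhiLin (idx : Fin n ≃ (Fin k → Fin d)) (B : GL (Fin n) F) :
    ((Fin k → Fin d) → F) →ₗ[F] (Fin n → F) where
  toFun := Phi idx B
  map_add' := Phi_add idx B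
  map_smul' := Phi_smul idx B

theorem B_mulVec_Phi (idx : Fin n ≃ (Fin k → Fin d)) (B : GL (Fin n) F) (w : (Fin k → Fin d) → F) :
    (B : Matrix (Fin n) (Fin n) F) *ᵥ Phi idx B w = w ∘ idx := by
  unfold Phi
  rw [Matrix.mulVec_mulVec, ← Units.val_mul, mul_inv_cancel, Units.val_one, Matrix.one_mulVec]

theorem coord_Phi (idx : Fin n ≃ (Fin k → Fin d)) (B : GL (Fin n) F) (w : (Fin k → Fin d) → F) :
    coord idx B (Phi idx B w) = w := by
  unfold coord
  rw [B_mulVec_Phi]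
  funext a
  simp

theorem Phi_coord (idx : Fin n ≃ (Fin k → Fin d)) (B : GL (Fin n) F) (v : Fin n → F) :
    Phi idx B (coord idx B v) = v := coord_comp_idx idx B v

theorem Phi_injective (idx : Fin n ≃ (Fin k → Fin d)) (B : GL (Fin n) F) :
    Function.Injective (Phi idx B) := by
  intro w w' h
  rw [← coord_Phi idx B w, ← coord_Phi idx B w', h]

/-- the action of a slot element in tensor coordinates -/
theorem mulVec_Phi_of_slot (idx : Fin n ≃ (Fin k → Fin d)) (B : GL (Fin n) F) (x : GL (Fin n) F)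
    (i : Fin k) (a : Matrix (Fin d) (Fin d) F)
    (hx : ((B * x * B⁻¹ : GL (Fin n) F) : Matrix (Fin n) (Fin n) F) =
      Matrix.reindex idx.symm idx.symm (slotMatrix i a)) (w : (Fin k → Fin d) → F) :
    (x : Matrix (Fin n) (Fin n) F) *ᵥ Phi idx B w = Phi idx B (slotMatrix i a *ᵥ w) := by
  rw [← Phi_coord idx B ((x : Matrix (Fin n) (Fin n) F) *ᵥ Phi idx B w), coord_slot idx B x i a hx,
    coord_Phi]

/-- row form of the slot matrix action -/
theorem slotMatrix_mulVec_apply (i : Fin k) (a : Matrix (Fin d) (Fin d) F) (w : (Fin k → Fin d) → F)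
    (r : Fin k → Fin d) :
    (slotMatrix i a *ᵥ w) r = ∑ s, a (r i) s * w (Function.update r i s) := by
  classical
  show ∑ r', slotMatrix i a r r' * w r' = _
  have hinj : Function.Injective (fun s : Fin d => Function.update r i s) := fun s t hst => by
    have := congrFun hst i
    simpa using this
  rw [← Finset.sum_subset (Finset.subset_univ (Finset.univ.image fun s => Function.update r i s))]
  · rw [Finset.sum_image (fun s _ t _ h => hinj h)]
    refine Finset.sum_congr rfl fun s _ => ?_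
    have hc : ∀ j, j ≠ i → r j = Function.update r i s j := fun j hj =>
      (Function.update_of_ne hj _ _).symm
    rw [slotMatrix, if_pos hc, Function.update_self]
  · intro r' _ hr'
    have hc : ¬ ∀ j, j ≠ i → r j = r' j := by
      intro hc
      apply hr'
      rw [Finset.mem_image]
      refine ⟨r' i, Finset.mem_univ _, ?_⟩
      funext j
      by_cases hj : j = i
      · subst hj; rw [Function.update_self]
      · rw [Function.update_of_ne hj, hc j hj]
    rw [slotMatrix, if_neg hc, zero_mul]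

end coords

/-! ### the invariant tensor form -/

/-- `P ≤ isoSub B J'` for `J' = ω ⊗ … ⊗ ω` (extracted from helper50's proof of `fixes_form_of_slots_two`) -/
theorem le_isoSub {k : ℕ} (P : Subgroup (GL (Fin n) F)) (Q : Fin k → Subgroup (GL (Fin n) F))
    (hQ : iSup Q = P) (hperf : ∀ i, ⁅Q i, Q i⁆ = Q i) (idx : Fin n ≃ (Fin k → Fin 2)) (B : GL (Fin n) F)
    (hslot : ∀ i, ∀ x ∈ Q i, ∃ a : GL (Fin 2) F,
        ((B * x * B⁻¹ : GL (Fin n) F) : Matrix (Fin n) (Fin n) F) =
          Matrix.reindex idx.symm idx.symm (slotMatrix i (a : Matrix (Fin 2) (Fin 2) F))) :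
    P ≤ isoSub B ((JJ k : Matrix _ _ F).submatrix idx idx) := by
  classical
  have hslot' : ∀ i, ∀ x ∈ Q i, ∃ a : GL (Fin 2) F,
      cmat B x = (slotMatrix i (a : Matrix (Fin 2) (Fin 2) F)).submatrix idx idx := by
    intro i x hx
    obtain ⟨a, ha⟩ := hslot i x hx
    refine ⟨a, ?_⟩
    unfold cmat
    rw [ha, Matrix.reindex_apply, Equiv.symm_symm]
  obtain ⟨J', hJ'⟩ : ∃ J' : Matrix (Fin n) (Fin n) F, J' = (JJ k : Matrix _ _ F).submatrix idx idx :=
    ⟨_, rfl⟩
  rw [← hJ']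
  have hinvS : ∀ (i : Fin k) (c : Matrix (Fin 2) (Fin 2) F), c.det = 1 →
      ((slotMatrix i c).submatrix idx idx)ᵀ * J' * (slotMatrix i c).submatrix idx idx = J' := by
    intro i c hc
    rw [hJ', Matrix.transpose_submatrix, Matrix.submatrix_mul_equiv, Matrix.submatrix_mul_equiv,
      slot_transpose_JJ_mul i c hc]
  have hQle : ∀ i, Q i ≤ isoSub B J' := by
    intro i
    rw [← hperf i, Subgroup.commutator_le]
    intro x hx y hy
    obtain ⟨a, ha⟩ := hslot' i x hx
    obtain ⟨b, hb⟩ := hslot' i y hy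
    have hai := cmat_inv_of_slot idx B x i a ha
    have hbi := cmat_inv_of_slot idx B y i b hb
    have hc : cmat B ⁅x, y⁆ = (slotMatrix i ((a : Matrix (Fin 2) (Fin 2) F) * (b : Matrix (Fin 2) (Fin 2) F) *
        ((a⁻¹ : GL (Fin 2) F) : Matrix (Fin 2) (Fin 2) F) *
        ((b⁻¹ : GL (Fin 2) F) : Matrix (Fin 2) (Fin 2) F))).submatrix idx idx := by
      rw [commutatorElement_def, cmat_mul, cmat_mul, cmat_mul, ha, hb, hai, hbi,
        Matrix.submatrix_mul_equiv, Matrix.submatrix_mul_equiv, Matrix.submatrix_mul_equiv,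
        ← slotMatrix_mul, ← slotMatrix_mul, ← slotMatrix_mul]
    rw [mem_isoSub, hc]
    apply hinvS
    have hda : (a : Matrix (Fin 2) (Fin 2) F).det *
        ((a⁻¹ : GL (Fin 2) F) : Matrix (Fin 2) (Fin 2) F).det = 1 := by
      rw [← Matrix.det_mul, Units.mul_inv, Matrix.det_one]
    have hdb : (b : Matrix (Fin 2) (Fin 2) F).det *
        ((b⁻¹ : GL (Fin 2) F) : Matrix (Fin 2) (Fin 2) F).det = 1 := by
      rw [← Matrix.det_mul, Units.mul_inv, Matrix.det_one]
    rw [Matrix.det_mul, Matrix.det_mul, Matrix.det_mul]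
    calc (a : Matrix (Fin 2) (Fin 2) F).det * (b : Matrix (Fin 2) (Fin 2) F).det *
          ((a⁻¹ : GL (Fin 2) F) : Matrix (Fin 2) (Fin 2) F).det *
          ((b⁻¹ : GL (Fin 2) F) : Matrix (Fin 2) (Fin 2) F).det
        = ((a : Matrix (Fin 2) (Fin 2) F).det * ((a⁻¹ : GL (Fin 2) F) : Matrix (Fin 2) (Fin 2) F).det) *
          ((b : Matrix (Fin 2) (Fin 2) F).det * ((b⁻¹ : GL (Fin 2) F) : Matrix (Fin 2) (Fin 2) F).det) := by
          ring
      _ = 1 := by rw [hda, hdb, one_mul]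
  rw [← hQ]
  exact iSup_le hQle

/-- the polar form of an invariant quadratic form is a non-zero multiple of the tensor form -/
theorem polar_eq_smul_gForm {Qf : (Fin n → F) → F} (hQf : IsNondegenerateQuadraticForm Qf) (hn : 0 < n)
    (P : Subgroup (GL (Fin n) F)) (habs : ActsAbsolutelyIrreducibly (matrixSet P))
    (hfixQ : FixesQuadForm (matrixSet P) Qf) {k : ℕ} (idx : Fin n ≃ (Fin k → Fin 2)) (B : GL (Fin n) F)
    (hP : P ≤ isoSub B ((JJ k : Matrix _ _ F).submatrix idx idx)) :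
    ∃ c : F, c ≠ 0 ∧ ∀ u v, QuadraticMap.polar Qf u v =
      c * gForm ((JJ k : Matrix _ _ F).submatrix idx idx) (B : Matrix (Fin n) (Fin n) F) u v := by
  classical
  obtain ⟨J', hJ'⟩ : ∃ J' : Matrix (Fin n) (Fin n) F, J' = (JJ k : Matrix _ _ F).submatrix idx idx :=
    ⟨_, rfl⟩
  rw [← hJ'] at hP ⊢
  have hJt : J'ᵀ = ((-1 : F) ^ k) • J' := by
    rw [hJ', Matrix.transpose_submatrix, JJ_transpose]; rfl
  have hJJ : J' * J' = ((-1 : F) ^ k) • (1 : Matrix (Fin n) (Fin n) F) := by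
    rw [hJ', Matrix.submatrix_mul_equiv, JJ_mul_JJ]
    ext i j
    simp only [Matrix.submatrix_apply, Matrix.smul_apply, Matrix.one_apply,
      EmbeddingLike.apply_eq_iff_eq]
  have hε0 : ((-1 : F) ^ k) ≠ 0 := pow_ne_zero _ (neg_ne_zero.mpr one_ne_zero)
  have hB : (B : Matrix (Fin n) (Fin n) F) * ((B⁻¹ : GL (Fin n) F) : Matrix (Fin n) (Fin n) F) = 1 :=
    Units.mul_inv B
  have hB' : ((B⁻¹ : GL (Fin n) F) : Matrix (Fin n) (Fin n) F) * (B : Matrix (Fin n) (Fin n) F) = 1 :=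
    Units.inv_mul B
  have hnd : IsNondegenerateForm (gForm J' (B : Matrix (Fin n) (Fin n) F)) :=
    gForm_nondeg J' _ _ hB hB' _ hε0 hJt hJJ
  have hbil : IsBilinearForm (gForm J' (B : Matrix (Fin n) (Fin n) F)) := gForm_bilinear _ _
  have hfix : FixesForm (matrixSet P) (gForm J' (B : Matrix (Fin n) (Fin n) F)) := by
    rintro s ⟨x, hx, rfl⟩ u v
    exact gForm_fix J' _ _ (cmat B x) (cmat_mul_B B x) ((mem_isoSub B J' x).mp (hP hx)) u v
  have s₁ := Cfsg.Agent.Lib.Helper37.Asch.isSesq_of_bilinear hQf.polar_bilinear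
  have s₂ := Cfsg.Agent.Lib.Helper37.Asch.isSesq_of_bilinear hbil
  have hfixG₁ : ∀ x ∈ P, (x : Matrix (Fin n) (Fin n) F)ᵀ *
      Cfsg.Agent.Lib.Helper37.Asch.gram (QuadraticMap.polar Qf) *
      (x : Matrix (Fin n) (Fin n) F).map (RingEquiv.refl F) =
      Cfsg.Agent.Lib.Helper37.Asch.gram (QuadraticMap.polar Qf) := fun x hx =>
    s₁.gram_of_fixes (fun u v =>
      Cfsg.Agent.Lib.Helper37.Asch.fixesForm_polar hfixQ _ ⟨x, hx, rfl⟩ u v)
  have hfixG₂ : ∀ x ∈ P, (x : Matrix (Fin n) (Fin n) F)ᵀ *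
      Cfsg.Agent.Lib.Helper37.Asch.gram (gForm J' (B : Matrix (Fin n) (Fin n) F)) *
      (x : Matrix (Fin n) (Fin n) F).map (RingEquiv.refl F) =
      Cfsg.Agent.Lib.Helper37.Asch.gram (gForm J' (B : Matrix (Fin n) (Fin n) F)) := fun x hx =>
    s₂.gram_of_fixes (fun u v => hfix _ ⟨x, hx, rfl⟩ u v)
  have hU₂ := s₂.isUnit_gram hnd
  obtain ⟨c, hc⟩ := Cfsg.Agent.Lib.Helper37.Asch.gram_proportional (RingEquiv.refl F) P habs.2 _ _ hU₂
    hfixG₂ hfixG₁
  have hform : ∀ u v, QuadraticMap.polar Qf u v = c * gForm J' (B : Matrix (Fin n) (Fin n) F) u v := by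
    intro u v
    rw [s₁.eq_gram, s₂.eq_gram, hc, Matrix.smul_mulVec, dotProduct_smul, smul_eq_mul]
  refine ⟨c, ?_, hform⟩
  rintro rfl
  have hv : (Pi.single (⟨0, hn⟩ : Fin n) (1 : F) : Fin n → F) ≠ 0 := by
    intro h
    have := congrFun h ⟨0, hn⟩
    simp at this
  obtain ⟨⟨x, hx⟩, -⟩ := hQf.nondegenerate _ hv
  apply hx
  rw [hform, zero_mul]


/-! ### the quadratic form vanishes on the tensor basis (characteristic two) -/

section vanish
variable {k : ℕ}

theorem JJ_eq_zero_of_eq (i₀ : Fin k) (a b : Fin k → Fin 2) (h : a i₀ = b i₀) :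
    (JJ k : Matrix _ _ F) a b = 0 := by
  unfold JJ
  apply Finset.prod_eq_zero (Finset.mem_univ i₀)
  rw [h]
  exact om_diag _

theorem gForm_Phi_zero (idx : Fin n ≃ (Fin k → Fin 2)) (B : GL (Fin n) F) (w w' : (Fin k → Fin 2) → F)
    (h : ∀ a b, w a * (JJ k : Matrix _ _ F) a b * w' b = 0) :
    gForm ((JJ k : Matrix _ _ F).submatrix idx idx) (B : Matrix (Fin n) (Fin n) F) (Phi idx B w)
      (Phi idx B w') = 0 := by
  unfold gForm
  rw [B_mulVec_Phi, B_mulVec_Phi]
  simp only [dotProduct, Matrix.mulVec, Matrix.submatrix_apply, Function.comp_apply, Finset.mul_sum]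
  refine Finset.sum_eq_zero fun i _ => Finset.sum_eq_zero fun j _ => ?_
  rw [← mul_assoc]
  exact h _ _

/-- the coordinate vectors supported on `{a | a i₀ = t}` -/
def X (i₀ : Fin k) (t : Fin 2) : Submodule F ((Fin k → Fin 2) → F) where
  carrier := {w | ∀ a, a i₀ ≠ t → w a = 0}
  add_mem' := by
    intro w w' hw hw' a ha
    rw [Pi.add_apply, hw a ha, hw' a ha, add_zero]
  zero_mem' := fun a _ => rfl
  smul_mem' := by
    intro c w hw a ha
    rw [Pi.smul_apply, hw a ha, smul_zero]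

theorem mem_X (i₀ : Fin k) (t : Fin 2) (w : (Fin k → Fin 2) → F) :
    w ∈ (X i₀ t : Submodule F ((Fin k → Fin 2) → F)) ↔ ∀ a, a i₀ ≠ t → w a = 0 := Iff.rfl

variable {Qf : (Fin n → F) → F} (hQf : IsNondegenerateQuadraticForm Qf)
  (idx : Fin n ≃ (Fin k → Fin 2)) (B : GL (Fin n) F) (c : F)
  (hpol : ∀ u v, QuadraticMap.polar Qf u v =
      c * gForm ((JJ k : Matrix _ _ F).submatrix idx idx) (B : Matrix (Fin n) (Fin n) F) u v)

include hpol in
theorem polar_zero_on_X (i₀ : Fin k) (t : Fin 2) {w w' : (Fin k → Fin 2) → F}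
    (hw : w ∈ (X i₀ t : Submodule F ((Fin k → Fin 2) → F))) (hw' : w' ∈ (X i₀ t : Submodule F _)) :
    QuadraticMap.polar Qf (Phi idx B w) (Phi idx B w') = 0 := by
  rw [hpol, gForm_Phi_zero, mul_zero]
  intro a b
  by_cases ha : a i₀ = t
  · by_cases hb : b i₀ = t
    · rw [JJ_eq_zero_of_eq i₀ a b (ha.trans hb.symm), mul_zero, zero_mul]
    · rw [hw' b hb, mul_zero]
  · rw [hw a ha, zero_mul, zero_mul]

include hpol in
theorem Q_add_on_X (i₀ : Fin k) (t : Fin 2) {w w' : (Fin k → Fin 2) → F}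
    (hw : w ∈ (X i₀ t : Submodule F ((Fin k → Fin 2) → F))) (hw' : w' ∈ (X i₀ t : Submodule F _)) :
    Qf (Phi idx B (w + w')) = Qf (Phi idx B w) + Qf (Phi idx B w') := by
  have h := polar_zero_on_X idx B c hpol i₀ t hw hw'
  unfold QuadraticMap.polar at h
  rw [Phi_add]
  linear_combination h

include hQf in
theorem Q_zero : Qf 0 = 0 := by
  have := hQf.smul 0 0
  rw [zero_smul] at this
  rw [this]; ring

/-- the zero set of the quadratic form inside `X i₀ t` -/
def Z (i₀ : Fin k) (t : Fin 2) : Submodule F ((Fin k → Fin 2) → F) where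
  carrier := {w | w ∈ (X i₀ t : Submodule F ((Fin k → Fin 2) → F)) ∧ Qf (Phi idx B w) = 0}
  add_mem' := by
    rintro w w' ⟨hw, hq⟩ ⟨hw', hq'⟩
    refine ⟨Submodule.add_mem _ hw hw', ?_⟩
    rw [Q_add_on_X idx B c hpol i₀ t hw hw', hq, hq', add_zero]
  zero_mem' := by
    refine ⟨Submodule.zero_mem _, ?_⟩
    have : Phi idx B (0 : (Fin k → Fin 2) → F) = 0 := by
      have := Phi_smul idx B (0 : F) (0 : (Fin k → Fin 2) → F)
      rw [zero_smul, zero_smul] at this
      exact this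
    rw [this]
    exact Q_zero hQf
  smul_mem' := by
    rintro a w ⟨hw, hq⟩
    refine ⟨Submodule.smul_mem _ a hw, ?_⟩
    rw [Phi_smul, hQf.smul, hq, mul_zero]

theorem mem_Z (i₀ : Fin k) (t : Fin 2) (w : (Fin k → Fin 2) → F) :
    w ∈ Z hQf idx B c hpol i₀ t ↔
      w ∈ (X i₀ t : Submodule F ((Fin k → Fin 2) → F)) ∧ Qf (Phi idx B w) = 0 := Iff.rfl

/-- the line through `p` in direction of the slot `i₂` -/
def Lline (i₂ : Fin k) (p : Fin k → Fin 2) : (Fin 2 → F) →ₗ[F] ((Fin k → Fin 2) → F) where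
  toFun z := fun a => if ∀ j, j ≠ i₂ → a j = p j then z (a i₂) else 0
  map_add' z z' := by
    funext a
    simp only [Pi.add_apply]
    split_ifs
    · rfl
    · rw [add_zero]
  map_smul' t z := by
    funext a
    simp only [Pi.smul_apply, RingHom.id_apply, smul_eq_mul]
    split_ifs
    · rfl
    · rw [mul_zero]

theorem Lline_apply (i₂ : Fin k) (p : Fin k → Fin 2) (z : Fin 2 → F) (a : Fin k → Fin 2) :
    Lline (F := F) i₂ p z a = if ∀ j, j ≠ i₂ → a j = p j then z (a i₂) else 0 := rfl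

theorem Lline_mem_X (i₀ i₂ : Fin k) (h02 : i₀ ≠ i₂) (p : Fin k → Fin 2) (z : Fin 2 → F) :
    Lline i₂ p z ∈ (X i₀ (p i₀) : Submodule F ((Fin k → Fin 2) → F)) := by
  intro a ha
  rw [Lline_apply, if_neg]
  intro h
  exact ha (h i₀ h02)

theorem Lline_single (i₂ : Fin k) (p : Fin k → Fin 2) :
    Lline (F := F) i₂ p (Pi.single (p i₂) 1) = Pi.single p 1 := by
  funext a
  rw [Lline_apply]
  by_cases h : a = p
  · subst h
    rw [if_pos (fun _ _ => rfl), Pi.single_eq_same, Pi.single_eq_same]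
  · rw [Pi.single_eq_of_ne h]
    split_ifs with hc
    · have hne : a i₂ ≠ p i₂ := by
        intro h2
        apply h
        funext j
        by_cases hj : j = i₂
        · subst hj; exact h2
        · exact hc j hj
      rw [Pi.single_eq_of_ne hne]
    · rfl

theorem slot_mulVec_Lline (i₂ : Fin k) (p : Fin k → Fin 2) (m : Matrix (Fin 2) (Fin 2) F) (z : Fin 2 → F) :
    slotMatrix i₂ m *ᵥ Lline i₂ p z = Lline i₂ p (m *ᵥ z) := by
  funext r
  rw [slotMatrix_mulVec_apply, Lline_apply]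
  have hcond : ∀ s : Fin 2, (∀ j, j ≠ i₂ → Function.update r i₂ s j = p j) ↔ (∀ j, j ≠ i₂ → r j = p j) := by
    intro s
    constructor
    · intro h j hj
      have := h j hj
      rwa [Function.update_of_ne hj] at this
    · intro h j hj
      rw [Function.update_of_ne hj]
      exact h j hj
  by_cases hc : ∀ j, j ≠ i₂ → r j = p j
  · rw [if_pos hc]
    show _ = ∑ s, m (r i₂) s * z s
    refine Finset.sum_congr rfl fun s _ => ?_
    rw [Lline_apply, if_pos ((hcond s).mpr hc), Function.update_self]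
  · rw [if_neg hc]
    refine Finset.sum_eq_zero fun s _ => ?_
    rw [Lline_apply, if_neg (fun h => hc ((hcond s).mp h)), mul_zero]

end vanish


section key
variable [Fintype F] {k : ℕ}
  {Qf : (Fin n → F) → F} (hQf : IsNondegenerateQuadraticForm Qf)
  (idx : Fin n ≃ (Fin k → Fin 2)) (B : GL (Fin n) F) (c : F)
  (hpol : ∀ u v, QuadraticMap.polar Qf u v =
      c * gForm ((JJ k : Matrix _ _ F).submatrix idx idx) (B : Matrix (Fin n) (Fin n) F) u v)

/-- the quadratic form vanishes on the tensor basis vectors -/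
theorem single_mem_Z (i₀ i₂ : Fin k) (h02 : i₀ ≠ i₂) (Q2 : Subgroup (GL (Fin n) F))
    (hfix : ∀ x ∈ Q2, ∀ v, Qf ((x : Matrix (Fin n) (Fin n) F) *ᵥ v) = Qf v)
    (hslot : ∀ x ∈ Q2, ∃ a : GL (Fin 2) F,
        ((B * x * B⁻¹ : GL (Fin n) F) : Matrix (Fin n) (Fin n) F) =
          Matrix.reindex idx.symm idx.symm (slotMatrix i₂ (a : Matrix (Fin 2) (Fin 2) F)))
    (hspan : ∀ a : Matrix (Fin 2) (Fin 2) F,
        ((B⁻¹ : GL (Fin n) F) : Matrix (Fin n) (Fin n) F) *
          Matrix.reindex idx.symm idx.symm (slotMatrix i₂ a) * (B : Matrix (Fin n) (Fin n) F) ∈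
          Submodule.span F (matrixSet Q2))
    (p : Fin k → Fin 2) : Pi.single p 1 ∈ Z hQf idx B c hpol i₀ (p i₀) := by
  classical
  -- the zero set on the line
  obtain ⟨Z₂, hZ₂def⟩ : ∃ Z₂ : Submodule F (Fin 2 → F),
      Z₂ = (Z hQf idx B c hpol i₀ (p i₀)).comap (Lline i₂ p) := ⟨_, rfl⟩
  have hZ₂ : ∀ z, z ∈ Z₂ ↔ Qf (Phi idx B (Lline i₂ p z)) = 0 := by
    intro z
    rw [hZ₂def, Submodule.mem_comap, mem_Z]
    exact ⟨fun h => h.2, fun h => ⟨Lline_mem_X i₀ i₂ h02 p z, h⟩⟩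
  -- invariance under the slot group
  have hinv : ∀ x ∈ Q2, ∀ a : GL (Fin 2) F,
      ((B * x * B⁻¹ : GL (Fin n) F) : Matrix (Fin n) (Fin n) F) =
        Matrix.reindex idx.symm idx.symm (slotMatrix i₂ (a : Matrix (Fin 2) (Fin 2) F)) →
      ∀ z ∈ Z₂, (a : Matrix (Fin 2) (Fin 2) F) *ᵥ z ∈ Z₂ := by
    intro x hx a ha z hz
    rw [hZ₂] at hz ⊢
    rw [← slot_mulVec_Lline, ← mulVec_Phi_of_slot idx B x i₂ _ ha, hfix x hx, hz]
  -- the matrices preserving the zero set
  let M : Submodule F (Matrix (Fin 2) (Fin 2) F) :=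
    { carrier := {m | ∀ z ∈ Z₂, m *ᵥ z ∈ Z₂}
      add_mem' := by
        intro m m' hm hm' z hz
        rw [Matrix.add_mulVec]
        exact Z₂.add_mem (hm z hz) (hm' z hz)
      zero_mem' := by
        intro z _
        rw [Matrix.zero_mulVec]
        exact Z₂.zero_mem
      smul_mem' := by
        intro t m hm z hz
        rw [Matrix.smul_mulVec]
        exact Z₂.smul_mem t (hm z hz) }
  have hall : ∀ m : Matrix (Fin 2) (Fin 2) F, m ∈ M := by
    intro m
    refine mem_of_span_image (Psi idx B i₂) (Psi_injective idx B i₂) M (matrixSet Q2) ?_ m (hspan m)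
    rintro _ ⟨x, hx, rfl⟩
    obtain ⟨a, ha⟩ := hslot x hx
    refine ⟨(a : Matrix (Fin 2) (Fin 2) F), hinv x hx a ha, ?_⟩
    rw [Psi_apply, ← ha, ← Units.val_mul, ← Units.val_mul]
    congr 1
    group
  -- the zero set is not trivial
  have hadd : ∀ z z' : Fin 2 → F, Qf (Phi idx B (Lline i₂ p (z + z'))) =
      Qf (Phi idx B (Lline i₂ p z)) + Qf (Phi idx B (Lline i₂ p z')) := by
    intro z z'
    rw [map_add]
    exact Q_add_on_X idx B c hpol i₀ (p i₀) (Lline_mem_X i₀ i₂ h02 p z) (Lline_mem_X i₀ i₂ h02 p z')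
  have hcard : Fintype.card F < Fintype.card (Fin 2 → F) := by
    rw [Fintype.card_fun, Fintype.card_fin]
    have h1 : 1 < Fintype.card F := Fintype.one_lt_card
    nlinarith
  obtain ⟨z, z', hne, heq⟩ := Fintype.exists_ne_map_eq_of_card_lt
    (fun z : Fin 2 → F => Qf (Phi idx B (Lline i₂ p z))) hcard
  have hz0 : z - z' ∈ Z₂ := by
    rw [hZ₂]
    have h1 := hadd (z - z') z'
    rw [sub_add_cancel] at h1
    have heq' : Qf (Phi idx B (Lline i₂ p z)) = Qf (Phi idx B (Lline i₂ p z')) := heq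
    rw [heq'] at h1
    linear_combination -h1
  have hz0ne : z - z' ≠ 0 := sub_ne_zero.mpr hne
  obtain ⟨s₀, hs₀⟩ : ∃ s₀, (z - z') s₀ ≠ 0 := by
    by_contra hno
    push Not at hno
    exact hz0ne (funext hno)
  -- hence everything
  have htop : ∀ z₁ : Fin 2 → F, z₁ ∈ Z₂ := by
    intro z₁
    have hm := hall (Matrix.of fun r s => if s = s₀ then z₁ r * ((z - z') s₀)⁻¹ else 0) (z - z') hz0
    have hval : (Matrix.of fun r s => if s = s₀ then z₁ r * ((z - z') s₀)⁻¹ else 0) *ᵥ (z - z') = z₁ := by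
      funext r
      simp only [Matrix.mulVec, dotProduct, Matrix.of_apply]
      rw [Finset.sum_eq_single s₀]
      · rw [if_pos rfl, mul_assoc, inv_mul_cancel₀ hs₀, mul_one]
      · intro s _ hs
        rw [if_neg hs, zero_mul]
      · intro h
        exact absurd (Finset.mem_univ _) h
    rwa [hval] at hm
  have := htop (Pi.single (p i₂) 1)
  rw [hZ₂def, Submodule.mem_comap, Lline_single] at this
  exact this

/-- the quadratic form vanishes on `X i₀ t` -/
theorem X_le_Z (i₀ i₂ : Fin k) (h02 : i₀ ≠ i₂) (Q2 : Subgroup (GL (Fin n) F))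
    (hfix : ∀ x ∈ Q2, ∀ v, Qf ((x : Matrix (Fin n) (Fin n) F) *ᵥ v) = Qf v)
    (hslot : ∀ x ∈ Q2, ∃ a : GL (Fin 2) F,
        ((B * x * B⁻¹ : GL (Fin n) F) : Matrix (Fin n) (Fin n) F) =
          Matrix.reindex idx.symm idx.symm (slotMatrix i₂ (a : Matrix (Fin 2) (Fin 2) F)))
    (hspan : ∀ a : Matrix (Fin 2) (Fin 2) F,
        ((B⁻¹ : GL (Fin n) F) : Matrix (Fin n) (Fin n) F) *
          Matrix.reindex idx.symm idx.symm (slotMatrix i₂ a) * (B : Matrix (Fin n) (Fin n) F) ∈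
          Submodule.span F (matrixSet Q2))
    (t : Fin 2) : (X i₀ t : Submodule F ((Fin k → Fin 2) → F)) ≤ Z hQf idx B c hpol i₀ t := by
  classical
  intro w hw
  have hsum : w = ∑ a, w a • (Pi.single a 1 : (Fin k → Fin 2) → F) := by
    funext b
    rw [Finset.sum_apply]
    simp only [Pi.smul_apply, smul_eq_mul]
    rw [Finset.sum_eq_single b]
    · rw [Pi.single_eq_same, mul_one]
    · intro a _ hab
      rw [Pi.single_eq_of_ne (Ne.symm hab), mul_zero]
    · intro h
      exact absurd (Finset.mem_univ _) h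
  rw [hsum]
  refine Submodule.sum_mem _ fun a _ => ?_
  by_cases ha : a i₀ = t
  · apply Submodule.smul_mem
    have := single_mem_Z hQf idx B c hpol i₀ i₂ h02 Q2 hfix hslot hspan a
    rwa [ha] at this
  · rw [hw a ha, zero_smul]
    exact Submodule.zero_mem _

end key


section final

/-- the half space `e₀ ⊗ F² ⊗ F²` in tensor coordinates -/
def Ehalf : (Fin 2 × Fin 2 → F) →ₗ[F] ((Fin 3 → Fin 2) → F) where
  toFun t := fun a => if a 0 = 0 then t (a 1, a 2) else 0
  map_add' t t' := by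
    funext a
    simp only [Pi.add_apply]
    split_ifs
    · rfl
    · rw [add_zero]
  map_smul' s t := by
    funext a
    simp only [Pi.smul_apply, RingHom.id_apply, smul_eq_mul]
    split_ifs
    · rfl
    · rw [mul_zero]

theorem Ehalf_apply (t : Fin 2 × Fin 2 → F) (a : Fin 3 → Fin 2) :
    Ehalf (F := F) t a = if a 0 = 0 then t (a 1, a 2) else 0 := rfl

theorem Ehalf_injective : Function.Injective (Ehalf (F := F)) := by
  intro t t' h
  funext ⟨j, l⟩
  have := congrFun h ![0, j, l]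
  rw [Ehalf_apply, Ehalf_apply] at this
  simpa using this

theorem Ehalf_mem_X (t : Fin 2 × Fin 2 → F) :
    Ehalf t ∈ (X (0 : Fin 3) 0 : Submodule F ((Fin 3 → Fin 2) → F)) := by
  intro a ha
  rw [Ehalf_apply, if_neg ha]

variable [Fintype F]

theorem plus_of_data {Qf : (Fin 8 → F) → F} (hQf : IsNondegenerateQuadraticForm Qf)
    (idx : Fin 8 ≃ (Fin 3 → Fin 2)) (B : GL (Fin 8) F) (c : F)
    (hpol : ∀ u v, QuadraticMap.polar Qf u v =
      c * gForm ((JJ 3 : Matrix _ _ F).submatrix idx idx) (B : Matrix (Fin 8) (Fin 8) F) u v)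
    (Q2 : Subgroup (GL (Fin 8) F))
    (hfix : ∀ x ∈ Q2, ∀ v, Qf ((x : Matrix (Fin 8) (Fin 8) F) *ᵥ v) = Qf v)
    (hslot : ∀ x ∈ Q2, ∃ a : GL (Fin 2) F,
        ((B * x * B⁻¹ : GL (Fin 8) F) : Matrix (Fin 8) (Fin 8) F) =
          Matrix.reindex idx.symm idx.symm (slotMatrix (2 : Fin 3) (a : Matrix (Fin 2) (Fin 2) F)))
    (hspan : ∀ a : Matrix (Fin 2) (Fin 2) F,
        ((B⁻¹ : GL (Fin 8) F) : Matrix (Fin 8) (Fin 8) F) *
          Matrix.reindex idx.symm idx.symm (slotMatrix (2 : Fin 3) a) * (B : Matrix (Fin 8) (Fin 8) F) ∈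
          Submodule.span F (matrixSet Q2)) :
    IsPlusTypeOn Qf ⊤ := by
  have hinj : Function.Injective ((PhiLin idx B) ∘ₗ (Ehalf (F := F))) := by
    intro t t' h
    exact Ehalf_injective (Phi_injective idx B h)
  refine ⟨LinearMap.range ((PhiLin idx B) ∘ₗ (Ehalf (F := F))), le_top, ?_, ?_⟩
  · rintro _ ⟨t, rfl⟩
    show Qf (Phi idx B (Ehalf t)) = 0
    exact (X_le_Z hQf idx B c hpol 0 2 (by decide) Q2 hfix hslot hspan 0 (Ehalf_mem_X t)).2
  · rw [LinearMap.finrank_range_of_inj hinj, finrank_top, Module.finrank_fintype_fun_eq_card,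
      Module.finrank_fintype_fun_eq_card]
    simp

end final

end Cfsg.Agent.Lib.Helper54.OeIIKFold

namespace Cfsg.Agent.Lib.Helper55.Oe

open Cfsg Cfsg.Geo Cfsg.Agent.Lib.Helper99.Asch
open scoped MatrixGroups Matrix Kronecker

variable {n : ℕ} {F : Type*} [Field F] [Fintype F]

/-- ASCHOE-[II-KFOLD] -/
theorem eight_plus_of_components {Q : (Fin n → F) → F} (hQ : IsNondegenerateQuadraticForm Q)
    (hn : n = 8 ∨ n = 10 ∨ n = 12) {H : Subgroup (GL (Fin n) F)} (hH : H ≤ isometryGroup F Q)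
    (P : Subgroup (GL (Fin n) F)) (hP : PerfMin H P) (habs : ActsAbsolutelyIrreducibly (matrixSet P))
    {k : ℕ} (hk : 2 ≤ k) (Qs : Fin k → Subgroup (GL (Fin n) F)) (hC : CompSys H P Qs) :
    n = 8 ∧ IsPlusTypeOn Q ⊤ := by
  have hn3 : 3 ≤ n := by rcases hn with h | h | h <;> omega
  obtain ⟨d, idx, B, hd2, hslot, hspan, -⟩ :=
    Cfsg.Agent.Lib.Helper76.AschUKFoldH.kfold_of_compSys_h76 hn3 H P hk Qs hC habs
  have hnd : n = d ^ k := by
    have := Fintype.card_congr idx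
    simpa using this
  obtain ⟨h8, rfl, rfl⟩ := Cfsg.Agent.Lib.Helper54.OeIIKFold.arith hn hd2 hk hnd
  subst h8
  refine ⟨rfl, ?_⟩
  have hPI : P ≤ isometryGroup F Q := hP.le.trans hH
  have hfixQ : FixesQuadForm (matrixSet P) Q := by
    rintro s ⟨x, hx, rfl⟩ v
    exact hPI hx v v
  have hle := Cfsg.Agent.Lib.Helper54.OeIIKFold.le_isoSub P Qs hC.iSup_eq hC.perfect idx B hslot
  obtain ⟨c, -, hpol⟩ := Cfsg.Agent.Lib.Helper54.OeIIKFold.polar_eq_smul_gForm hQ (by norm_num) P habs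
    hfixQ idx B hle
  exact Cfsg.Agent.Lib.Helper54.OeIIKFold.plus_of_data hQ idx B c hpol (Qs 2)
    (fun x hx v => hPI (hC.le 2 hx) v v) (hslot 2) (hspan 2)

end Cfsg.Agent.Lib.Helper55.Oe
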