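import Mathlib
import Cfsg.Prelude.Def_GeometricClasses
import Cfsg.Agent.Lib.Helper99.AschDefs
import Cfsg.Agent.Lib.Helper55.Oe.Defs
import Cfsg.Agent.Lib.Helper19.OePIrr
import Cfsg.Agent.Lib.Helper19.OeGPerp
import Cfsg.Agent.Lib.Helper87.BhrMaxCasesOf

/-!
# Project ASCHOE (helper55): small kit for the row assemblies (helper54)

Facts shared by the five rows S5826 S5847 S5850 S5871 S5874:
properness of subspace stabilisers (from [P-IRR]), `W ≠ ⊤` for totally singular `W`, `span {v} ≠ ⊥, ⊤`,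
`2 ≠ 0 ⇒ Odd (card F)`, `2 = 0 ⇒ ¬ Odd (card F)`, normalisation of `OutND` to `2 dim W ≤ n` (from [G-PERP]),
`OutTSPair ⇒ plus type`, `F₀ ≠ ⊤` from `card F = card F₀ ^ r`.
-/

set_option autoImplicit false

namespace Cfsg.Agent.Lib.Helper54.OeRowKit

open Cfsg Cfsg.Geo Cfsg.Agent.Lib.Helper99.Asch Cfsg.Agent.Lib.Helper55.Oe
open scoped MatrixGroups Matrix Kronecker

variable {n : ℕ} {F : Type*} [Field F]

/-- an element of the stabiliser of `W` maps `W` into `W` -/
theorem map_le_of_mem_subspaceStabilizer {W : Submodule F (Fin n → F)} {g : GL (Fin n) F}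
    (hg : g ∈ subspaceStabilizer W) : W.map (Matrix.toLin' (g : Matrix (Fin n) (Fin n) F)) ≤ W := by
  rintro _ ⟨v, hv, rfl⟩
  rw [Matrix.toLin'_apply]
  exact (hg v).mp hv

theorem Q_zero {Q : (Fin n → F) → F} (hQ : IsNondegenerateQuadraticForm Q) : Q 0 = 0 := by
  have := hQ.smul 0 0
  rw [zero_smul] at this
  rw [this]; ring

/-- a totally singular subspace is proper -/
theorem ts_ne_top {Q : (Fin n → F) → F} (hQ : IsNondegenerateQuadraticForm Q) (hn : 0 < n)
    {W : Submodule F (Fin n → F)} (hW : IsTotallySingularQuad Q W) : W ≠ ⊤ := by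
  rintro rfl
  have hv : (Pi.single (⟨0, hn⟩ : Fin n) (1 : F) : Fin n → F) ≠ 0 := by
    intro h
    have := congrFun h ⟨0, hn⟩
    simp at this
  obtain ⟨⟨x, hx⟩, -⟩ := hQ.nondegenerate _ hv
  apply hx
  unfold QuadraticMap.polar
  rw [hW _ Submodule.mem_top, hW _ Submodule.mem_top, hW _ Submodule.mem_top]
  ring

theorem span_singleton_ne_bot {Q : (Fin n → F) → F} (hQ : IsNondegenerateQuadraticForm Q)
    {v : Fin n → F} (hv : Q v ≠ 0) : Submodule.span F {v} ≠ ⊥ := by
  intro h
  rw [Submodule.span_singleton_eq_bot] at h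
  rw [h] at hv
  exact hv (Q_zero hQ)

theorem span_singleton_ne_top (hn : 2 ≤ n) (v : Fin n → F) : Submodule.span F {v} ≠ ⊤ := by
  intro h
  have h1 : Module.finrank F (Submodule.span F {v}) ≤ 1 := by
    have := finrank_span_le_card (R := F) ({v} : Set (Fin n → F))
    simpa using this
  rw [h, finrank_top, Module.finrank_fintype_fun_eq_card, Fintype.card_fin] at h1
  omega

variable [Fintype F]

theorem odd_card_of_two_ne_zero (h2 : (2 : F) ≠ 0) : Odd (Fintype.card F) := by
  by_contra hodd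
  have h0 : Fintype.card F % 2 = 0 := by
    rcases Nat.even_or_odd (Fintype.card F) with h | h
    · exact Nat.even_iff.mp h
    · exact absurd h hodd
  have h3 : ringChar F = 2 := FiniteField.even_card_iff_char_two.mpr h0
  have : CharP F 2 := ringChar.of_eq h3
  exact h2 CharTwo.two_eq_zero

theorem not_odd_card_of_two_eq_zero (h2 : (2 : F) = 0) : ¬ Odd (Fintype.card F) := by
  intro hodd
  have : CharP F 2 := CharTwo.of_one_ne_zero_of_two_eq_zero one_ne_zero h2
  have h3 : ringChar F = 2 := ringChar.eq F 2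
  have h0 : Fintype.card F % 2 = 0 := FiniteField.even_card_iff_char_two.mp h3
  have := Nat.odd_iff.mp hodd
  omega

/-- properness of subspace stabilisers -/
theorem not_omegaGL_le_subspaceStabilizer {Q : (Fin n → F) → F} (hQ : IsNondegenerateQuadraticForm Q)
    (hn : 7 ≤ n) {W : Submodule F (Fin n → F)} (h0 : W ≠ ⊥) (h1 : W ≠ ⊤) :
    ¬ omegaGL Q ≤ subspaceStabilizer W := by
  intro hle
  rcases omegaGL_irreducible hQ hn W (by
    rintro _ ⟨g, hg, rfl⟩
    exact map_le_of_mem_subspaceStabilizer (hle hg)) with h | h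
  · exact h0 h
  · exact h1 h

/-- in `OutND` the subspace can be taken of dimension at most `n / 2` -/
theorem nd_normalize {Q : (Fin n → F) → F} (hQ : IsNondegenerateQuadraticForm Q)
    {H : Subgroup (GL (Fin n) F)} (hI : H ≤ isometryGroup F Q) (h : OutND Q H) :
    ∃ W : Submodule F (Fin n → F), W ≠ ⊥ ∧ W ≠ ⊤ ∧ IsNondegenerateOn (QuadraticMap.polar Q) W ∧
      H ≤ subspaceStabilizer W ∧ 1 ≤ Module.finrank F W ∧ 2 * Module.finrank F W ≤ n := by
  obtain ⟨W, h0, h1, hnd, hHW⟩ := h
  have hpos : 1 ≤ Module.finrank F W := by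
    by_contra hc
    have : Module.finrank F W = 0 := by omega
    exact h0 (Submodule.finrank_eq_zero.mp this)
  have hlt : Module.finrank F W < n := by
    have := Submodule.finrank_lt h1
    rwa [Module.finrank_fintype_fun_eq_card, Fintype.card_fin] at this
  by_cases hle : 2 * Module.finrank F W ≤ n
  · exact ⟨W, h0, h1, hnd, hHW, hpos, hle⟩
  · obtain ⟨W', hnd', -, -, -, hsum, -, hstab⟩ := exists_perp_of_nondegenerate hQ W hnd
    have h0' : W' ≠ ⊥ := by
      rintro rfl
      rw [finrank_bot] at hsum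
      omega
    have h1' : W' ≠ ⊤ := by
      rintro rfl
      rw [finrank_top, Module.finrank_fintype_fun_eq_card, Fintype.card_fin] at hsum
      omega
    exact ⟨W', h0', h1', hnd', (le_inf hHW hI).trans hstab, by omega, by omega⟩

/-- a pair of complementary totally singular subspaces forces plus type -/
theorem plus_of_tsPair {Q : (Fin n → F) → F} {H : Subgroup (GL (Fin n) F)} (h : OutTSPair Q H) :
    IsPlusTypeOn Q ⊤ := by
  obtain ⟨m, D, hD, hts, -⟩ := h
  have hmul := Cfsg.Agent.Lib.Helper87.BhrMaxCases.mul_eq_of_isMDecomposition D hD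
  refine ⟨D 0, le_top, hts 0, ?_⟩
  rw [hD.finrank_eq, finrank_top, Module.finrank_fintype_fun_eq_card, Fintype.card_fin]
  exact hmul

theorem subfield_ne_top (F₀ : Subfield F) {r : ℕ} (hr : 2 ≤ r)
    (hcard : Fintype.card F = Nat.card F₀ ^ r) : F₀ ≠ ⊤ := by
  rintro rfl
  have h1 : Nat.card (⊤ : Subfield F) = Fintype.card F := by
    rw [← Nat.card_eq_fintype_card]
    exact Nat.card_congr (Subfield.topEquiv (K := F)).toEquiv
  rw [h1] at hcard
  have hq : 1 < Fintype.card F := Fintype.one_lt_card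
  have : Fintype.card F ^ 2 ≤ Fintype.card F ^ r := Nat.pow_le_pow_right (by omega) hr
  nlinarith

end Cfsg.Agent.Lib.Helper54.OeRowKit
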