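import Mathlib
import Cfsg.Prelude.Def_GeometricClasses
import Cfsg.Agent.Lib.Helper55.Oe.Defs
import Cfsg.Agent.Lib.Helper55.Oe.Between
import Cfsg.Agent.Lib.Helper19.OePIrr
import Cfsg.Agent.Lib.Helper24.OePDecnd
import Cfsg.Agent.Lib.Helper19.OePTensor
import Cfsg.Agent.Lib.Helper52.OePSubfield
import Cfsg.Agent.Lib.Helper43.OePField
import Cfsg.Agent.Lib.Helper19.OeGPerp
import Cfsg.Agent.Lib.Helper19.OeGEven
import Cfsg.Agent.Lib.Helper19.OeTBlocks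
import Cfsg.Agent.Lib.Helper52.OeTEven
import Cfsg.Agent.Lib.Helper40.OeTFour
import Cfsg.Agent.Lib.Helper45.OeETensor2
import Cfsg.Agent.Lib.Helper45.OeESwap
import Cfsg.Agent.Lib.Helper36.OeTensorAlt
import Cfsg.Agent.Lib.Helper52.OeTSubfield2
import Cfsg.Agent.Lib.Helper20.OeTTensor34
import Cfsg.Agent.Lib.Helper94.TensorOrth3
import Cfsg.Agent.Lib.Helper94.OrthFrameBridge2
import Cfsg.Agent.Lib.Helper87.BhrMaxCasesOf
import Cfsg.Agent.Lib.Helper24.BhrC3Div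
import Cfsg.Agent.Lib.Helper54.OeRowKit

/-!
# Project ASCHOE (helper55), module ASCHOE-[ROW-12M] (helper54): S5874 from the CORE theorem

`S5874_of`: the statement of S5874 (maximal subgroups of `Ω₁₂⁻(q)`) with the conclusion `GeoOE Q H` of helper55's
`core_oe` as a hypothesis.  Case analysis following the row guide of sheet B.
-/

set_option autoImplicit false

namespace Cfsg.Agent.Lib.Helper54.OeRow12M

open Cfsg Cfsg.Geo Cfsg.Agent.Lib.Helper99.Asch Cfsg.Agent.Lib.Helper55.Oe Cfsg.Agent.Lib.Helper54.OeRowKit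

theorem S5874_of {F : Type*} [Field F] [Fintype F] (Q : (Fin 12 → F) → F) (hQ : Cfsg.Geo.IsNondegenerateQuadraticForm Q) (hminus : ¬ Cfsg.Geo.IsPlusTypeOn Q ⊤) (H : Subgroup (Matrix.GeneralLinearGroup (Fin 12) F)) (hH : Cfsg.Geo.IsMaximalIn (Cfsg.Geo.omegaGL Q) H)
    (hcore : Cfsg.Agent.Lib.Helper55.Oe.GeoOE Q H) :
    (∃ W : Submodule F (Fin 12 → F), W ≠ ⊥ ∧ Cfsg.Geo.IsTotallySingularQuad Q W ∧ H = Cfsg.Geo.subspaceStabilizer W ⊓ Cfsg.Geo.omegaGL Q) ∨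
    (Odd (Fintype.card F) ∧ ∃ W : Submodule F (Fin 12 → F), W ≠ ⊥ ∧ W ≠ ⊤ ∧ Odd (Module.finrank F W) ∧ 2 * Module.finrank F W ≠ 12 ∧ Cfsg.Geo.IsNondegenerateOn (QuadraticMap.polar Q) W ∧ H = Cfsg.Geo.subspaceStabilizer W ⊓ Cfsg.Geo.omegaGL Q) ∨
    (∃ W : Submodule F (Fin 12 → F), Module.finrank F W = 2 ∧ Cfsg.Geo.IsNondegenerateOn (QuadraticMap.polar Q) W ∧ ¬ Cfsg.Geo.IsPlusTypeOn Q W ∧ H = Cfsg.Geo.subspaceStabilizer W ⊓ Cfsg.Geo.omegaGL Q) ∨
    (4 ≤ Fintype.card F ∧ ∃ W : Submodule F (Fin 12 → F), Module.finrank F W = 2 ∧ Cfsg.Geo.IsNondegenerateOn (QuadraticMap.polar Q) W ∧ Cfsg.Geo.IsPlusTypeOn Q W ∧ H = Cfsg.Geo.subspaceStabilizer W ⊓ Cfsg.Geo.omegaGL Q) ∨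
    (∃ W : Submodule F (Fin 12 → F), Module.finrank F W = 4 ∧ Cfsg.Geo.IsNondegenerateOn (QuadraticMap.polar Q) W ∧ H = Cfsg.Geo.subspaceStabilizer W ⊓ Cfsg.Geo.omegaGL Q) ∨
    (∃ W : Submodule F (Fin 12 → F), Module.finrank F W = 6 ∧ Cfsg.Geo.IsNondegenerateOn (QuadraticMap.polar Q) W ∧ H = Cfsg.Geo.subspaceStabilizer W ⊓ Cfsg.Geo.omegaGL Q) ∨
    (¬ Odd (Fintype.card F) ∧ ∃ v : (Fin 12 → F), Q v ≠ 0 ∧ H = Cfsg.Geo.subspaceStabilizer (Submodule.span F {v}) ⊓ Cfsg.Geo.omegaGL Q) ∨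
    (∃ D : Fin 3 → Submodule F (Fin 12 → F), Cfsg.Geo.IsOrthogonalMDecomposition Q 4 D ∧ (∀ i, ¬ Cfsg.Geo.IsPlusTypeOn Q (D i)) ∧ H = Cfsg.Geo.decompositionStabilizer D ⊓ Cfsg.Geo.omegaGL Q) ∨
    (∃ K : Subalgebra F (Matrix (Fin 12) (Fin 12) F), Cfsg.Geo.IsFieldSubalgebra 2 K ∧ H = Cfsg.Geo.subalgebraNormalizer K ⊓ Cfsg.Geo.omegaGL Q) ∨
    (∃ K : Subalgebra F (Matrix (Fin 12) (Fin 12) F), Cfsg.Geo.IsFieldSubalgebra 3 K ∧ H = Cfsg.Geo.subalgebraNormalizer K ⊓ Cfsg.Geo.omegaGL Q) ∨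
    (Odd (Fintype.card F) ∧ 5 ≤ Fintype.card F ∧ ∃ (e : Fin 12 ≃ Fin 3 × Fin 4) (P : Matrix.GeneralLinearGroup (Fin 12) F) (f₁ : (Fin 3 → F) → (Fin 3 → F) → F) (f₂ : (Fin 4 → F) → (Fin 4 → F) → F), Cfsg.Geo.IsSymmetricForm f₁ ∧ Cfsg.Geo.IsSymmetricForm f₂ ∧ ¬ Cfsg.Geo.IsPlusTypeOn (fun v : Fin 4 → F => f₂ v v) ⊤ ∧ Cfsg.Geo.IsTensorFormStructure id (QuadraticMap.polar Q) f₁ f₂ e P ∧ H = Cfsg.Geo.tensorProductSubgroup 3 4 e P ⊓ Cfsg.Geo.omegaGL Q) ∨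
    (∃ (F₀ : Subfield F) (r : ℕ) (P : Matrix.GeneralLinearGroup (Fin 12) F) (ζ : F), r.Prime ∧ Odd r ∧ Fintype.card F = Nat.card F₀ ^ r ∧ ζ ≠ 0 ∧ Cfsg.Geo.IsQuadFormRationalStructure (fun v : Fin 12 → F => ζ * Q v) F₀ P ∧ H = Cfsg.Geo.subfieldSubgroup F₀ P ⊓ Cfsg.Geo.omegaGL Q) ∨
    Cfsg.Geo.InOrthogonalResidualClass H := by
  classical
  have hn7 : 7 ≤ 12 := by norm_num
  have hle : H ≤ Cfsg.Geo.omegaGL Q := hH.1.le
  have hI : H ≤ isometryGroup F Q := hle.trans (omegaGL_le_isometryGroup Q)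
  -- the field disjunct from `OutFieldU`
  have hFU : OutFieldU Q H → ∃ K : Subalgebra F (Matrix (Fin 12) (Fin 12) F), Cfsg.Geo.IsFieldSubalgebra 2 K ∧
      H = Cfsg.Geo.subalgebraNormalizer K ⊓ Cfsg.Geo.omegaGL Q := by
    rintro ⟨K, hK, -, -, -, hHK⟩
    exact ⟨K, hK, eq_inf_of_isMaximalIn hH hHK
      (not_omegaGL_le_subalgebraNormalizer hQ hn7 2 le_rfl K hK)⟩
  -- tensor decompositions `2 × 6` into symmetric forms
  have hT26 : (2 : F) ≠ 0 → ∀ (e : Fin 12 ≃ Fin 2 × Fin 6) (P : GL (Fin 12) F)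
      (f₁ : (Fin 2 → F) → (Fin 2 → F) → F) (f₂ : (Fin 6 → F) → (Fin 6 → F) → F),
      IsSymmetricForm f₁ → IsSymmetricForm f₂ →
      IsTensorFormStructure id (QuadraticMap.polar Q) f₁ f₂ e P →
      H ≤ tensorProductSubgroup 2 6 e P →
      ∃ K : Subalgebra F (Matrix (Fin 12) (Fin 12) F), Cfsg.Geo.IsFieldSubalgebra 2 K ∧
        H = Cfsg.Geo.subalgebraNormalizer K ⊓ Cfsg.Geo.omegaGL Q := by
    intro h2 e P f₁ f₂ hs₁ hs₂ hT hHT
    rcases tsPair_or_fieldU_of_tensorSym_two hQ h2 hI 6 (by norm_num) e P f₁ f₂ hs₁ hs₂ hT hHT with h | h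
    · exact absurd (plus_of_tsPair h) hminus
    · exact hFU h
  -- tensor decompositions `3 × 4` into symmetric forms
  have hT34 : (2 : F) ≠ 0 → ∀ (e : Fin 12 ≃ Fin 3 × Fin 4) (P : GL (Fin 12) F)
      (f₁ : (Fin 3 → F) → (Fin 3 → F) → F) (f₂ : (Fin 4 → F) → (Fin 4 → F) → F),
      IsSymmetricForm f₁ → IsSymmetricForm f₂ →
      IsTensorFormStructure id (QuadraticMap.polar Q) f₁ f₂ e P →
      H ≤ tensorProductSubgroup 3 4 e P →
      (Odd (Fintype.card F) ∧ 5 ≤ Fintype.card F ∧ ∃ (e : Fin 12 ≃ Fin 3 × Fin 4) (P : Matrix.GeneralLinearGroup (Fin 12) F) (f₁ : (Fin 3 → F) → (Fin 3 → F) → F) (f₂ : (Fin 4 → F) → (Fin 4 → F) → F), Cfsg.Geo.IsSymmetricForm f₁ ∧ Cfsg.Geo.IsSymmetricForm f₂ ∧ ¬ Cfsg.Geo.IsPlusTypeOn (fun v : Fin 4 → F => f₂ v v) ⊤ ∧ Cfsg.Geo.IsTensorFormStructure id (QuadraticMap.polar Q) f₁ f₂ e P ∧ H = Cfsg.Geo.tensorProductSubgroup 3 4 e P ⊓ Cfsg.Geo.omegaGL Q) := by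
    intro h2 e P f₁ f₂ hs₁ hs₂ hT hHT
    have hodd := odd_card_of_two_ne_zero h2
    have hnp : ¬ Cfsg.Geo.IsPlusTypeOn (fun v : Fin 4 → F => f₂ v v) ⊤ := fun hp =>
      hminus ((isPlusTypeOn_top_tensorSym_iff hQ h2 3 4 (by decide) (by decide) e P f₁ f₂ hs₁ hs₂ hT).mpr hp)
    by_cases hq : 5 ≤ Fintype.card F
    · exact ⟨hodd, hq, e, P, f₁, f₂, hs₁, hs₂, hnp, hT, eq_inf_of_isMaximalIn hH hHT
        (not_omegaGL_le_tensorProductSubgroup hQ hn7 3 4 (by norm_num) (by norm_num) e P)⟩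
    · exfalso
      have hq1 : 1 < Fintype.card F := Fintype.one_lt_card
      have hq3 : Fintype.card F = 3 := by
        obtain ⟨j, hj⟩ := hodd
        omega
      exact false_of_exists_between hH hHT
        (Cfsg.Agent.Lib.Helper94.exists_between_tensor_orth3 hQ hq3 (by norm_num) e P f₁ f₂ hs₁ hs₂ hT)
  rcases hcore with hTS | hND | hNS | hDec | hPair | hSA | hU | hTSym | hTAlt | hSub | h8 | hRes
  · -- totally singular subspace
    obtain ⟨W, hW0, hWts, hHW⟩ := hTS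
    exact (Or.inl ⟨W, hW0, hWts, eq_inf_of_isMaximalIn hH hHW (not_omegaGL_le_subspaceStabilizer hQ hn7 hW0 (ts_ne_top hQ (by norm_num) hWts))⟩)
  · -- non-degenerate subspace
    obtain ⟨W, hW0, hW1, hWnd, hHW, hk1, hk6⟩ := nd_normalize hQ hI hND
    have hprop := not_omegaGL_le_subspaceStabilizer hQ hn7 hW0 hW1
    have hEq := eq_inf_of_isMaximalIn hH hHW hprop
    have hoddcase : Odd (Module.finrank F W) → 2 * Module.finrank F W ≠ 12 →
        (Odd (Fintype.card F) ∧ ∃ W : Submodule F (Fin 12 → F), W ≠ ⊥ ∧ W ≠ ⊤ ∧ Odd (Module.finrank F W) ∧ 2 * Module.finrank F W ≠ 12 ∧ Cfsg.Geo.IsNondegenerateOn (QuadraticMap.polar Q) W ∧ H = Cfsg.Geo.subspaceStabilizer W ⊓ Cfsg.Geo.omegaGL Q) := by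
      intro hko hk12
      have h2 : (2 : F) ≠ 0 := by
        intro h2
        have := even_finrank_of_nondegenerate_char_two hQ h2 W hWnd
        exact (Nat.not_even_iff_odd.mpr hko) this
      exact ⟨odd_card_of_two_ne_zero h2, W, hW0, hW1, hko, hk12, hWnd, hEq⟩
    obtain ⟨k, hk⟩ : ∃ k, Module.finrank F W = k := ⟨_, rfl⟩
    rw [hk] at hk1 hk6 hoddcase
    have hk6' : k ≤ 6 := by omega
    interval_cases k
    · exact (Or.inr (Or.inl (hoddcase (by decide) (by norm_num))))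
    · -- planes
      by_cases hp : Cfsg.Geo.IsPlusTypeOn Q W
      · by_cases hq : 4 ≤ Fintype.card F
        · exact (Or.inr (Or.inr (Or.inr (Or.inl ⟨hq, W, hk, hWnd, hp, hEq⟩))))
        · exfalso
          exact false_of_exists_between hH hHW
            (exists_between_plus_plane hQ (by norm_num) (by omega) W hk hWnd hp)
      · exact (Or.inr (Or.inr (Or.inl ⟨W, hk, hWnd, hp, hEq⟩)))
    · exact (Or.inr (Or.inl (hoddcase (by decide) (by norm_num))))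
    · exact (Or.inr (Or.inr (Or.inr (Or.inr (Or.inl ⟨W, hk, hWnd, hEq⟩)))))
    · exact (Or.inr (Or.inl (hoddcase (by decide) (by norm_num))))
    · exact (Or.inr (Or.inr (Or.inr (Or.inr (Or.inr (Or.inl ⟨W, hk, hWnd, hEq⟩))))))
  · -- non-singular vector in characteristic two
    obtain ⟨h2, v, hv, hHv⟩ := hNS
    exact (Or.inr (Or.inr (Or.inr (Or.inr (Or.inr (Or.inr (Or.inl ⟨not_odd_card_of_two_eq_zero h2, v, hv, eq_inf_of_isMaximalIn hH hHv (not_omegaGL_le_subspaceStabilizer hQ hn7 (span_singleton_ne_bot hQ hv) (span_singleton_ne_top (by norm_num) v))⟩)))))))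
  · -- orthogonal decompositions
    obtain ⟨t, m, D, hD, hHD⟩ := hDec
    have htm := Cfsg.Agent.Lib.Helper87.BhrMaxCases.mul_eq_of_isMDecomposition D hD.decomp.decomp
    have ht2 := hD.decomp.decomp.two_le
    have hm0 := hD.decomp.decomp.pos
    have ht12 : t ≤ 12 := Nat.le_of_dvd (by norm_num) ⟨m, htm.symm⟩
    have hfour : 4 ∣ t → False := fun h4 =>
      hminus (Cfsg.Agent.Lib.Helper40.OeTFour.isPlusTypeOn_top_of_four_dvd_of
        (fun m D a b c d e f => isPlusTypeOn_iSup_of_even hQ m D a b c d e f) hQ m D hD h4)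
    have heven : Even t → Even m → False := fun ht hm => by
      have := isPlusTypeOn_iSup_of_even hQ m D hD.decomp.decomp.finrank_eq hD.decomp.nondegenerate
        hD.decomp.orthogonal hD.isometric ht hm
      rw [hD.decomp.decomp.iSup_eq_top] at this
      exact hminus this
    interval_cases t
    · -- t = 2, m = 6
      have : m = 6 := by omega
      subst this
      exact (heven (by decide) (by decide)).elim
    · -- t = 3, m = 4
      have : m = 4 := by omega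
      subst this
      by_cases hpl : ∃ i, Cfsg.Geo.IsPlusTypeOn Q (D i)
      · exfalso
        obtain ⟨i, hi⟩ := hpl
        exact hminus (isPlusTypeOn_top_of_blocks hQ 4 D hD.decomp fun j =>
          Cfsg.Agent.Lib.Helper94.isPlusTypeOn_of_isometric (hD.isometric i j) hi)
      · push Not at hpl
        exact (Or.inr (Or.inr (Or.inr (Or.inr (Or.inr (Or.inr (Or.inr (Or.inl ⟨D, hD, hpl, eq_inf_of_isMaximalIn hH hHD (not_omegaGL_le_decompositionStabilizer hQ hn7 4 D hD.decomp)⟩))))))))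
    · exact (hfour (by decide)).elim
    · omega
    · -- t = 6, m = 2
      have : m = 2 := by omega
      subst this
      exact (heven (by decide) (by decide)).elim
    · omega
    · omega
    · omega
    · omega
    · omega
    · exact (hfour (by decide)).elim
  · -- totally singular pairs
    exact absurd (plus_of_tsPair hPair) hminus
  · -- self-adjoint fields
    obtain ⟨r, K, hr, hK, -, hHK⟩ := hSA
    have hdvd : r ∣ 12 := dvd_of_isFieldSubalgebra r K hK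
    have hr12 : r ≤ 12 := Nat.le_of_dvd (by norm_num) hdvd
    have hr2 := hr.two_le
    have hEq := eq_inf_of_isMaximalIn hH hHK (not_omegaGL_le_subalgebraNormalizer hQ hn7 r hr2 K hK)
    interval_cases r
    · exact (Or.inr (Or.inr (Or.inr (Or.inr (Or.inr (Or.inr (Or.inr (Or.inr (Or.inl ⟨K, hK, hEq⟩)))))))))
    · exact (Or.inr (Or.inr (Or.inr (Or.inr (Or.inr (Or.inr (Or.inr (Or.inr (Or.inr (Or.inl ⟨K, hK, hEq⟩))))))))))
    · exact absurd hr (by norm_num)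
    · exact absurd hdvd (by norm_num)
    · exact absurd hr (by norm_num)
    · exact absurd hdvd (by norm_num)
    · exact absurd hr (by norm_num)
    · exact absurd hr (by norm_num)
    · exact absurd hr (by norm_num)
    · exact absurd hdvd (by norm_num)
    · exact absurd hr (by norm_num)
  · -- unitary fields
    obtain ⟨K, hK, hEqK⟩ := hFU hU
    exact (Or.inr (Or.inr (Or.inr (Or.inr (Or.inr (Or.inr (Or.inr (Or.inr (Or.inl ⟨K, hK, hEqK⟩)))))))))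
  · -- symmetric tensor decompositions
    obtain ⟨h2, n₁, n₂, e, P, f₁, f₂, hn₁, hn₂, hs₁, hs₂, hT, hHT⟩ := hTSym
    have hmul := Cfsg.Agent.Lib.Helper87.BhrMaxCases.mul_eq_of_equiv_prod e
    have hn₁12 : n₁ ≤ 12 := Nat.le_of_dvd (by norm_num) ⟨n₂, hmul.symm⟩
    interval_cases n₁
    · -- 2 × 6
      have : n₂ = 6 := by omega
      subst this
      obtain ⟨K, hK, hEqK⟩ := hT26 h2 e P f₁ f₂ hs₁ hs₂ hT hHT
      exact (Or.inr (Or.inr (Or.inr (Or.inr (Or.inr (Or.inr (Or.inr (Or.inr (Or.inl ⟨K, hK, hEqK⟩)))))))))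
    · -- 3 × 4
      have : n₂ = 4 := by omega
      subst this
      exact (fun x => (Or.inr (Or.inr (Or.inr (Or.inr (Or.inr (Or.inr (Or.inr (Or.inr (Or.inr (Or.inr (Or.inl x)))))))))))) (hT34 h2 e P f₁ f₂ hs₁ hs₂ hT hHT)
    · -- 4 × 3
      have : n₂ = 3 := by omega
      subst this
      obtain ⟨hT', hEq', -⟩ := tensor_swap (QuadraticMap.polar Q) 4 3 e P f₁ f₂ hT
      rw [hEq'] at hHT
      exact (fun x => (Or.inr (Or.inr (Or.inr (Or.inr (Or.inr (Or.inr (Or.inr (Or.inr (Or.inr (Or.inr (Or.inl x)))))))))))) (hT34 h2 _ P f₂ f₁ hs₂ hs₁ hT' hHT)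
    · omega
    · -- 6 × 2
      have : n₂ = 2 := by omega
      subst this
      obtain ⟨hT', hEq', -⟩ := tensor_swap (QuadraticMap.polar Q) 6 2 e P f₁ f₂ hT
      rw [hEq'] at hHT
      obtain ⟨K, hK, hEqK⟩ := hT26 h2 _ P f₂ f₁ hs₂ hs₁ hT' hHT
      exact (Or.inr (Or.inr (Or.inr (Or.inr (Or.inr (Or.inr (Or.inr (Or.inr (Or.inl ⟨K, hK, hEqK⟩)))))))))
    all_goals omega
  · -- alternating tensor decompositions
    obtain ⟨n₁, n₂, e, P, f₁, f₂, -, -, h₁, h₂, hT, hpure, -⟩ := hTAlt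
    exact absurd (isPlusTypeOn_top_of_tensorAlt hQ n₁ n₂ e P f₁ f₂ h₁ h₂ hT hpure) hminus
  · -- subfields
    obtain ⟨F₀, r, P, ζ, hr, hcard, hζ, hrat, hHS⟩ := hSub
    rcases hr.eq_two_or_odd' with rfl | hodd
    · exact absurd (isPlusTypeOn_top_of_subfield_two hQ (by decide) F₀ hcard P ζ hζ hrat) hminus
    · have hF₀ := subfield_ne_top F₀ hr.two_le hcard
      have hEq := eq_inf_of_isMaximalIn hH hHS (not_omegaGL_le_subfieldSubgroup hQ hn7 F₀ hF₀ P)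
      exact (Or.inr (Or.inr (Or.inr (Or.inr (Or.inr (Or.inr (Or.inr (Or.inr (Or.inr (Or.inr (Or.inr (Or.inl ⟨F₀, r, P, ζ, hr, hodd, hcard, hζ, hrat, hEq⟩))))))))))))
  · exact absurd h8.1 (by norm_num)
  · exact (Or.inr (Or.inr (Or.inr (Or.inr (Or.inr (Or.inr (Or.inr (Or.inr (Or.inr (Or.inr (Or.inr (Or.inr hRes))))))))))))


end Cfsg.Agent.Lib.Helper54.OeRow12M
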