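/-
Choice of a central element of order `p` modulo `O_{p'}` and transport between
subgroup-of-subgroup types (helper54).
-/
import Cfsg.Agent.Lib.Helper54.PLocal2
import Cfsg.Agent.Lib.Helper9.PGroupLemmas

set_option autoImplicit false

namespace Cfsg.Agent.Lib.Helper54

open Cfsg Pointwise
open scoped commutatorElement

variable {G : Type*} [Group G]

/-- A nontrivial element of a `p`-group has a power of order `p`. -/
theorem exists_pow_orderOf_eq_prime_pl3 {p : ℕ} [hp : Fact p.Prime] {T : Subgroup G}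
    (hT : IsPGroup p T) {t : G} (ht : t ∈ T) (ht1 : t ≠ 1) :
    ∃ m : ℕ, orderOf (t ^ m) = p := by
  obtain ⟨n, hn⟩ := hT ⟨t, ht⟩
  have h1 : t ^ p ^ n = 1 := by
    have := congrArg Subtype.val hn
    simpa using this
  obtain ⟨k, -, hk⟩ := (Nat.dvd_prime_pow hp.out).mp (orderOf_dvd_of_pow_eq_one h1)
  have hk0 : k ≠ 0 := by
    rintro rfl
    rw [pow_zero, orderOf_eq_one_iff] at hk
    exact ht1 hk
  obtain ⟨j, rfl⟩ := Nat.exists_eq_succ_of_ne_zero hk0
  refine ⟨p ^ j, ?_⟩
  rw [orderOf_pow_of_dvd (pow_ne_zero _ hp.out.ne_zero) (by rw [hk]; exact pow_dvd_pow p (Nat.le_succ j)),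
    hk, pow_succ, Nat.mul_div_cancel_left _ (pow_pos hp.out.pos j)]

/-- In a finite group with a nontrivial normal `p`-subgroup `T` there is an element of order `p`
in `T` which is central in `O_{p',p}` modulo `O_{p'}`. -/
theorem exists_orderOf_eq_prime_central_mod [Finite G] (p : ℕ) [Fact p.Prime] (T : Subgroup G)
    [hTn : T.Normal] (hT : IsPGroup p T) (hT1 : T ≠ ⊥) :
    ∃ x ∈ T, orderOf x = p ∧ x ∈ pPrimePCore p G ∧
      (∀ y ∈ pPrimePCore p G, ⁅x, y⁆ ∈ pPrimeCore p G) ∧ ∀ t ∈ T, Commute x t := by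
  have hTR : T ≤ pPrimePCore p G := by
    apply le_pPrimePCore p hTn
    intro t ht
    obtain ⟨n, hn⟩ := hT ⟨t, ht⟩
    refine ⟨n, ?_⟩
    have h1 := congrArg Subtype.val hn
    simp only [Subgroup.coe_pow, Subgroup.coe_one] at h1
    rw [h1]; exact Subgroup.one_mem _
  -- the image of `T` in the quotient
  have hTbn : (T.map (QuotientGroup.mk' (pPrimeCore p G))).Normal :=
    hTn.map _ (QuotientGroup.mk'_surjective _)
  have hTbQ : T.map (QuotientGroup.mk' (pPrimeCore p G)) ≤ pCore p (G ⧸ pPrimeCore p G) :=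
    Cfsg.Agent.Lib.Helper76.le_pCore p _ hTbn (hT.map _)
  have hTb1 : T.map (QuotientGroup.mk' (pPrimeCore p G)) ≠ ⊥ := by
    intro h
    apply hT1
    rw [eq_bot_iff]
    intro t ht
    have h1 : QuotientGroup.mk' (pPrimeCore p G) t ∈ (⊥ : Subgroup (G ⧸ pPrimeCore p G)) :=
      h ▸ Subgroup.mem_map_of_mem _ ht
    rw [Subgroup.mem_bot, QuotientGroup.mk'_apply, QuotientGroup.eq_one_iff] at h1
    rw [Subgroup.mem_bot]
    exact eq_one_of_mem_pGroup_of_mem_coprime hT (card_pPrimeCore_coprime p) ht h1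
  have hQp : IsPGroup p (pCore p (G ⧸ pPrimeCore p G)) := Cfsg.Agent.Lib.Helper76.pCore_isPGroup p
  have hN'n : ((T.map (QuotientGroup.mk' (pPrimeCore p G))).subgroupOf
      (pCore p (G ⧸ pPrimeCore p G))).Normal := hTbn.subgroupOf _
  have hN'1 : (T.map (QuotientGroup.mk' (pPrimeCore p G))).subgroupOf
      (pCore p (G ⧸ pPrimeCore p G)) ≠ ⊥ := by
    rw [Ne, Subgroup.subgroupOf_eq_bot, disjoint_iff, inf_of_le_left hTbQ]
    exact hTb1
  obtain ⟨z, hzN, hz1, hzc⟩ := Cfsg.Agent.Lib.Helper9.exists_ne_one_mem_center_of_normal hQp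
    ((T.map (QuotientGroup.mk' (pPrimeCore p G))).subgroupOf (pCore p (G ⧸ pPrimeCore p G))) hN'1
  obtain ⟨t, ht, htz⟩ := Subgroup.mem_subgroupOf.mp hzN
  have ht1 : t ≠ 1 := by
    rintro rfl
    apply hz1
    apply Subtype.ext
    rw [← htz, map_one, Subgroup.coe_one]
  obtain ⟨m, hm⟩ := exists_pow_orderOf_eq_prime_pl3 hT ht ht1
  have hxT : t ^ m ∈ T := Subgroup.pow_mem _ ht m
  have hcomm : ∀ y ∈ pPrimePCore p G, ⁅t ^ m, y⁆ ∈ pPrimeCore p G := by
    intro y hy
    rw [commutator_mem_iff_commute_mk, map_pow]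
    apply Commute.pow_left
    have h1 := (Subgroup.mem_center_iff.mp hzc) ⟨_, (mem_pPrimePCore_iff p y).mp hy⟩
    have h2 := congrArg Subtype.val h1
    simp only [Subgroup.coe_mul] at h2
    rw [← htz] at h2
    exact h2.symm
  refine ⟨t ^ m, hxT, hm, hTR hxT, hcomm, ?_⟩
  intro s hs
  rw [← commutatorElement_eq_one_iff_commute]
  apply eq_one_of_mem_pGroup_of_mem_coprime hT (card_pPrimeCore_coprime p) _ (hcomm s (hTR hs))
  rw [commutatorElement_def]
  exact Subgroup.mul_mem _ (hTn.conj_mem _ hs _) (Subgroup.inv_mem _ hs)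


/-! ### Transport between `A.subgroupOf B` and `A ⊓ B` -/

/-- `A.subgroupOf B ≃* A ⊓ B`. -/
noncomputable def subgroupOfEquivInf (A B : Subgroup G) :
    ↥(A.subgroupOf B) ≃* ↥(A ⊓ B : Subgroup G) :=
  (MulEquiv.subgroupCongr (Subgroup.inf_subgroupOf_right A B).symm).trans
    (Subgroup.subgroupOfEquivOfLe inf_le_right)

theorem isPConstrained_subgroupOf_iff [Finite G] (p : ℕ) [Fact p.Prime] (A B : Subgroup G) :
    IsPConstrained p ↥(A.subgroupOf B) ↔ IsPConstrained p ↥(A ⊓ B : Subgroup G) :=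
  ⟨isPConstrained_of_mulEquiv p (subgroupOfEquivInf A B),
    isPConstrained_of_mulEquiv p (subgroupOfEquivInf A B).symm⟩

theorem centralizer_singleton_subgroupOf (N : Subgroup G) (x : N) :
    Subgroup.centralizer ({x} : Set N) =
      (Subgroup.centralizer ({(x : G)} : Set G)).subgroupOf N := by
  ext g
  rw [Subgroup.mem_subgroupOf, Subgroup.mem_centralizer_iff, Subgroup.mem_centralizer_iff]
  constructor
  · intro h y hy
    rw [Set.mem_singleton_iff] at hy
    subst hy
    have := h x rfl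
    exact congrArg Subtype.val this
  · intro h y hy
    rw [Set.mem_singleton_iff] at hy
    subst hy
    exact Subtype.ext (h (y : G) rfl)

/-- If the subgroup `M` is `p`-constrained and `T ≤ M` is a `p`-subgroup, then `N_M(T)` is
`p`-constrained. -/
theorem isPConstrained_normalizer_inf [Finite G] (p : ℕ) [Fact p.Prime] (M : Subgroup G)
    (hM : IsPConstrained p ↥M) (T : Subgroup G) (hT : IsPGroup p T) (hTM : T ≤ M) :
    IsPConstrained p ↥(Subgroup.normalizer (T : Set G) ⊓ M : Subgroup G) := by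
  have hT' : IsPGroup p (T.subgroupOf M) := hT.comap_of_injective _ (Subgroup.subtype_injective M)
  have h1 := isPConstrained_of_local p hM (T.subgroupOf M) _ hT' le_rfl
    (Subgroup.centralizer_le_normalizer _) (Or.inl Subgroup.le_normalizer)
  rw [← Subgroup.subgroupOf_normalizer_eq hTM] at h1
  exact (isPConstrained_subgroupOf_iff p _ _).mp h1

/-- `N_G(T)` is `p`-constrained if the centralizers of all elements of order `p` are. -/
theorem isPConstrained_normalizer_of_centralizers [Finite G] (p : ℕ) [Fact p.Prime]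
    (h : ∀ x : G, orderOf x = p → IsPConstrained p ↥(Subgroup.centralizer ({x} : Set G)))
    (T : Subgroup G) (hT : IsPGroup p T) (hT1 : T ≠ ⊥) :
    IsPConstrained p ↥(Subgroup.normalizer (T : Set G)) := by
  have hT'n : (T.subgroupOf (Subgroup.normalizer (T : Set G))).Normal :=
    Subgroup.normal_in_normalizer
  have hT'p : IsPGroup p (T.subgroupOf (Subgroup.normalizer (T : Set G))) :=
    hT.comap_of_injective _ (Subgroup.subtype_injective _)
  have hT'1 : T.subgroupOf (Subgroup.normalizer (T : Set G)) ≠ ⊥ := by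
    rw [Ne, Subgroup.subgroupOf_eq_bot, disjoint_iff, inf_of_le_left Subgroup.le_normalizer]
    exact hT1
  obtain ⟨x, hxT, hxord, hxR, hxc, hxcomm⟩ :=
    exists_orderOf_eq_prime_central_mod p (T.subgroupOf (Subgroup.normalizer (T : Set G))) hT'p hT'1
  apply isPConstrained_of_centralizer p x hxord hxR hxc
  rw [centralizer_singleton_subgroupOf, isPConstrained_subgroupOf_iff]
  have hC := h (x : G) (by rw [Subgroup.orderOf_coe]; exact hxord)
  have hTC : T ≤ Subgroup.centralizer ({(x : G)} : Set G) := by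
    intro t ht
    rw [Subgroup.mem_centralizer_iff]
    intro y hy
    rw [Set.mem_singleton_iff] at hy
    subst hy
    have h1 := hxcomm ⟨t, Subgroup.le_normalizer ht⟩ (Subgroup.mem_subgroupOf.mpr ht)
    exact congrArg Subtype.val h1.eq
  have h2 := isPConstrained_normalizer_inf p _ hC T hT hTC
  rwa [inf_comm] at h2

end Cfsg.Agent.Lib.Helper54
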