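import Cfsg.Agent.Lib.Helper54.PCores

/-!
# `p`-solvable groups are `p`-constrained
-/

set_option autoImplicit false

namespace Cfsg.Agent.Lib.Helper54

open Cfsg

variable {G : Type*} [Group G]

/-- A finite `p`-solvable group is `p`-constrained (Hall–Higman 1.2.3 in `G / O_{p'}(G)`). -/
theorem isPConstrained_of_isPSolvable [Finite G] (p : ℕ) [Fact p.Prime] (h : IsPSolvable p G) :
    IsPConstrained p G := by
  rw [isPConstrained_iff_centralizer_pCore_le]
  have hq : IsPSolvable p (G ⧸ pPrimeCore p G) :=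
    Cfsg.Agent.Lib.Helper76.IsPSolvable_of_surjective p (QuotientGroup.mk' (pPrimeCore p G))
      (QuotientGroup.mk'_surjective _) h
  refine Cfsg.Agent.Lib.Helper76.centralizer_pCore_le p hq ?_
  intro N hN hcop
  have h1 : N ≤ pPrimeCore p (G ⧸ pPrimeCore p G) := le_sSup ⟨hN, hcop⟩
  rw [pPrimeCore_quotient_pPrimeCore] at h1
  exact le_bot_iff.mp h1

end Cfsg.Agent.Lib.Helper54
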