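import Mathlib
import Cfsg.Prelude.Def_Local
import Cfsg.Prelude.Def_Transfer
import Cfsg.Agent.Lib.Helper41.PGV.Defs
import Cfsg.Agent.Lib.Helper22.Components
import Cfsg.Agent.Lib.Helper22.ComponentsMap

set_option autoImplicit false

universe v

namespace Cfsg.Agent.Lib.Helper54.PgvLoc

open Cfsg Cfsg.Agent.Lib.Helper41.PGV

section central

variable {p : ℕ} [Fact p.Prime] {G V : Type v} [Group G] [AddCommGroup V] [Module (ZMod p) V]
  (ρ : Representation (ZMod p) G V) (D : Subgroup G)

/-- `C_V(D)` is invariant under everything commuting with `D` -/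
lemma fix_invariant (hDc : ∀ d ∈ D, ∀ g : G, d * g = g * d) (g : G) :
    ∀ v ∈ fix ρ (D : Set G), ρ g v ∈ fix ρ (D : Set G) := by
  intro v hv d hd
  have h1 : ρ d (ρ g v) = ρ (d * g) v := by rw [map_mul]; rfl
  rw [h1, hDc d hd g, map_mul]
  show ρ g (ρ d v) = ρ g v
  rw [hv d hd]

/-- the restriction of `ρ` to `W = C_V(D)` when `D` is central -/
def resRep (hDc : ∀ d ∈ D, ∀ g : G, d * g = g * d) : Representation (ZMod p) G (fix ρ (D : Set G)) where
  toFun g := (ρ g).restrict (fix_invariant ρ D hDc g)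
  map_one' := by
    ext w
    simp [LinearMap.restrict_apply]
  map_mul' g h := by
    ext w
    simp [LinearMap.restrict_apply]

@[simp] lemma resRep_apply (hDc : ∀ d ∈ D, ∀ g : G, d * g = g * d) (g : G) (w : fix ρ (D : Set G)) :
    ((resRep ρ D hDc g w : fix ρ (D : Set G)) : V) = ρ g (w : V) := rfl

lemma mem_ker_resRep (hDc : ∀ d ∈ D, ∀ g : G, d * g = g * d) (g : G) :
    g ∈ (resRep ρ D hDc).ker ↔ ∀ v ∈ fix ρ (D : Set G), ρ g v = v := by
  rw [MonoidHom.mem_ker]
  constructor
  · intro h v hv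
    have := congrArg (fun f : Module.End (ZMod p) (fix ρ (D : Set G)) => ((f ⟨v, hv⟩ : fix ρ (D : Set G)) : V)) h
    simpa using this
  · intro h
    ext w
    simp [h w.1 w.2]

lemma le_ker_resRep (hDc : ∀ d ∈ D, ∀ g : G, d * g = g * d) : D ≤ (resRep ρ D hDc).ker := by
  intro d hd
  rw [mem_ker_resRep]
  intro v hv
  exact hv d hd

/-- the faithful representation of `G / ker` on `W` -/
noncomputable def barRep (hDc : ∀ d ∈ D, ∀ g : G, d * g = g * d) :
    Representation (ZMod p) (G ⧸ (resRep ρ D hDc).ker) (fix ρ (D : Set G)) :=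
  QuotientGroup.lift (resRep ρ D hDc).ker (resRep ρ D hDc) le_rfl

lemma barRep_injective (hDc : ∀ d ∈ D, ∀ g : G, d * g = g * d) :
    Function.Injective (barRep ρ D hDc) := by
  intro a b hab
  obtain ⟨x, rfl⟩ := QuotientGroup.mk_surjective a
  obtain ⟨y, rfl⟩ := QuotientGroup.mk_surjective b
  unfold barRep at hab
  rw [QuotientGroup.lift_mk, QuotientGroup.lift_mk] at hab
  rw [QuotientGroup.eq, MonoidHom.mem_ker, map_mul, ← hab, ← map_mul, inv_mul_cancel, map_one]

lemma barRep_mk (hDc : ∀ d ∈ D, ∀ g : G, d * g = g * d) (g : G) (w : fix ρ (D : Set G)) :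
    ((barRep ρ D hDc (QuotientGroup.mk' _ g) w : fix ρ (D : Set G)) : V) = ρ g (w : V) := by
  unfold barRep
  rw [QuotientGroup.mk'_apply, QuotientGroup.lift_mk]
  rfl

/-- fixed points of an image subgroup -/
lemma card_fix_barRep (hDc : ∀ d ∈ D, ∀ g : G, d * g = g * d) (X : Subgroup G) (hDX : D ≤ X) :
    Nat.card (fix (barRep ρ D hDc) ((X.map (QuotientGroup.mk' (resRep ρ D hDc).ker) : Subgroup _) : Set _)) =
      Nat.card (fix ρ (X : Set G)) := by
  apply Nat.card_congr
  refine ⟨fun w => ⟨(w.1 : V), ?_⟩, fun v => ⟨⟨v.1, ?_⟩, ?_⟩, ?_, ?_⟩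
  · intro x hx
    have := w.2 (QuotientGroup.mk' _ x) ⟨x, hx, rfl⟩
    have h2 : ((barRep ρ D hDc (QuotientGroup.mk' _ x) w.1 : fix ρ (D : Set G)) : V) = ((w.1 : fix ρ (D : Set G)) : V) :=
      congrArg Subtype.val this
    rw [barRep_mk] at h2
    exact h2
  · intro d hd
    exact v.2 d (hDX hd)
  · rintro _ ⟨x, hx, rfl⟩
    apply Subtype.ext
    rw [barRep_mk]
    exact v.2 x hx
  · intro w
    rfl
  · intro v
    rfl

/-- order of an image subgroup -/
lemma card_map_mk (N X : Subgroup G) [N.Normal] :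
    Nat.card X = Nat.card (X.map (QuotientGroup.mk' N)) * Nat.card (N ⊓ X : Subgroup G) := by
  have h1 := Subgroup.card_mul_index ((QuotientGroup.mk' N).domRestrict X).ker
  rw [Subgroup.index_ker, MonoidHom.domRestrict_range, MonoidHom.ker_domRestrict, QuotientGroup.ker_mk'] at h1
  rw [← h1, mul_comm]
  congr 1
  rw [← Subgroup.inf_subgroupOf_right]
  exact Nat.card_congr (Subgroup.subgroupOfEquivOfLe inf_le_right).toEquiv

end central

section main

variable {p : ℕ} [Fact p.Prime] {G V : Type v} [Group G] [Finite G] [AddCommGroup V] [Finite V]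
  [Module (ZMod p) V] {ρ : Representation (ZMod p) G V} {A : Subgroup G}

/-- (T2) the image of a best offender on `C_V(D)` is a best offender -/
lemma bestOffender_bar (hoff : BestOffender ρ A) (D : Subgroup G) (hDA : D ≤ A)
    (hDc : ∀ d ∈ D, ∀ g : G, d * g = g * d) :
    BestOffender (barRep ρ D hDc) (A.map (QuotientGroup.mk' (resRep ρ D hDc).ker)) := by
  set N := (resRep ρ D hDc).ker with hN
  set π := QuotientGroup.mk' N with hπ
  have hDN : D ≤ N := le_ker_resRep ρ D hDc
  -- the key identity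
  have key : ∀ X : Subgroup G, N ⊓ A ≤ X → X ≤ A →
      jj (barRep ρ D hDc) (X.map π) * Nat.card (N ⊓ A : Subgroup G) = jj ρ X := by
    intro X h1 h2
    have hDX : D ≤ X := le_trans (le_inf hDN hDA) h1
    have hNX : N ⊓ X = N ⊓ A := le_antisymm (inf_le_inf_left _ h2) (le_inf inf_le_left h1)
    unfold jj
    rw [card_fix_barRep ρ D hDc X hDX, card_map_mk N X, hNX]
    ring
  intro Xb hXb
  set X : Subgroup G := Xb.comap π ⊓ A with hX
  have hXA : X ≤ A := inf_le_right
  have hNX : N ⊓ A ≤ X := by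
    refine le_inf ?_ inf_le_right
    intro x hx
    rw [Subgroup.mem_comap]
    have : π x = 1 := by
      rw [hπ, QuotientGroup.mk'_apply, QuotientGroup.eq_one_iff]
      exact hx.1
    rw [this]
    exact one_mem _
  have hmap : X.map π = Xb := by
    apply le_antisymm
    · rintro _ ⟨x, hx, rfl⟩
      exact hx.1
    · intro y hy
      obtain ⟨a, ha, rfl⟩ := hXb hy
      exact ⟨a, ⟨hy, ha⟩, rfl⟩
  have h1 := key X hNX hXA
  have h2 := key A inf_le_right le_rfl
  rw [hmap] at h1
  have hpos : 0 < Nat.card (N ⊓ A : Subgroup G) := Nat.card_pos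
  have := hoff X hXA
  rw [← h1, ← h2] at this
  exact Nat.le_of_mul_le_mul_right this hpos

/-- a group all of whose `p'`-elements are trivial is a `p`-group -/
lemma isPGroup_of_pprime_trivial {L : Subgroup G}
    (h : ∀ y ∈ L, (orderOf y).Coprime p → y = 1) : IsPGroup p L := by
  have hp : p.Prime := Fact.out
  intro x
  have hx0 : orderOf (x : G) ≠ 0 := (orderOf_pos (x : G)).ne'
  obtain ⟨e, m, hm, hem⟩ := Nat.exists_eq_pow_mul_and_not_dvd hx0 p hp.ne_one
  refine ⟨e, ?_⟩
  have hy : ((x : G) ^ p ^ e) = 1 := by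
    apply h _ (L.pow_mem x.2 _)
    have hpe : p ^ e ≠ 0 := pow_ne_zero _ hp.pos.ne'
    rw [orderOf_pow' _ hpe, hem]
    have hg : (p ^ e * m).gcd (p ^ e) = p ^ e := Nat.gcd_eq_right (Dvd.intro _ rfl)
    rw [hg, Nat.mul_div_cancel_left _ (pow_pos hp.pos e)]
    exact ((Nat.Prime.coprime_iff_not_dvd hp).mpr hm).symm
  apply Subtype.ext
  simpa using hy

/-- **[LOC]**, central form: `1 ≠ D ≤ A` central in `G`, `L` a component of `G`, `b ∈ A`: `L^b` does not commute with `L`. -/
theorem loc_central (D L : Subgroup G)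
    (hpq : ∀ x : G, (orderOf x).Coprime p → (∀ v ∈ fix ρ (D : Set G), ρ x v = v) → x = 1)
    (hinj : Function.Injective ρ) (hel : IsElementaryAbelian p A) (hoff : BestOffender ρ A)
    (ih : Holds.{v} p (Nat.card V + Nat.card A))
    (hDA : D ≤ A) (hD : D ≠ ⊥) (hDc : ∀ d ∈ D, ∀ g : G, d * g = g * d)
    (hL : IsComponent L) (b : G) (hb : b ∈ A)
    (hcomm : ∀ x ∈ L, ∀ y ∈ L, (b * x * b⁻¹) * y = y * (b * x * b⁻¹)) : False := by
  classical
  set N := (resRep ρ D hDc).ker with hN
  set π := QuotientGroup.mk' N with hπ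
  have hπs : Function.Surjective π := QuotientGroup.mk'_surjective N
  -- `W < V`
  have hWV : Nat.card (fix ρ (D : Set G)) < Nat.card V := by
    obtain ⟨d, hd, hd1⟩ : ∃ d ∈ D, d ≠ 1 := by
      by_contra hcon
      push Not at hcon
      exact hD ((Subgroup.eq_bot_iff_forall D).mpr hcon)
    have hne : ρ d ≠ 1 := fun h => hd1 (hinj (h.trans (map_one ρ).symm))
    obtain ⟨v, hv⟩ : ∃ v, ρ d v ≠ v := by
      by_contra hcon
      push Not at hcon
      exact hne (LinearMap.ext hcon)
    have hlt : (fix ρ (D : Set G) : Set V) ⊂ Set.univ := by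
      rw [Set.ssubset_univ_iff]
      intro h
      have : v ∈ (fix ρ (D : Set G) : Set V) := by rw [h]; trivial
      exact hv (this d hd)
    have := Set.ncard_lt_ncard hlt (Set.toFinite _)
    rwa [Set.ncard_univ, ← Nat.card_coe_set_eq] at this
  -- the image of `A`
  have hAle : Nat.card (A.map π) ≤ Nat.card A := Nat.le_of_dvd Nat.card_pos (Subgroup.card_map_dvd A π)
  have hAel : IsElementaryAbelian p (A.map π) := by
    refine ⟨⟨⟨?_⟩⟩, ?_⟩
    · rintro ⟨_, x, hx, rfl⟩ ⟨_, y, hy, rfl⟩
      apply Subtype.ext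
      show π x * π y = π y * π x
      rw [← map_mul, ← map_mul]
      congr 1
      have := hel.1.1.1 ⟨x, hx⟩ ⟨y, hy⟩
      exact congrArg Subtype.val this
    · rintro _ ⟨x, hx, rfl⟩
      rw [← map_pow, hel.2 x hx, map_one]
  have hAoff := bestOffender_bar hoff D hDA hDc
  -- the image of `L` is commutative
  have hLbar : ∀ x ∈ L.map π, ∀ y ∈ L.map π, x * y = y * x := by
    have hcomm' : ∀ x ∈ L.map π, ∀ y ∈ L.map π, (π b * x * (π b)⁻¹) * y = y * (π b * x * (π b)⁻¹) := by
      rintro _ ⟨x, hx, rfl⟩ _ ⟨y, hy, rfl⟩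
      rw [← map_inv, ← map_mul, ← map_mul, ← map_mul, ← map_mul, hcomm x hx y hy]
    by_cases hAb : A.map π = ⊥
    · have hb1 : π b = 1 := by
        have : π b ∈ A.map π := ⟨b, hb, rfl⟩
        rw [hAb] at this
        exact this
      intro x hx y hy
      have := hcomm' x hx y hy
      rwa [hb1, one_mul, inv_one, mul_one] at this
    · rcases Cfsg.Agent.Lib.Helper22.component_map_of_surjective hL hπs with hbot | hcomp
      · intro x hx y hy
        rw [hbot] at hx hy
        rw [Subgroup.mem_bot.mp hx, Subgroup.mem_bot.mp hy]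
      · have hnorm := ih (G ⧸ N) (fix ρ (D : Set G)) (barRep ρ D hDc) (barRep_injective ρ D hDc) (A.map π) hAb hAel
          hAoff (by omega) (L.map π) hcomp
        have hbn : π b ∈ Subgroup.normalizer ((L.map π : Subgroup (G ⧸ N)) : Set (G ⧸ N)) := hnorm ⟨b, hb, rfl⟩
        intro x hx y hy
        have hx' : (π b)⁻¹ * x * (π b)⁻¹⁻¹ ∈ L.map π :=
          (Subgroup.mem_normalizer_iff.mp (inv_mem hbn) x).mp hx
        have := hcomm' _ hx' y hy
        rw [inv_inv] at this
        have e : π b * ((π b)⁻¹ * x * π b) * (π b)⁻¹ = x := by group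
        rwa [e] at this
  -- hence it is trivial, i.e. `L ≤ N`
  have hLN : L ≤ N := by
    rcases Cfsg.Agent.Lib.Helper22.component_map_of_surjective hL hπs with hbot | hcomp
    · intro x hx
      have : π x ∈ L.map π := ⟨x, hx, rfl⟩
      rw [hbot, Subgroup.mem_bot] at this
      rw [hπ, QuotientGroup.mk'_apply, QuotientGroup.eq_one_iff] at this
      exact this
    · exfalso
      apply Cfsg.Agent.Lib.Helper22.component_not_isSolvable hcomp
      apply Group.isSolvable_of_comm
      rintro ⟨x, hx⟩ ⟨y, hy⟩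
      exact Subtype.ext (hLbar x hx y hy)
  -- so `L` is a `p`-group
  have hLp : IsPGroup p L := by
    apply isPGroup_of_pprime_trivial
    intro y hy hyp
    apply hpq y hyp
    exact (mem_ker_resRep ρ D hDc y).mp (hLN hy)
  have := hLp.isNilpotent
  exact Cfsg.Agent.Lib.Helper22.component_not_isSolvable hL inferInstance

/-- `j` does not change when the ambient group is cut down to a subgroup -/
lemma jj_comp_subtype (ρ : Representation (ZMod p) G V) (H : Subgroup G) (B' : Subgroup H) :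
    jj (ρ.comp H.subtype) B' = jj ρ (B'.map H.subtype) := by
  unfold jj
  rw [Subgroup.card_map_of_injective H.subtype_injective]
  congr 2
  apply congrArg (fun S : Submodule (ZMod p) V => (S : Type v))
  ext v
  constructor
  · rintro hv _ ⟨x, hx, rfl⟩
    exact hv x hx
  · intro hv x hx
    exact hv (H.subtype x) ⟨x, hx, rfl⟩

/-- **[LOC]** in `_of` form (hypothesis = the sheet statement `pq_rep` for this `G`, `ρ`). -/
theorem loc_of
    (hpq : ∀ D : Subgroup G, IsPGroup p D → ∀ x : G, (∀ d ∈ D, d * x = x * d) → (orderOf x).Coprime p →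
      (∀ v ∈ fix ρ (D : Set G), ρ x v = v) → x = 1)
    (hinj : Function.Injective ρ) (hel : IsElementaryAbelian p A) (hoff : BestOffender ρ A)
    (ih : Holds.{v} p (Nat.card V + Nat.card A))
    (D H L : Subgroup G) (hDA : D ≤ A) (hD : D ≠ ⊥) (hHD : H ≤ Subgroup.centralizer (D : Set G)) (hAH : A ≤ H)
    (hLH : L ≤ H) (hL : IsComponent (L.subgroupOf H)) (b : G) (hb : b ∈ A)
    (hcomm : ∀ x ∈ L, ∀ y ∈ L, (b * x * b⁻¹) * y = y * (b * x * b⁻¹)) : False := by
  have hDp : IsPGroup p D := by
    intro d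
    refine ⟨1, ?_⟩
    apply Subtype.ext
    simpa using hel.2 d.1 (hDA d.2)
  have hcardA : Nat.card (A.subgroupOf H) = Nat.card A :=
    Nat.card_congr (Subgroup.subgroupOfEquivOfLe hAH).toEquiv
  have hmapA : (A.subgroupOf H).map H.subtype = A := Subgroup.map_subgroupOf_eq_of_le hAH
  apply loc_central (ρ := ρ.comp H.subtype) (A := A.subgroupOf H) (D.subgroupOf H) (L.subgroupOf H)
    (b := ⟨b, hAH hb⟩)
  · -- pq
    intro x hxp hfix
    apply Subtype.ext
    apply hpq D hDp (x : G)
    · intro d hd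
      exact (Subgroup.mem_centralizer_iff.mp (hHD x.2)) d hd
    · rwa [Subgroup.orderOf_coe]
    · intro v hv
      apply hfix v
      intro d hd
      exact hv (d : G) hd
  · exact fun x y hxy => Subtype.ext (hinj hxy)
  · refine ⟨⟨⟨?_⟩⟩, ?_⟩
    · rintro ⟨x, hx⟩ ⟨y, hy⟩
      apply Subtype.ext
      apply Subtype.ext
      have := hel.1.1.1 ⟨(x : G), hx⟩ ⟨(y : G), hy⟩
      exact congrArg (fun z : A => (z : G)) this
    · intro x hx
      apply Subtype.ext
      simpa using hel.2 (x : G) hx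
  · intro B' hB'
    rw [jj_comp_subtype, jj_comp_subtype, hmapA]
    apply hoff
    rw [← hmapA]
    exact Subgroup.map_mono hB'
  · rw [hcardA]; exact ih
  · intro x hx
    exact hDA hx
  · intro h
    apply hD
    rw [Subgroup.eq_bot_iff_forall]
    intro d hd
    have : (⟨d, hAH (hDA hd)⟩ : H) ∈ D.subgroupOf H := hd
    rw [h, Subgroup.mem_bot] at this
    exact congrArg Subtype.val this
  · intro d hd g
    apply Subtype.ext
    exact (Subgroup.mem_centralizer_iff.mp (hHD g.2)) (d : G) hd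
  · exact hL
  · exact hb
  · intro x hx y hy
    apply Subtype.ext
    exact hcomm (x : G) hx (y : G) hy

end main

end Cfsg.Agent.Lib.Helper54.PgvLoc
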