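/-
helper54 library: module REEW2-[W2-E4] of helper61's project REEW2 (small Ree groups: tori, orders, counts).
-/
import Mathlib

set_option autoImplicit false
set_option linter.unusedVariables false

namespace Cfsg.Agent.Lib.Helper54.ReeW2

/-- an involution normalising the cyclic group `D` inverts the element `y ∈ D` of prime order, if no
involution centralises `y`. -/
theorem conj_eq_inv_of_involution {G : Type*} [Group G] (D : Subgroup G) (hD : IsCyclic ↥D)
    (p : ℕ) [Fact p.Prime] (y : G) (hyD : y ∈ D) (hy : orderOf y = p)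
    (hinv : ∀ t : G, orderOf t = 2 → t * y ≠ y * t)
    (t : G) (htN : t ∈ Subgroup.normalizer (D : Set G)) (ht : orderOf t = 2) :
    t * y * t⁻¹ = y⁻¹ := by
  obtain ⟨g, hg⟩ := hD.exists_generator
  have ht2 : t * t = 1 := by
    have := pow_orderOf_eq_one t
    rw [ht, pow_two] at this
    exact this
  have htinv : t⁻¹ = t := inv_eq_of_mul_eq_one_right ht2
  -- y = g ^ a
  obtain ⟨a, ha⟩ := Subgroup.mem_zpowers_iff.mp (hg ⟨y, hyD⟩)
  have ha' : ((g : G)) ^ a = y := by
    have := congrArg (Subtype.val) ha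
    simpa using this
  -- t g t⁻¹ = g ^ b
  have htg : t * (g : G) * t⁻¹ ∈ D := (Subgroup.mem_normalizer_iff.mp htN (g : G)).mp g.2
  obtain ⟨b, hb⟩ := Subgroup.mem_zpowers_iff.mp (hg ⟨_, htg⟩)
  have hb' : ((g : G)) ^ b = t * (g : G) * t⁻¹ := by
    have := congrArg (Subtype.val) hb
    simpa using this
  -- t y t⁻¹ = y ^ b
  have hconj : ∀ z : G, ∀ n : ℤ, t * z ^ n * t⁻¹ = (t * z * t⁻¹) ^ n := by
    intro z n
    simp
  have h1 : t * y * t⁻¹ = y ^ b := by
    rw [← ha', hconj, ← hb', ← zpow_mul, ← zpow_mul, mul_comm]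
  -- y = y ^ (b * b)
  have h2 : y ^ (b * b) = y := by
    have h3 : t * (t * y * t⁻¹) * t⁻¹ = y := by
      rw [htinv]
      calc t * (t * y * t) * t = (t * t) * y * (t * t) := by group
        _ = y := by rw [ht2, one_mul, mul_one]
    rw [h1, hconj, h1, ← zpow_mul] at h3
    exact h3
  have h4 : y ^ (b * b - 1) = 1 := by
    rw [zpow_sub, zpow_one, h2, mul_inv_cancel]
  have h5 : (p : ℤ) ∣ b * b - 1 := by
    rw [← hy]
    exact orderOf_dvd_iff_zpow_eq_one.mpr h4
  have h6 : b * b - 1 = (b - 1) * (b + 1) := by ring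
  rw [h6] at h5
  have hpp : Prime (p : ℤ) := Nat.prime_iff_prime_int.mp (Fact.out : p.Prime)
  rcases hpp.dvd_or_dvd h5 with h7 | h7
  · -- b ≡ 1: t centralises y
    exfalso
    have h8 : y ^ (b - 1) = 1 := by
      rw [← hy] at h7
      exact orderOf_dvd_iff_zpow_eq_one.mp h7
    have h9 : y ^ b = y := by
      have : y ^ b = y ^ (b - 1) * y := by rw [← zpow_add_one]; congr 1; ring
      rw [this, h8, one_mul]
    rw [h9] at h1
    apply hinv t ht
    calc t * y = (t * y * t⁻¹) * t := by group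
      _ = y * t := by rw [h1]
  · have h8 : y ^ (b + 1) = 1 := by
      rw [← hy] at h7
      exact orderOf_dvd_iff_zpow_eq_one.mp h7
    have h9 : y ^ b = y⁻¹ := by
      have : y ^ (b + 1) = y ^ b * y := zpow_add_one y b
      rw [this] at h8
      exact eq_inv_of_mul_eq_one_left h8
    rw [h1, h9]

/-! ## [W2-E4] (Mathlib only) -/
theorem card_normalizer_ne_four_mul {G : Type*} [Group G] [Finite G] (D : Subgroup G) (hD : IsCyclic ↥D)
    (hodd : Odd (Nat.card ↥D)) (p : ℕ) [Fact p.Prime] (y : G) (hyD : y ∈ D) (hy : orderOf y = p)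
    (hno4 : ∀ x : G, orderOf x ≠ 4) (hinv : ∀ t : G, orderOf t = 2 → t * y ≠ y * t) :
    Nat.card ↥(Subgroup.normalizer (D : Set G)) ≠ 4 * Nat.card ↥D := by
  classical
  intro hcard
  have hdvd : 2 ^ 2 ∣ Nat.card ↥(Subgroup.normalizer (D : Set G)) := by
    rw [hcard]; exact Dvd.intro _ rfl
  obtain ⟨K, hK⟩ := Sylow.exists_subgroup_card_pow_prime 2 hdvd
  have : Fintype ↥K := Fintype.ofFinite _
  have hK3 : 2 < Fintype.card ↥K := by
    rw [← Nat.card_eq_fintype_card, hK]; norm_num
  obtain ⟨a, b, c, hab, hac, hbc⟩ := Fintype.two_lt_card_iff.mp hK3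
  -- every element of K squares to 1
  have hsq : ∀ x : ↥K, (((x : ↥(Subgroup.normalizer (D : Set G))) : G)) ^ 2 = 1 := by
    intro x
    have h1 : orderOf x ∣ 4 := by
      have := orderOf_dvd_natCard x
      rw [hK] at this
      exact this
    have h2 : orderOf (((x : ↥(Subgroup.normalizer (D : Set G))) : G)) = orderOf x := by
      rw [Subgroup.orderOf_coe, Subgroup.orderOf_coe]
    have h3 : orderOf (((x : ↥(Subgroup.normalizer (D : Set G))) : G)) ∣ 4 := h2 ▸ h1
    have h4 := hno4 (((x : ↥(Subgroup.normalizer (D : Set G))) : G))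
    have h5 : orderOf (((x : ↥(Subgroup.normalizer (D : Set G))) : G)) ∣ 2 := by
      have hdiv : (Nat.divisors 4) = {1, 2, 4} := by decide
      have hmem : orderOf (((x : ↥(Subgroup.normalizer (D : Set G))) : G)) ∈ Nat.divisors 4 :=
        Nat.mem_divisors.mpr ⟨h3, by norm_num⟩
      rw [hdiv] at hmem
      simp only [Finset.mem_insert, Finset.mem_singleton] at hmem
      rcases hmem with h | h | h
      · rw [h]; exact one_dvd _
      · rw [h]
      · exact absurd h h4
    exact orderOf_dvd_iff_pow_eq_one.mp h5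
  have hord2 : ∀ x : ↥K, x ≠ 1 → orderOf (((x : ↥(Subgroup.normalizer (D : Set G))) : G)) = 2 := by
    intro x hx
    have h1 := hsq x
    have h2 : (((x : ↥(Subgroup.normalizer (D : Set G))) : G)) ≠ 1 := by
      intro h
      apply hx
      apply Subtype.ext
      apply Subtype.ext
      simpa using h
    exact orderOf_eq_prime h1 h2
  set t1 : ↥K := a⁻¹ * b with ht1
  set t2 : ↥K := a⁻¹ * c with ht2
  have ht1ne : t1 ≠ 1 := by
    intro h
    apply hab
    have : a⁻¹ * b = 1 := h
    exact (inv_mul_eq_one.mp this)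
  have ht2ne : t2 ≠ 1 := by
    intro h
    apply hac
    have : a⁻¹ * c = 1 := h
    exact (inv_mul_eq_one.mp this)
  have ht12 : t1 ≠ t2 := by
    intro h
    apply hbc
    have : a⁻¹ * b = a⁻¹ * c := h
    exact mul_left_cancel this
  have hmem : ∀ x : ↥K, (((x : ↥(Subgroup.normalizer (D : Set G))) : G)) ∈
      Subgroup.normalizer (D : Set G) := fun x => (x : ↥(Subgroup.normalizer (D : Set G))).2
  have e1 := conj_eq_inv_of_involution D hD p y hyD hy hinv _ (hmem t1) (hord2 t1 ht1ne)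
  have e2 := conj_eq_inv_of_involution D hD p y hyD hy hinv _ (hmem t2) (hord2 t2 ht2ne)
  -- t1 * t2 ≠ 1
  have ht1sq : t1 * t1 = 1 := by
    apply Subtype.ext
    apply Subtype.ext
    have := hsq t1
    rw [pow_two] at this
    simpa using this
  have h12ne : t1 * t2 ≠ 1 := by
    intro h
    apply ht12
    have : t1 * t2 = t1 * t1 := by rw [h, ht1sq]
    exact (mul_left_cancel this).symm
  have h3 := hord2 (t1 * t2) h12ne
  apply hinv _ h3
  set u1 : G := ((t1 : ↥(Subgroup.normalizer (D : Set G))) : G) with hu1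
  set u2 : G := ((t2 : ↥(Subgroup.normalizer (D : Set G))) : G) with hu2
  have hcoe : ((((t1 * t2 : ↥K)) : ↥(Subgroup.normalizer (D : Set G))) : G) = u1 * u2 := by
    simp [hu1, hu2]
  rw [hcoe]
  have h4 : u1 * u2 * y * (u1 * u2)⁻¹ = y := by
    calc u1 * u2 * y * (u1 * u2)⁻¹ = u1 * (u2 * y * u2⁻¹) * u1⁻¹ := by group
      _ = u1 * y⁻¹ * u1⁻¹ := by rw [e2]
      _ = (u1 * y * u1⁻¹)⁻¹ := by group
      _ = y := by rw [e1, inv_inv]
  calc u1 * u2 * y = (u1 * u2 * y * (u1 * u2)⁻¹) * (u1 * u2) := by group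
    _ = y * (u1 * u2) := by rw [h4]

end Cfsg.Agent.Lib.Helper54.ReeW2
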