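/-
helper54 library: module REEW2-[W2-GAL] of helper61's project REEW2 (small Ree groups: tori, orders, counts).

`X ∈ GL₇(K)` of prime order `p ∣ q² - q + 1`: at most 6 residues `j` with `X ^ j` conjugate to `X`.
Proof: `1` is an eigenvalue of `X` (orbit counting, helper33's `card_modEq_fixed`); the minimal polynomial
`μ` of `X` has degree `≤ 7`, has the root `1`, and in `L = K[T]/(g)` (`g` an irreducible common factor of `μ`
and the `p`-th cyclotomic polynomial) the distinct elements `ζ ^ j ≠ 1` are roots of `μ`.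
-/
import Mathlib
import Cfsg.Agent.Lib.Helper33.ReeWGL7

set_option autoImplicit false
set_option linter.unusedVariables false
set_option linter.style.haveILetI false

namespace Cfsg.Agent.Lib.Helper54.ReeW2

open Polynomial

/-- evaluation of a polynomial at a conjugate. -/
theorem aeval_conj_unit {K : Type*} [Field K] {A : Type*} [Ring A] [Algebra K A] (u : Aˣ) (a : A)
    (P : K[X]) : aeval ((u : A) * a * (↑u⁻¹ : A)) P = (u : A) * aeval a P * (↑u⁻¹ : A) := by
  induction P using Polynomial.induction_on' with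
  | add p q hp hq => rw [map_add, map_add, hp, hq, mul_add, add_mul]
  | monomial n c =>
    rw [aeval_monomial, aeval_monomial, Units.conj_pow]
    have h := Algebra.commutes c (u : A)
    calc (algebraMap K A) c * ((u : A) * a ^ n * (↑u⁻¹ : A))
        = ((algebraMap K A) c * (u : A)) * a ^ n * (↑u⁻¹ : A) := by simp only [mul_assoc]
      _ = ((u : A) * (algebraMap K A) c) * a ^ n * (↑u⁻¹ : A) := by rw [h]
      _ = (u : A) * ((algebraMap K A) c * a ^ n) * (↑u⁻¹ : A) := by simp only [mul_assoc]

/-! ## [W2-GAL] (Mathlib + Lib/Helper33/ReeWGL7 internals) -/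
theorem card_conj_powers_le_six {K : Type*} [Field K] [Fintype K] (p : ℕ) [Fact p.Prime] (hp2 : p ≠ 2)
    (h1 : p ∣ Fintype.card K ^ 3 + 1) (h2 : ¬ p ∣ Fintype.card K + 1)
    (X : GL (Fin 7) K) (hX : orderOf X = p) :
    Nat.card {j : ZMod p // ∃ P : GL (Fin 7) K, P * X * P⁻¹ = X ^ j.val} ≤ 6 := by
  classical
  have hp : p.Prime := Fact.out
  let T := (Matrix.toLinAlgEquiv' : Matrix (Fin 7) (Fin 7) K ≃ₐ[K] _)
  have hXp : (X : Matrix (Fin 7) (Fin 7) K) ^ p = 1 := by
    rw [← Units.val_pow_eq_pow_val, ← hX, pow_orderOf_eq_one]; rfl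
  have hX1 : (X : Matrix (Fin 7) (Fin 7) K) ≠ 1 := by
    intro h
    have : X = 1 := Units.ext h
    rw [this, orderOf_one] at hX
    exact hp.one_lt.ne hX
  set f : Module.End K (Fin 7 → K) := T X.1 with hf
  have hfp : f ^ p = 1 := by rw [hf, ← map_pow, hXp, map_one]
  have hf1 : f ≠ 1 := by
    intro h
    apply hX1
    apply T.injective
    rw [← hf, h, map_one]
  set q := Fintype.card K with hq
  -- `p ≠ 0` in `K`
  have hpK : (p : K) ≠ 0 := by
    intro h0
    obtain ⟨c, hc⟩ := h1
    have hq0 : ((q : ℕ) : K) = 0 := FiniteField.cast_card_eq_zero K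
    have := congrArg (Nat.cast : ℕ → K) hc
    push_cast at this
    rw [hq0, h0] at this
    simp at this
  -- `1` is an eigenvalue
  have hker : LinearMap.ker (f - 1) ≠ ⊥ := by
    intro h0
    have h := Cfsg.Agent.Lib.Helper33.ReeW.card_modEq_fixed p f hfp
    rw [h0, finrank_bot, Module.finrank_fin_fun] at h
    have h6 := Cfsg.Agent.Lib.Helper33.ReeW.modEq_six_of_pow_modEq q p hp2 h1 h2 _ _ h
    exact absurd h6 (by decide)
  obtain ⟨v, hv, hv0⟩ := Submodule.exists_mem_ne_zero_of_ne_bot hker
  have hfv : f v = v := by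
    rw [LinearMap.mem_ker, LinearMap.sub_apply, Module.End.one_apply, sub_eq_zero] at hv
    exact hv
  -- the minimal polynomial
  have hint : IsIntegral K f := Algebra.IsIntegral.isIntegral f
  set μ := minpoly K f with hμ
  have hμ0 : μ ≠ 0 := minpoly.ne_zero hint
  have hμf : aeval f μ = 0 := minpoly.aeval K f
  have hμ1 : μ.eval 1 = 0 := by
    have hev : f.HasEigenvector 1 v := by
      rw [Module.End.hasEigenvector_iff]
      refine ⟨?_, hv0⟩
      rw [Module.End.mem_eigenspace_iff, hfv, one_smul]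
    have h3 := Module.End.aeval_apply_of_hasEigenvector (p := μ) hev
    rw [hμf, LinearMap.zero_apply] at h3
    rcases smul_eq_zero.mp h3.symm with h | h
    · exact h
    · exact absurd h hv0
  have hμdeg : μ.natDegree ≤ 7 := by
    have h3 := LinearMap.minpoly_dvd_charpoly f
    have h4 : f.charpoly ≠ 0 := (LinearMap.charpoly_monic f).ne_zero
    have h5 := Polynomial.natDegree_le_of_dvd h3 h4
    rw [LinearMap.charpoly_natDegree, Module.finrank_fin_fun] at h5
    exact h5
  -- a common irreducible factor of `μ` and the cyclotomic polynomial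
  have hfac : (Polynomial.X - C (1 : K)) * cyclotomic p K = Polynomial.X ^ p - 1 := by
    rw [mul_comm, C_1]
    exact cyclotomic_prime_mul_X_sub_one K p
  have hμdvd : μ ∣ (Polynomial.X - C (1 : K)) * cyclotomic p K := by
    rw [hfac]
    apply minpoly.dvd
    simp [hfp]
  have hncop : ¬ IsCoprime μ (cyclotomic p K) := by
    intro hc
    have h3 : μ ∣ (Polynomial.X - C (1 : K)) := hc.dvd_of_dvd_mul_right hμdvd
    obtain ⟨r, hr⟩ := h3
    have h4 : aeval f (Polynomial.X - C (1 : K)) = 0 := by
      rw [hr, map_mul, hμf, zero_mul]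
    apply hf1
    have : f - 1 = 0 := by simpa using h4
    exact sub_eq_zero.mp this
  obtain ⟨g, hgirr, hgμ, hgc⟩ : ∃ g : K[X], Irreducible g ∧ g ∣ μ ∧ g ∣ cyclotomic p K := by
    by_contra hcon
    push Not at hcon
    apply hncop
    apply isCoprime_of_irreducible_dvd
    · rintro ⟨h, -⟩; exact hμ0 h
    · intro z hz hzμ hzc
      exact hcon z hz hzμ hzc
  haveI : Fact (Irreducible g) := ⟨hgirr⟩
  let L := AdjoinRoot g
  set ζ : L := AdjoinRoot.root g with hζ
  have hroot_of_dvd : ∀ r : K[X], g ∣ r → aeval ζ r = 0 := by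
    intro r hr
    rw [hζ, AdjoinRoot.aeval_eq, AdjoinRoot.mk_eq_zero]
    exact hr
  haveI : NeZero ((p : ℕ) : L) := by
    refine ⟨?_⟩
    intro h
    apply hpK
    have h3 : (algebraMap K L) (p : K) = 0 := by
      rw [map_natCast]; exact h
    exact (map_eq_zero (algebraMap K L)).mp h3
  have hprim : IsPrimitiveRoot ζ p := by
    rw [← Polynomial.isRoot_cyclotomic_iff, ← map_cyclotomic p (algebraMap K L), IsRoot.def,
      eval_map_algebraMap]
    exact hroot_of_dvd _ hgc
  set μL : L[X] := μ.map (algebraMap K L) with hμL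
  have hμL0 : μL ≠ 0 := by
    rw [hμL]
    exact (Polynomial.map_ne_zero_iff (algebraMap K L).injective).mpr hμ0
  have hμLdeg : μL.natDegree ≤ 7 := by
    rw [hμL, natDegree_map]; exact hμdeg
  have hroot1 : (1 : L) ∈ μL.roots := by
    rw [mem_roots hμL0, IsRoot.def, hμL, eval_map_algebraMap]
    have : aeval (1 : L) μ = algebraMap K L (μ.eval 1) := by
      rw [← map_one (algebraMap K L), aeval_algebraMap_apply_eq_algebraMap_eval]
    rw [this, hμ1, map_zero]
  -- the roots coming from the valid `j`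
  have hrootj : ∀ j : ZMod p, (∃ P : GL (Fin 7) K, P * X * P⁻¹ = X ^ j.val) →
      ζ ^ j.val ∈ μL.roots ∧ ζ ^ j.val ≠ 1 := by
    rintro j ⟨P, hP⟩
    have hj0 : j.val ≠ 0 := by
      intro h0
      rw [h0, pow_zero] at hP
      have : X = 1 := by
        have h3 : X = P⁻¹ * (P * X * P⁻¹) * P := by group
        rw [h3, hP]; group
      apply hX1
      rw [this]; rfl
    have hjlt : j.val < p := ZMod.val_lt j
    constructor
    · -- conjugation
      let Tm : Matrix (Fin 7) (Fin 7) K →* Module.End K (Fin 7 → K) := MonoidHomClass.toMonoidHom T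
      let u : (Module.End K (Fin 7 → K))ˣ := Units.map Tm P
      have hu : (u : Module.End K (Fin 7 → K)) * f * (↑u⁻¹ : Module.End K (Fin 7 → K)) = f ^ j.val := by
        have h3 : u * Units.map Tm X * u⁻¹ = (Units.map Tm X) ^ j.val := by
          show Units.map Tm P * Units.map Tm X * (Units.map Tm P)⁻¹ = (Units.map Tm X) ^ j.val
          rw [← map_inv, ← map_mul, ← map_mul, ← map_pow, hP]
        have h3' := congrArg (fun w : (Module.End K (Fin 7 → K))ˣ => (w : Module.End K (Fin 7 → K))) h3
        simp only [Units.val_mul, Units.val_pow_eq_pow_val] at h3'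
        exact h3'
      have h4 : aeval (f ^ j.val) μ = 0 := by
        rw [← hu, aeval_conj_unit, hμf, mul_zero, zero_mul]
      have h5 : aeval f (μ.comp (Polynomial.X ^ j.val)) = 0 := by
        rw [aeval_comp]
        simpa using h4
      have h6 : μ ∣ μ.comp (Polynomial.X ^ j.val) := minpoly.dvd K f h5
      have h7 := hroot_of_dvd _ (hgμ.trans h6)
      rw [aeval_comp] at h7
      rw [mem_roots hμL0, IsRoot.def, hμL, eval_map_algebraMap]
      simpa using h7
    · intro h
      have := (hprim.pow_eq_one_iff_dvd j.val).mp h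
      exact hj0 (Nat.eq_zero_of_dvd_of_lt this hjlt)
  -- count
  set S : Finset L := μL.roots.toFinset.erase 1 with hS
  have hScard : S.card ≤ 6 := by
    have h3 : μL.roots.toFinset.card ≤ 7 :=
      (Multiset.toFinset_card_le _).trans ((card_roots' μL).trans hμLdeg)
    have h4 : (1 : L) ∈ μL.roots.toFinset := Multiset.mem_toFinset.mpr hroot1
    rw [hS, Finset.card_erase_of_mem h4]
    omega
  let φ : {j : ZMod p // ∃ P : GL (Fin 7) K, P * X * P⁻¹ = X ^ j.val} → ↥S := fun j =>
    ⟨ζ ^ j.1.val, by
      rw [hS, Finset.mem_erase]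
      exact ⟨(hrootj j.1 j.2).2, Multiset.mem_toFinset.mpr (hrootj j.1 j.2).1⟩⟩
  have hφ : Function.Injective φ := by
    intro a b hab
    have h3 : ζ ^ a.1.val = ζ ^ b.1.val := congrArg Subtype.val hab
    have h4 := hprim.pow_inj (ZMod.val_lt a.1) (ZMod.val_lt b.1) h3
    apply Subtype.ext
    haveI : NeZero p := ⟨hp.ne_zero⟩
    exact ZMod.val_injective p h4
  have h5 := Nat.card_le_card_of_injective φ hφ
  rw [Nat.card_eq_fintype_card (α := ↥S), Fintype.card_coe] at h5
  exact h5.trans hScard

end Cfsg.Agent.Lib.Helper54.ReeW2
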