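import Mathlib
import Cfsg.Agent.Lib.Helper72.Simple5040D

/-!
# No simple group of order 5040: the case `n_5 = 56` (module S0978-[N56], helper72's sheet)
-/

set_option autoImplicit false
set_option linter.unusedSectionVars false
set_option linter.unusedVariables false

namespace Cfsg.Agent.Lib.Helper54.Simple5040N56

open MulAction Subgroup Cfsg.Agent.Lib.Helper17 Cfsg.Agent.Lib.Helper72.Simple5040

/-- In a non-commutative simple group the centralizer of a non-identity element is proper. -/
theorem centralizer_singleton_ne_top {G : Type*} [Group G] [IsSimpleGroup G]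
    (hG : ¬ IsMulCommutative G) (k : G) (hk : k ≠ 1) : centralizer ({k} : Set G) ≠ ⊤ := by
  intro htop
  have hcen : k ∈ center G := by
    rw [Subgroup.mem_center_iff]
    intro g
    have : g ∈ centralizer ({k} : Set G) := by rw [htop]; trivial
    rw [mem_centralizer_singleton_iff] at this
    exact this
  rcases (inferInstance : (center G).Normal).eq_bot_or_eq_top with hb' | ht'
  · rw [hb', Subgroup.mem_bot] at hcen
    exact hk hcen
  · apply hG
    refine ⟨⟨fun a b => ?_⟩⟩
    have ha : a ∈ center G := by rw [ht']; trivial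
    rw [Subgroup.mem_center_iff] at ha
    exact (ha b).symm

variable {G : Type*} [Group G] [Finite G] [IsSimpleGroup G]

attribute [local instance] fact7 fact5 fact3 fact2

theorem false_of_card_sylow5_eq_56 (h : Nat.card G = 5040) (hn : Nat.card (Sylow 5 G) = 56) :
    False := by
  have hG := not_comm h
  obtain ⟨P⟩ := (Sylow.nonempty : Nonempty (Sylow 5 G))
  have hP5 := card_sylow5 h P
  have hN : Nat.card (normalizer ((P : Subgroup G) : Set G)) = 90 := by
    have := card_sylow_mul_card_normalizer P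
    rw [hn, h] at this; omega
  obtain ⟨r, hr, hCr⟩ := card_centralizer_sylow5 h P
  have hC : Nat.card (centralizer ((P : Subgroup G) : Set G)) = 45 := by
    rw [hN] at hCr
    rcases hr with rfl | rfl <;> omega
  have hCN : centralizer ((P : Subgroup G) : Set G) ≤ normalizer ((P : Subgroup G) : Set G) :=
    Subgroup.centralizer_le_normalizer (s := ((P : Subgroup G) : Set G))
  set N5 := normalizer ((P : Subgroup G) : Set G) with hN5
  set C5 := centralizer ((P : Subgroup G) : Set G) with hC5
  have hPN : (P : Subgroup G) ≤ N5 := le_normalizer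
  -- a generator of `P`
  obtain ⟨x, hxP, hx5⟩ := exists_mem_orderOf_eq_of_dvd_card (P : Subgroup G) 5 (by rw [hP5])
  have hx1 : x ≠ 1 := by
    intro h1
    rw [h1, orderOf_one] at hx5
    omega
  -- a Sylow 3-subgroup of `G` inside `C5`
  obtain ⟨Q0⟩ := (Sylow.nonempty : Nonempty (Sylow 3 C5))
  have hQ0 : Nat.card (Q0 : Subgroup C5) = 9 := by
    have hcard : Nat.card C5 = 3 ^ 2 * 5 := by rw [hC]; norm_num
    rw [sylow_card_of_card_eq Q0 hcard (by norm_num)]; norm_num
  obtain ⟨Q, hQ0Q⟩ := exists_sylow_ge_map_subtype C5 Q0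
  have hQ9 := card_sylow3 h Q
  have hQeq : (Q0 : Subgroup C5).map C5.subtype = (Q : Subgroup G) :=
    Subgroup.eq_of_le_of_card_ge hQ0Q (by rw [card_map_subtype, hQ0, hQ9])
  have hQC : (Q : Subgroup G) ≤ C5 := by
    rw [← hQeq]; exact map_subtype_le' C5 _
  have hQN : (Q : Subgroup G) ≤ N5 := hQC.trans hCN
  have hQcomm : IsMulCommutative (Q : Subgroup G) :=
    IsPGroup.isMulCommutative_of_card_eq_prime_sq (p := 3) (by rw [hQ9]; norm_num)
  -- `P` and `Q` commute elementwise
  have hcomm : ∀ y ∈ (P : Subgroup G), ∀ q ∈ (Q : Subgroup G), y * q = q * y := by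
    intro y hy q hq
    have := hQC hq
    rw [hC5, Subgroup.mem_centralizer_iff] at this
    exact this y hy
  have hQQ : ∀ a ∈ (Q : Subgroup G), ∀ b ∈ (Q : Subgroup G), a * b = b * a := by
    intro a ha b hb
    have := hQcomm.is_comm.comm (⟨a, ha⟩ : (Q : Subgroup G)) ⟨b, hb⟩
    exact congrArg Subtype.val this
  -- centralizers of non-identity elements of `Q` lie in `N5`
  have hCq : ∀ q ∈ (Q : Subgroup G), q ≠ 1 → centralizer ({q} : Set G) ≤ N5 := by
    intro q hq hq1
    set Cq := centralizer ({q} : Set G) with hCqdef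
    have hPCq : (P : Subgroup G) ≤ Cq := by
      intro y hy
      rw [hCqdef, mem_centralizer_singleton_iff]
      exact hcomm y hy q hq
    have hQCq : (Q : Subgroup G) ≤ Cq := by
      intro y hy
      rw [hCqdef, mem_centralizer_singleton_iff]
      exact hQQ y hy q hq
    have h5 : 5 ∣ Nat.card (Cq ⊓ N5 : Subgroup G) :=
      hP5 ▸ Subgroup.card_dvd_of_le (le_inf hPCq hPN)
    have h9 : 9 ∣ Nat.card (Cq ⊓ N5 : Subgroup G) :=
      hQ9 ▸ Subgroup.card_dvd_of_le (le_inf hQCq hQN)
    have h90 : Nat.card (Cq ⊓ N5 : Subgroup G) ∣ 90 :=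
      hN ▸ Subgroup.card_dvd_of_le (inf_le_right : Cq ⊓ N5 ≤ N5)
    obtain ⟨n, hn5, hcard⟩ := card_eq_mul_card_inf_normalizer P Cq hPCq
    have hdvd : Nat.card Cq ∣ 5040 := h ▸ Subgroup.card_subgroup_dvd_card Cq
    have hle : Nat.card Cq ≤ 630 :=
      card_le_630 h Cq (centralizer_singleton_ne_top hG q hq1)
    have hn1 : n = 1 := by
      rw [← hN5] at hcard
      have hmle : Nat.card (Cq ⊓ N5 : Subgroup G) ≤ 90 := Nat.le_of_dvd (by norm_num) h90
      have hmpos : 0 < Nat.card (Cq ⊓ N5 : Subgroup G) := Nat.card_pos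
      generalize Nat.card (Cq ⊓ N5 : Subgroup G) = m at *
      generalize Nat.card Cq = c at *
      have hm : m = 45 ∨ m = 90 := by
        clear hcard
        interval_cases m <;> omega
      obtain ⟨k, hk⟩ := hdvd
      rcases hm with rfl | rfl
      · have hnle : n ≤ 14 := by
          by_contra hcon
          push Not at hcon
          have : 15 * 45 ≤ n * 45 := Nat.mul_le_mul_right _ hcon
          omega
        subst hcard
        interval_cases n <;> omega
      · have hnle : n ≤ 7 := by
          by_contra hcon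
          push Not at hcon
          have : 8 * 90 ≤ n * 90 := Nat.mul_le_mul_right _ hcon
          omega
        subst hcard
        interval_cases n <;> omega
    rw [hn1, one_mul, ← hN5] at hcard
    have := Subgroup.eq_of_le_of_card_ge (inf_le_left : Cq ⊓ N5 ≤ Cq) (by rw [hcard])
    rw [← this]
    exact inf_le_right
  -- an element of order 3 in `Q`
  obtain ⟨q, hqQ, hq3⟩ := exists_mem_orderOf_eq_of_dvd_card (Q : Subgroup G) 3
    (by rw [hQ9]; norm_num)
  have hq1 : q ≠ 1 := by
    intro h1
    rw [h1, orderOf_one] at hq3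
    omega
  -- `N(Q) ≤ N5`
  have hNQ : normalizer ((Q : Subgroup G) : Set G) ≤ N5 := by
    intro g hg
    have hg' : g⁻¹ * q * g ∈ (Q : Subgroup G) := by
      have := (mem_normalizer_iff.1 (Subgroup.inv_mem _ hg) q).1 hqQ
      simpa using this
    have h1 : g * x * g⁻¹ ∈ centralizer ({q} : Set G) := by
      rw [mem_centralizer_singleton_iff]
      have hc := hcomm x hxP (g⁻¹ * q * g) hg'
      calc g * x * g⁻¹ * q = g * (x * (g⁻¹ * q * g)) * g⁻¹ := by group
        _ = g * ((g⁻¹ * q * g) * x) * g⁻¹ := by rw [hc]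
        _ = q * (g * x * g⁻¹) := by group
    have h2 : g * x * g⁻¹ ∈ N5 := hCq q hqQ hq1 h1
    have hord : orderOf (g * x * g⁻¹) = 5 := by rw [orderOf_conj_eq, hx5]
    have h3 : g * x * g⁻¹ ∈ (P : Subgroup G) :=
      mem_sylow_of_mem_normalizer P _ (isPGroup_zpowers_of_orderOf_eq _ hord) h2
    have h4 : g⁻¹ ∈ N5 := by
      apply mem_normalizer_of_mem_smul_of_card_prime P hP5 hxP hx1
      simpa using h3
    simpa using Subgroup.inv_mem _ h4
  -- `C(Q)` has order divisible by 45
  set CQ := centralizer ((Q : Subgroup G) : Set G) with hCQ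
  set NQ := normalizer ((Q : Subgroup G) : Set G) with hNQdef
  have hCQN : CQ ≤ NQ := Subgroup.centralizer_le_normalizer (s := ((Q : Subgroup G) : Set G))
  have hQCQ : (Q : Subgroup G) ≤ CQ := by
    intro a ha
    rw [hCQ, Subgroup.mem_centralizer_iff]
    intro b hb
    exact hQQ b hb a ha
  have hPCQ : (P : Subgroup G) ≤ CQ := by
    intro y hy
    rw [hCQ, Subgroup.mem_centralizer_iff]
    intro b hb
    exact (hcomm y hy b hb).symm
  have h5 : 5 ∣ Nat.card CQ := hP5 ▸ Subgroup.card_dvd_of_le hPCQ
  have h9 : 9 ∣ Nat.card CQ := hQ9 ▸ Subgroup.card_dvd_of_le hQCQ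
  have hCQdvd : Nat.card CQ ∣ Nat.card NQ := Subgroup.card_dvd_of_le hCQN
  have hNQdvd : Nat.card NQ ∣ 90 := hN ▸ Subgroup.card_dvd_of_le hNQ
  have hsyl := card_sylow_mul_card_normalizer Q
  rw [h, ← hNQdef] at hsyl
  have hmod : Nat.card (Sylow 3 G) % 3 = 1 := card_sylow_modEq_one 3 G
  have hNQle : Nat.card NQ ≤ 90 := Nat.le_of_dvd (by norm_num) hNQdvd
  have hCQle : Nat.card CQ ≤ Nat.card NQ := Nat.le_of_dvd Nat.card_pos hCQdvd
  have hCQpos : 0 < Nat.card CQ := Nat.card_pos
  have heq : Nat.card NQ ≤ Nat.card CQ := by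
    generalize Nat.card NQ = a at *
    generalize Nat.card CQ = b at *
    generalize Nat.card (Sylow 3 G) = s at *
    have hb : b = 45 ∨ b = 90 := by
      clear hCQdvd hsyl
      have : b ≤ 90 := by omega
      interval_cases b <;> omega
    have ha : a = 45 ∨ a = 90 := by
      obtain ⟨k, hk⟩ := hCQdvd
      rcases hb with rfl | rfl
      · have : k ≤ 2 := by
          by_contra hcon
          push Not at hcon
          have : 45 * 3 ≤ 45 * k := Nat.mul_le_mul_left _ hcon
          omega
        interval_cases k <;> omega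
      · omega
    rcases ha with rfl | rfl
    · omega
    · exfalso
      omega
  have hNC : NQ ≤ CQ := by
    have := Subgroup.eq_of_le_of_card_ge hCQN heq
    rw [this]
  exact not_normalizer_le_centralizer_of_simple hG Q (by rw [h]; norm_num) hNC

end Cfsg.Agent.Lib.Helper54.Simple5040N56
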