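import Mathlib
import Cfsg.Agent.Lib.Helper72.Simple5040D
import Cfsg.Agent.Lib.Helper54.Simple5040N56

/-!
# No simple group of order 5040: the case `n_5 = 36` (module S0978-[N36], helper72's sheet)
-/

set_option autoImplicit false
set_option linter.unusedSectionVars false
set_option linter.unusedVariables false

namespace Cfsg.Agent.Lib.Helper54.Simple5040N36

open MulAction Subgroup Cfsg.Agent.Lib.Helper17 Cfsg.Agent.Lib.Helper72.Simple5040
open Cfsg.Agent.Lib.Helper54.Simple5040N56

variable {G : Type*} [Group G] [Finite G] [IsSimpleGroup G]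

attribute [local instance] fact7 fact5 fact3 fact2

theorem false_of_card_sylow5_eq_36 (h : Nat.card G = 5040) (hn : Nat.card (Sylow 5 G) = 36) :
    False := by
  have hG := not_comm h
  obtain ⟨P⟩ := (Sylow.nonempty : Nonempty (Sylow 5 G))
  have hP5 := card_sylow5 h P
  have hN : Nat.card (normalizer ((P : Subgroup G) : Set G)) = 140 := by
    have := card_sylow_mul_card_normalizer P
    rw [hn, h] at this; omega
  obtain ⟨r, hr, hCr⟩ := card_centralizer_sylow5 h P
  have hC7 : 7 ∣ Nat.card (centralizer ((P : Subgroup G) : Set G)) := by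
    rw [hN] at hCr
    rcases hr with rfl | rfl <;> omega
  have hCN : centralizer ((P : Subgroup G) : Set G) ≤ normalizer ((P : Subgroup G) : Set G) :=
    Subgroup.centralizer_le_normalizer (s := ((P : Subgroup G) : Set G))
  set N5 := normalizer ((P : Subgroup G) : Set G) with hN5
  set C5 := centralizer ((P : Subgroup G) : Set G) with hC5
  -- an element of order 7 in `C5` and its Sylow 7-subgroup
  obtain ⟨y, hyC, hy7⟩ := exists_mem_orderOf_eq_of_dvd_card C5 7 hC7
  have hy1 : y ≠ 1 := by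
    intro h1
    rw [h1, orderOf_one] at hy7
    omega
  obtain ⟨Q, hyQ⟩ := exists_sylow_mem_of_orderOf_eq y hy7
  have hQ7 := card_sylow7 h Q
  have hQz : (Q : Subgroup G) = zpowers y :=
    eq_zpowers_of_card_prime _ (by norm_num) hQ7 hyQ hy1
  have hQN5 : (Q : Subgroup G) ≤ N5 := by
    rw [hQz, zpowers_le]; exact hCN hyC
  set NQ := normalizer ((Q : Subgroup G) : Set G) with hNQ
  have hQNQ : (Q : Subgroup G) ≤ NQ := le_normalizer
  -- `N5 ≤ N(Q)`
  have hN5NQ : N5 ≤ NQ := by
    obtain ⟨n, hn7, hcard⟩ := card_eq_mul_card_inf_normalizer Q N5 hQN5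
    rw [← hNQ, hN] at hcard
    have h7 : 7 ∣ Nat.card (N5 ⊓ NQ : Subgroup G) :=
      hQ7 ▸ Subgroup.card_dvd_of_le (le_inf hQN5 hQNQ)
    have hn1 : n = 1 := by
      generalize Nat.card (N5 ⊓ NQ : Subgroup G) = m at *
      obtain ⟨k, rfl⟩ := h7
      have hnk : n * k = 20 := by
        have : n * (7 * k) = 7 * (n * k) := by ring
        omega
      have hnle : n ≤ 20 := Nat.le_of_dvd (by norm_num) (Dvd.intro _ hnk)
      have hkle : k ≤ 20 := Nat.le_of_dvd (by norm_num) (Dvd.intro_left _ hnk)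
      interval_cases n <;> omega
    rw [hn1, one_mul] at hcard
    have := Subgroup.eq_of_le_of_card_ge (inf_le_left : N5 ⊓ NQ ≤ N5) (by rw [hN, ← hcard])
    rw [← this]
    exact inf_le_right
  -- `|N(Q)| = 140`
  have hNQcard : Nat.card NQ = 140 := by
    have hdvd : 140 ∣ Nat.card NQ := hN ▸ Subgroup.card_dvd_of_le hN5NQ
    have hsyl := card_sylow_mul_card_normalizer Q
    rw [h, ← hNQ] at hsyl
    have hmod : Nat.card (Sylow 7 G) % 7 = 1 := card_sylow_modEq_one 7 G
    have hne1 : Nat.card (Sylow 7 G) ≠ 1 := by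
      have hcard : Nat.card G = 7 ^ 1 * 720 := by rw [h]; norm_num
      exact card_sylow_ne_one_of_simple hcard (by norm_num) (by norm_num) (by norm_num)
    obtain ⟨j, hj⟩ := hdvd
    rw [hj] at hsyl ⊢
    generalize Nat.card (Sylow 7 G) = s at *
    have hsj : s * j = 36 := by
      have : s * (140 * j) = 140 * (s * j) := by ring
      omega
    have hsle : s ≤ 36 := Nat.le_of_dvd (by norm_num) (Dvd.intro _ hsj)
    have hjle : j ≤ 36 := Nat.le_of_dvd (by norm_num) (Dvd.intro_left _ hsj)
    have : j = 1 := by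
      interval_cases s <;> omega
    rw [this]
  -- `|C(Q)| = 70`
  set CQ := centralizer ((Q : Subgroup G) : Set G) with hCQ
  have hCQNQ : CQ ≤ NQ := Subgroup.centralizer_le_normalizer (s := ((Q : Subgroup G) : Set G))
  have hCQcard : Nat.card CQ = 70 := by
    have h1 := relIndex_cent_norm_dvd_pred_of_card_prime Q hQ7
    have h2 := relIndex_cent_norm_ne_one_of_simple hG Q (by rw [h]; norm_num)
    have h3 := card_mul_relIndex_of_le hCQNQ
    rw [← hCQ, ← hNQ] at h1 h2
    rw [hNQcard] at h3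
    have hle : CQ.relIndex NQ ≤ 6 := Nat.le_of_dvd (by norm_num) h1
    generalize CQ.relIndex NQ = r' at *
    generalize Nat.card CQ = c at *
    interval_cases r' <;> omega
  -- an involution in `C(Q)`
  obtain ⟨v, hvC, hv2⟩ := exists_mem_orderOf_eq_of_dvd_card CQ 2 (by rw [hCQcard]; norm_num)
  have hv1 : v ≠ 1 := by
    intro h1
    rw [h1, orderOf_one] at hv2
    omega
  have hvNQ : v ∈ NQ := hCQNQ hvC
  -- a Sylow 2-subgroup `T` of `N(Q)` containing `v`
  obtain ⟨T0, hT0⟩ := exists_sylow_sub_ge NQ (zpowers v) (by rw [zpowers_le]; exact hvNQ)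
    (isPGroup_zpowers_of_orderOf_eq v hv2)
  set T := (T0 : Subgroup NQ).map NQ.subtype with hT
  have hT4 : Nat.card T = 4 := by
    have hcard : Nat.card NQ = 2 ^ 2 * 35 := by rw [hNQcard]; norm_num
    rw [hT, card_map_subtype, sylow_card_of_card_eq T0 hcard (by norm_num)]; norm_num
  have hvT : v ∈ T := hT0 (mem_zpowers v)
  have hTNQ : T ≤ NQ := map_subtype_le' NQ _
  have hTcomm : IsMulCommutative T :=
    IsPGroup.isMulCommutative_of_card_eq_prime_sq (p := 2) (by rw [hT4]; norm_num)
  set Cv := centralizer ({v} : Set G) with hCv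
  have hTCv : T ≤ Cv := by
    intro t ht
    rw [hCv, mem_centralizer_singleton_iff]
    have := hTcomm.is_comm.comm (⟨t, ht⟩ : T) ⟨v, hvT⟩
    exact congrArg Subtype.val this
  have hQCv : (Q : Subgroup G) ≤ Cv := by
    intro z hz
    rw [hCv, mem_centralizer_singleton_iff]
    rw [hCQ, Subgroup.mem_centralizer_iff] at hvC
    exact hvC z hz
  have h4 : 4 ∣ Nat.card (Cv ⊓ NQ : Subgroup G) :=
    hT4 ▸ Subgroup.card_dvd_of_le (le_inf hTCv hTNQ)
  have h7 : 7 ∣ Nat.card (Cv ⊓ NQ : Subgroup G) :=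
    hQ7 ▸ Subgroup.card_dvd_of_le (le_inf hQCv hQNQ)
  have h140 : Nat.card (Cv ⊓ NQ : Subgroup G) ∣ 140 :=
    hNQcard ▸ Subgroup.card_dvd_of_le (inf_le_right : Cv ⊓ NQ ≤ NQ)
  obtain ⟨n, hn7, hcard⟩ := card_eq_mul_card_inf_normalizer Q Cv hQCv
  rw [← hNQ] at hcard
  have h8 : 8 ∣ Nat.card Cv :=
    Cfsg.Agent.Lib.Helper76.InvolCentParity.eight_dvd_card_centralizer_of_simple hG (by rw [h]; norm_num) v hv2
  have hdvd : Nat.card Cv ∣ 5040 := h ▸ Subgroup.card_subgroup_dvd_card Cv
  have hle : Nat.card Cv ≤ 630 := card_le_630 h Cv (centralizer_singleton_ne_top hG v hv1)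
  have hmle : Nat.card (Cv ⊓ NQ : Subgroup G) ≤ 140 := Nat.le_of_dvd (by norm_num) h140
  have hmpos : 0 < Nat.card (Cv ⊓ NQ : Subgroup G) := Nat.card_pos
  generalize Nat.card (Cv ⊓ NQ : Subgroup G) = m at *
  generalize Nat.card Cv = c at *
  have hm : m = 28 ∨ m = 140 := by
    clear hcard
    interval_cases m <;> omega
  obtain ⟨k, hk⟩ := hdvd
  rcases hm with rfl | rfl
  · have hnle : n ≤ 22 := by
      by_contra hcon
      push Not at hcon
      have : 23 * 28 ≤ n * 28 := Nat.mul_le_mul_right _ hcon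
      omega
    subst hcard
    interval_cases n <;> omega
  · have hnle : n ≤ 4 := by
      by_contra hcon
      push Not at hcon
      have : 5 * 140 ≤ n * 140 := Nat.mul_le_mul_right _ hcon
      omega
    subst hcard
    interval_cases n <;> omega

end Cfsg.Agent.Lib.Helper54.Simple5040N36
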