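import Mathlib
import Cfsg.Agent.Lib.Helper90.TIInvDefs

/-!
# S3043 (helper90's cut): small lemmas shared by the modules [A5b] and [A6].
-/

set_option autoImplicit false
set_option linter.unusedSectionVars false
set_option linter.unusedVariables false
set_option linter.style.haveILetI false

namespace Cfsg.Agent.Lib.Helper54.TIInv

open Cfsg.Agent.Lib.Helper90.TIInv

/-- a finite field whose cardinality is a positive power of the prime `p` has characteristic `p` -/
theorem charP_of_card_eq_prime_pow (K : Type*) [Field K] [Fintype K] {p f : ℕ} (hp : p.Prime)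
    (hcard : Fintype.card K = p ^ f) : CharP K p := by
  obtain ⟨q, hq⟩ := CharP.exists K
  haveI := hq
  obtain ⟨n, hqp, hqn⟩ := FiniteField.card K q
  have hdvd : q ∣ p ^ f := by
    rw [← hcard, hqn]
    exact dvd_pow_self q n.ne_zero
  have : q = p := (Nat.prime_dvd_prime_iff_eq hqp hp).1 (hqp.dvd_of_dvd_pow hdvd)
  rw [← this]
  exact hq

end Cfsg.Agent.Lib.Helper54.TIInv
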