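import Mathlib
import Cfsg.Agent.Lib.Helper90.TIInvDefs
import Cfsg.Agent.S0742
import Cfsg.Agent.Lib.Helper54.TIInvCommon

/-!
# S3043-[A5b] (helper90's cut): the Zassenhaus case `m = 2h + 1` gives `G ≃* PSL₂(F)`,
`|F| = |M| ≡ 1 mod 4` (third alternative of S3043), by the landed S0742.
-/

set_option autoImplicit false
set_option linter.unusedSectionVars false
set_option linter.unusedVariables false
set_option linter.style.haveILetI false

namespace Cfsg.Agent.Lib.Helper54.TIInv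

open Cfsg.Agent.Lib.Helper90.TIInv

variable {G : Type*} [Group G] [Finite G] {M : Subgroup G} {z : G}

theorem alt3_psl (h : Hyp M z) (b : Basic M z) (cz : CzFacts M z)
    (hZ : Cfsg.IsZassenhausGroup G (G ⧸ Nm M)) (hidx : (Nm M).index = Nat.card M + 1)
    (hm : Nat.card M = 2 * Nat.card (Hz M z) + 1)
    (ea : ∃ p r : ℕ, p.Prime ∧ (∀ x ∈ M, x ^ p = 1) ∧ Nat.card M = p ^ r) : Alt3 G M := by
  classical
  obtain ⟨c, hcC, hcN⟩ := cz.ex
  haveI : Fintype (G ⧸ Nm M) := Fintype.ofFinite _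
  have hab : ((1 : G) : G ⧸ Nm M) ≠ ((c : G) : G ⧸ Nm M) := by
    intro hEq
    have := QuotientGroup.eq.1 hEq
    rw [inv_one, one_mul] at this
    exact hcN this
  have hsa : MulAction.stabilizer G ((1 : G) : G ⧸ Nm M) = Nm M :=
    MulAction.stabilizer_quotient (Nm M)
  have hsb : MulAction.stabilizer G ((c : G) : G ⧸ Nm M) = cj c (Nm M) := by
    have hc1 : ((c : G) : G ⧸ Nm M) = c • ((1 : G) : G ⧸ Nm M) := by
      rw [MulAction.Quotient.smul_coe, smul_eq_mul, mul_one]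
    rw [hc1, MulAction.stabilizer_smul_eq_stabilizer_map_conj, hsa]
  have hint : MulAction.stabilizer G ((1 : G) : G ⧸ Nm M) ⊓
      MulAction.stabilizer G ((c : G) : G ⧸ Nm M) = Hz M z := by
    rw [hsa, hsb]
    exact cz.stab c hcC hcN
  -- `|H|` is even
  have hzH : z ∈ Hz M z := ⟨h.zN, Subgroup.mem_centralizer_singleton_iff.2 rfl⟩
  have hHeven : Even (Nat.card ↥(Hz M z)) := by
    have h1 : orderOf (⟨z, hzH⟩ : Hz M z) = 2 := by
      rw [Subgroup.orderOf_mk]; exact h.hz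
    have h2 := orderOf_dvd_natCard (⟨z, hzH⟩ : Hz M z)
    rw [h1] at h2
    exact (even_iff_two_dvd).2 h2
  have hΩcard : Fintype.card (G ⧸ Nm M) = Nat.card M + 1 := by
    rw [← Nat.card_eq_fintype_card, ← hidx]
    rfl
  have heven' : Even (Nat.card ↥(MulAction.stabilizer G ((1 : G) : G ⧸ Nm M) ⊓
      MulAction.stabilizer G ((c : G) : G ⧸ Nm M))) := by
    rw [hint]; exact hHeven
  have hd : 2 * Nat.card ↥(MulAction.stabilizer G ((1 : G) : G ⧸ Nm M) ⊓
      MulAction.stabilizer G ((c : G) : G ⧸ Nm M)) ≤ Fintype.card (G ⧸ Nm M) - 2 := by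
    rw [hint, hΩcard, hm]
    omega
  obtain ⟨p', f, K, iK, iKf, hp', -, hKcard, hΩ, ⟨ψ⟩⟩ :=
    Cfsg.Agent.S0742.result hZ hab heven' hd
  obtain ⟨p, r, hp, hexp, hmr⟩ := ea
  have hmf : Nat.card M = p' ^ f := by
    rw [hΩcard] at hΩ
    omega
  have hm3 : 3 ≤ Nat.card M := by
    obtain ⟨j, hj⟩ := hHeven
    have hpos : 0 < Nat.card ↥(Hz M z) := Nat.card_pos
    omega
  have hr0 : r ≠ 0 := by
    rintro rfl
    rw [pow_zero] at hmr
    omega
  have hpp : p = p' := by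
    have hdvd : p ∣ p' ^ f := by
      rw [← hmf, hmr]
      exact dvd_pow_self p hr0
    exact (Nat.prime_dvd_prime_iff_eq hp hp').1 (hp.dvd_of_dvd_pow hdvd)
  subst hpp
  have hchar : CharP K p := charP_of_card_eq_prime_pow K hp hKcard
  refine ⟨K, iK, iKf, p, ⟨hp⟩, hchar, ?_, ⟨⟨⟨fun x y => Subtype.ext (b.comm x x.2 y y.2)⟩⟩, hexp⟩,
    Or.inr ⟨?_, ⟨ψ⟩⟩⟩
  · rw [hKcard, hmf]
  · rw [hKcard, ← hmf, hm]
    obtain ⟨j, hj⟩ := hHeven
    omega

end Cfsg.Agent.Lib.Helper54.TIInv
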