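import Mathlib
import Cfsg.Agent.Lib.Helper90.TIInvDefs
import Cfsg.Agent.Lib.Helper54.TIInvCommon

/-!
# S3043-[A6] (helper90's cut): in Case A with `m = h + 1` the group `G` is sharply
3-transitive on `G ⧸ N` with abelian two-point stabilizers, hence `G ≃* PGL₂(F)`, `|F| = |M|`
(third alternative of S3043).  The recognition theorem [A6-pgl] is a hypothesis of
`alt3_pgl_of`.
-/

set_option autoImplicit false
set_option linter.unusedSectionVars false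
set_option linter.unusedVariables false
set_option linter.style.haveILetI false

namespace Cfsg.Agent.Lib.Helper54.TIInv

open Cfsg.Agent.Lib.Helper90.TIInv

variable {G : Type*} [Group G] [Finite G] {M : Subgroup G} {z : G}

/-- the statement of [A6-pgl] -/
def PGL2Recognition : Prop :=
  ∀ {α : Type} [Fintype α] [DecidableEq α]
    (K : Subgroup (Equiv.Perm α)) (_ : 4 ≤ Fintype.card α) (_ : Even (Fintype.card α))
    (_ : ∀ a b c a' b' c' : α, a ≠ b → a ≠ c → b ≠ c → a' ≠ b' → a' ≠ c' → b' ≠ c' →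
      ∃ g ∈ K, g a = a' ∧ g b = b' ∧ g c = c')
    (_ : ∀ g ∈ K, ∀ a b c : α, a ≠ b → a ≠ c → b ≠ c → g a = a → g b = b → g c = c → g = 1)
    (_ : ∀ a b : α, a ≠ b → ∀ g ∈ K, ∀ g' ∈ K, g a = a → g b = b → g' a = a → g' b = b →
      g * g' = g' * g),
    ∃ (F : Type) (_ : Field F) (_ : Fintype F), Fintype.card F + 1 = Fintype.card α ∧
      Nonempty (K ≃* Matrix.ProjGenLinGroup (Fin 2) F)

section points

variable {c : G}

theorem coe_one_ne_coe (hcN : c ∉ Nm M) : ((1 : G) : G ⧸ Nm M) ≠ ((c : G) : G ⧸ Nm M) := by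
  intro hEq
  have := QuotientGroup.eq.1 hEq
  rw [inv_one, one_mul] at this
  exact hcN this

theorem stab_alpha : MulAction.stabilizer G ((1 : G) : G ⧸ Nm M) = Nm M :=
  MulAction.stabilizer_quotient (Nm M)

theorem stab_beta (c : G) : MulAction.stabilizer G ((c : G) : G ⧸ Nm M) = cj c (Nm M) := by
  have hc1 : ((c : G) : G ⧸ Nm M) = c • ((1 : G) : G ⧸ Nm M) := by
    rw [MulAction.Quotient.smul_coe, smul_eq_mul, mul_one]
  rw [hc1, MulAction.stabilizer_smul_eq_stabilizer_map_conj, stab_alpha]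

/-- every point other than `α` is `a • β` with `a ∈ M` -/
theorem exists_smul_beta (r : Reg M) (hcN : c ∉ Nm M) (ω : G ⧸ Nm M)
    (hω : ω ≠ ((1 : G) : G ⧸ Nm M)) : ∃ a ∈ M, a • ((c : G) : G ⧸ Nm M) = ω := by
  obtain ⟨g, rfl⟩ := QuotientGroup.mk_surjective ω
  have hgN : g ∉ Nm M := by
    intro hg
    apply hω
    symm
    rw [QuotientGroup.eq, inv_one, one_mul]
    exact hg
  obtain ⟨a, ha, hag⟩ := r c g hcN hgN
  refine ⟨a, ha, ?_⟩
  rw [MulAction.Quotient.smul_coe, smul_eq_mul]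
  exact QuotientGroup.eq.2 hag

/-- `a` is determined by `a • β` -/
theorem smul_beta_injective (s : Semi M) (hcN : c ∉ Nm M) {a a' : G} (ha : a ∈ M) (ha' : a' ∈ M)
    (hEq : a • ((c : G) : G ⧸ Nm M) = a' • ((c : G) : G ⧸ Nm M)) : a = a' := by
  have h1 : (a'⁻¹ * a) • ((c : G) : G ⧸ Nm M) = ((c : G) : G ⧸ Nm M) := by
    rw [mul_smul, hEq, inv_smul_smul]
  have h2 : a'⁻¹ * a ∈ cj c (Nm M) := by
    rw [← stab_beta c]
    exact MulAction.mem_stabilizer_iff.2 h1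
  have h3 : a'⁻¹ * a ∈ M ⊓ cj c (Nm M) := ⟨M.mul_mem (M.inv_mem ha') ha, h2⟩
  rw [s c hcN, Subgroup.mem_bot] at h3
  calc a = a' * (a'⁻¹ * a) := by group
    _ = a' := by rw [h3, mul_one]

/-- the action of `H` on the points `a • β` is conjugation on `M` -/
theorem smul_smul_beta (cz : CzFacts M z) (hcC : c ∈ Cz z) (hcN : c ∉ Nm M) {k : G}
    (hk : k ∈ Hz M z) (a : G) :
    k • (a • ((c : G) : G ⧸ Nm M)) = (k * a * k⁻¹) • ((c : G) : G ⧸ Nm M) := by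
  have hkβ : k • ((c : G) : G ⧸ Nm M) = ((c : G) : G ⧸ Nm M) := by
    have h1 : k ∈ Nm M ⊓ cj c (Nm M) := by rw [cz.stab c hcC hcN]; exact hk
    have h2 : k ∈ MulAction.stabilizer G ((c : G) : G ⧸ Nm M) := by
      rw [stab_beta c]; exact h1.2
    exact MulAction.mem_stabilizer_iff.1 h2
  calc k • (a • ((c : G) : G ⧸ Nm M)) = (k * a * k⁻¹) • (k • ((c : G) : G ⧸ Nm M)) := by
        rw [← mul_smul, ← mul_smul, inv_mul_cancel_right]
    _ = (k * a * k⁻¹) • ((c : G) : G ⧸ Nm M) := by rw [hkβ]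

end points

/-- `H` is transitive on `M ∖ {1}` (by conjugation) -/
theorem exists_conj_eq (fr : Frob M z) (hm : Nat.card M = Nat.card (Hz M z) + 1) {a a' : G}
    (ha : a ∈ M) (ha1 : a ≠ 1) (ha' : a' ∈ M) (ha'1 : a' ≠ 1) :
    ∃ k ∈ Hz M z, k * a * k⁻¹ = a' := by
  classical
  have hnorm : ∀ k ∈ Hz M z, k * a * k⁻¹ ∈ M := by
    intro k hk
    exact (Subgroup.mem_normalizer_iff.1 hk.1 a).1 ha
  let f : ↥(Hz M z) → {x : M // x ≠ 1} := fun k =>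
    ⟨⟨(k : G) * a * (k : G)⁻¹, hnorm k k.2⟩, by
      intro h1
      have h2 : (k : G) * a * (k : G)⁻¹ = 1 := congrArg Subtype.val h1
      apply ha1
      calc a = (k : G)⁻¹ * ((k : G) * a * (k : G)⁻¹) * (k : G) := by group
        _ = 1 := by rw [h2]; group⟩
  have hinj : Function.Injective f := by
    intro k k' hkk'
    have h1 : (k : G) * a * (k : G)⁻¹ = (k' : G) * a * (k' : G)⁻¹ :=
      congrArg (fun x : {x : M // x ≠ 1} => ((x : M) : G)) hkk'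
    have h2 : ((k' : G)⁻¹ * (k : G)) * a = a * ((k' : G)⁻¹ * (k : G)) := by
      calc ((k' : G)⁻¹ * (k : G)) * a = (k' : G)⁻¹ * ((k : G) * a * (k : G)⁻¹) * (k : G) := by group
        _ = (k' : G)⁻¹ * ((k' : G) * a * (k' : G)⁻¹) * (k : G) := by rw [h1]
        _ = a * ((k' : G)⁻¹ * (k : G)) := by group
    have h3 := fr a ha ha1 _ ((Hz M z).mul_mem ((Hz M z).inv_mem k'.2) k.2) h2
    apply Subtype.ext
    calc (k : G) = (k' : G) * ((k' : G)⁻¹ * (k : G)) := by group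
      _ = (k' : G) := by rw [h3, mul_one]
  have hcard : Nat.card {x : M // x ≠ 1} ≤ Nat.card ↥(Hz M z) := by
    haveI : Fintype M := Fintype.ofFinite M
    have h1 : Fintype.card {x : M // ¬ (x = 1)} = Fintype.card M - Fintype.card {x : M // x = 1} :=
      Fintype.card_subtype_compl (fun x : M => x = 1)
    rw [Fintype.card_subtype_eq] at h1
    rw [Nat.card_eq_fintype_card]
    have h2 : Fintype.card M = Nat.card M := (Nat.card_eq_fintype_card).symm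
    have h3 : Fintype.card {x : M // x ≠ 1} = Fintype.card {x : M // ¬ (x = 1)} := rfl
    omega
  have hbij := hinj.bijective_of_nat_card_le hcard
  obtain ⟨k, hk⟩ := hbij.2 ⟨⟨a', ha'⟩, fun h1 => ha'1 (congrArg Subtype.val h1)⟩
  exact ⟨k, k.2, congrArg (fun x : {x : M // x ≠ 1} => ((x : M) : G)) hk⟩

/-- the normal form of a triple of distinct points -/
theorem exists_normal_form (r : Reg M) {c : G} (hcN : c ∉ Nm M)
    (ht : MulAction.IsMultiplyPretransitive G (G ⧸ Nm M) 2) {ω₁ ω₂ ω₃ : G ⧸ Nm M}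
    (h12 : ω₁ ≠ ω₂) (h13 : ω₁ ≠ ω₃) (h23 : ω₂ ≠ ω₃) :
    ∃ g : G, g • ω₁ = ((1 : G) : G ⧸ Nm M) ∧ g • ω₂ = ((c : G) : G ⧸ Nm M) ∧
      ∃ a ∈ M, a ≠ 1 ∧ g • ω₃ = a • ((c : G) : G ⧸ Nm M) := by
  obtain ⟨g, hg1, hg2⟩ := (MulAction.is_two_pretransitive_iff.1 ht) h12 (coe_one_ne_coe hcN)
  have h3 : g • ω₃ ≠ ((1 : G) : G ⧸ Nm M) := by
    intro h
    apply h13
    have : g • ω₁ = g • ω₃ := by rw [hg1, h]
    exact (MulAction.injective g) this
  obtain ⟨a, ha, hag⟩ := exists_smul_beta r hcN (g • ω₃) h3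
  refine ⟨g, hg1, hg2, a, ha, ?_, hag.symm⟩
  rintro rfl
  rw [one_smul] at hag
  apply h23
  have : g • ω₂ = g • ω₃ := by rw [hg2, hag]
  exact (MulAction.injective g) this

/-- `G` is 3-transitive on `G ⧸ N` -/
theorem three_transitive (cz : CzFacts M z) (r : Reg M) (fr : Frob M z)
    (ht : MulAction.IsMultiplyPretransitive G (G ⧸ Nm M) 2)
    (hm : Nat.card M = Nat.card (Hz M z) + 1) {ω₁ ω₂ ω₃ ω₁' ω₂' ω₃' : G ⧸ Nm M}
    (h12 : ω₁ ≠ ω₂) (h13 : ω₁ ≠ ω₃) (h23 : ω₂ ≠ ω₃)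
    (h12' : ω₁' ≠ ω₂') (h13' : ω₁' ≠ ω₃') (h23' : ω₂' ≠ ω₃') :
    ∃ g : G, g • ω₁ = ω₁' ∧ g • ω₂ = ω₂' ∧ g • ω₃ = ω₃' := by
  obtain ⟨c, hcC, hcN⟩ := cz.ex
  obtain ⟨g₁, h1a, h1b, a, ha, ha1, h1c⟩ := exists_normal_form r hcN ht h12 h13 h23
  obtain ⟨g₂, h2a, h2b, a', ha', ha'1, h2c⟩ := exists_normal_form r hcN ht h12' h13' h23'
  obtain ⟨k, hk, hka⟩ := exists_conj_eq fr hm ha ha1 ha' ha'1
  have hkα : k • ((1 : G) : G ⧸ Nm M) = ((1 : G) : G ⧸ Nm M) := by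
    have : k ∈ MulAction.stabilizer G ((1 : G) : G ⧸ Nm M) := by rw [stab_alpha]; exact hk.1
    exact MulAction.mem_stabilizer_iff.1 this
  have hkβ : k • ((c : G) : G ⧸ Nm M) = ((c : G) : G ⧸ Nm M) := by
    have := smul_smul_beta cz hcC hcN hk 1
    rwa [one_smul, mul_one, mul_inv_cancel, one_smul] at this
  refine ⟨g₂⁻¹ * k * g₁, ?_, ?_, ?_⟩
  · rw [mul_smul, mul_smul, h1a, hkα, ← h2a, inv_smul_smul]
  · rw [mul_smul, mul_smul, h1b, hkβ, ← h2b, inv_smul_smul]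
  · rw [mul_smul, mul_smul, h1c, smul_smul_beta cz hcC hcN hk a, hka, ← h2c, inv_smul_smul]

/-- an element fixing three distinct points is trivial -/
theorem sharp (s : Semi M) (cz : CzFacts M z) (r : Reg M) (fr : Frob M z)
    (ht : MulAction.IsMultiplyPretransitive G (G ⧸ Nm M) 2) {ω₁ ω₂ ω₃ : G ⧸ Nm M}
    (h12 : ω₁ ≠ ω₂) (h13 : ω₁ ≠ ω₃) (h23 : ω₂ ≠ ω₃) {g : G}
    (hg1 : g • ω₁ = ω₁) (hg2 : g • ω₂ = ω₂) (hg3 : g • ω₃ = ω₃) : g = 1 := by
  obtain ⟨c, hcC, hcN⟩ := cz.ex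
  obtain ⟨g₁, h1a, h1b, a, ha, ha1, h1c⟩ := exists_normal_form r hcN ht h12 h13 h23
  -- `k = g₁ g g₁⁻¹` fixes `α`, `β`, `a • β`
  have hfix : ∀ {ω ω' : G ⧸ Nm M}, g • ω = ω → g₁ • ω = ω' → (g₁ * g * g₁⁻¹) • ω' = ω' := by
    intro ω ω' h1 h2
    rw [← h2, mul_smul, mul_smul, inv_smul_smul, h1]
  have hkα := hfix hg1 h1a
  have hkβ := hfix hg2 h1b
  have hkγ := hfix hg3 h1c
  have hkH : g₁ * g * g₁⁻¹ ∈ Hz M z := by
    rw [← cz.stab c hcC hcN]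
    refine ⟨?_, ?_⟩
    · rw [← stab_alpha (M := M)]; exact MulAction.mem_stabilizer_iff.2 hkα
    · rw [← stab_beta c]; exact MulAction.mem_stabilizer_iff.2 hkβ
  rw [smul_smul_beta cz hcC hcN hkH a] at hkγ
  have hnorm : g₁ * g * g₁⁻¹ * a * (g₁ * g * g₁⁻¹)⁻¹ ∈ M :=
    (Subgroup.mem_normalizer_iff.1 hkH.1 a).1 ha
  have hconj := smul_beta_injective s hcN hnorm ha hkγ
  have hcomm : g₁ * g * g₁⁻¹ * a = a * (g₁ * g * g₁⁻¹) := by
    calc g₁ * g * g₁⁻¹ * a = (g₁ * g * g₁⁻¹ * a * (g₁ * g * g₁⁻¹)⁻¹) * (g₁ * g * g₁⁻¹) := by group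
      _ = a * (g₁ * g * g₁⁻¹) := by rw [hconj]
  have hk1 := fr a ha ha1 _ hkH hcomm
  calc g = g₁⁻¹ * (g₁ * g * g₁⁻¹) * g₁ := by group
    _ = 1 := by rw [hk1]; group

/-- two elements fixing two distinct points commute -/
theorem stab_comm (cz : CzFacts M z) (hc : HComm M z)
    (ht : MulAction.IsMultiplyPretransitive G (G ⧸ Nm M) 2) {ω₁ ω₂ : G ⧸ Nm M}
    (h12 : ω₁ ≠ ω₂) {g g' : G}
    (hg1 : g • ω₁ = ω₁) (hg2 : g • ω₂ = ω₂) (hg1' : g' • ω₁ = ω₁) (hg2' : g' • ω₂ = ω₂) :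
    g * g' = g' * g := by
  obtain ⟨c, hcC, hcN⟩ := cz.ex
  obtain ⟨g₁, h1a, h1b⟩ := (MulAction.is_two_pretransitive_iff.1 ht) h12 (coe_one_ne_coe hcN)
  have hmem : ∀ {x : G}, x • ω₁ = ω₁ → x • ω₂ = ω₂ → g₁ * x * g₁⁻¹ ∈ Hz M z := by
    intro x hx1 hx2
    rw [← cz.stab c hcC hcN]
    refine ⟨?_, ?_⟩
    · rw [← stab_alpha (M := M)]
      apply MulAction.mem_stabilizer_iff.2
      rw [← h1a, mul_smul, mul_smul, inv_smul_smul, hx1]
    · rw [← stab_beta c]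
      apply MulAction.mem_stabilizer_iff.2
      rw [← h1b, mul_smul, mul_smul, inv_smul_smul, hx2]
  have h := hc _ (hmem hg1 hg2) _ (hmem hg1' hg2')
  calc g * g' = g₁⁻¹ * ((g₁ * g * g₁⁻¹) * (g₁ * g' * g₁⁻¹)) * g₁ := by group
    _ = g₁⁻¹ * ((g₁ * g' * g₁⁻¹) * (g₁ * g * g₁⁻¹)) * g₁ := by rw [h]
    _ = g' * g := by group

theorem alt3_pgl_of (hpgl : PGL2Recognition) (h : Hyp M z) (b : Basic M z) (i : InvN M z)
    (s : Semi M) (cz : CzFacts M z)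
    (r : Reg M) (fr : Frob M z) (hc : HComm M z) (hf : FaithfulSMul G (G ⧸ Nm M))
    (ht : MulAction.IsMultiplyPretransitive G (G ⧸ Nm M) 2)
    (hidx : (Nm M).index = Nat.card M + 1) (hm : Nat.card M = Nat.card (Hz M z) + 1)
    (ea : ∃ p r : ℕ, p.Prime ∧ (∀ x ∈ M, x ^ p = 1) ∧ Nat.card M = p ^ r) : Alt3 G M := by
  classical
  haveI : Fintype (G ⧸ Nm M) := Fintype.ofFinite _
  have hΩcard : Fintype.card (G ⧸ Nm M) = Nat.card M + 1 := by
    rw [← Nat.card_eq_fintype_card, ← hidx]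
    rfl
  -- `|H|` is even, at least two
  have hzH : z ∈ Hz M z := ⟨h.zN, Subgroup.mem_centralizer_singleton_iff.2 rfl⟩
  have hHeven : Even (Nat.card ↥(Hz M z)) := by
    have h1 : orderOf (⟨z, hzH⟩ : Hz M z) = 2 := by
      rw [Subgroup.orderOf_mk]; exact h.hz
    have h2 := orderOf_dvd_natCard (⟨z, hzH⟩ : Hz M z)
    rw [h1] at h2
    exact (even_iff_two_dvd).2 h2
  have hHpos : 0 < Nat.card ↥(Hz M z) := Nat.card_pos
  -- transport to `Fin (m + 1)`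
  let ε : (G ⧸ Nm M) ≃ Fin (Nat.card M + 1) := Fintype.equivFinOfCardEq hΩcard
  let ρ : G →* Equiv.Perm (Fin (Nat.card M + 1)) :=
    (Equiv.permCongrHom ε).toMonoidHom.comp (MulAction.toPermHom G (G ⧸ Nm M))
  have hρ : ∀ (g : G) (x : Fin (Nat.card M + 1)), ρ g x = ε (g • ε.symm x) := fun g x => rfl
  have hρinj : Function.Injective ρ := by
    intro g g' hgg'
    apply hf.eq_of_smul_eq_smul
    intro ω
    have := congrArg (fun σ : Equiv.Perm (Fin (Nat.card M + 1)) => σ (ε ω)) hgg'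
    simp only [hρ, Equiv.symm_apply_apply] at this
    exact ε.injective this
  have hne : ∀ {x y : Fin (Nat.card M + 1)}, x ≠ y → ε.symm x ≠ ε.symm y :=
    fun hxy hEq => hxy (ε.symm.injective hEq)
  have hfixpt : ∀ {g : G} {x : Fin (Nat.card M + 1)}, ρ g x = x → g • ε.symm x = ε.symm x := by
    intro g x hx
    rw [hρ] at hx
    have := congrArg ε.symm hx
    rwa [Equiv.symm_apply_apply] at this
  obtain ⟨F, iF, iFt, hFcard, ⟨ψ⟩⟩ := @hpgl (Fin (Nat.card M + 1)) _ _ ρ.range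
    (by rw [Fintype.card_fin]; obtain ⟨j, hj⟩ := hHeven; omega)
    (by
      rw [Fintype.card_fin, hm]
      obtain ⟨j, hj⟩ := hHeven
      exact ⟨j + 1, by omega⟩)
    (by
      intro a₁ a₂ a₃ a₁' a₂' a₃' h12 h13 h23 h12' h13' h23'
      obtain ⟨g, hg1, hg2, hg3⟩ := three_transitive cz r fr ht hm (hne h12) (hne h13) (hne h23)
        (hne h12') (hne h13') (hne h23')
      refine ⟨ρ g, ⟨g, rfl⟩, ?_, ?_, ?_⟩
      · rw [hρ, hg1, Equiv.apply_symm_apply]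
      · rw [hρ, hg2, Equiv.apply_symm_apply]
      · rw [hρ, hg3, Equiv.apply_symm_apply])
    (by
      rintro _ ⟨g, rfl⟩ a₁ a₂ a₃ h12 h13 h23 h1 h2 h3
      have := sharp s cz r fr ht (hne h12) (hne h13) (hne h23) (hfixpt h1) (hfixpt h2) (hfixpt h3)
      rw [this, map_one])
    (by
      rintro a₁ a₂ h12 _ ⟨g, rfl⟩ _ ⟨g', rfl⟩ h1 h2 h1' h2'
      have := stab_comm cz hc ht (hne h12) (hfixpt h1) (hfixpt h2) (hfixpt h1') (hfixpt h2')
      rw [← map_mul, ← map_mul, this])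
  obtain ⟨p, r', hp, hexp, hmr⟩ := ea
  have hFM : Fintype.card F = Nat.card M := by
    rw [Fintype.card_fin] at hFcard
    omega
  have hchar : CharP F p := charP_of_card_eq_prime_pow F hp (hFM.trans hmr)
  refine ⟨F, iF, iFt, p, ⟨hp⟩, hchar, hFM,
    ⟨⟨⟨fun x y => Subtype.ext (b.comm x x.2 y y.2)⟩⟩, hexp⟩, Or.inl ⟨?_⟩⟩
  exact ((MonoidHom.ofInjective hρinj).trans ψ).trans (MulEquiv.refl _)

end Cfsg.Agent.Lib.Helper54.TIInv
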