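import Mathlib
import Cfsg.Agent.Lib.Helper90.TIInvDefs
import Cfsg.Agent.Lib.Helper54.TIInvA6
import Cfsg.Agent.Lib.Helper59.TIInvA6pgl

/-!
# S3043-[A6] (helper90's cut), final form: `alt3_pgl`, with helper59's recognition theorem
[A6-pgl] plugged into `alt3_pgl_of`.
-/

set_option autoImplicit false

namespace Cfsg.Agent.Lib.Helper54.TIInv

open Cfsg.Agent.Lib.Helper90.TIInv

variable {G : Type*} [Group G] [Finite G] {M : Subgroup G} {z : G}

theorem pgl2Recognition : PGL2Recognition := by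
  intro α _ _ K hcard hev T3 S3 hab
  exact Cfsg.Agent.Lib.Helper59.TIInvA6pgl.pgl2_of_sharply3_abelian K hcard hev T3 S3 hab

theorem alt3_pgl (h : Hyp M z) (b : Basic M z) (i : InvN M z) (s : Semi M) (cz : CzFacts M z)
    (r : Reg M) (fr : Frob M z) (hc : HComm M z) (hf : FaithfulSMul G (G ⧸ Nm M))
    (ht : MulAction.IsMultiplyPretransitive G (G ⧸ Nm M) 2)
    (hidx : (Nm M).index = Nat.card M + 1) (hm : Nat.card M = Nat.card (Hz M z) + 1)
    (ea : ∃ p r : ℕ, p.Prime ∧ (∀ x ∈ M, x ^ p = 1) ∧ Nat.card M = p ^ r) : Alt3 G M :=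
  alt3_pgl_of pgl2Recognition h b i s cz r fr hc hf ht hidx hm ea

end Cfsg.Agent.Lib.Helper54.TIInv
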