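import Mathlib
import Cfsg.Agent.Lib.Helper90.TIInvDefs
import Cfsg.Agent.S2202

/-!
# S3043-[B1b] (helper90's cut): in Case B with a single class of involutions, `G ≃* SL₂(F)`
for a finite field `F` of characteristic `2`.
-/

set_option autoImplicit false
set_option linter.unusedSectionVars false
set_option linter.unusedVariables false
set_option linter.style.haveILetI false

namespace Cfsg.Agent.Lib.Helper54.TIInv

open Cfsg.Agent.Lib.Helper90.TIInv

variable {G : Type*} [Group G] [Finite G] {M : Subgroup G} {z : G}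

/-- in a finite group of odd order, an element with trivial square is trivial -/
theorem eq_one_of_mul_self_of_odd {A : Type*} [Group A] [Finite A] (hA : Odd (Nat.card A)) (x : A)
    (hx : x * x = 1) : x = 1 := by
  have h1 : orderOf x ∣ 2 := orderOf_dvd_of_pow_eq_one (by rw [pow_two]; exact hx)
  have h2 : orderOf x ∣ Nat.card A := orderOf_dvd_natCard x
  have h3 : orderOf x ∣ Nat.gcd 2 (Nat.card A) := Nat.dvd_gcd h1 h2
  have h4 : Nat.gcd 2 (Nat.card A) = 1 := by
    have : Nat.Coprime 2 (Nat.card A) := (Nat.coprime_two_left).2 hA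
    exact this
  rw [h4, Nat.dvd_one] at h3
  exact orderOf_eq_one_iff.1 h3

/-- a group all of whose elements square to one is commutative -/
theorem comm_of_mul_self {K : Type*} [Group K] (hK : ∀ x : K, x * x = 1) (x y : K) :
    x * y = y * x := by
  have hx : x⁻¹ = x := inv_eq_of_mul_eq_one_left (hK x)
  have hy : y⁻¹ = y := inv_eq_of_mul_eq_one_left (hK y)
  have hxy : (x * y)⁻¹ = x * y := inv_eq_of_mul_eq_one_left (hK (x * y))
  rw [mul_inv_rev, hx, hy] at hxy
  exact hxy.symm

theorem caseB_sl2 (h : Hyp M z) (b : Basic M z) {e : ℕ} (hB : CaseB M z e)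
    (hc : ∀ t : G, orderOf t = 2 → ∃ g : G, t = g * z * g⁻¹) :
    ∃ (F : Type) (_ : Field F) (_ : Fintype F), CharP F 2 ∧
      Nonempty (G ≃* Matrix.SpecialLinearGroup (Fin 2) F) := by
  obtain ⟨he2, -, hCcard, hCexp⟩ := hB
  have hz2 : z * z = 1 := by
    have := pow_orderOf_eq_one z
    rwa [h.hz, pow_two] at this
  have hzinv : z⁻¹ = z := inv_eq_of_mul_eq_one_left hz2
  have heven : Even (Nat.card G) := by
    have := orderOf_dvd_natCard z
    rw [h.hz] at this
    exact (even_iff_two_dvd).2 this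
  -- every involution centralizer has exponent two
  have hcent : ∀ t : G, orderOf t = 2 → ∀ x ∈ Subgroup.centralizer ({t} : Set G), x * x = 1 := by
    intro t ht x hx
    obtain ⟨g, rfl⟩ := hc t ht
    rw [Subgroup.mem_centralizer_singleton_iff] at hx
    have hmem : g⁻¹ * x * g ∈ Cz z := by
      rw [Subgroup.mem_centralizer_singleton_iff]
      have h1 : g⁻¹ * x * g * z = g⁻¹ * (x * (g * z * g⁻¹)) * g := by group
      have h2 : z * (g⁻¹ * x * g) = g⁻¹ * ((g * z * g⁻¹) * x) * g := by group
      rw [h1, h2, hx]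
    have h3 := hCexp _ hmem
    have h4 : g⁻¹ * x * g * (g⁻¹ * x * g) = g⁻¹ * (x * x) * g := by group
    rw [h4] at h3
    have h5 : x * x = g * (g⁻¹ * (x * x) * g) * g⁻¹ := by group
    rw [h5, h3]
    group
  have hcomm : ∀ t : G, orderOf t = 2 →
      IsMulCommutative ↥(Subgroup.centralizer ({t} : Set G)) := by
    intro t ht
    refine ⟨⟨fun x y => ?_⟩⟩
    exact comm_of_mul_self (fun w => Subtype.ext (hcent t ht w w.2)) x y
  have hzC : z ∈ Cz z := Subgroup.mem_centralizer_singleton_iff.2 rfl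
  haveI : Fact (Nat.Prime 2) := ⟨Nat.prime_two⟩
  have hCp : IsPGroup 2 (Cz z) := IsPGroup.of_card hCcard
  rcases Cfsg.Agent.S2202.result heven hcomm with hcyc | hnorm | ⟨F, iF, iFt, A, iA, iAf, hchar, hAodd, ⟨φ⟩⟩
  · -- cyclic Sylow 2-subgroups: impossible, `C` has exponent two and order at least eight
    exfalso
    obtain ⟨P, hCP⟩ := hCp.exists_le_sylow
    haveI := hcyc P
    have hcycC : IsCyclic ↥(Cz z) := by
      have e1 : ↥((Cz z).subgroupOf (P : Subgroup G)) ≃* ↥(Cz z) := Subgroup.subgroupOfEquivOfLe hCP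
      exact isCyclic_of_surjective e1 e1.surjective
    obtain ⟨c, hcgen⟩ := hcycC.exists_generator
    have hord : orderOf c = Nat.card ↥(Cz z) := orderOf_eq_card_of_forall_mem_zpowers hcgen
    have hc2 : c * c = 1 := Subtype.ext (hCexp c c.2)
    have hdvd : orderOf c ∣ 2 := orderOf_dvd_of_pow_eq_one (by rw [pow_two]; exact hc2)
    have hle : orderOf c ≤ 2 := Nat.le_of_dvd (by norm_num) hdvd
    rw [hord, hCcard] at hle
    have : 2 ^ 3 ≤ 2 ^ (e + 1) := Nat.pow_le_pow_right (by norm_num) (by omega)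
    omega
  · -- normal Sylow 2-subgroups: impossible, `M` would be trivial
    exfalso
    have hzp : IsPGroup 2 (Subgroup.zpowers z) := by
      apply IsPGroup.of_card (n := 1)
      rw [Nat.card_zpowers, h.hz, pow_one]
    obtain ⟨Q, hzQ⟩ := hzp.exists_le_sylow
    have hQn := hnorm Q
    have hzQ' : z ∈ (Q : Subgroup G) := hzQ (Subgroup.mem_zpowers z)
    apply h.ne
    rw [Subgroup.eq_bot_iff_forall]
    intro a ha
    have h1 : a * z * a⁻¹ ∈ (Q : Subgroup G) := hQn.conj_mem z hzQ' a
    have h2 : a * z * a⁻¹ * z ∈ (Q : Subgroup G) := (Q : Subgroup G).mul_mem h1 hzQ'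
    have hinv : z * a⁻¹ * z⁻¹ = a := by
      have := b.inv a⁻¹ (M.inv_mem ha)
      rwa [inv_inv] at this
    have h3 : a * z * a⁻¹ * z = a * a := by
      have : a * z * a⁻¹ * z = a * (z * a⁻¹ * z⁻¹) := by rw [hzinv]; group
      rw [this, hinv]
    rw [h3] at h2
    obtain ⟨k, hk⟩ := Q.isPGroup' ⟨a * a, h2⟩
    have hk' : (a * a) ^ 2 ^ k = 1 := congrArg Subtype.val hk
    have hpow : a ^ 2 ^ (k + 1) = 1 := by
      rw [pow_succ, mul_comm, pow_mul, pow_two]; exact hk'
    have hM : a ^ Nat.card M = 1 := by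
      have := pow_card_eq_one' (G := M) (x := ⟨a, ha⟩)
      exact congrArg Subtype.val this
    have hd1 : orderOf a ∣ 2 ^ (k + 1) := orderOf_dvd_of_pow_eq_one hpow
    have hd2 : orderOf a ∣ Nat.card M := orderOf_dvd_of_pow_eq_one hM
    have hcop : Nat.Coprime (2 ^ (k + 1)) (Nat.card M) :=
      Nat.Coprime.pow_left _ ((Nat.coprime_two_left).2 b.oddM)
    have := Nat.dvd_gcd hd1 hd2
    rw [hcop.gcd_eq_one, Nat.dvd_one] at this
    exact orderOf_eq_one_iff.1 this
  · -- the main case
    refine ⟨F, iF, iFt, hchar, ⟨?_⟩⟩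
    -- `A` is trivial
    have hzφ : (φ z).2 = 1 := by
      apply eq_one_of_mul_self_of_odd hAodd
      have : φ z * φ z = 1 := by rw [← map_mul, hz2, map_one]
      exact congrArg Prod.snd this
    have hAtriv : ∀ a : A, a = 1 := by
      intro a
      apply eq_one_of_mul_self_of_odd hAodd
      have hmem : φ.symm (1, a) ∈ Cz z := by
        rw [Subgroup.mem_centralizer_singleton_iff]
        apply φ.injective
        rw [map_mul, map_mul, MulEquiv.apply_symm_apply]
        apply Prod.ext
        · simp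
        · simp only [Prod.snd_mul]
          rw [hzφ, mul_one, one_mul]
      have h2 := hCexp _ hmem
      have h3 : ((1 : Matrix.SpecialLinearGroup (Fin 2) F), a) * (1, a) = 1 := by
        have := congrArg φ h2
        rwa [map_mul, MulEquiv.apply_symm_apply, map_one] at this
      exact congrArg Prod.snd h3
    haveI : Unique A := ⟨⟨1⟩, hAtriv⟩
    exact φ.trans MulEquiv.prodUnique

end Cfsg.Agent.Lib.Helper54.TIInv
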