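import Cfsg.Prelude.Def_OddOrderLocal
import Cfsg.Agent.Lib.Helper54.InvariantCore
import Cfsg.Agent.Lib.Helper54.Hyperplane
import Cfsg.Agent.Lib.Helper54.PLocal2

/-!
# Preparations for Thompson's transitivity theorem

* `le_piCoreOf_centralizer`: for an abelian `p`-subgroup `E` containing all `p`-elements of `C_G(E)`,
  every `p'`-subgroup of `C_G(E)` lies in `O_{p'}(C_G(E))`.
* `exists_elemAb_card_cube`: from `¬ PRankLE p 2 E`.
-/

set_option autoImplicit false

namespace Cfsg.Agent.Lib.Helper54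

open scoped commutatorElement
open Cfsg

variable {G : Type*} [Group G]

/-- Every `p'`-subgroup of `C_G(E)` lies in `O_{p'}(C_G(E))`, when `E` is an abelian `p`-subgroup
containing all `p`-elements of its centralizer. -/
theorem le_piCoreOf_centralizer [Finite G] (p : ℕ) [Fact p.Prime] (E : Subgroup G)
    (hE : IsPGroup p E) (hEab : ∀ x ∈ E, ∀ y ∈ E, x * y = y * x)
    (hEfull : ∀ x ∈ Subgroup.centralizer (E : Set G), IsPGroup p (Subgroup.zpowers x) → x ∈ E)
    (Y : Subgroup G) (hYC : Y ≤ Subgroup.centralizer (E : Set G)) (hY : (Nat.card Y).Coprime p) :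
    Y ≤ piCoreOf (primesNotDvd p) (Subgroup.centralizer (E : Set G)) := by
  have hp : p.Prime := Fact.out
  set C : Subgroup G := Subgroup.centralizer (E : Set G) with hC
  have hEC : E ≤ C := by
    intro e he
    rw [hC, Subgroup.mem_centralizer_iff]
    intro y hy
    exact hEab y hy e he
  set E' : Subgroup C := E.subgroupOf C with hE'
  have hE'p : IsPGroup p E' := hE.comap_subtype
  have hcentral : ∀ e ∈ E', ∀ c : C, c * e = e * c := by
    intro e he c
    apply Subtype.ext
    have h1 : (e : G) ∈ E := Subgroup.mem_subgroupOf.mp he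
    have h2 := Subgroup.mem_centralizer_iff.mp c.2 (e : G) h1
    simpa using h2.symm
  have hE'n : E'.Normal := by
    refine ⟨fun e he c => ?_⟩
    rw [hcentral e he c, mul_inv_cancel_right]
    exact he
  -- `E'` is a Sylow `p`-subgroup
  obtain ⟨S, hS⟩ := hE'p.exists_le_sylow
  have hSE : (S : Subgroup C) = E' := by
    apply le_antisymm _ hS
    intro s hs
    rw [hE', Subgroup.mem_subgroupOf]
    apply hEfull (s : G) s.2
    have h1 : IsPGroup p (Subgroup.zpowers s) :=
      S.isPGroup'.to_le ((Subgroup.zpowers_le).mpr hs)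
    have h2 : Subgroup.zpowers (s : G) = (Subgroup.zpowers s).map C.subtype := by
      rw [MonoidHom.map_zpowers]; rfl
    rw [h2]
    exact h1.map _
  have hidx : ¬ p ∣ E'.index := by
    rw [← hSE]; exact S.not_dvd_index
  have hcop : (Nat.card E').Coprime E'.index := by
    obtain ⟨k, hk⟩ := hE'p.exists_card_eq
    rw [hk]
    exact (Nat.Coprime.pow_left k ((Nat.Prime.coprime_iff_not_dvd hp).mpr hidx))
  obtain ⟨K', hK'⟩ := Subgroup.exists_right_complement'_of_coprime hcop
  have hK'card : (Nat.card K').Coprime p := by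
    rw [← hK'.symm.index_eq_card]
    exact ((Nat.Prime.coprime_iff_not_dvd hp).mpr hidx).symm
  have hK'n : K'.Normal := by
    refine ⟨fun k hk c => ?_⟩
    have htop : c ∈ E' ⊔ K' := by rw [hK'.sup_eq_top]; exact Subgroup.mem_top c
    rw [Subgroup.mem_sup_of_normal_left] at htop
    obtain ⟨e, he, k', hk', rfl⟩ := htop
    have h1 : e * k' * k * (e * k')⁻¹ = k' * k * k'⁻¹ := by
      have h2 := hcentral e he (k' * k * k'⁻¹)
      calc e * k' * k * (e * k')⁻¹ = e * (k' * k * k'⁻¹) * e⁻¹ := by group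
        _ = (k' * k * k'⁻¹) * e * e⁻¹ := by rw [← h2]
        _ = k' * k * k'⁻¹ := by group
    rw [h1]
    exact K'.mul_mem (K'.mul_mem hk' hk) (K'.inv_mem hk')
  -- every `p'`-subgroup lies in `K'`
  set Y' : Subgroup C := Y.subgroupOf C with hY'
  have hY'card : (Nat.card Y').Coprime p := by
    rw [hY', Nat.card_congr (Subgroup.subgroupOfEquivOfLe hYC).toEquiv]; exact hY
  have hY'K' : Y' ≤ K' := by
    have h1 : Nat.card (Y' ⊔ K' : Subgroup C) ∣ Nat.card Y' * Nat.card K' :=
      Cfsg.Agent.Lib.Helper76.card_sup_dvd_of_normal Y' K'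
    have h2 : (Nat.card (Y' ⊔ K' : Subgroup C)).Coprime p :=
      Nat.Coprime.coprime_dvd_left h1 (Nat.Coprime.mul_left hY'card hK'card)
    have h3 : Nat.card (Y' ⊔ K' : Subgroup C) ∣ Nat.card E' * Nat.card K' := by
      rw [hK'.card_mul_card]
      exact Subgroup.card_subgroup_dvd_card _
    have h4 : (Nat.card (Y' ⊔ K' : Subgroup C)).Coprime (Nat.card E') := by
      obtain ⟨k, hk⟩ := hE'p.exists_card_eq
      rw [hk]
      exact Nat.Coprime.pow_right k h2
    have h5 : Nat.card (Y' ⊔ K' : Subgroup C) ∣ Nat.card K' := h4.dvd_of_dvd_mul_left h3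
    have h6 : K' = Y' ⊔ K' :=
      Subgroup.eq_of_le_of_card_ge le_sup_right (Nat.le_of_dvd Nat.card_pos h5)
    rw [h6]
    exact le_sup_left
  have hK'core : K' ≤ piCore (primesNotDvd p) C := by
    apply le_sSup
    refine ⟨hK'n, ?_⟩
    intro r hr hrd
    refine ⟨hr, ?_⟩
    intro hrp
    have : r = p := (Nat.prime_dvd_prime_iff_eq hr hp).mp hrp
    subst this
    exact (Nat.Prime.coprime_iff_not_dvd hr).mp hK'card.symm hrd
  intro y hy
  exact ⟨⟨y, hYC hy⟩, hK'core (hY'K' (Subgroup.mem_subgroupOf.mpr hy)), rfl⟩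

/-- From `¬ PRankLE p 2 E`: an elementary abelian subgroup of `E` of order `p ^ 3`. -/
theorem exists_elemAb_card_cube [Finite G] (p : ℕ) [Fact p.Prime] (E : Subgroup G)
    (hE3 : ¬ PRankLE p 2 E) :
    ∃ A : Subgroup G, A ≤ E ∧ (∀ x ∈ A, ∀ y ∈ A, x * y = y * x) ∧ (∀ x ∈ A, x ^ p = 1) ∧
      Nat.card A = p ^ 3 := by
  have hp : p.Prime := Fact.out
  unfold PRankLE at hE3
  push Not at hE3
  obtain ⟨A, hAc, hAexp, hAcard⟩ := hE3
  have hAp : IsPGroup p A := by
    intro a
    refine ⟨1, ?_⟩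
    rw [pow_one]
    apply Subtype.ext
    have := hAexp (a : E) a.2
    simpa using this
  obtain ⟨k, hk⟩ := hAp.exists_card_eq
  have hk3 : 3 ≤ k := by
    by_contra hcon
    rw [not_le] at hcon
    have : p ^ k ≤ p ^ 2 := Nat.pow_le_pow_right hp.pos (by omega)
    omega
  have hdvd : p ^ 3 ∣ Nat.card A := by rw [hk]; exact pow_dvd_pow p hk3
  obtain ⟨A₀, hA₀⟩ := Sylow.exists_subgroup_card_pow_prime p hdvd
  refine ⟨(A₀.map A.subtype).map E.subtype, ?_, ?_, ?_, ?_⟩
  · exact Subgroup.map_subtype_le _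
  · rintro _ ⟨_, ⟨x, hx, rfl⟩, rfl⟩ _ ⟨_, ⟨y, hy, rfl⟩, rfl⟩
    have h1 : x * y = y * x := by
      have := hAc.is_comm.comm x y
      exact this
    have h2 := congrArg (fun z : A => ((z : E) : G)) h1
    simpa using h2
  · rintro _ ⟨_, ⟨x, hx, rfl⟩, rfl⟩
    have h1 := hAexp (x : E) x.2
    have h2 := congrArg (fun z : E => (z : G)) h1
    simpa using h2
  · rw [Subgroup.card_map_of_injective E.subtype_injective,
      Subgroup.card_map_of_injective A.subtype_injective, hA₀]

end Cfsg.Agent.Lib.Helper54
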