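import Cfsg.Agent.Lib.Helper54.Hyperplane
import Cfsg.Agent.Lib.Helper54.UqEight
import Cfsg.Agent.S1401
import Cfsg.Agent.S1451

/-!
# Bender–Glauberman Theorem 9.5, part A

Maximal subgroups containing `C_G(A)`, `A ∈ SCN_3(P)` not lying in a unique maximal subgroup: they
contain the normalizers of the `p`-subgroups containing `A`.
-/

set_option autoImplicit false

namespace Cfsg.Agent.Lib.Helper54

open scoped Pointwise
open Cfsg

variable {G : Type*} [Group G]

/-- If `A` is abelian of rank at least three and does not lie in a unique maximal subgroup, then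
`F(M)` has `p`-rank at most two for every maximal subgroup `M`. -/
theorem fitting_pRankLE_of_not_unique [Finite G] (hG : IsMinSimpleOddOrder G) (p : ℕ)
    [Fact p.Prime] (A : Subgroup G) (hAp : IsPGroup p A) (hAc : IsMulCommutative A)
    (hA3 : ¬ PRankLE p 2 ↥A) (hnU : ¬ InUniqueMaximal A) (M : Subgroup G) (hM : IsCoatom M) :
    PRankLE p 2 ↥(fittingOf M) := by
  by_contra hF
  exact hnU (Cfsg.Agent.S1401.result hG M hM p hF A hAp hAc hA3)

/-- If `F(M)` has `t`-rank at least three, `M` is the only maximal subgroup containing a given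
elementary abelian `t`-subgroup of `M` of order at least `t ^ 3`. -/
theorem coatom_unique_of_rank_three [Finite G] (hG : IsMinSimpleOddOrder G) (M : Subgroup G)
    (hM : IsCoatom M) (t : ℕ) [Fact t.Prime] (hF : ¬ PRankLE t 2 ↥(fittingOf M))
    (X : Subgroup G) (hXM : X ≤ M) (hXc : ∀ x ∈ X, ∀ y ∈ X, x * y = y * x)
    (hXexp : ∀ x ∈ X, x ^ t = 1) (hXcard : t ^ (2 + 1) ≤ Nat.card X) :
    ∀ L : Subgroup G, IsCoatom L → X ≤ L → L = M := by
  have ht : t.Prime := Fact.out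
  have hXp : IsPGroup t X := isPGroup_of_exponent hXexp
  have hXcm : IsMulCommutative X := ⟨⟨fun ⟨x, hx⟩ ⟨y, hy⟩ => Subtype.ext (hXc x hx y hy)⟩⟩
  have hX3 : ¬ PRankLE t 2 ↥X := not_pRankLE_of_elemAb le_rfl hXc hXexp
    (lt_of_lt_of_le (Nat.pow_lt_pow_right ht.one_lt (by norm_num)) hXcard)
  obtain ⟨M', hM', hXM', hu⟩ := exists_forall_of_inUniqueMaximal
    (Cfsg.Agent.S1401.result hG M hM t hF X hXp hXcm hX3)
  have hMM' : M = M' := hu M hM hXM
  intro L hL hXL
  rw [hMM']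
  exact hu L hL hXL

theorem le_of_isSCN_centralizer_le {P A M : Subgroup G} (hscn : IsSCN P A)
    (hCM : Subgroup.centralizer (A : Set G) ≤ M) : A ≤ M := by
  intro a ha
  apply hCM
  have h1 : a ∈ P ⊓ Subgroup.centralizer (A : Set G) := by
    rw [hscn.2.2]; exact ha
  exact h1.2

/-- **Step 1, rank three case**: if `M ≥ C_G(A)` is maximal and `F(M)` has `t`-rank at least three,
`t ≠ p`, then every maximal `A`-invariant `t`-subgroup contains `O_t(M)` and has its normalizer in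
`M`. -/
theorem maxInv_of_fitting_rank_three [Finite G] (hG : IsMinSimpleOddOrder G) (p : ℕ)
    [Fact p.Prime] (PG : Sylow p G) (A : Subgroup G) (hscn : IsSCN (PG : Subgroup G) A)
    (hA3 : ¬ PRankLE p 2 ↥A) (M : Subgroup G) (hM : IsCoatom M)
    (hCM : Subgroup.centralizer (A : Set G) ≤ M) (t : ℕ) [Fact t.Prime] (htp : t ≠ p)
    (hF : ¬ PRankLE t 2 ↥(fittingOf M)) :
    ∀ Q ∈ maxInvSubgroups ⊤ A {t}, pcOf t M ≤ Q ∧ Subgroup.normalizer (Q : Set G) ≤ M := by
  have ht : t.Prime := Fact.out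
  have hs : IsSimpleGroup G := hG.2.1
  have hnc := hG.2.2.1
  obtain ⟨hTH, hAp, hAc, hπ, htr⟩ := scn_transitivity hG p PG A hscn hA3
  have hAM : A ≤ M := le_of_isSCN_centralizer_le hscn hCM
  obtain ⟨X0, hX0F, hX0c, hX0exp, hX0card⟩ := exists_elemAb_of_not_pRankLE t 2 (fittingOf M) hF
  have hX0V : X0 ≤ pcOf t M := le_pcOf_of_isPGroup t (isPGroup_of_exponent hX0exp) hX0F
  have hu := coatom_unique_of_rank_three hG M hM t hF X0 (hX0F.trans (fittingOf_le M)) hX0c
    hX0exp hX0card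
  have hX01 : X0 ≠ ⊥ := by
    intro h
    rw [h, Subgroup.card_bot] at hX0card
    have : 1 < t ^ (2 + 1) := Nat.one_lt_pow (by norm_num) ht.one_lt
    omega
  have hVinv : pcOf t M ∈ invSubgroups ⊤ A {t} := by
    rw [mem_invSubgroups_iff']
    exact ⟨le_top, pcOf_isPGroup t M, hAM.trans (le_normalizer_pcOf t M)⟩
  obtain ⟨Q0, hQ0, hVQ0⟩ := exists_maxInv_ge' hVinv
  intro Q hQ
  obtain ⟨k, hk, hQk⟩ := htr t ht htp Q0 hQ0 Q hQ
  have hkM : k ∈ M := hCM (piCoreOf_le _ _ hk)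
  have hVQ : pcOf t M ≤ Q := by
    intro v hv
    rw [hQk]
    refine ⟨k⁻¹ * v * k, hVQ0 ?_, ?_⟩
    · have := (Subgroup.mem_normalizer_iff.mp (le_normalizer_pcOf t M (M.inv_mem hkM)) v).mp hv
      simpa using this
    · show k * (k⁻¹ * v * k) * k⁻¹ = v
      group
  refine ⟨hVQ, ?_⟩
  have hQinv := (mem_invSubgroups_iff' (q := t)).mp hQ.1
  have hQ1 : Q ≠ ⊥ := by
    intro h
    apply hX01
    rw [← le_bot_iff, ← h]
    exact hX0V.trans hVQ
  have hQtop : Q ≠ ⊤ := ne_top_of_isPGroup hs hnc hQinv.2.1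
  exact le_of_unique_coatom hu (normalizer_ne_top_of_simple hs hQ1 hQtop)
    ((hX0V.trans hVQ).trans Subgroup.le_normalizer)

/-- In a solvable subgroup `M` of odd order with `F(M)` of rank at most two, the Sylow subgroup for
the largest prime divisor is normal. -/
theorem exists_normal_sylow_largest_prime [Finite G] (M : Subgroup G)
    (hMs : Group.IsSolvable M) (hodd : Odd (Nat.card M)) (hM1 : M ≠ ⊥)
    (hr : RankLE 2 ↥(fittingOf M)) :
    ∃ q : ℕ, q.Prime ∧ ∃ Q : Subgroup G, Q ≤ M ∧ Q ≠ ⊥ ∧ IsPGroup q Q ∧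
      M ≤ Subgroup.normalizer (Q : Set G) ∧
      ∀ R : Subgroup G, R ≤ M → IsPGroup q R → R ≤ Q := by
  have hn1 : Nat.card M ≠ 1 := fun h => hM1 (Subgroup.card_eq_one.mp h)
  have hn0 : Nat.card M ≠ 0 := Nat.card_pos.ne'
  have hne : (Nat.card M).primeFactors.Nonempty := by
    obtain ⟨r, hr, hrd⟩ := Nat.exists_prime_and_dvd hn1
    exact ⟨r, Nat.mem_primeFactors.mpr ⟨hr, hrd, hn0⟩⟩
  obtain ⟨q, hqmem, hqmax⟩ := Finset.exists_max_image (Nat.card M).primeFactors id hne
  have hq : q.Prime := (Nat.mem_primeFactors.mp hqmem).1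
  have hqM : q ∣ Nat.card M := (Nat.mem_primeFactors.mp hqmem).2.1
  have hqf : Fact q.Prime := ⟨hq⟩
  have hr' : RankLE 2 ↥(fittingSubgroup ↥M) := by
    intro r hr0
    exact (pRankLE_map_subtype_iff M (fittingSubgroup ↥M)).mp (hr r hr0)
  obtain ⟨N, hNchar, hNhall⟩ := (Cfsg.Agent.S1451.result (G := ↥M) hodd (Or.inr hr')).2.2 (q - 1)
  have hNn : N.Normal := inferInstance
  have hqπ : q ∈ {r : ℕ | r.Prime ∧ q - 1 < r} := ⟨hq, Nat.sub_lt hq.pos Nat.one_pos⟩
  have hqidx : ¬ q ∣ N.index := hNhall.2 q hq hqπ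
  have hNq : IsPGroup q N := by
    have huniq : ∀ {d : ℕ}, d.Prime → d ∣ Nat.card N → d = q := by
      intro d hd hdN
      have h1 : q - 1 < d := (hNhall.1 d hd hdN).2
      have h2 : d ≤ q := hqmax d (Nat.mem_primeFactors.mpr
        ⟨hd, hdN.trans (Subgroup.card_subgroup_dvd_card N), hn0⟩)
      omega
    have := Nat.eq_prime_pow_of_unique_prime_dvd (Nat.card_pos.ne') huniq
    exact IsPGroup.of_card this
  refine ⟨q, hq, N.map M.subtype, Subgroup.map_subtype_le _, ?_, hNq.map _,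
    le_normalizer_map_subtype M N, ?_⟩
  · intro h
    have hN1 : N = ⊥ := by
      rw [← Subgroup.map_eq_bot_iff_of_injective N M.subtype_injective]
      exact h
    apply hqidx
    rw [hN1, Subgroup.index_bot]
    exact hqM
  · intro R hRM hRq
    have h1 : R.subgroupOf M ≤ N :=
      le_of_normal_of_index_coprime N ((Nat.Prime.coprime_iff_not_dvd hq).mpr hqidx).symm
        (isPGroup_subgroupOf hRM hRq)
    intro x hx
    exact ⟨⟨x, hRM hx⟩, h1 (Subgroup.mem_subgroupOf.mpr hx), rfl⟩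

/-- **Step 1**: every maximal subgroup `M ≥ C_G(A)` contains the normalizers of all the maximal
`A`-invariant `q`-subgroups, for a suitable prime `q ≠ p`. -/
theorem exists_prime_maxInv_normalizer_le [Finite G] (hG : IsMinSimpleOddOrder G) (p : ℕ)
    [Fact p.Prime] (PG : Sylow p G) (A : Subgroup G) (hscn : IsSCN (PG : Subgroup G) A)
    (hA3 : ¬ PRankLE p 2 ↥A) (hnU : ¬ InUniqueMaximal A) (M : Subgroup G) (hM : IsCoatom M)
    (hCM : Subgroup.centralizer (A : Set G) ≤ M) :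
    ∃ q : ℕ, q.Prime ∧ q ≠ p ∧
      ∀ Q ∈ maxInvSubgroups ⊤ A {q}, Subgroup.normalizer (Q : Set G) ≤ M := by
  have hp : p.Prime := Fact.out
  have hs : IsSimpleGroup G := hG.2.1
  have hnc := hG.2.2.1
  obtain ⟨hTH, hAp, hAc, hπ, htr⟩ := scn_transitivity hG p PG A hscn hA3
  have hAM : A ≤ M := le_of_isSCN_centralizer_le hscn hCM
  have hL0 := fitting_pRankLE_of_not_unique hG p A hAp hAc hA3 hnU M hM
  by_cases hr : RankLE 2 ↥(fittingOf M)
  · -- Sylow tower
    have hMs : Group.IsSolvable M := hG.2.2.2 M hM.1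
    have hM1 : M ≠ ⊥ := fun h => hTH.1 (le_bot_iff.mp (h ▸ hAM))
    obtain ⟨q, hq, Q, hQM, hQ1, hQq, hMQ, hQmax⟩ :=
      exists_normal_sylow_largest_prime M hMs (odd_card_subgroup hG.1 M) hM1 hr
    have hqf : Fact q.Prime := ⟨hq⟩
    have hqp : q ≠ p := by
      rintro rfl
      apply hA3
      have h1 : A ≤ Q := hQmax A hAM hAp
      have h2 : Q ≤ fittingOf M := (le_pcOf_of_normal q hQq hQM hMQ).trans (pcOf_le_fittingOf q M)
      exact pRankLE_of_le (h1.trans h2) hL0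
    have hNQ : Subgroup.normalizer (Q : Set G) = M := normalizer_eq_of_coatom hM hQM hQ1 hMQ
    have hQinv : Q ∈ invSubgroups ⊤ A {q} := by
      rw [mem_invSubgroups_iff']
      exact ⟨le_top, hQq, hAM.trans hMQ⟩
    have hQmaxInv : Q ∈ maxInvSubgroups ⊤ A {q} := by
      refine ⟨hQinv, ?_⟩
      intro R hR hQR
      have hRinv := (mem_invSubgroups_iff' (q := q)).mp hR
      symm
      apply eq_of_inf_normalizer_le R Q hRinv.2.1 hQR
      apply hQmax
      · rw [hNQ]; exact inf_le_right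
      · exact hRinv.2.1.to_le inf_le_left
    refine ⟨q, hq, hqp, ?_⟩
    intro Q' hQ'
    obtain ⟨k, hk, hQk⟩ := htr q hq hqp Q hQmaxInv Q' hQ'
    have hkM : k ∈ M := hCM (piCoreOf_le _ _ hk)
    have hQQ' : Q' = Q := by
      rw [hQk]
      exact mem_normalizer_iff_conj_smul.mp (hMQ hkM)
    rw [hQQ', hNQ]
  · -- rank at least three
    unfold RankLE at hr
    push Not at hr
    obtain ⟨t, ht, hF⟩ := hr
    have htf : Fact t.Prime := ⟨ht⟩
    have htp : t ≠ p := by
      rintro rfl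
      exact hF hL0
    exact ⟨t, ht, htp, fun Q hQ =>
      (maxInv_of_fitting_rank_three hG p PG A hscn hA3 M hM hCM t htp hF Q hQ).2⟩

/-- **Step 1'**: a maximal subgroup `M ≥ C_G(A)` containing the normalizers of the maximal
`A`-invariant `q`-subgroups contains the normalizer of every `p`-subgroup containing `A`. -/
theorem normalizer_le_of_maxInv [Finite G] (hG : IsMinSimpleOddOrder G) (p : ℕ)
    [Fact p.Prime] (PG : Sylow p G) (A : Subgroup G) (hscn : IsSCN (PG : Subgroup G) A)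
    (hA3 : ¬ PRankLE p 2 ↥A) (M : Subgroup G)
    (hCM : Subgroup.centralizer (A : Set G) ≤ M) (q : ℕ) (hq : q.Prime) (hqp : q ≠ p)
    (hQM : ∀ Q ∈ maxInvSubgroups ⊤ A {q}, Subgroup.normalizer (Q : Set G) ≤ M)
    (X : Subgroup G) (hXp : IsPGroup p X) (hAX : A ≤ X) :
    Subgroup.normalizer (X : Set G) ≤ M := by
  have hp : p.Prime := Fact.out
  have hs : IsSimpleGroup G := hG.2.1
  have hnc := hG.2.2.1
  have hqf : Fact q.Prime := ⟨hq⟩
  obtain ⟨hTH, hAp, hAc, hπ, htr⟩ := scn_transitivity hG p PG A hscn hA3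
  have hXtop : X ≠ ⊤ := ne_top_of_isPGroup hs hnc hXp
  have hpA : p ∣ Nat.card A := dvd_card_of_isPGroup_ne_bot hAp hTH.1
  have hPπ : ∀ r : ℕ, r.Prime → r ∣ Nat.card X → r ∣ Nat.card A := by
    intro r hr hrX
    obtain ⟨j, hj⟩ := hXp.exists_card_eq
    rw [hj] at hrX
    have := (Nat.prime_dvd_prime_iff_eq hr hp).mp (hr.dvd_of_dvd_pow hrX)
    rw [this]
    exact hpA
  have hqA : ¬ q ∣ Nat.card A := by
    intro h
    have : q ∈ primesNotDvd p := ⟨hq, fun h' => hqp ((Nat.prime_dvd_prime_iff_eq hq hp).mp h')⟩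
    rw [← hπ] at this
    exact this.2 h
  have hXnil : Group.IsNilpotent X := hXp.isNilpotent
  have hsn : (A.subgroupOf X).IsSubnormal := isSubnormal_of_nilpotent _
  have h1395 := Cfsg.Agent.S1395.result hG A hTH q hq hqA X hXtop hPπ hAX hsn (htr q hq hqp)
  obtain ⟨Q, hQ, -⟩ := exists_maxInv_ge' (bot_mem_invSubgroups ⊤ X q)
  have hQA : Q ∈ maxInvSubgroups ⊤ A {q} := h1395.2.2.1 hQ
  rw [(h1395.2.2.2 Q hQ).2]
  apply sup_le
  · exact (piCoreOf_le _ _).trans ((Subgroup.centralizer_le hAX).trans hCM)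
  · exact inf_le_right.trans (hQM Q hQA)

end Cfsg.Agent.Lib.Helper54
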