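import Cfsg.Agent.Lib.Helper54.UqCore
import Cfsg.Agent.Lib.Helper54.UqRank
import Cfsg.Agent.S1393
import Cfsg.Agent.S1395

/-!
# Transitivity for `A ∈ SCN_3(P)` and its consequences for invariant `p'`-subgroups
-/

set_option autoImplicit false

namespace Cfsg.Agent.Lib.Helper54

open scoped Pointwise
open Cfsg

variable {G : Type*} [Group G]

theorem isPGroup_eq_bot_of_coprime [Finite G] {p : ℕ} [Fact p.Prime] {Q Y : Subgroup G}
    (hQ : IsPGroup p Q) (hQY : Q ≤ Y) (hY : (Nat.card Y).Coprime p) : Q = ⊥ := by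
  rw [Subgroup.eq_bot_iff_forall]
  intro x hx
  exact eq_one_of_mem_pGroup_of_mem_coprime hQ hY hx (hQY hx)

theorem primesNotDvd_card_eq_of_isPGroup [Finite G] {p : ℕ} [hp : Fact p.Prime] {A : Subgroup G}
    (hAp : IsPGroup p A) (hA1 : A ≠ ⊥) : primesNotDvd (Nat.card A) = primesNotDvd p := by
  obtain ⟨j, hj⟩ := hAp.exists_card_eq
  have hj0 : j ≠ 0 := by
    rintro rfl
    rw [pow_zero] at hj
    exact hA1 (Subgroup.card_eq_one.mp hj)
  apply primesNotDvd_eq
  intro r hr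
  rw [hj]
  constructor
  · intro h
    exact hr.dvd_of_dvd_pow h
  · intro h
    exact dvd_pow h hj0

theorem not_pRankLE_one_of_two {X : Type*} [Group X] {p : ℕ} (hp : 0 < p) (h : ¬ PRankLE p 2 X) :
    ¬ PRankLE p 1 X := fun h1 => h (pRankLE_mono_right hp (by norm_num) h1)

theorem ne_bot_of_not_pRankLE {p k : ℕ} (hp : 0 < p) {A : Subgroup G} (h : ¬ PRankLE p k ↥A) :
    A ≠ ⊥ := by
  rintro rfl
  apply h
  intro B _ _
  have : Nat.card B = 1 := by
    have : Subsingleton (⊥ : Subgroup G) := inferInstance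
    exact Nat.card_unique
  rw [this]
  exact Nat.one_le_pow _ _ hp

/-- `A ∈ SCN_3(P)`, `P` a Sylow `p`-subgroup of the minimal simple group `G` of odd order: the
transitivity hypothesis and the transitivity theorem hold for `A`. -/
theorem scn_transitivity [Finite G] (hG : IsMinSimpleOddOrder G) (p : ℕ) [Fact p.Prime]
    (PG : Sylow p G) (A : Subgroup G) (hscn : IsSCN (PG : Subgroup G) A)
    (hA3 : ¬ PRankLE p 2 ↥A) :
    TransitivityHypothesis A ∧ IsPGroup p A ∧ IsMulCommutative A ∧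
      primesNotDvd (Nat.card A) = primesNotDvd p ∧
      ∀ q : ℕ, q.Prime → q ≠ p →
        ∀ Q₁ ∈ maxInvSubgroups ⊤ A {q}, ∀ Q₂ ∈ maxInvSubgroups ⊤ A {q},
          ∃ k ∈ piCoreOf (primesNotDvd (Nat.card A)) (Subgroup.centralizer (A : Set G)),
            Q₂ = Q₁.map (MulAut.conj k).toMonoidHom := by
  have hp : p.Prime := Fact.out
  have hAp : IsPGroup p A := PG.isPGroup'.to_le hscn.1
  have hAC : A ≤ Subgroup.centralizer (A : Set G) := by
    intro a ha
    have h1 : a ∈ (PG : Subgroup G) ⊓ Subgroup.centralizer (A : Set G) := by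
      rw [hscn.2.2]; exact ha
    exact h1.2
  have hAc : IsMulCommutative A := by
    refine ⟨⟨?_⟩⟩
    rintro ⟨x, hx⟩ ⟨y, hy⟩
    apply Subtype.ext
    exact (Subgroup.mem_centralizer_iff.mp (hAC hy) x hx)
  have hA1 : A ≠ ⊥ := ne_bot_of_not_pRankLE hp.pos hA3
  have hpA : p ∣ Nat.card A := by
    obtain ⟨j, hj⟩ := hAp.exists_card_eq
    have hj0 : j ≠ 0 := by
      rintro rfl
      rw [pow_zero] at hj
      exact hA1 (Subgroup.card_eq_one.mp hj)
    rw [hj]
    exact dvd_pow_self p hj0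
  have hpG : p ∣ Nat.card G := hpA.trans (Subgroup.card_subgroup_dvd_card A)
  have hTH : TransitivityHypothesis A :=
    Cfsg.Agent.S1396.result hG p hpG A hAp hAc
      (Or.inr ⟨PG, hscn, not_pRankLE_one_of_two hp.pos hA3⟩)
  have hπ := primesNotDvd_card_eq_of_isPGroup hAp hA1
  refine ⟨hTH, hAp, hAc, hπ, ?_⟩
  intro q hq hqp
  have hqA : ¬ q ∣ Nat.card A := by
    intro h
    have : q ∈ primesNotDvd p := ⟨hq, fun h' => hqp ((Nat.prime_dvd_prime_iff_eq hq hp).mp h')⟩
    rw [← hπ] at this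
    exact this.2 h
  have hZ : ¬ RankLE 2 ↥(A ⊓ Subgroup.centralizer (A : Set G)) := by
    intro h
    apply hA3
    exact pRankLE_of_le (le_inf le_rfl hAC) (h p hp)
  exact Cfsg.Agent.S1393.result hG A hTH hZ q hq hqA

/-- If every `p'`-subgroup normalized by `P'` lies in `D`, where `A ≤ P' ≤ P` and `A ∈ SCN_3(P)`, then
every `p'`-subgroup normalized by `A` lies in `D`. -/
theorem invariant_le_of_scn [Finite G] (hG : IsMinSimpleOddOrder G) (p : ℕ) [Fact p.Prime]
    (PG : Sylow p G) (A : Subgroup G) (hscn : IsSCN (PG : Subgroup G) A)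
    (hA3 : ¬ PRankLE p 2 ↥A) (P' : Subgroup G) (hAP' : A ≤ P') (hP'P : P' ≤ (PG : Subgroup G))
    (D : Subgroup G)
    (hD : ∀ Y : Subgroup G, (Nat.card Y).Coprime p → P' ≤ Subgroup.normalizer (Y : Set G) → Y ≤ D) :
    ∀ Y : Subgroup G, (Nat.card Y).Coprime p → A ≤ Subgroup.normalizer (Y : Set G) → Y ≤ D := by
  have hp : p.Prime := Fact.out
  have hs : IsSimpleGroup G := hG.2.1
  obtain ⟨hTH, hAp, hAc, hπ, htr⟩ := scn_transitivity hG p PG A hscn hA3
  have hP'p : IsPGroup p P' := PG.isPGroup'.to_le hP'P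
  have hP'N : P' ≤ Subgroup.normalizer (A : Set G) := hP'P.trans hscn.2.1
  have hP'top : P' ≠ ⊤ := by
    intro h
    apply normalizer_ne_top_of_simple hs hTH.1 hTH.2.1
    rw [eq_top_iff, ← h]
    exact hP'N
  have hpA : p ∣ Nat.card A := by
    obtain ⟨j, hj⟩ := hAp.exists_card_eq
    have hj0 : j ≠ 0 := by
      rintro rfl
      rw [pow_zero] at hj
      exact hTH.1 (Subgroup.card_eq_one.mp hj)
    rw [hj]
    exact dvd_pow_self p hj0
  have hPπ : ∀ r : ℕ, r.Prime → r ∣ Nat.card P' → r ∣ Nat.card A := by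
    intro r hr hrP
    obtain ⟨j, hj⟩ := hP'p.exists_card_eq
    rw [hj] at hrP
    have := (Nat.prime_dvd_prime_iff_eq hr hp).mp (hr.dvd_of_dvd_pow hrP)
    rw [this]
    exact hpA
  have hsn : (A.subgroupOf P').IsSubnormal :=
    ((Subgroup.normal_subgroupOf_iff_le_normalizer hAP').mpr hP'N).isSubnormal
  -- `K_A ≤ D`
  have hKD : piCoreOf (primesNotDvd (Nat.card A)) (Subgroup.centralizer (A : Set G)) ≤ D := by
    apply hD
    · apply coprime_of_primesNotDvd
      rw [← hπ]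
      exact piCoreOf_isPi _ _
    · exact hP'N.trans (normalizer_le_normalizer_piCoreOf_centralizer _ A)
  intro Y hY hAY
  have hcop : (Nat.card A).Coprime (Nat.card Y) := by
    obtain ⟨j, hj⟩ := hAp.exists_card_eq
    rw [hj]
    exact (Nat.Coprime.pow_left j hY.symm)
  have hAsolv : Group.IsSolvable A := by
    have : Group.IsNilpotent A := hAp.isNilpotent
    infer_instance
  apply le_of_forall_invariant_pGroup_le hAY hcop (Or.inl hAsolv)
  intro q hqf Q hQY hQq hAQ
  have hq : q.Prime := hqf.out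
  by_cases hqp : q = p
  · subst hqp
    rw [isPGroup_eq_bot_of_coprime hQq hQY hY]
    exact bot_le
  · have hqA : ¬ q ∣ Nat.card A := by
      intro h
      have : q ∈ primesNotDvd p := ⟨hq, fun h' => hqp ((Nat.prime_dvd_prime_iff_eq hq hp).mp h')⟩
      rw [← hπ] at this
      exact this.2 h
    have h1395 := Cfsg.Agent.S1395.result hG A hTH q hq hqA P' hP'top hPπ hAP' hsn (htr q hq hqp)
    have hsub := h1395.2.2.1
    -- a maximal `P'`-invariant `q`-subgroup
    have hbot : (⊥ : Subgroup G) ∈ invSubgroups ⊤ P' {q} := by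
      rw [mem_invSubgroups_iff']
      refine ⟨bot_le, IsPGroup.of_bot, ?_⟩
      intro x _
      rw [Subgroup.mem_normalizer_iff]
      intro y
      simp
    obtain ⟨Q₁, hQ₁, -⟩ := exists_maxInv_ge' hbot
    have hQ₁A : Q₁ ∈ maxInvSubgroups ⊤ A {q} := hsub hQ₁
    have hQ₁inv := (mem_invSubgroups_iff' (q := q)).mp hQ₁.1
    have hQ₁D : Q₁ ≤ D := hD Q₁ (coprime_card_of_isPGroup hqp hQ₁inv.2.1) hQ₁inv.2.2
    -- a maximal `A`-invariant `q`-subgroup above `Q`
    have hQinv : Q ∈ invSubgroups ⊤ A {q} := by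
      rw [mem_invSubgroups_iff']
      exact ⟨le_top, hQq, hAQ⟩
    obtain ⟨Qs, hQs, hQQs⟩ := exists_maxInv_ge' hQinv
    obtain ⟨k, hk, hQsk⟩ := htr q hq hqp Q₁ hQ₁A Qs hQs
    intro x hx
    have hx' := hQQs hx
    rw [hQsk] at hx'
    obtain ⟨y, hy, rfl⟩ := hx'
    show k * y * k⁻¹ ∈ D
    exact D.mul_mem (D.mul_mem (hKD hk) (hQ₁D hy)) (D.inv_mem (hKD hk))

/-- Control of fusion of `A` in `M = N_G(D)` when every `A`-invariant `p'`-subgroup lies in `D`. -/
theorem mem_of_conj_le_of_invariant [Finite G] {p : ℕ} (M D A : Subgroup G)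
    (hMD : M ≤ Subgroup.normalizer (D : Set G)) (hDM : Subgroup.normalizer (D : Set G) ≤ M)
    (hDp : (Nat.card D).Coprime p)
    (hinvA : ∀ Y : Subgroup G, (Nat.card Y).Coprime p → A ≤ Subgroup.normalizer (Y : Set G) → Y ≤ D)
    {y : G} (hy : MulAut.conj y • A ≤ M) : y ∈ M := by
  have h1 : MulAut.conj y⁻¹ • MulAut.conj y • A ≤
      Subgroup.normalizer ((MulAut.conj y⁻¹ • D : Subgroup G) : Set G) :=
    conj_smul_le_normalizer (hy.trans hMD)
  rw [← mul_smul, ← map_mul, inv_mul_cancel, map_one, one_smul] at h1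
  have h2 : MulAut.conj y⁻¹ • D ≤ D := by
    apply hinvA _ _ h1
    rw [card_conj_smul]
    exact hDp
  have h3 : MulAut.conj y⁻¹ • D = D := by
    apply Subgroup.eq_of_le_of_card_ge h2
    rw [card_conj_smul]
  have h4 : y⁻¹ ∈ M := hDM (mem_normalizer_iff_conj_smul.mpr h3)
  simpa using M.inv_mem h4

end Cfsg.Agent.Lib.Helper54
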